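import Cfsg.Agent.Solvable.PGroupBasic
import Mathlib.GroupTheory.QuotientGroup.Basic

/-!
Critical subgroups of finite `p`-groups.
-/

set_option autoImplicit false
set_option linter.style.haveILetI false
set_option linter.unusedSectionVars false

namespace CfsgLib.Kinf

open Subgroup
open scoped commutatorElement

section Exists

variable {P : Type*} [Group P] [Finite P] {p : ℕ} [Fact p.Prime]

theorem centralizer_characteristic (H : Subgroup P) [hH : H.Characteristic] :
    (centralizer (H : Set P)).Characteristic := by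
  refine characteristic_iff_le_comap.2 fun φ x hx => mem_centralizer_iff.2 fun h hh => ?_
  have hh' : φ.symm h ∈ H := characteristic_iff_le_comap.1 hH φ.symm hh
  have := congrArg φ (mem_centralizer_iff.1 hx _ hh')
  simpa using this

/-- Thompson's critical subgroup. -/
theorem exists_critical (hP : IsPGroup p P) :
    ∃ H : Subgroup P, H.Characteristic ∧ (∀ a ∈ H, a ^ p ∈ centralizer (H : Set P)) ∧
      ⁅H, (⊤ : Subgroup P)⁆ ≤ H ⊓ centralizer (H : Set P) ∧
      centralizer (H : Set P) ≤ H := by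
  classical
  obtain ⟨C, hC⟩ := (Set.toFinite {C : Subgroup P | C.Characteristic ∧
    (∀ a ∈ C, a ^ p ∈ centralizer (C : Set P)) ∧
    ⁅C, (⊤ : Subgroup P)⁆ ≤ C ⊓ centralizer (C : Set P)}).exists_maximal
    ⟨⊥, inferInstance, fun a ha => by rw [mem_bot.1 ha, one_pow]; exact one_mem _,
      by rw [commutator_bot_left]; exact bot_le⟩
  obtain ⟨hCc, hCp, hCz⟩ := hC.prop
  refine ⟨C, hCc, hCp, hCz, ?_⟩
  by_contra hK
  haveI := hCc
  haveI hKc : (centralizer (C : Set P)).Characteristic := centralizer_characteristic C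
  set Z := C ⊓ centralizer (C : Set P) with hZ
  haveI hZc : Z.Characteristic := by
    refine characteristic_iff_le_comap.2 fun φ x hx => ?_
    exact ⟨characteristic_iff_le_comap.1 hCc φ hx.1, characteristic_iff_le_comap.1 hKc φ hx.2⟩
  -- elements of the centralizer central mod Z, of order p mod Z
  let π := QuotientGroup.mk' Z
  let X : Subgroup P :=
    { carrier := {x | x ∈ centralizer (C : Set P) ∧ π x ∈ center (P ⧸ Z) ∧ (π x) ^ p = 1}
      one_mem' := ⟨one_mem _, by simp, by simp⟩
      mul_mem' := fun {a b} ha hb => ⟨mul_mem ha.1 hb.1, by rw [map_mul]; exact mul_mem ha.2.1 hb.2.1,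
        by rw [map_mul, (show Commute (π a) (π b) from (mem_center_iff.1 hb.2.1 (π a))).mul_pow,
          ha.2.2, hb.2.2, one_mul]⟩
      inv_mem' := fun {a} ha => ⟨inv_mem ha.1, by rw [map_inv]; exact inv_mem ha.2.1,
        by rw [map_inv, inv_pow, ha.2.2, inv_one]⟩ }
  have hXmem : ∀ x ∈ X, x ∈ centralizer (C : Set P) ∧ (∀ g : P, ⁅x, g⁆ ∈ Z) ∧ x ^ p ∈ Z := by
    intro x hx
    refine ⟨hx.1, fun g => ?_, (QuotientGroup.eq_one_iff _).1 (show π (x ^ p) = 1 by rw [map_pow]; exact hx.2.2)⟩
    rw [← QuotientGroup.eq_one_iff]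
    show π ⁅x, g⁆ = 1
    rw [map_commutatorElement, commutatorElement_eq_one_iff_mul_comm]
    exact (mem_center_iff.1 hx.2.1 (π g)).symm
  haveI hXc : X.Characteristic := by
    refine characteristic_iff_le_comap.2 fun φ x hx => ?_
    obtain ⟨h1, h2, h3⟩ := hXmem x hx
    refine ⟨characteristic_iff_le_comap.1 hKc φ h1, mem_center_iff.2 fun q => ?_, ?_⟩
    · obtain ⟨g, rfl⟩ := QuotientGroup.mk'_surjective Z q
      refine Eq.symm ?_
      rw [← commutatorElement_eq_one_iff_mul_comm, ← map_commutatorElement]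
      refine (QuotientGroup.eq_one_iff _).2 ?_
      have := characteristic_iff_le_comap.1 hZc φ (h2 (φ.symm g))
      simpa [map_commutatorElement] using this
    · rw [← map_pow]
      exact (QuotientGroup.eq_one_iff _).2 (by
        rw [← map_pow]
        exact characteristic_iff_le_comap.1 hZc φ h3)
  -- X is not inside C
  have hXC : ¬ X ≤ C := by
    have := hP.isNilpotent
    haveI : Group.IsNilpotent (P ⧸ Z) := (hP.to_quotient Z).isNilpotent
    haveI : ((centralizer (C : Set P)).map π).Normal :=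
      Normal.map inferInstance π (QuotientGroup.mk'_surjective Z)
    have hne : (centralizer (C : Set P)).map π ≠ ⊥ := by
      rw [Ne, Subgroup.map_eq_bot_iff, QuotientGroup.ker_mk']
      exact fun h => hK (h.trans inf_le_left)
    have hne2 := CfsgLib.PGroupBasic.inf_center_ne_bot _ hne
    obtain ⟨n, hn⟩ := IsPGroup.iff_card.1 ((hP.to_quotient Z).to_subgroup
      ((centralizer (C : Set P)).map π ⊓ center (P ⧸ Z)))
    have hn0 : n ≠ 0 := by
      rintro rfl
      exact hne2 (eq_bot_of_card_eq _ (by simpa using hn))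
    obtain ⟨⟨y, hy⟩, hyo⟩ := exists_prime_orderOf_dvd_card'
      (G := ↥((centralizer (C : Set P)).map π ⊓ center (P ⧸ Z))) p (hn ▸ dvd_pow_self p hn0)
    rw [Subgroup.orderOf_mk] at hyo
    obtain ⟨x, hx, rfl⟩ := hy.1
    intro hle
    have hxZ : x ∈ Z := ⟨hle ⟨hx, hy.2, by rw [← hyo]; exact pow_orderOf_eq_one _⟩, hx⟩
    rw [show π x = 1 from (QuotientGroup.eq_one_iff x).2 hxZ, orderOf_one] at hyo
    exact (Fact.out : p.Prime).ne_one hyo.symm
  -- C X is larger
  set D := C ⊔ X with hD
  haveI hDc : D.Characteristic := by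
    refine characteristic_iff_map_le.2 fun φ => ?_
    rw [hD, Subgroup.map_sup]
    exact sup_le_sup (characteristic_iff_map_le.1 hCc φ) (characteristic_iff_map_le.1 hXc φ)
  have hZD : Z ≤ centralizer (D : Set P) := by
    refine le_centralizer_iff.1 (sup_le ?_ ?_)
    · exact le_centralizer_iff.1 inf_le_right
    · exact fun x hx => centralizer_le (inf_le_left : Z ≤ C) (hXmem x hx).1
  have hDz : ∀ d ∈ D, (∀ g : P, ⁅d, g⁆ ∈ Z) ∧ d ^ p ∈ Z := by
    intro d hd
    rw [hD, mem_sup_of_normal_right] at hd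
    obtain ⟨c, hc, x, hx, rfl⟩ := hd
    obtain ⟨h1, h2, h3⟩ := hXmem x hx
    refine ⟨fun g => ?_, ?_⟩
    · rw [show ⁅c * x, g⁆ = c * ⁅x, g⁆ * c⁻¹ * ⁅c, g⁆ by simp only [commutatorElement_def]; group]
      exact mul_mem ((inferInstance : Z.Normal).conj_mem _ (h2 g) c)
        (hCz (commutator_mem_commutator hc (mem_top g)))
    · rw [(show Commute c x from mem_centralizer_iff.1 h1 c hc).mul_pow]
      exact mul_mem ⟨pow_mem hc p, hCp c hc⟩ h3
  have hDmem : D ∈ {C : Subgroup P | C.Characteristic ∧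
      (∀ a ∈ C, a ^ p ∈ centralizer (C : Set P)) ∧
      ⁅C, (⊤ : Subgroup P)⁆ ≤ C ⊓ centralizer (C : Set P)} := by
    refine ⟨hDc, fun a ha => hZD (hDz a ha).2, commutator_le.2 fun a ha g _ => ?_⟩
    exact ⟨(le_sup_left : C ≤ D) (inf_le_left (b := centralizer (C : Set P)) ((hDz a ha).1 g)),
      hZD ((hDz a ha).1 g)⟩
  exact hXC ((le_sup_right : X ≤ D).trans (hC.2 hDmem le_sup_left))

end Exists

section Stab

variable {G : Type*} [Group G] [Finite G] {p : ℕ} [Fact p.Prime]

/-- Coprime automorphisms fixing a critical subgroup pointwise are trivial. -/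
theorem aut_eq_one_of_critical {T A : Subgroup G} (hT : IsPGroup p T) (hAT : A ≤ T)
    (hA3 : ⁅T, A⁆ ≤ A ⊓ centralizer (A : Set G))
    (hA4 : T ⊓ centralizer (A : Set G) = A ⊓ centralizer (A : Set G))
    (φ : MulAut T) (hφ : (orderOf φ).Coprime p) (hfix : ∀ a : T, (a : G) ∈ A → φ a = a) :
    φ = 1 := by
  ext u
  have hzA : u⁻¹ * φ u ∈ (A.subgroupOf T) := by
    have hmem : (((u⁻¹ * φ u : T)) : G) ∈ T ⊓ centralizer (A : Set G) := by
      refine ⟨(u⁻¹ * φ u).2, mem_centralizer_iff.2 fun a ha => ?_⟩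
      by_cases haT : a ∈ T
      · set α : T := ⟨a, haT⟩
        have hua : ((u * α * u⁻¹ : T) : G) ∈ A := by
          have h := hA3 (commutator_mem_commutator u.2 ha)
          have h2 := mul_mem h.1 ha
          simpa [commutatorElement_def, mul_assoc] using h2
        have h1 := hfix _ hua
        rw [map_mul, map_mul, map_inv, hfix α ha] at h1
        have h2 : φ u * α = u * α * u⁻¹ * φ u := by rw [← h1]; group
        have : α * (u⁻¹ * φ u) = (u⁻¹ * φ u) * α := by
          rw [mul_assoc u⁻¹, h2]; group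
        exact congrArg Subtype.val this
      · exact absurd (hAT ha) haT
    rw [hA4] at hmem
    exact mem_subgroupOf.2 hmem.1
  set z := u⁻¹ * φ u with hz
  have hzfix : φ z = z := hfix z hzA
  have hit : ∀ n : ℕ, (φ ^ n) u = u * z ^ n := by
    intro n
    induction n with
    | zero => simp
    | succ n ih =>
      rw [pow_succ', MulAut.mul_apply, ih, map_mul, map_pow, hzfix, show φ u = u * z by rw [hz]; group,
        mul_assoc, ← pow_succ']
  have h1 : z ^ orderOf φ = 1 := by
    have := hit (orderOf φ)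
    rw [pow_orderOf_eq_one, MulAut.one_apply] at this
    exact mul_eq_left.1 this.symm
  obtain ⟨k, hk⟩ := IsPGroup.iff_orderOf.1 hT z
  have h2 : orderOf z = 1 := Nat.eq_one_of_dvd_coprimes hφ (orderOf_dvd_of_pow_eq_one h1) (by
    rcases k with _ | k
    · rw [hk, pow_zero]; exact one_dvd p
    · exfalso
      have h3 : p ∣ orderOf φ := (dvd_pow_self p k.succ_ne_zero).trans (hk ▸ orderOf_dvd_of_pow_eq_one h1)
      exact (Fact.out : p.Prime).coprime_iff_not_dvd.1 hφ.symm h3)
  rw [orderOf_eq_one_iff, hz, inv_mul_eq_one] at h2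
  rw [MulAut.one_apply, ← h2]

end Stab

end CfsgLib.Kinf
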