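import Cfsg.Prelude.Def_EvenType
import Cfsg.Agent.Functor.Fusion
import Cfsg.Agent.Transfer.PResidual
import Cfsg.Agent.BlocksB.OddCentralizer

/-!
Short facts on fusion in Sylow subgroups.
-/

set_option autoImplicit false
set_option linter.style.haveILetI false

namespace CfsgLib.Kinf

open Subgroup CfsgLib.Functor
open scoped CfsgLib.Functor

variable {G : Type*} [Group G] [Finite G] {p : ℕ} [Fact p.Prime]

/-- A p-subgroup lies in a conjugate of a given Sylow subgroup. -/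
theorem exists_le_cj (P : Sylow p G) {Q : Subgroup G} (hQ : IsPGroup p Q) :
    ∃ x : G, Q ≤ x ⋆ (P : Subgroup G) := by
  obtain ⟨x, -, hx⟩ := (isSylowIn_top P).exists_cj_le hQ le_top
  exact ⟨x⁻¹, cj_le_iff'.1 hx⟩

/-- Two elements generating p-groups in `K`: after conjugating one inside `K` they lie in a common
conjugate of a Sylow subgroup. -/
theorem exists_common_sylow (P : Sylow p G) (K : Subgroup G) {a b : G}
    (ha : a ∈ K) (hb : b ∈ K) (hap : IsPGroup p (zpowers a)) (hbp : IsPGroup p (zpowers b)) :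
    ∃ k ∈ K, ∃ x : G, x⁻¹ * a * x ∈ P ∧ x⁻¹ * (k * b * k⁻¹) * x ∈ P := by
  obtain ⟨R, hR, haR⟩ := exists_sylowIn_ge hap (zpowers_le.2 ha)
  obtain ⟨k, hk, hkR⟩ := hR.exists_cj_le hbp (zpowers_le.2 hb)
  obtain ⟨x, hx⟩ := exists_le_cj P hR.isPGroup
  exact ⟨k, hk, x, mem_cj.1 (hx (haR (mem_zpowers a))),
    mem_cj.1 (hx (hkR (conj_mem_cj (mem_zpowers b))))⟩

theorem fusion_control_central (P : Sylow p G) (M : Subgroup G) (hPM : (P : Subgroup G) ≤ M)
    (z : G) (hz : orderOf z = p) (hzP : z ∈ P) (hzc : ∀ x ∈ (P : Subgroup G), x * z = z * x)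
    (hCM : centralizer {z} ≤ M)
    (hfus : ∀ g : G, g * z * g⁻¹ ∈ P → ∃ m ∈ M, g * z * g⁻¹ = m * z * m⁻¹) :
    (∀ Q : Subgroup G, IsPGroup p ↥Q → z ∈ Q → normalizer (Q : Set G) ≤ M) ∧
      Cfsg.ControlsFusion M (P : Subgroup G) := by
  have key : ∀ g : G, g * z * g⁻¹ ∈ P → g ∈ M := by
    intro g hg
    obtain ⟨m, hm, he⟩ := hfus g hg
    have h : m⁻¹ * g ∈ centralizer ({z} : Set G) := mem_centralizer_singleton_iff.2 (by
      calc m⁻¹ * g * z = m⁻¹ * (g * z * g⁻¹) * g := by group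
        _ = z * (m⁻¹ * g) := by rw [he]; group)
    rw [show g = m * (m⁻¹ * g) by group]
    exact M.mul_mem hm (hCM h)
  refine ⟨fun Q hQ hzQ n hn => ?_, fun A g hA hgA => ?_⟩
  · obtain ⟨x, hx⟩ := exists_le_cj P hQ
    have h1 : x⁻¹ ∈ M := key x⁻¹ (by rw [inv_inv]; exact mem_cj.1 (hx hzQ))
    have h2 : x⁻¹ * n ∈ M := key (x⁻¹ * n) (by
      rw [show x⁻¹ * n * z * (x⁻¹ * n)⁻¹ = x⁻¹ * (n * z * n⁻¹) * x by group]
      exact mem_cj.1 (hx ((mem_normalizer_iff.1 hn z).1 hzQ)))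
    rw [show n = x⁻¹⁻¹ * (x⁻¹ * n) by group]
    exact M.mul_mem (M.inv_mem h1) h2
  set K := centralizer ((fun a => g * a * g⁻¹) '' A) with hK
  have hzK : z ∈ K := mem_centralizer_iff.2 fun y hy => hzc y (hgA hy)
  have hgzK : g * z * g⁻¹ ∈ K := by
    refine mem_centralizer_iff.2 ?_
    rintro _ ⟨a, ha, rfl⟩
    calc g * a * g⁻¹ * (g * z * g⁻¹) = g * (a * z) * g⁻¹ := by group
      _ = g * (z * a) * g⁻¹ := by rw [hzc a (hA ha)]
      _ = g * z * g⁻¹ * (g * a * g⁻¹) := by group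
  have hzp : IsPGroup p (zpowers z) := P.2.to_le (zpowers_le.2 hzP)
  have hgzp : IsPGroup p (zpowers (g * z * g⁻¹)) := by
    refine IsPGroup.of_card (n := 1) ?_
    rw [Nat.card_zpowers, pow_one, ← MulAut.conj_apply, MulEquiv.orderOf_eq, hz]
  obtain ⟨k, hk, x, hx1, hx2⟩ := exists_common_sylow P K hzK hgzK hzp hgzp
  have h1 : x⁻¹ ∈ M := key x⁻¹ (by simpa using hx1)
  have h2 : x⁻¹ * (k * g) ∈ M := key _ (by simpa [mul_assoc] using hx2)
  refine ⟨x⁻¹⁻¹ * (x⁻¹ * (k * g)), M.mul_mem (M.inv_mem h1) h2, Set.image_congr fun a ha => ?_⟩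
  have hka := mem_centralizer_iff.1 hk _ ⟨a, ha, rfl⟩
  simp only at hka
  calc g * a * g⁻¹ = k * (g * a * g⁻¹) * k⁻¹ := by rw [← hka, mul_inv_cancel_right]
    _ = _ := by group

theorem powers_weakly_closed (S : Sylow p G) (a : G) (haS : a ∈ (S : Subgroup G))
    (hwc : ∀ g : G, g * a * g⁻¹ ∈ (S : Subgroup G) → g * a * g⁻¹ = a) (n : ℕ) :
    ∀ g : G, g * a ^ n * g⁻¹ ∈ (S : Subgroup G) → g * a ^ n * g⁻¹ = a ^ n := by
  intro g hg
  set y := g * a ^ n * g⁻¹ with hy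
  have hcen : a * y = y * a := by
    have := hwc y ((S : Subgroup G).mul_mem ((S : Subgroup G).mul_mem hg haS) ((S : Subgroup G).inv_mem hg))
    exact (mul_inv_eq_iff_eq_mul.1 this).symm
  have hgy : g * a * g⁻¹ ∈ centralizer ({y} : Set G) := mem_centralizer_singleton_iff.2 (by
    rw [hy, show g * a * g⁻¹ * (g * a ^ n * g⁻¹) = g * (a * a ^ n) * g⁻¹ by group,
      ((Commute.refl a).pow_right n).eq]
    group)
  have hap : IsPGroup p (zpowers a) := S.2.to_le (zpowers_le.2 haS)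
  obtain ⟨k, hk, x, hx1, hx2⟩ := exists_common_sylow S (centralizer ({y} : Set G))
    (mem_centralizer_singleton_iff.2 hcen) hgy hap (by
      have := hap.map (MulAut.conj g).toMonoidHom
      rwa [MonoidHom.map_zpowers] at this)
  have h1 : x⁻¹ * a * x = a := by simpa using hwc x⁻¹ (by rw [inv_inv]; exact hx1)
  have h2 : x⁻¹ * (k * (g * a * g⁻¹) * k⁻¹) * x = a := by
    have e : x⁻¹ * (k * g) * a * (x⁻¹ * (k * g))⁻¹ = x⁻¹ * (k * (g * a * g⁻¹) * k⁻¹) * x := by group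
    have := hwc (x⁻¹ * (k * g)) (by rw [e]; exact hx2)
    rwa [e] at this
  have h3 : k * (g * a * g⁻¹) * k⁻¹ = a := by
    have := h2.trans h1.symm
    exact mul_left_cancel (mul_right_cancel this)
  calc y = k * y * k⁻¹ := by rw [mem_centralizer_singleton_iff.1 hk, mul_inv_cancel_right]
    _ = (k * (g * a * g⁻¹) * k⁻¹) ^ n := by rw [conj_pow, conj_pow]
    _ = a ^ n := by rw [h3]

theorem burnside_central (P : Sylow p G) {a g : G}
    (ha : ∀ y ∈ (P : Subgroup G), a * y = y * a)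
    (hb : ∀ y ∈ (P : Subgroup G), g * a * g⁻¹ * y = y * (g * a * g⁻¹)) :
    ∃ n ∈ normalizer ((P : Subgroup G) : Set G), ∃ c : G, c * a = a * c ∧ g = n * c := by
  set b := g * a * g⁻¹ with hbdef
  set C := centralizer ({b} : Set G) with hC
  have hPC : (P : Subgroup G) ≤ C := fun y hy => mem_centralizer_singleton_iff.2 (hb y hy).symm
  have hgC : g ⋆ (P : Subgroup G) ≤ C := cj_le_iff.2 fun y hy => mem_centralizer_singleton_iff.2 (by
    rw [hbdef, show g * y * g⁻¹ * (g * a * g⁻¹) = g * (y * a) * g⁻¹ by group, ← ha y hy]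
    group)
  have hPs : IsSylowIn p (P : Subgroup G) C := (isSylowIn_top P).of_le hPC le_top
  obtain ⟨k, hk, hkP⟩ := hPs.exists_cj_le (isPGroup_cj g P.2) hgC
  refine ⟨k * g, ?_, (k * g)⁻¹ * g, ?_, by group⟩
  · rw [cj_cj] at hkP
    exact mem_normalizer_iff_cj.2 (eq_of_le_of_card_le' hkP (card_cj _ _).ge)
  · have hkb := mem_centralizer_singleton_iff.1 hk
    calc (k * g)⁻¹ * g * a = g⁻¹ * (k⁻¹ * b) * g := by rw [hbdef]; group
      _ = g⁻¹ * (b * k⁻¹) * g := by rw [(show Commute k b from hkb).inv_left.eq]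
      _ = a * ((k * g)⁻¹ * g) := by rw [hbdef]; group

theorem extremal_residual (P : Sylow p G) (A C : Subgroup G)
    (hext : IsExtremal p (P : Subgroup G) C) {h : G} (hh : h ⋆ A = C) :
    ∃ g : G, g ⋆ A = C ∧
      g ⋆ ((P : Subgroup G) ⊓ normalizer (A : Set G)) ≤ (P : Subgroup G) ⊓ normalizer (C : Set G) ∧
      h * g⁻¹ ∈ (Cfsg.pResidual p ↥(normalizer (C : Set G))).map (normalizer (C : Set G)).subtype := by
  set N := normalizer (C : Set G) with hN
  set O := Cfsg.pResidual p N with hO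
  obtain ⟨n, hn, hnA, hnle⟩ := exists_cj_normalizer_le P hext hh
  set T := ((P : Subgroup G) ⊓ N).subgroupOf N with hT
  have htop : T ⊔ O = ⊤ := by
    have h1 : ¬ p ∣ (T ⊔ O).index := fun hd => (hext.sylowIn P.2).2.2
      (hd.trans (Subgroup.index_dvd_of_le (le_sup_left : T ≤ T ⊔ O)))
    obtain ⟨k, hk⟩ := PResidual.exists_index_pResidual (p := p) (G := N)
    obtain ⟨j, -, hj⟩ := (Nat.dvd_prime_pow Fact.out).1
      (hk ▸ Subgroup.index_dvd_of_le (le_sup_right : O ≤ T ⊔ O))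
    rw [hj] at h1
    rcases j with _ | j
    · exact index_eq_one.1 hj
    · exact absurd (dvd_pow_self p j.succ_ne_zero) h1
  obtain ⟨s, hs, r, hr, hsr⟩ :=
    (Solvable.mem_sup_of_le_normalizer le_normalizer_of_normal).1 (htop ▸ mem_top (⟨n, hn⟩ : N))
  have hsP : (s : G) ∈ (P : Subgroup G) ⊓ N := hs
  have hn' : n = s * r := congrArg Subtype.val hsr.symm
  refine ⟨(r : G) * h, ?_, ?_, ?_⟩
  · rw [← cj_cj, hh, mem_normalizer_iff_cj.1 r.2]
  · refine le_inf ?_ ?_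
    · rw [show (r : G) * h = (s : G)⁻¹ * (n * h) by rw [hn']; group, ← cj_cj]
      exact (cj_mono _ hnle).trans (cj_eq_self_of_mem ((P : Subgroup G).inv_mem hsP.1)).le
    · refine (cj_mono _ inf_le_right).trans ?_
      rw [cj_normalizer, ← cj_cj, hh, mem_normalizer_iff_cj.1 r.2]
  · exact ⟨r⁻¹, O.inv_mem hr, by simp⟩

theorem no_abelian_normal {H : Type*} [Group H] [Finite H] (z : H) (hz : orderOf z = 2)
    (hN : ∀ N : Subgroup H, N.Normal → N ≠ ⊤ → N ⊓ centralizer ({z} : Set H) = ⊥)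
    (E : Subgroup H) (hE : IsKleinFour ↥E) (hzE : z ∈ E) (hc : ∀ e ∈ E, e ≠ 1 → IsConj z e)
    (N : Subgroup H) [N.Normal] (hab : IsMulCommutative ↥N) : N = ⊥ := by
  have hzz : z * z = 1 := by rw [← pow_two, ← hz, pow_orderOf_eq_one]
  obtain ⟨e, he1, hez⟩ : ∃ e : E, e ≠ 1 ∧ (e : H) ≠ z := by
    by_contra hcon
    push Not at hcon
    have hsub : (Set.univ : Set E) ⊆ {1, ⟨z, hzE⟩} := fun e _ => by
      by_cases h : e = 1
      · exact Or.inl h
      · exact Or.inr (Subtype.ext (hcon e h))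
    have h2 := (Set.ncard_le_ncard hsub (Set.toFinite _)).trans
      ((Set.ncard_insert_le _ _).trans (by rw [Set.ncard_singleton]))
    rw [Set.ncard_univ, hE.card_four] at h2
    omega
  have hne : N ≠ ⊤ := by
    intro h
    obtain ⟨g, hg⟩ := isConj_iff.1 (hc e e.2 fun h => he1 (Subtype.ext h))
    have hcomm : g * z = z * g :=
      congrArg Subtype.val (hab.is_comm.comm ⟨g, h ▸ mem_top g⟩ ⟨z, h ▸ mem_top z⟩)
    exact hez (by rw [← hg, hcomm, mul_inv_cancel_right])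
  have hfix : ∀ u : H, IsConj z u → ∀ q ∈ N, u * q = q * u → q = 1 := by
    intro u hu q hq huq
    obtain ⟨g, rfl⟩ := isConj_iff.1 hu
    have h1 : g⁻¹ * q * g ∈ N ⊓ centralizer ({z} : Set H) :=
      ⟨by simpa using (inferInstance : N.Normal).conj_mem q hq g⁻¹, mem_centralizer_singleton_iff.2 (by
        calc g⁻¹ * q * g * z = g⁻¹ * (q * (g * z * g⁻¹)) * g := by group
          _ = z * (g⁻¹ * q * g) := by rw [← huq]; group)⟩
    rw [hN N inferInstance hne, mem_bot] at h1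
    simpa [mul_eq_one_iff_eq_inv] using h1
  refine (Subgroup.eq_bot_iff_forall _).2 fun q hq => ?_
  have hinv : ∀ u : H, IsConj z u → ∀ q ∈ N, u * q * u⁻¹ = q⁻¹ := fun u hu => by
    obtain ⟨g, hg⟩ := isConj_iff.1 hu
    exact BlocksB.inverts_of_fixedPointFree (by
      rw [← hg, show g * z * g⁻¹ * (g * z * g⁻¹) = g * (z * z) * g⁻¹ by group, hzz, mul_one, mul_inv_cancel])
      (le_normalizer_of_normal (mem_top u)) (hfix u hu)
  set f : H := (e : H) * z with hf
  have hf1 : IsConj z f := hc f (E.mul_mem e.2 hzE) fun h => hez (by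
    rw [eq_inv_of_mul_eq_one_left h, inv_eq_of_mul_eq_one_right hzz])
  have h1 := hinv f hf1 q hq
  have h2 : f * q * f⁻¹ = q := by
    rw [hf, show (e : H) * z * q * ((e : H) * z)⁻¹ = (e : H) * (z * q * z⁻¹) * (e : H)⁻¹ by group,
      hinv z (IsConj.refl z) q hq, hinv e (hc e e.2 fun h => he1 (Subtype.ext h)) _ (N.inv_mem hq), inv_inv]
  exact hfix f hf1 q hq (mul_inv_eq_iff_eq_mul.1 h2)

theorem simple_of_centralizer_data {H : Type*} [Group H] [Finite H] (z : H) (hz : orderOf z = 2)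
    (hN : ∀ N : Subgroup H, N.Normal → N ≠ ⊤ → N ⊓ centralizer ({z} : Set H) = ⊥)
    (E : Subgroup H) (hE : IsKleinFour ↥E) (hzE : z ∈ E) (hc : ∀ e ∈ E, e ≠ 1 → IsConj z e) :
    IsSimpleGroup H := by
  have hz1 : z ≠ 1 := fun h => by rw [h, orderOf_one] at hz; omega
  haveI : Nontrivial H := ⟨⟨z, 1, hz1⟩⟩
  refine ⟨fun N hNn => ?_⟩
  by_cases htop : N = ⊤
  · exact Or.inr htop
  haveI := hNn
  have hinv := BlocksB.inverts_of_fixedPointFree (u := z) (Q := N)
    (by rw [← pow_two, ← hz, pow_orderOf_eq_one]) (le_normalizer_of_normal (mem_top z)) (fun q hq hzq => by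
      have h1 : q ∈ N ⊓ centralizer ({z} : Set H) := ⟨hq, mem_centralizer_singleton_iff.2 hzq.symm⟩
      rwa [hN N hNn htop, mem_bot] at h1)
  exact Or.inl (no_abelian_normal z hz hN E hE hzE hc N (BlocksB.isMulCommutative_of_inverted hinv))

theorem fixed_points_cover {L : Type*} [Group L] [Finite L] {M : Type*} [CommGroup M]
    [MulDistribMulAction L M] (N : Subgroup M) (hquot : IsPGroup p (M ⧸ N))
    (htriv : ∀ (l : L) (m : M), (l • m) * m⁻¹ ∈ N) (T : Sylow p L)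
    (hT : ∀ m : M, ∃ n ∈ N, ∃ c : M, (∀ t ∈ (T : Subgroup L), t • c = c) ∧ m = n * c) :
    ∀ m : M, ∃ n ∈ N, ∃ c : M, (∀ l : L, l • c = c) ∧ m = n * c := by
  classical
  intro m
  haveI : Fintype (L ⧸ (T : Subgroup L)) := Fintype.ofFinite _
  obtain ⟨n₀, hn₀, c, hc, rfl⟩ := hT m
  let f : L ⧸ (T : Subgroup L) → M := fun q => Quotient.liftOn' q (fun l => l • c) (fun l l' h => by
    have := hc _ (QuotientGroup.leftRel_apply.1 h)
    show l • c = l' • c
    conv_lhs => rw [← this]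
    rw [← mul_smul, mul_inv_cancel_left])
  have hf : ∀ l : L, f (l : L ⧸ (T : Subgroup L)) = l • c := fun l => rfl
  set d := ∏ q : L ⧸ (T : Subgroup L), f q with hd
  have hfix : ∀ l : L, l • d = d := by
    intro l
    rw [hd, Finset.smul_prod']
    refine Fintype.prod_equiv (MulAction.toPerm l) _ _ fun q => ?_
    obtain ⟨x, rfl⟩ := QuotientGroup.mk_surjective q
    show l • f (x : L ⧸ (T : Subgroup L)) = f (l • (x : L ⧸ (T : Subgroup L)))
    rw [hf, MulAction.Quotient.smul_coe, smul_eq_mul, hf, mul_smul]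
  have hdq : (QuotientGroup.mk' N) d = (QuotientGroup.mk' N c) ^ (T : Subgroup L).index := by
    rw [hd, map_prod, index_eq_card, Nat.card_eq_fintype_card, ← Finset.card_univ, ← Finset.prod_const]
    refine Finset.prod_congr rfl fun q _ => ?_
    obtain ⟨x, rfl⟩ := QuotientGroup.mk_surjective q
    rw [hf]
    refine (QuotientGroup.eq.2 ?_).symm
    rw [mul_comm]
    exact htriv x c
  obtain ⟨k, hk⟩ := hquot (QuotientGroup.mk' N c)
  have hcop : Nat.Coprime (T : Subgroup L).index (orderOf (QuotientGroup.mk' N c)) :=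
    Nat.Coprime.coprime_dvd_right (orderOf_dvd_of_pow_eq_one hk)
      (((Fact.out : p.Prime).coprime_iff_not_dvd.2 T.not_dvd_index).symm.pow_right k)
  obtain ⟨j, hj⟩ := exists_pow_eq_self_of_coprime hcop
  refine ⟨n₀ * c * (d ^ j)⁻¹, ?_, d ^ j, fun l => by rw [smul_pow', hfix], by rw [inv_mul_cancel_right]⟩
  refine (QuotientGroup.eq_one_iff _).1 ?_
  show QuotientGroup.mk' N (n₀ * c * (d ^ j)⁻¹) = 1
  rw [map_mul, map_mul, map_inv, map_pow, hdq, hj,
    show QuotientGroup.mk' N n₀ = 1 from (QuotientGroup.eq_one_iff n₀).2 hn₀, one_mul, mul_inv_cancel]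

/-- A subgroup commuting doubly with a perfect subgroup commutes with it. -/
theorem commutator_eq_bot_of_double {G : Type*} [Group G] (L X : Subgroup G) (hL : ⁅L, L⁆ = L)
    (h : ⁅⁅X, L⁆, L⁆ = ⊥) : ⁅X, L⁆ = ⊥ := by
  have h' : ⁅⁅L, X⁆, L⁆ = ⊥ := by rwa [commutator_comm L X]
  have := commutator_commutator_eq_bot_of_rotate (H₁ := L) (H₂ := L) (H₃ := X) h' h
  rwa [hL, commutator_comm] at this

end CfsgLib.Kinf
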