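import Cfsg.Agent.Blocks.Section
import Cfsg.Agent.Blocks.Congr

/-!
Counting products of two conjugacy classes in the section of a `p`-element whose centralizer has a normal
`p`-complement.
-/

set_option autoImplicit false
set_option linter.unusedSectionVars false
set_option linter.style.haveILetI false

namespace CfsgLib.SectionCount

open Finset CfsgLib.Block CfsgLib.Block.Chr CfsgLib.Char
open scoped ComplexConjugate

universe u

variable {G : Type u} [Group G] [Fintype G] {p : ℕ}

/-- The `p'`-core of the centralizer of `x`, as a subgroup of the centralizer. -/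
abbrev core (p : ℕ) (x : G) : Subgroup (Subgroup.centralizer ({x} : Set G)) :=
  Cfsg.pPrimeCore p (Subgroup.centralizer ({x} : Set G))

/-- The section of `x`. -/
def section' (p : ℕ) (x : G) : Set G :=
  {g | ∃ c : G, ∃ v ∈ core p x, c * (x * (v : G)) * c⁻¹ = g}

theorem not_dvd_orderOf (hp : p.Prime) {x : G} {v : Subgroup.centralizer ({x} : Set G)}
    (hv : v ∈ core p x) : ¬ p ∣ orderOf v := fun h =>
  (hp.coprime_iff_not_dvd.1 (CfsgLib.Solvable.coprime_card_pPrimeCore p).symm)
    (h.trans (Subgroup.orderOf_dvd_natCard _ hv))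

theorem conj_mem_section {x g : G} (hg : g ∈ section' p x) (y : G) : y * g * y⁻¹ ∈ section' p x := by
  obtain ⟨c, v, hv, rfl⟩ := hg
  exact ⟨y * c, v, hv, by group⟩

section Sums

variable [Fintype (Cfsg.IrrCharacter G)]

/-- The sum of `χ` over the coset `x O` of the core. -/
noncomputable def T (p : ℕ) (x : G) (χ : Cfsg.IrrCharacter G) : ℂ :=
  ∑ᶠ v : core p x, (χ : G → ℂ) (x * ((v : Subgroup.centralizer ({x} : Set G)) : G))

theorem T_eq_sum (x : G) (χ : Cfsg.IrrCharacter G) [Fintype (core p x)] :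
    T p x χ = ∑ v : core p x, (χ : G → ℂ) (x * ((v : Subgroup.centralizer ({x} : Set G)) : G)) :=
  finsum_eq_sum_of_fintype _

variable {x : G} {k : ℕ}

theorem sum_sq_T (hp : p.Prime) (hx : orderOf x = p ^ k) :
    ∑ χ : Cfsg.IrrCharacter G, T p x χ * conj (T p x χ) =
      (Nat.card (core p x) : ℂ) * Nat.card (Subgroup.centralizer ({x} : Set G)) := by
  classical
  haveI : Fintype (Subgroup.centralizer ({x} : Set G)) := Fintype.ofFinite _
  haveI : Fintype (core p x) := Fintype.ofFinite _
  letI := irrFintype (G := Subgroup.centralizer ({x} : Set G))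
  simp only [T_eq_sum, map_sum, Finset.sum_mul_sum]
  rw [Finset.sum_comm]
  have key : ∀ v : core p x, (∑ χ : Cfsg.IrrCharacter G, ∑ w : core p x,
      (χ : G → ℂ) (x * ((v : Subgroup.centralizer ({x} : Set G)) : G)) *
        conj ((χ : G → ℂ) (x * ((w : Subgroup.centralizer ({x} : Set G)) : G)))) =
      (Nat.card (Subgroup.centralizer ({x} : Set G)) : ℂ) := by
    intro v
    rw [Finset.sum_comm]
    simp only [fun w : core p x => sum_section hp hx (v : Subgroup.centralizer ({x} : Set G)) w
      (not_dvd_orderOf hp v.2) (not_dvd_orderOf hp w.2), column_orth]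
    rw [← Finset.sum_filter, Finset.sum_const, nsmul_eq_mul, ← Nat.cast_mul]
    congr 1
    have hcl : (univ.filter fun w : core p x =>
        IsConj (v : Subgroup.centralizer ({x} : Set G)) w).card =
        (univ.filter (IsConj (v : Subgroup.centralizer ({x} : Set G)))).card := by
      refine Finset.card_bij (fun w _ => (w : Subgroup.centralizer ({x} : Set G)))
        (fun w hw => mem_filter.2 ⟨mem_univ _, (mem_filter.1 hw).2⟩) (fun a _ b _ h => Subtype.ext h)
        fun w hw => ?_
      obtain ⟨c, hc⟩ := isConj_iff.1 (mem_filter.1 hw).2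
      haveI := CfsgLib.Solvable.pPrimeCore_normal (G := Subgroup.centralizer ({x} : Set G)) p
      exact ⟨⟨w, hc ▸ Subgroup.Normal.conj_mem inferInstance _ v.2 c⟩,
        mem_filter.2 ⟨mem_univ _, (mem_filter.1 hw).2⟩, rfl⟩
    rw [hcl, card_class, Subgroup.index_mul_card]
  rw [Finset.sum_congr rfl fun v _ => key v, Finset.sum_const, card_univ, nsmul_eq_mul,
    ← Nat.card_eq_fintype_card]

variable {M : Ideal Cfsg.AlgInt} [M.IsPrime]

theorem T_principal (hM : Cfsg.IsPModular p M) (hx : orderOf x = p ^ k) {χ : Cfsg.IrrCharacter G}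
    (hχ : χ ∈ Cfsg.principalBlock M G) : T p x χ = (Nat.card (core p x) : ℂ) * (χ : G → ℂ) x := by
  classical
  haveI : Fintype (core p x) := Fintype.ofFinite _
  rw [T_eq_sum]
  calc ∑ v : core p x, (χ : G → ℂ) (x * ((v : Subgroup.centralizer ({x} : Set G)) : G))
      = ∑ _v : core p x, (χ : G → ℂ) x := Finset.sum_congr rfl fun v _ =>
        principal_apply_mul_core hM hx
          (v := ((v : Subgroup.centralizer ({x} : Set G)) : G)) ⟨_, v.2, rfl⟩ hχ
    _ = _ := by rw [Finset.sum_const, card_univ, nsmul_eq_mul, ← Nat.card_eq_fintype_card]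

variable [DecidablePred (· ∈ Cfsg.principalBlock M G)]

theorem sum_sq_principal (hM : Cfsg.IsPModular p M) (hx : orderOf x = p ^ k) {a : ℕ}
    (hidx : (core p x).index = p ^ a) :
    ∑ χ ∈ univ.filter (· ∈ Cfsg.principalBlock M G), (χ : G → ℂ) x * conj ((χ : G → ℂ) x) =
      ((p ^ a : ℕ) : ℂ) := by
  classical
  haveI : Fintype (Subgroup.centralizer ({x} : Set G)) := Fintype.ofFinite _
  letI := irrFintype (G := Subgroup.centralizer ({x} : Set G))
  have h1 : ¬ p ∣ orderOf (1 : Subgroup.centralizer ({x} : Set G)) := by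
    rw [orderOf_one]; exact hM.1.not_dvd_one
  have h := principal_section_kernel hM hx (1 : Subgroup.centralizer ({x} : Set G)) 1 h1 h1
  haveI := CfsgLib.Solvable.pPrimeCore_normal (G := Subgroup.centralizer ({x} : Set G)) p
  have hN : ¬ p ∣ Nat.card (core p x) :=
    hM.1.coprime_iff_not_dvd.1 (CfsgLib.Solvable.coprime_card_pPrimeCore p).symm
  rw [principal_complement_sum hM (core p x) hN ⟨a, hidx⟩ h1, OneMemClass.coe_one, mul_one] at h
  rw [h, ← (core p x).index_mul_card, Nat.factorization_mul Subgroup.index_ne_zero_of_finite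
      Nat.card_pos.ne', Finsupp.add_apply, hidx, hM.1.factorization_pow, Finsupp.single_eq_same,
      Nat.factorization_eq_zero_of_not_dvd hN, add_zero]

/-- Outside the principal block the coset sums vanish. -/
theorem T_eq_zero (hM : Cfsg.IsPModular p M) (hx : orderOf x = p ^ k) {a : ℕ}
    (hidx : (core p x).index = p ^ a) {χ : Cfsg.IrrCharacter G}
    (hχ : χ ∉ Cfsg.principalBlock M G) : T p x χ = 0 := by
  classical
  have hall := sum_sq_T (G := G) hM.1 hx
  have hB : ∑ ζ ∈ univ.filter (· ∈ Cfsg.principalBlock M G), T p x ζ * conj (T p x ζ) =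
      (Nat.card (core p x) : ℂ) * Nat.card (Subgroup.centralizer ({x} : Set G)) := by
    calc ∑ ζ ∈ univ.filter (· ∈ Cfsg.principalBlock M G), T p x ζ * conj (T p x ζ)
        = ∑ ζ ∈ univ.filter (· ∈ Cfsg.principalBlock M G),
            ((Nat.card (core p x) : ℂ) * Nat.card (core p x)) *
              ((ζ : G → ℂ) x * conj ((ζ : G → ℂ) x)) := Finset.sum_congr rfl fun ζ hζ => by
          rw [T_principal hM hx (mem_filter.1 hζ).2, map_mul, map_natCast]
          ring
      _ = _ := by
          rw [← Finset.mul_sum, sum_sq_principal hM hx hidx, ← hidx, mul_assoc, ← Nat.cast_mul,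
            mul_comm (Nat.card (core p x)), Subgroup.index_mul_card]
  rw [← Finset.sum_filter_add_sum_filter_not univ (· ∈ Cfsg.principalBlock M G), hB,
    add_eq_left] at hall
  have hre := congrArg Complex.re hall
  simp only [Complex.mul_conj, Complex.re_sum, Complex.ofReal_re, Complex.zero_re] at hre
  exact Complex.normSq_eq_zero.1
    ((Finset.sum_eq_zero_iff_of_nonneg fun ζ _ => Complex.normSq_nonneg _).1 hre χ
      (mem_filter.2 ⟨mem_univ _, hχ⟩))

/-- The principal block is orthogonal at `1` and `x`. -/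
theorem sum_degree_mul (hM : Cfsg.IsPModular p M) (hx : orderOf x = p ^ k) (hx1 : x ≠ 1) {a : ℕ}
    (hidx : (core p x).index = p ^ a) :
    ∑ χ ∈ univ.filter (· ∈ Cfsg.principalBlock M G), (χ : G → ℂ) 1 * conj ((χ : G → ℂ) x) = 0 := by
  classical
  haveI : Fintype (core p x) := Fintype.ofFinite _
  have h0 : ∑ χ : Cfsg.IrrCharacter G, (χ : G → ℂ) 1 * conj (T p x χ) = 0 := by
    simp only [T_eq_sum, map_sum, Finset.mul_sum]
    rw [Finset.sum_comm]
    refine Finset.sum_eq_zero fun v _ => ?_
    rw [column_orth, if_neg]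
    intro h
    rw [isConj_one_right] at h
    refine not_dvd_orderOf hM.1 v.2 ?_
    have hv : ((v : Subgroup.centralizer ({x} : Set G)) : G) = x⁻¹ := eq_inv_of_mul_eq_one_right h
    rw [← Subgroup.orderOf_coe, hv, orderOf_inv, hx]
    exact dvd_pow_self p fun hk => hx1 (orderOf_eq_one_iff.1 (by rw [hx, hk, pow_zero]))
  rw [← Finset.sum_filter_add_sum_filter_not univ (· ∈ Cfsg.principalBlock M G),
    Finset.sum_eq_zero (s := univ.filter fun χ => ¬χ ∈ Cfsg.principalBlock M G) fun χ hχ => by
      rw [T_eq_zero hM hx hidx (mem_filter.1 hχ).2, map_zero, mul_zero], add_zero,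
    Finset.sum_congr rfl fun χ hχ => by
      rw [T_principal hM hx (mem_filter.1 hχ).2, map_mul, map_natCast, mul_left_comm],
    ← Finset.mul_sum] at h0
  exact (mul_eq_zero.1 h0).resolve_left (Nat.cast_ne_zero.2 Nat.card_pos.ne')

/-- The sum of a class function over the section. -/
theorem sum_section_eq (hp : p.Prime) (hx : orderOf x = p ^ k) {f : G → ℂ}
    (hf : Cfsg.IsClassFunction G f) [DecidablePred (· ∈ section' p x)] [Fintype (core p x)] :
    (Nat.card (Subgroup.centralizer ({x} : Set G)) : ℂ) *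
        (∑ g ∈ univ.filter (· ∈ section' p x), f g) =
      (Nat.card G : ℂ) *
        ∑ v : core p x, f (x * ((v : Subgroup.centralizer ({x} : Set G)) : G)) := by
  classical
  haveI : Fintype (Subgroup.centralizer ({x} : Set G)) := Fintype.ofFinite _
  set Φ : G × core p x → G :=
    fun cv => cv.1 * (x * ((cv.2 : Subgroup.centralizer ({x} : Set G)) : G)) * cv.1⁻¹
  have hR : ∑ cv : G × core p x, f (Φ cv) = (Nat.card G : ℂ) *
      ∑ v : core p x, f (x * ((v : Subgroup.centralizer ({x} : Set G)) : G)) := by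
    calc ∑ cv : G × core p x, f (Φ cv)
        = ∑ _c : G, ∑ v : core p x, f (x * ((v : Subgroup.centralizer ({x} : Set G)) : G)) := by
          rw [Fintype.sum_prod_type]
          exact Finset.sum_congr rfl fun c _ => Finset.sum_congr rfl fun v _ =>
            hf (x * ((v : Subgroup.centralizer ({x} : Set G)) : G)) c
      _ = _ := by rw [Finset.sum_const, card_univ, nsmul_eq_mul, ← Nat.card_eq_fintype_card]
  rw [← hR, ← Finset.sum_fiberwise_of_maps_to (t := univ.filter (· ∈ section' p x)) (g := Φ)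
    fun cv _ => mem_filter.2 ⟨mem_univ _, cv.1, _, cv.2.2, rfl⟩, Finset.mul_sum]
  refine Finset.sum_congr rfl fun g hg => ?_
  rw [Finset.sum_congr rfl fun cv hcv => by rw [(mem_filter.1 hcv).2], Finset.sum_const,
    nsmul_eq_mul]
  congr 2
  obtain ⟨c₀, v₀, hv₀, rfl⟩ := (mem_filter.1 hg).2
  haveI := CfsgLib.Solvable.pPrimeCore_normal (G := Subgroup.centralizer ({x} : Set G)) p
  rw [Nat.card_eq_fintype_card, ← Finset.card_univ]
  refine Finset.card_bij (fun d _ => (c₀ * (d : G),
      (⟨d⁻¹ * v₀ * d, by simpa using Subgroup.Normal.conj_mem inferInstance _ hv₀ d⁻¹⟩ : core p x)))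
    (fun d _ => mem_filter.2 ⟨mem_univ _, ?_⟩)
    (fun a _ b _ h => Subtype.ext (mul_left_cancel (congrArg Prod.fst h))) fun cv hcv => ?_
  · have hd : (d : G) * x = x * d := Subgroup.mem_centralizer_singleton_iff.1 d.2
    show c₀ * d * (x * (((d⁻¹ * v₀ * d : Subgroup.centralizer ({x} : Set G))) : G)) * (c₀ * d)⁻¹ = _
    push_cast
    calc c₀ * (d : G) * (x * ((d : G)⁻¹ * v₀ * d)) * (c₀ * d)⁻¹
        = c₀ * ((d : G) * x) * (d : G)⁻¹ * v₀ * c₀⁻¹ := by group
      _ = c₀ * (x * d) * (d : G)⁻¹ * v₀ * c₀⁻¹ := by rw [hd]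
      _ = c₀ * (x * v₀) * c₀⁻¹ := by group
  · obtain ⟨c, v⟩ := cv
    have he : c * (x * ((v : Subgroup.centralizer ({x} : Set G)) : G)) * c⁻¹ =
        c₀ * (x * (v₀ : G)) * c₀⁻¹ := (mem_filter.1 hcv).2
    have he' : c₀⁻¹ * c * (x * ((v : Subgroup.centralizer ({x} : Set G)) : G)) * (c₀⁻¹ * c)⁻¹ =
        x * (v₀ : G) := by
      calc c₀⁻¹ * c * (x * ((v : Subgroup.centralizer ({x} : Set G)) : G)) * (c₀⁻¹ * c)⁻¹
          = c₀⁻¹ * (c * (x * ((v : Subgroup.centralizer ({x} : Set G)) : G)) * c⁻¹) * c₀ := by group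
        _ = _ := by rw [he]; group
    obtain ⟨hd, hdv⟩ := fix_of_conj_section hp hx (not_dvd_orderOf hp v.2)
      (not_dvd_orderOf hp hv₀) he'
    refine ⟨⟨_, hd⟩, mem_univ _, Prod.ext (by simp) (Subtype.ext (Subtype.ext ?_))⟩
    push_cast
    rw [← hdv]
    group

/-- The number of pairs from two classes with product in the section. -/
theorem card_pairs (hM : Cfsg.IsPModular p M) (hx : orderOf x = p ^ k) {n : ℕ}
    (hidx : (core p x).index = p ^ n) (a b : G) [DecidablePred (IsConj a)]
    [DecidablePred (IsConj b)] [DecidablePred (· ∈ section' p x)] :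
    ((((univ.filter (IsConj a)) ×ˢ (univ.filter (IsConj b))).filter
        fun uw : G × G => uw.1 * uw.2 ∈ section' p x).card : ℂ) * (p ^ n : ℕ) =
      ((univ.filter (IsConj a)).card : ℂ) * (univ.filter (IsConj b)).card *
        ∑ χ ∈ univ.filter (· ∈ Cfsg.principalBlock M G),
          conj ((χ : G → ℂ) x) * (χ : G → ℂ) a * (χ : G → ℂ) b / (χ : G → ℂ) 1 := by
  classical
  haveI : Fintype (core p x) := Fintype.ofFinite _
  set A := univ.filter (IsConj a) with hA
  set B := univ.filter (IsConj b) with hB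
  let ι : G → ℂ := fun g => if g ∈ section' p x then 1 else 0
  have hι : Cfsg.IsClassFunction G ι := fun g y => by
    have hiff : y * g * y⁻¹ ∈ section' p x ↔ g ∈ section' p x :=
      ⟨fun h => by simpa [mul_assoc] using conj_mem_section h y⁻¹, fun h => conj_mem_section h y⟩
    by_cases hg : g ∈ section' p x
    · simp only [ι, if_pos hg, if_pos (hiff.2 hg)]
    · simp only [ι, if_neg hg, if_neg (mt hiff.1 hg)]
  have hinner : ∀ χ : Cfsg.IrrCharacter G, Cfsg.classInner ι (χ : G → ℂ) *
      (Nat.card (Subgroup.centralizer ({x} : Set G)) : ℂ) = conj (T p x χ) := by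
    intro χ
    have hs := sum_section_eq hM.1 hx (f := fun g => conj ((χ : G → ℂ) g))
      fun g y => congrArg conj (isClassFunction_irr χ g y)
    rw [← map_sum, ← map_sum, ← T_eq_sum] at hs
    rw [Cfsg.classInner]
    simp only [ι, ite_mul, one_mul, zero_mul, ← Finset.sum_filter]
    rw [← map_sum, mul_assoc,
      mul_comm (conj (∑ g ∈ univ.filter (· ∈ section' p x), (χ : G → ℂ) g)), hs, ← mul_assoc,
      inv_mul_cancel₀ (Nat.cast_ne_zero.2 Nat.card_pos.ne'), one_mul]
  have hpair : ∀ χ : Cfsg.IrrCharacter G, ∑ u ∈ A, ∑ w ∈ B, (χ : G → ℂ) (u * w) =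
      (A.card : ℂ) * B.card * ((χ : G → ℂ) a * (χ : G → ℂ) b / (χ : G → ℂ) 1) := by
    intro χ
    have hcl : Cfsg.IsClassFunction G (fun g => if IsConj a g then (1 : ℂ) else 0) := fun g y => by
      have hgy : IsConj g (y * g * y⁻¹) := isConj_iff.2 ⟨y, rfl⟩
      by_cases hg : IsConj a g
      · simp only [if_pos hg, if_pos (hg.trans hgy)]
      · simp only [if_neg hg, if_neg fun h => hg (IsConj.trans h hgy.symm)]
    have h := class_mul χ hcl (fun g => if IsConj b g then (1 : ℂ) else 0)
    have hL : ∑ g : G, ∑ k : G, (if IsConj a g then (1 : ℂ) else 0) *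
        (if IsConj b k then (1 : ℂ) else 0) * (χ : G → ℂ) (g * k) =
        ∑ u ∈ A, ∑ w ∈ B, (χ : G → ℂ) (u * w) := by
      rw [hA, hB, Finset.sum_filter]
      refine Finset.sum_congr rfl fun g _ => ?_
      by_cases hg : IsConj a g
      · simp only [if_pos hg, one_mul, ite_mul, zero_mul, ← Finset.sum_filter]
      · simp only [if_neg hg, zero_mul, Finset.sum_const_zero]
    rw [hL] at h
    simp only [ite_mul, one_mul, zero_mul, ← Finset.sum_filter] at h
    rw [sum_class_eq (isClassFunction_irr χ) a, sum_class_eq (isClassFunction_irr χ) b,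
      ← card_class, ← card_class] at h
    rw [← mul_div_assoc, eq_div_iff (irr_one_ne_zero χ), hA, hB]
    linear_combination h
  have hcount : ((((A ×ˢ B).filter fun uw : G × G => uw.1 * uw.2 ∈ section' p x).card : ℂ)) =
      ∑ χ : Cfsg.IrrCharacter G, Cfsg.classInner ι (χ : G → ℂ) *
        ((A.card : ℂ) * B.card * ((χ : G → ℂ) a * (χ : G → ℂ) b / (χ : G → ℂ) 1)) := by
    rw [← Finset.sum_boole, Finset.sum_product]
    rw [Finset.sum_congr rfl fun u _ => Finset.sum_congr rfl fun w _ =>
      classFun_expand hι (u * w)]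
    rw [Finset.sum_congr rfl fun u _ => Finset.sum_comm, Finset.sum_comm]
    refine Finset.sum_congr rfl fun χ _ => ?_
    rw [← hpair χ, Finset.mul_sum]
    exact Finset.sum_congr rfl fun u _ => (Finset.mul_sum _ _ _).symm
  refine mul_right_cancel₀ (b := (Nat.card (core p x) : ℂ))
    (Nat.cast_ne_zero.2 Nat.card_pos.ne') ?_
  rw [mul_assoc, ← Nat.cast_mul, ← hidx, Subgroup.index_mul_card, hcount, Finset.sum_mul,
    Finset.mul_sum, Finset.sum_mul,
    ← Finset.sum_filter_add_sum_filter_not univ (· ∈ Cfsg.principalBlock M G),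
    Finset.sum_eq_zero (s := univ.filter fun χ => ¬χ ∈ Cfsg.principalBlock M G) fun χ hχ => by
      rw [mul_right_comm, hinner, T_eq_zero hM hx hidx (mem_filter.1 hχ).2, map_zero, zero_mul],
    add_zero]
  refine Finset.sum_congr rfl fun χ hχ => ?_
  rw [mul_right_comm, hinner, T_principal hM hx (mem_filter.1 hχ).2, map_mul, map_natCast]
  ring

end Sums

end CfsgLib.SectionCount
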