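import Cfsg.Agent.Kinf.SectionCount

/-!
Orthogonality of the principal block between different sections.
-/

set_option autoImplicit false
set_option linter.unusedSectionVars false
set_option linter.style.haveILetI false

namespace CfsgLib.SectionCount

open Finset CfsgLib.Block CfsgLib.Block.Chr CfsgLib.Char
open scoped ComplexConjugate

universe u

variable {G : Type u} [Group G] [Fintype G] {p : ℕ}

/-- Sections of non-conjugate elements are disjoint. -/
theorem isConj_of_mem_sections (hp : p.Prime) {x y : G} {k l : ℕ} (hx : orderOf x = p ^ k)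
    (hy : orderOf y = p ^ l) {g : G} (hgx : g ∈ section' p x) (hgy : g ∈ section' p y) : IsConj x y := by
  classical
  obtain ⟨c, v, hv, rfl⟩ := hgx
  obtain ⟨d, w, hw, he⟩ := hgy
  have hcomm : Commute y (w : G) := (Subgroup.mem_centralizer_singleton_iff.1 w.2).symm
  have hg : (c⁻¹ * d) * (y * (w : G)) * (c⁻¹ * d)⁻¹ = x * (v : G) := by
    calc (c⁻¹ * d) * (y * (w : G)) * (c⁻¹ * d)⁻¹
        = c⁻¹ * (d * (y * (w : G)) * d⁻¹) * c := by group
      _ = x * (v : G) := by rw [he]; group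
  have h : x = (c⁻¹ * d) * y * (c⁻¹ * d)⁻¹ :=
    pPart_unique hp (isPPart_mul hp hx v (not_dvd_orderOf hp hv))
      (x' := (c⁻¹ * d) * y * (c⁻¹ * d)⁻¹) (y' := (c⁻¹ * d) * (w : G) * (c⁻¹ * d)⁻¹)
      (by rw [← hg]; group) (hcomm.map (MulAut.conj (c⁻¹ * d))) (n := l)
      (by rw [conj_pow, ← hy, pow_orderOf_eq_one]; simp) (m := orderOf w)
      (not_dvd_orderOf hp hw) (by rw [conj_pow, ← Subgroup.orderOf_coe, pow_orderOf_eq_one]; simp)
  exact (isConj_iff.2 ⟨c⁻¹ * d, h.symm⟩).symm

theorem dvd_orderOf_of_mem_section (hp : p.Prime) {x : G} (hx : orderOf x = p) {g : G}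
    (hg : g ∈ section' p x) : p ∣ orderOf g := by
  obtain ⟨c, v, hv, rfl⟩ := hg
  rw [show c * (x * (v : G)) * c⁻¹ = (MulAut.conj c).toMonoidHom (x * (v : G)) from rfl,
    orderOf_injective _ (MulAut.conj c).injective,
    (show Commute x (v : G) from (Subgroup.mem_centralizer_singleton_iff.1 v.2).symm).orderOf_mul_eq_mul_orderOf_of_coprime
      (by rw [hx, Subgroup.orderOf_coe]; exact hp.coprime_iff_not_dvd.2 (not_dvd_orderOf hp hv)), hx]
  exact dvd_mul_right p _

variable [Fintype (Cfsg.IrrCharacter G)] {M : Ideal Cfsg.AlgInt} [M.IsPrime]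
  [DecidablePred (· ∈ Cfsg.principalBlock M G)]

theorem sum_principal_eq_zero (hM : Cfsg.IsPModular p M) {x y : G} {k l a : ℕ}
    (hx : orderOf x = p ^ k) (hy : orderOf y = p ^ l) (hxi : (core p x).index = p ^ a)
    (hne : ¬ IsConj x y) :
    ∑ χ ∈ univ.filter (· ∈ Cfsg.principalBlock M G), (χ : G → ℂ) x * conj ((χ : G → ℂ) y) = 0 := by
  classical
  haveI : Fintype (core p x) := Fintype.ofFinite _
  haveI : Fintype (core p y) := Fintype.ofFinite _
  have h0 : ∑ χ : Cfsg.IrrCharacter G, T p x χ * conj (T p y χ) = 0 := by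
    simp only [T_eq_sum, map_sum, Finset.sum_mul_sum]
    rw [Finset.sum_comm]
    refine Finset.sum_eq_zero fun v _ => ?_
    rw [Finset.sum_comm]
    refine Finset.sum_eq_zero fun w _ => ?_
    rw [column_orth, if_neg]
    intro h
    obtain ⟨c, hc⟩ := isConj_iff.1 h
    exact hne (isConj_of_mem_sections hM.1 hx hy ⟨c, _, v.2, hc⟩ ⟨1, _, w.2, by group⟩)
  rw [← Finset.sum_filter_add_sum_filter_not univ (· ∈ Cfsg.principalBlock M G),
    Finset.sum_eq_zero (s := univ.filter fun χ => ¬χ ∈ Cfsg.principalBlock M G) fun χ hχ => by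
      rw [T_eq_zero hM hx hxi (mem_filter.1 hχ).2, zero_mul], add_zero,
    Finset.sum_congr rfl fun χ hχ => by
      rw [T_principal hM hx (mem_filter.1 hχ).2, T_principal hM hy (mem_filter.1 hχ).2, map_mul,
        map_natCast, mul_mul_mul_comm],
    ← Finset.mul_sum] at h0
  exact (mul_eq_zero.1 h0).resolve_left
    (mul_ne_zero (Nat.cast_ne_zero.2 Nat.card_pos.ne') (Nat.cast_ne_zero.2 Nat.card_pos.ne'))

end CfsgLib.SectionCount
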