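import Cfsg.Agent.Kinf.PairCyclicFinal
import Cfsg.Agent.FGSB.CyclicSylowNormal
import Cfsg.Agent.PLocal.PConstrained

/-!
With cyclic Sylow `p`-subgroups, `p`-solubility is decided by pairs of elements of order `p`.
-/

set_option autoImplicit false
set_option linter.unusedSectionVars false
set_option linter.style.haveILetI false

namespace CfsgLib.PairCyclic

open Subgroup

universe u

variable {G : Type u} [Group G] {p : ℕ} [Fact p.Prime]

theorem isPSolvable_of_step (h : (∃ m, Nat.card G = p ^ m) ∨ (Nat.card G).Coprime p) :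
    Cfsg.IsPSolvable p G := by
  refine ⟨1, ![⊥, ⊤], rfl, rfl, ?_, ?_, fun i => ?_⟩
  · refine Fin.monotone_iff_le_succ.2 fun i => ?_
    fin_cases i
    exact bot_le
  · intro i
    fin_cases i <;> simp <;> infer_instance
  · fin_cases i
    simp only [Fin.zero_eta, Fin.castSucc_zero, Fin.succ_zero_eq_one, Matrix.cons_val_zero,
      Matrix.cons_val_one, relIndex_bot_left, Subgroup.card_top]
    exact h

/-- An extension of a `p`-soluble group by a `p'`-group is `p`-soluble. -/
theorem isPSolvable_of_coprime_kernel {H : Type u} [Group H] [Finite G]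
    (f : G →* H) (hf : Function.Surjective f) (hk : (Nat.card f.ker).Coprime p)
    (h : Cfsg.IsPSolvable p H) : Cfsg.IsPSolvable p G := by
  obtain ⟨n, C, h0, hn, hm, hnor, hstep⟩ := h
  refine ⟨n + 1, Fin.cons ⊥ (fun i => (C i).comap f), rfl, ?_, ?_, ?_, ?_⟩
  · rw [← Fin.succ_last, Fin.cons_succ, hn, Subgroup.comap_top]
  · refine Fin.monotone_iff_le_succ.2 fun i => ?_
    induction i using Fin.cases with
    | zero => simp
    | succ j =>
      rw [← Fin.succ_castSucc, Fin.cons_succ, Fin.cons_succ]
      exact Subgroup.comap_mono (hm Fin.castSucc_lt_succ.le)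
  · intro i
    induction i using Fin.cases with
    | zero => rw [Fin.cons_zero]; infer_instance
    | succ j => rw [Fin.cons_succ]; exact (hnor j).comap f
  · intro i
    induction i using Fin.cases with
    | zero =>
      right
      rw [Fin.castSucc_zero, Fin.cons_zero, Fin.cons_succ, h0, Subgroup.relIndex_bot_left,
        MonoidHom.comap_bot]
      exact hk
    | succ j =>
      rw [← Fin.succ_castSucc, Fin.cons_succ, Fin.cons_succ, Subgroup.relIndex_comap,
        Subgroup.map_comap_eq_self_of_surjective hf]
      exact hstep j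

theorem isPSolvable_of_pairs (N : ℕ) : ∀ (G : Type u) [Group G] [Finite G], Nat.card G = N →
    ∀ P : Sylow p G, IsCyclic (P : Subgroup G) →
    (∀ x y : G, orderOf x = p → orderOf y = p → Cfsg.IsPSolvable p ↥(closure ({x, y} : Set G))) →
    Cfsg.IsPSolvable p G := by
  induction N using Nat.strong_induction_on with
  | _ N ih =>
  intro G _ _ hN P hP hc
  subst hN
  have hp := (Fact.out : p.Prime)
  by_cases hdvd : p ∣ Nat.card G
  swap
  · exact isPSolvable_of_step (Or.inr (hp.coprime_iff_not_dvd.2 hdvd).symm)
  -- a nontrivial normal subgroup of order prime to `p`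
  by_cases hN' : ∃ N : Subgroup G, N.Normal ∧ N ≠ ⊥ ∧ (Nat.card N).Coprime p
  · obtain ⟨N, hNn, hN1, hNc⟩ := hN'
    haveI := hNn
    haveI := hP
    let f := QuotientGroup.mk' N
    have hf : Function.Surjective f := QuotientGroup.mk'_surjective N
    refine isPSolvable_of_coprime_kernel f hf (by rwa [QuotientGroup.ker_mk']) ?_
    have hlt : Nat.card (G ⧸ N) < Nat.card G := by
      rw [← N.card_mul_index, ← Subgroup.index_eq_card]
      exact lt_mul_of_one_lt_left (Nat.pos_of_ne_zero Subgroup.index_ne_zero_of_finite)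
        (lt_of_le_of_ne Nat.card_pos fun h => hN1 (Subgroup.card_eq_one.1 h.symm))
    refine ih _ hlt _ rfl (P.mapSurjective hf)
      (isCyclic_of_surjective _ (MonoidHom.subgroupMap_surjective f (P : Subgroup G))) fun a b ha hb => ?_
    have lift : ∀ a : G ⧸ N, orderOf a = p → ∃ g : G, orderOf g = p ∧ f g = a := by
      intro a ha
      obtain ⟨g, rfl⟩ := hf a
      obtain ⟨k, hk⟩ := exists_pow_eq_self_of_coprime (x := f g) (n := Nat.card N)
        (by rw [ha]; exact hNc)
      refine ⟨(g ^ Nat.card N) ^ k, ?_, by rw [map_pow, map_pow, hk]⟩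
      refine orderOf_eq_prime ?_ fun h => ?_
      · have hgN : g ^ p ∈ N := (QuotientGroup.eq_one_iff _).1 (by
          show f (g ^ p) = 1
          rw [map_pow, ← ha, pow_orderOf_eq_one])
        have h1 : (g ^ p) ^ Nat.card N = 1 :=
          congrArg Subtype.val (pow_card_eq_one' (x := (⟨g ^ p, hgN⟩ : N)))
        rw [← pow_mul, ← pow_mul, show Nat.card N * (k * p) = p * Nat.card N * k by ring, pow_mul,
          pow_mul, h1, one_pow]
      · have := congrArg f h
        rw [map_pow, map_pow, hk, map_one] at this
        rw [this, orderOf_one] at ha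
        exact hp.ne_one ha.symm
    obtain ⟨u, hu, rfl⟩ := lift a ha
    obtain ⟨v, hv, rfl⟩ := lift b hb
    have hmap : (closure ({u, v} : Set G)).map f = closure ({f u, f v} : Set (G ⧸ N)) := by
      rw [MonoidHom.map_closure, Set.image_insert_eq, Set.image_singleton]
    rw [← hmap]
    exact PConstrained.isPSolvable_map _ (MonoidHom.subgroupMap_surjective f _) (hc u v hu hv)
  push Not at hN'
  by_cases hsimp : ∀ H : Subgroup G, H.Normal → H = ⊥ ∨ H = ⊤
  · -- the simple case
    haveI : Nontrivial G := by
      by_contra h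
      rw [not_nontrivial_iff_subsingleton] at h
      rw [Nat.card_unique] at hdvd
      exact hp.not_dvd_one hdvd
    haveI : IsSimpleGroup G := ⟨hsimp⟩
    by_cases hab : ∀ a b : G, a * b = b * a
    · letI : CommGroup G := { (inferInstance : Group G) with mul_comm := hab }
      have hq : (Nat.card G).Prime := IsSimpleGroup.prime_card
      exact isPSolvable_of_step (Or.inl ⟨1, by rw [pow_one, ((Nat.prime_dvd_prime_iff_eq hp hq).1 hdvd)]⟩)
    exfalso
    letI := Fintype.ofFinite G
    have hP1 : (P : Subgroup G) ≠ ⊥ := P.ne_bot_of_dvd_card hdvd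
    refine false_of_pairs P hP hP1 ?_ hc
    rintro ⟨R, K, hK, hKR⟩
    haveI := hP
    rcases hsimp K hK with rfl | rfl
    · refine hab fun a b => ?_
      have htop : (R : Subgroup G) = ⊤ := isComplement'_bot_left.1 hKR
      exact congrArg Subtype.val ((isMulCommutative_of_isPGroup P hP _ R.2).is_comm.comm
        ⟨a, htop.ge (mem_top a)⟩ ⟨b, htop.ge (mem_top b)⟩)
    · exact R.ne_bot_of_dvd_card hdvd (isComplement'_top_left.1 hKR)
  push Not at hsimp
  obtain ⟨H, hH, hH1, hH2⟩ := hsimp
  haveI := hH
  have hpH : p ∣ Nat.card H := by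
    by_contra h
    exact hN' H hH hH1 (hp.coprime_iff_not_dvd.2 h).symm
  by_cases hpI : p ∣ H.index
  · exact CyclicSylowNormal.isPSolvable_part P hP H hpH (CyclicSylowNormal.complement_part P hP H hpI)
  -- the Sylow subgroup lies in `H`
  have hlt : Nat.card H < Nat.card G := lt_of_le_of_ne H.card_le_card_group fun h =>
    hH2 (H.eq_top_of_card_eq h)
  obtain ⟨S⟩ : Nonempty (Sylow p H) := inferInstance
  have hS : IsCyclic (S : Subgroup H) := by
    haveI := hP
    obtain ⟨c, hc'⟩ := exists_conj_mem P _ (S.2.map H.subtype)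
    refine isCyclic_of_injective
      (((MulAut.conj c).toMonoidHom.comp (H.subtype.comp (S : Subgroup H).subtype)).codRestrict
        (P : Subgroup G) fun s => hc' _ ⟨_, s.2, rfl⟩) fun a b hab => ?_
    have h := congrArg Subtype.val hab
    exact Subtype.ext (Subtype.ext ((MulAut.conj c).injective h))
  have hHs : Cfsg.IsPSolvable p H := by
    refine ih _ hlt H rfl S hS fun x y hx hy => ?_
    have hmap : (closure ({x, y} : Set H)).map H.subtype = closure ({(x : G), (y : G)} : Set G) := by
      rw [MonoidHom.map_closure, Set.image_insert_eq, Set.image_singleton]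
      rfl
    refine PConstrained.isPSolvable_comap
      ((closure ({x, y} : Set H)).equivMapOfInjective H.subtype H.subtype_injective).toMonoidHom
      (MulEquiv.injective _) ?_
    rw [hmap]
    exact hc _ _ (by rw [orderOf_coe]; exact hx) (by rw [orderOf_coe]; exact hy)
  haveI : Nontrivial H := (H.nontrivial_iff_ne_bot).2 hH1
  rcases PConstrained.exists_core_ne_bot hHs with h | h
  · haveI := PConstrained.normal_map_pCore (p := p) hH
    set Q := (Cfsg.pCore p H).map H.subtype
    have hQp : IsPGroup p Q := (Solvable.isPGroup_pCore p).map _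
    have hQ1 : Q ≠ ⊥ := fun h' => h ((Subgroup.map_eq_bot_iff_of_injective _ H.subtype_injective).1 h')
    obtain ⟨k, hk⟩ := IsPGroup.iff_card.1 hQp
    refine CyclicSylowNormal.isPSolvable_part P hP Q ?_ ?_
    · rw [hk]
      exact dvd_pow_self p fun h0 => hQ1 (Subgroup.card_eq_one.1 (by rw [hk, h0, pow_zero]))
    · obtain ⟨R⟩ : Nonempty (Sylow p Q) := inferInstance
      refine ⟨R, ⊥, inferInstance, isComplement'_bot_left.2 ?_⟩
      exact (R.3 (hQp.of_equiv Subgroup.topEquiv.symm) le_top).symm
  · haveI := PConstrained.normal_map_pPrimeCore (p := p) hH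
    exact absurd (by rw [card_map_of_injective H.subtype_injective]; exact Solvable.coprime_card_pPrimeCore p)
      (hN' ((Cfsg.pPrimeCore p H).map H.subtype) inferInstance
        fun h' => h ((Subgroup.map_eq_bot_iff_of_injective _ H.subtype_injective).1 h'))

end CfsgLib.PairCyclic
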