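import Cfsg.Agent.Kinf.BBalanceCore

/-!
The induction for `Quasi` subgroups in the fixed points of a `p`-group on the layer.
-/

set_option autoImplicit false
set_option linter.unusedSectionVars false
set_option linter.style.haveILetI false

namespace CfsgLib.BBalance

open Subgroup LocalBalance LBalance CfsgLib.Kinf
open scoped commutatorElement

universe u

variable {p : ℕ} [Fact p.Prime] {X : Type u} [Group X] [Finite X]

/-- A `Quasi` subgroup with quasisimple image and central kernel is quasisimple. -/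
theorem quasisimple_of_image {Δ : Type*} [Group Δ] {M P : Subgroup X} (hM : Quasi p M) (hMP : M ≤ P)
    (g : ↥P →* Δ) (hker : ∀ x : ↥P, (x : X) ∈ M → g x = 1 → ∀ m ∈ M, m * (x : X) = (x : X) * m)
    (him : (M.subgroupOf P).map g = ⊥ ∨ Cfsg.IsQuasisimple ↥((M.subgroupOf P).map g)) :
    Cfsg.IsQuasisimple M := by
  rcases him with h | h
  · exfalso
    refine quasi_ne_bot hM (hM.1.symm.trans (commutator_eq_bot_iff_le_centralizer.2 ?_))
    intro x hx
    refine mem_centralizer_iff.2 fun m hm => hker ⟨x, hMP hx⟩ hx ?_ m hm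
    exact mem_bot.1 (h ▸ mem_map_of_mem g (show (⟨x, hMP hx⟩ : P) ∈ M.subgroupOf P from hx))
  refine SectionLayer.isQuasisimple_of_central
    ((g.subgroupMap (M.subgroupOf P)).comp (subgroupOfEquivOfLe hMP).symm.toMonoidHom)
    ((MonoidHom.subgroupMap_surjective g _).comp (subgroupOfEquivOfLe hMP).symm.surjective)
    (fun x hx => mem_center_iff.2 fun m => Subtype.ext ?_) (Subgroup.isPerfect_iff.mpr hM.1) h
  exact hker ⟨x, hMP x.2⟩ x.2 (congrArg Subtype.val (MonoidHom.mem_ker.1 hx)) m m.2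

theorem conj_le_imp_normalizer {D : Subgroup X} {e : X}
    (h : ∀ d ∈ D, e * d * e⁻¹ ∈ D) : e ∈ normalizer (D : Set X) := by
  refine mem_normalizer_iff_map_conj_eq.2 (eq_of_le_of_card_ge ?_ ?_)
  · rintro _ ⟨d, hd, rfl⟩
    exact h d hd
  · exact (Nat.card_congr (D.equivMapOfInjective _ (MulAut.conj e).injective).toEquiv).le

/-- The centre of the layer can be assumed trivial. -/
theorem center_step (ih : CoreBelow.{u} p (Nat.card X)) (h : Hyp p X) {R M : Subgroup X}
    (hR : IsPGroup p R) (hM : Quasi p M) (hMD : M ≤ Cfsg.layer X ⊓ centralizer (R : Set X))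
    (hsub : (M.subgroupOf (Cfsg.layer X ⊓ centralizer (R : Set X))).IsSubnormal)
    (hZ : Cfsg.layer X ⊓ centralizer ((Cfsg.layer X : Subgroup X) : Set X) ≠ ⊥) :
    Cfsg.IsQuasisimple M := by
  set E := Cfsg.layer X
  set Z := E ⊓ centralizer (E : Set X)
  haveI : Z.Normal := Subgroup.normal_inf_normal _ _
  have hcz : ∀ z ∈ Z, ∀ e ∈ E, e * z = z * e := fun z hz e he =>
    mem_centralizer_iff.1 hz.2 e he
  have him := quotient_step ih h hZ hR hM hMD hsub fun e he hc =>
    ⟨e, he, by simp, conj_le_imp_normalizer fun d hd => mem_inf.2 ⟨mul_mem (mul_mem he hd.1) (inv_mem he),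
      mem_centralizer_iff.2 fun r hr => ?_⟩⟩
  · rw [← map_subgroupOf_eq_of_le (le_top : M ≤ ⊤), map_map] at him
    refine quasisimple_of_image hM le_top _ (fun x hx hx1 m hm => ?_) him
    exact hcz (x : X) ((QuotientGroup.eq_one_iff _).1 hx1) m (hMD hm).1
  · set z := r⁻¹ * (e * r * e⁻¹) with hz
    have hz' : z ∈ Z := hc r hr
    have h1 : e * r * e⁻¹ = r * z := by rw [hz]; group
    have h2 : e⁻¹ * r * e = r * z⁻¹ := by
      have h4 : e⁻¹ * z * e = z := by rw [mul_assoc, ← hcz z hz' e he, inv_mul_cancel_left]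
      calc e⁻¹ * r * e = e⁻¹ * (r * z) * e * (e⁻¹ * z * e)⁻¹ := by group
        _ = r * z⁻¹ := by rw [← h1, h4]; group
    have h3 : d * r = r * d := (mem_centralizer_iff.1 hd.2 r hr).symm
    have h5 : d * z⁻¹ = z⁻¹ * d := hcz z⁻¹ (inv_mem hz') d hd.1
    symm
    calc e * d * e⁻¹ * r = e * d * (e⁻¹ * r * e) * e⁻¹ := by group
      _ = e * (d * r) * z⁻¹ * e⁻¹ := by rw [h2]; group
      _ = e * r * (d * z⁻¹) * e⁻¹ := by rw [h3]; group
      _ = e * (r * z⁻¹) * d * e⁻¹ := by rw [h5]; group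
      _ = r * (e * d * e⁻¹) := by rw [← h2]; group

/-- The image of the core lies in the core of the image. -/
theorem map_core_commutator {Δ : Type*} [Group Δ] [Finite Δ] {M : Subgroup X} (hM : Quasi p M)
    (f : X →* Δ) (him : M.map f = ⊥ ∨ Cfsg.IsQuasisimple ↥(M.map f)) :
    ⁅M, core p M⁆.map f = ⊥ := by
  by_cases hb : M.map f = ⊥
  · rw [eq_bot_iff, ← hb]
    exact map_mono ((commutator_mono le_rfl (core_le M)).trans (commutator_le_self M))
  have hq := him.resolve_left hb
  rw [map_commutator, eq_bot_iff, ← commutator_core_eq_bot (quasi_map hM f hb) hq]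
  refine commutator_mono le_rfl (le_core (map_mono (core_le M)) ?_ ?_)
  · exact (map_mono (le_normalizer.trans (normalizer_le_normalizer_core M))).trans (le_normalizer_map f)
  · exact (coprime_core M).coprime_dvd_left (card_map_dvd _ _)

/-- Two commuting normal factors of the layer. -/
theorem split_step (ih : CoreBelow.{u} p (Nat.card X)) (h : Hyp p X) {R M : Subgroup X}
    (hR : IsPGroup p R) (hM : Quasi p M) (hMD : M ≤ Cfsg.layer X ⊓ centralizer (R : Set X))
    (hsub : (M.subgroupOf (Cfsg.layer X ⊓ centralizer (R : Set X))).IsSubnormal)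
    (E₁ E₂ : Subgroup X) [E₁.Normal] [E₂.Normal] (hE : E₁ ⊔ E₂ = Cfsg.layer X)
    (hi : E₁ ⊓ E₂ = ⊥) (h1 : E₁ ≠ ⊥) (h2 : E₂ ≠ ⊥) : Cfsg.IsQuasisimple M := by
  have key : ∀ (A B : Subgroup X) [A.Normal] [B.Normal], A ⊔ B = Cfsg.layer X → A ⊓ B = ⊥ → A ≠ ⊥ →
      ⁅M, core p M⁆ ≤ A := by
    intro A B _ _ hAB hi hA
    have him := quotient_step ih h hA hR hM hMD hsub fun e he hc => by
      rw [← hAB] at he
      obtain ⟨a, ha, b, hb, rfl⟩ := mem_sup_of_normal_left.1 he
      refine ⟨b, hAB ▸ mem_sup_right hb, ?_, layer_inf_normalized R (mem_centralizer_iff.2 fun r hr => ?_)⟩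
      · simpa [mul_assoc] using (inferInstance : A.Normal).conj_mem _ (inv_mem ha) b⁻¹
      have hbB : r⁻¹ * (b * r * b⁻¹) ∈ B := by
        simpa [mul_assoc] using mul_mem ((inferInstance : B.Normal).conj_mem _ hb r⁻¹) (inv_mem hb)
      have hbA : r⁻¹ * (b * r * b⁻¹) ∈ A := by
        have e1 : r⁻¹ * (b * r * b⁻¹) =
            (r⁻¹ * a⁻¹ * r) * (r⁻¹ * (a * b * r * (a * b)⁻¹)) * a := by group
        rw [e1]
        refine mul_mem (mul_mem ?_ (hc r hr)) ha
        simpa [mul_assoc] using (inferInstance : A.Normal).conj_mem _ (inv_mem ha) r⁻¹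
      have h0 : r⁻¹ * (b * r * b⁻¹) = 1 := mem_bot.1 (hi ▸ mem_inf.2 ⟨hbA, hbB⟩)
      rw [inv_mul_eq_one] at h0
      exact eq_mul_inv_iff_mul_eq.1 h0
    have := map_core_commutator hM _ him
    rwa [Subgroup.map_eq_bot_iff, QuotientGroup.ker_mk'] at this
  refine quasisimple_of_quasi hM (le_bot_iff.1 ?_)
  rw [← hi]
  exact le_inf (key E₁ E₂ hE hi h1) (key E₂ E₁ (by rw [sup_comm, hE]) (by rw [inf_comm, hi]) h2)

/-- An element of the layer fixed by `R` agreeing with a given element on a component. -/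
theorem exists_fixed_diag {R L : Subgroup X} (hL : Cfsg.IsComponent L)
    (hZ : Cfsg.layer X ⊓ centralizer ((Cfsg.layer X : Subgroup X) : Set X) = ⊥)
    (hgen : ∀ K : Subgroup X, Cfsg.IsComponent K → ∃ r ∈ R, L.map (MulAut.conj r).toMonoidHom = K)
    {l : X} (hl : l ∈ L) (hfix : ∀ r ∈ R, r ∈ normalizer (L : Set X) → r * l = l * r) :
    ∃ d ∈ Cfsg.layer X ⊓ centralizer (R : Set X), d⁻¹ * l ∈ centralizer (L : Set X) := by
  classical
  set E := Cfsg.layer X
  choose ρ hρR hρ using hgen
  let c : {K : Subgroup X // Cfsg.IsComponent K} → X := fun K => ρ K K.2 * l * (ρ K K.2)⁻¹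
  -- independence of the chosen element
  have hindep : ∀ r ∈ R, ∀ K : {K : Subgroup X // Cfsg.IsComponent K},
      L.map (MulAut.conj r).toMonoidHom = K → r * l * r⁻¹ = c K := by
    intro r hr K hK
    set s := ρ K K.2 with hs
    have hn : s⁻¹ * r ∈ normalizer (L : Set X) := by
      refine conj_le_imp_normalizer fun d hd => ?_
      have h1 : r * d * r⁻¹ ∈ L.map (MulAut.conj s).toMonoidHom := by
        rw [hs, hρ K K.2, ← hK]; exact ⟨d, hd, rfl⟩
      obtain ⟨d', hd', he⟩ := h1
      have : d' = s⁻¹ * r * d * (s⁻¹ * r)⁻¹ := by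
        have he' : s * d' * s⁻¹ = r * d * r⁻¹ := he
        calc d' = s⁻¹ * (s * d' * s⁻¹) * s := by group
          _ = _ := by rw [he']; group
      exact this ▸ hd'
    have h2 : s⁻¹ * r * l = l * (s⁻¹ * r) := hfix _ (mul_mem (inv_mem (hρR K K.2)) hr) hn
    show r * l * r⁻¹ = s * l * s⁻¹
    calc r * l * r⁻¹ = s * ((s⁻¹ * r) * l) * r⁻¹ := by group
      _ = s * l * s⁻¹ := by rw [h2]; group
  have hcK : ∀ K : {K : Subgroup X // Cfsg.IsComponent K}, c K ∈ (K : Subgroup X) := fun K => by
    have : c K ∈ L.map (MulAut.conj (ρ K K.2)).toMonoidHom := ⟨l, hl, rfl⟩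
    rwa [hρ K K.2] at this
  -- existence
  suffices hfin : ∀ s : Finset {K : Subgroup X // Cfsg.IsComponent K},
      ∃ e ∈ E, ∀ K ∈ s, (c K)⁻¹ * e ∈ centralizer ((K : Subgroup X) : Set X) by
    haveI instF := Fintype.ofFinite {K : Subgroup X // Cfsg.IsComponent K}
    obtain ⟨d, hd, hdK⟩ := hfin Finset.univ
    have huniq : ∀ e ∈ E, (∀ K : {K : Subgroup X // Cfsg.IsComponent K},
        (c K)⁻¹ * e ∈ centralizer ((K : Subgroup X) : Set X)) → e = d := by
      intro e he heK
      have h1 : d⁻¹ * e ∈ E ⊓ centralizer (E : Set X) := by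
        refine mem_inf.2 ⟨mul_mem (inv_mem hd) he, ?_⟩
        suffices E ≤ centralizer {d⁻¹ * e} from
          mem_centralizer_iff.2 fun z hz => mem_centralizer_singleton_iff.1 (this hz)
        refine Comp.layer_le fun K hK z hz => mem_centralizer_singleton_iff.2 ?_
        have h2 := mul_mem (inv_mem (hdK ⟨K, hK⟩ (Finset.mem_univ _))) (heK ⟨K, hK⟩)
        rw [show ((c ⟨K, hK⟩)⁻¹ * d)⁻¹ * ((c ⟨K, hK⟩)⁻¹ * e) = d⁻¹ * e by group] at h2
        exact mem_centralizer_iff.1 h2 z hz
      rw [hZ, mem_bot, inv_mul_eq_one] at h1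
      exact h1.symm
    refine ⟨d, ⟨hd, mem_centralizer_iff.2 fun r hr => ?_⟩, ?_⟩
    · refine mul_inv_eq_iff_eq_mul.1 (huniq _ ((inferInstance : E.Normal).conj_mem d hd r) fun K => ?_)
      have hK' : Cfsg.IsComponent ((K : Subgroup X).map (MulAut.conj r⁻¹).toMonoidHom) :=
        Comp.component_conj r⁻¹ K.2
      set K' : {K : Subgroup X // Cfsg.IsComponent K} := ⟨_, hK'⟩
      have hcc : r * c K' * r⁻¹ = c K := by
        rw [← hindep (r * ρ K' K'.2) (mul_mem hr (hρR K' K'.2)) K ?_]
        · show r * (ρ K' K'.2 * l * (ρ K' K'.2)⁻¹) * r⁻¹ = _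
          group
        · ext y
          constructor
          · rintro ⟨a, ha, rfl⟩
            have h1 : ρ K' K'.2 * a * (ρ K' K'.2)⁻¹ ∈ (K' : Subgroup X) :=
              (hρ K' K'.2).le ⟨a, ha, rfl⟩
            obtain ⟨k, hk, hke⟩ := h1
            have hke' : r⁻¹ * k * r⁻¹⁻¹ = ρ K' K'.2 * a * (ρ K' K'.2)⁻¹ := hke
            show r * ρ K' K'.2 * a * (r * ρ K' K'.2)⁻¹ ∈ (K : Subgroup X)
            rw [show r * ρ K' K'.2 * a * (r * ρ K' K'.2)⁻¹ =
              r * (ρ K' K'.2 * a * (ρ K' K'.2)⁻¹) * r⁻¹ by group, ← hke']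
            simpa [mul_assoc] using hk
          · intro hy
            have h1 : r⁻¹ * y * r⁻¹⁻¹ ∈ L.map (MulAut.conj (ρ K' K'.2)).toMonoidHom :=
              (hρ K' K'.2).ge ⟨y, hy, rfl⟩
            obtain ⟨a, ha, hae⟩ := h1
            have hae' : ρ K' K'.2 * a * (ρ K' K'.2)⁻¹ = r⁻¹ * y * r⁻¹⁻¹ := hae
            refine ⟨a, ha, ?_⟩
            show r * ρ K' K'.2 * a * (r * ρ K' K'.2)⁻¹ = y
            rw [show r * ρ K' K'.2 * a * (r * ρ K' K'.2)⁻¹ =
              r * (ρ K' K'.2 * a * (ρ K' K'.2)⁻¹) * r⁻¹ by group, hae']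
            group
      rw [← hcc, show (r * c K' * r⁻¹)⁻¹ * (r * d * r⁻¹) = r * ((c K')⁻¹ * d) * r⁻¹ by group]
      refine mem_centralizer_iff.2 fun k hk => ?_
      have h3 := mem_centralizer_iff.1 (hdK K' (Finset.mem_univ _)) (r⁻¹ * k * r⁻¹⁻¹) ⟨k, hk, rfl⟩
      rw [inv_inv] at h3
      calc k * (r * ((c K')⁻¹ * d) * r⁻¹) = r * ((r⁻¹ * k * r) * ((c K')⁻¹ * d)) * r⁻¹ := by group
        _ = r * ((c K')⁻¹ * d) * r⁻¹ * k := by rw [h3]; group
    · have hL1 := hdK ⟨L, hL⟩ (Finset.mem_univ _)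
      have hcL : c ⟨L, hL⟩ = l := by
        rw [← hindep 1 (one_mem R) ⟨L, hL⟩]
        · group
        · ext y; simp
      rw [hcL] at hL1
      have := inv_mem hL1
      rwa [mul_inv_rev, inv_inv] at this
  intro s
  induction s using Finset.induction with
  | empty => exact ⟨1, one_mem _, by simp⟩
  | @insert K s hKs ih =>
    obtain ⟨e, he, h⟩ := ih
    have hel : E ≤ (K : Subgroup X) ⊔ centralizer ((K : Subgroup X) : Set X) := by
      refine Comp.layer_le fun K₁ hK₁ => ?_
      rcases Comp.component_eq_or_commute hK₁ K.2 with h' | h'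
      · rw [h']; exact le_sup_left
      · exact le_sup_of_le_right (Comp.le_centralizer_of_commutator_eq_bot h')
    have hmem : e ∈ (((K : Subgroup X) ⊔ centralizer ((K : Subgroup X) : Set X) :
        Subgroup X) : Set X) := hel he
    rw [sup_comm, coe_mul_of_left_le_normalizer_right _ _ (centralizer_le_normalizer _)] at hmem
    obtain ⟨z, hz, k, hk, hzk⟩ := hmem
    have hzk' : z * k = e := hzk
    have hkc : k⁻¹ * c K ∈ (K : Subgroup X) := mul_mem (inv_mem hk) (hcK K)
    refine ⟨e * (k⁻¹ * c K), mul_mem he (Comp.component_le_layer K.2 hkc), fun K₁ hK₁ => ?_⟩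
    rcases Finset.mem_insert.1 hK₁ with rfl | hK₁'
    · have hzc : c K₁ * z = z * c K₁ := mem_centralizer_iff.1 hz (c K₁) (hcK K₁)
      rw [show (c K₁)⁻¹ * (e * (k⁻¹ * c K₁)) = (c K₁)⁻¹ * ((e * k⁻¹) * c K₁) by group, ← hzk',
        mul_inv_cancel_right, ← hzc, inv_mul_cancel_left]
      exact hz
    · have hne : (K : Subgroup X) ≠ K₁ := fun h' => hKs (Subtype.ext h' ▸ hK₁')
      rw [← mul_assoc]
      exact mul_mem (h K₁ hK₁') (Comp.le_centralizer_of_commutator_eq_bot
        ((Comp.component_eq_or_commute K.2 K₁.2).resolve_left hne) hkc)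

/-- The components form one orbit under `R`. -/
theorem orbit_step (ih : CoreBelow.{u} p (Nat.card X)) (h : Hyp p X) {R M L : Subgroup X}
    (hR : IsPGroup p R) (hM : Quasi p M) (hMD : M ≤ Cfsg.layer X ⊓ centralizer (R : Set X))
    (hsub : (M.subgroupOf (Cfsg.layer X ⊓ centralizer (R : Set X))).IsSubnormal)
    (hL : Cfsg.IsComponent L)
    (hZ : Cfsg.layer X ⊓ centralizer ((Cfsg.layer X : Subgroup X) : Set X) = ⊥)
    (hgen : ∀ K : Subgroup X, Cfsg.IsComponent K → ∃ r ∈ R, L.map (MulAut.conj r).toMonoidHom = K)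
    (hLn : normalizer (L : Set X) ≠ ⊤) : Cfsg.IsQuasisimple M := by
  set E := Cfsg.layer X
  set P := normalizer (L : Set X)
  have hEP : E ≤ P := Comp.layer_le_normalizer_component hL
  set C := (centralizer (L : Set X)).subgroupOf P
  haveI : C.Normal := (normal_subgroupOf_iff_le_normalizer (centralizer_le_normalizer _)).2
    (normalizer_le_normalizer_centralizer L)
  have hLC : L ⊓ centralizer (L : Set X) = ⊥ := by
    rw [eq_bot_iff, ← hZ]
    refine fun y hy => ⟨Comp.component_le_layer hL hy.1, ?_⟩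
    suffices E ≤ centralizer {y} from
      mem_centralizer_iff.2 fun z hz => mem_centralizer_singleton_iff.1 (this hz)
    refine Comp.layer_le fun K hK z hz => mem_centralizer_singleton_iff.2 ?_
    rcases Comp.component_eq_or_commute hK hL with rfl | h'
    · exact mem_centralizer_iff.1 hy.2 z hz
    · exact (mem_centralizer_iff.1 (Comp.le_centralizer_of_commutator_eq_bot h' hz) y hy.1).symm
  have hcard : Nat.card (↥P ⧸ C) < Nat.card X :=
    lt_of_le_of_lt (Nat.card_le_card_of_surjective _ (QuotientGroup.mk'_surjective C))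
      (Solvable.card_lt_of_ne_top hLn)
  have him := image_step ih h hM hMD hsub hEP (inf_le_left : R ⊓ P ≤ R) hR (QuotientGroup.mk' C)
    (QuotientGroup.mk'_surjective C) hcard fun e he hc => by
    have hel : (e : X) ∈ ((L ⊔ centralizer (L : Set X) : Subgroup X) : Set X) := by
      refine (Comp.layer_le fun K₁ hK₁ => ?_ : E ≤ L ⊔ centralizer (L : Set X)) he
      rcases Comp.component_eq_or_commute hK₁ hL with h' | h'
      · rw [h']; exact le_sup_left
      · exact le_sup_of_le_right (Comp.le_centralizer_of_commutator_eq_bot h')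
    rw [sup_comm, coe_mul_of_left_le_normalizer_right _ _ (centralizer_le_normalizer _)] at hel
    obtain ⟨z, hz, l, hl, hzl⟩ := hel
    have hzl' : z * l = (e : X) := hzl
    have hfix : ∀ r ∈ R, r ∈ P → r * l = l * r := by
      intro r hr hrP
      have h1 : (r⁻¹ * ((e : X) * r * (e : X)⁻¹)) ∈ centralizer (L : Set X) := by
        have h2 := hc ⟨r, hrP⟩ ⟨hr, hrP⟩
        have h3 : QuotientGroup.mk' C ((⟨r, hrP⟩ : P)⁻¹ * (e * ⟨r, hrP⟩ * e⁻¹)) = 1 := by
          rw [map_mul, map_mul, map_mul, map_inv, map_inv, ← h2]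
          group
        exact ((QuotientGroup.eq_one_iff (N := C) _).1 h3 :)
      have hC : r⁻¹ * z * r ∈ centralizer (L : Set X) := by
        have := (mem_normalizer_iff.1 (normalizer_le_normalizer_centralizer L (inv_mem hrP)) z).1 hz
        rwa [inv_inv] at this
      have h4 : r⁻¹ * (l * r * l⁻¹) ∈ centralizer (L : Set X) := by
        have h5 : r⁻¹ * (l * r * l⁻¹) =
            (r⁻¹ * z * r)⁻¹ * (r⁻¹ * ((e : X) * r * (e : X)⁻¹)) * z := by
          rw [← hzl']; group
        rw [h5]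
        exact mul_mem (mul_mem (inv_mem hC) h1) hz
      have h6 : r⁻¹ * (l * r * l⁻¹) ∈ L := by
        have := mul_mem ((mem_normalizer_iff.1 (inv_mem hrP) l).1 hl) (inv_mem hl)
        simpa [mul_assoc] using this
      have h7 : r⁻¹ * (l * r * l⁻¹) = 1 := mem_bot.1 (hLC ▸ mem_inf.2 ⟨h6, h4⟩)
      rw [inv_mul_eq_one] at h7
      exact eq_mul_inv_iff_mul_eq.1 h7
    obtain ⟨d, hd, hdl⟩ := exists_fixed_diag hL hZ hgen hl hfix
    refine ⟨⟨d, hEP hd.1⟩, hd.1, ?_, layer_inf_normalized R hd.2⟩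
    refine QuotientGroup.eq.2 ?_
    show d⁻¹ * (e : X) ∈ centralizer (L : Set X)
    have hzl2 : z * l = l * z := (mem_centralizer_iff.1 hz l hl).symm
    rw [← hzl', hzl2, ← mul_assoc]
    exact mul_mem hdl hz
  refine quasisimple_of_image hM ((hMD.trans inf_le_left).trans hEP) _ (fun x hx hx1 m hm => ?_) him
  have hxC : (x : X) ∈ centralizer (L : Set X) := (QuotientGroup.eq_one_iff x).1 hx1
  have hxR := (hMD hx).2
  have : E ≤ centralizer {(x : X)} := by
    refine Comp.layer_le fun K hK z hz => mem_centralizer_singleton_iff.2 ?_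
    obtain ⟨r, hr, rfl⟩ := hgen K hK
    obtain ⟨w, hw, rfl⟩ := hz
    show r * w * r⁻¹ * (x : X) = (x : X) * (r * w * r⁻¹)
    have h1 : r⁻¹ * (x : X) = (x : X) * r⁻¹ := mem_centralizer_iff.1 hxR r⁻¹ (inv_mem hr)
    have h2 : r * (x : X) = (x : X) * r := mem_centralizer_iff.1 hxR r hr
    calc r * w * r⁻¹ * (x : X) = r * (w * (x : X)) * r⁻¹ := by rw [mul_assoc _ r⁻¹, h1]; group
      _ = (r * (x : X)) * w * r⁻¹ := by rw [mem_centralizer_iff.1 hxC w hw]; group
      _ = (x : X) * (r * w * r⁻¹) := by rw [h2]; group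
  exact mem_centralizer_singleton_iff.1 (this (hMD hm).1)

/-- The layer is a simple group. -/
theorem simple_step (ih : CoreBelow.{u} p (Nat.card X)) (h : Hyp p X) {R M L : Subgroup X}
    (hR : IsPGroup p R) (hM : Quasi p M) (hMD : M ≤ Cfsg.layer X ⊓ centralizer (R : Set X))
    (hsub : (M.subgroupOf (Cfsg.layer X ⊓ centralizer (R : Set X))).IsSubnormal)
    (hL : Cfsg.IsComponent L) (hLE : L = Cfsg.layer X)
    (hZ : Cfsg.layer X ⊓ centralizer ((Cfsg.layer X : Subgroup X) : Set X) = ⊥) :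
    Cfsg.IsQuasisimple M := by
  set E := Cfsg.layer X with hE
  set C := centralizer (E : Set X) with hC
  haveI : C.Normal := inferInstance
  by_cases hC1 : C ≠ ⊥
  · have him := quotient_step ih h hC1 hR hM hMD hsub fun e he hc => by
      refine ⟨e, he, by simp, layer_inf_normalized R (mem_centralizer_iff.2 fun r hr => ?_)⟩
      have h1 : r⁻¹ * (e * r * e⁻¹) ∈ E := by
        simpa [mul_assoc] using mul_mem ((inferInstance : E.Normal).conj_mem e he r⁻¹) (inv_mem he)
      have h2 : r⁻¹ * (e * r * e⁻¹) = 1 := mem_bot.1 (hZ ▸ mem_inf.2 ⟨h1, hc r hr⟩)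
      rw [inv_mul_eq_one] at h2
      exact eq_mul_inv_iff_mul_eq.1 h2
    rw [← map_subgroupOf_eq_of_le (le_top : M ≤ ⊤), map_map] at him
    refine quasisimple_of_image hM le_top _ (fun x hx hx1 m hm => ?_) him
    exact mem_centralizer_iff.1
      (show (x : X) ∈ C from (QuotientGroup.eq_one_iff (x : X)).1 hx1) m (hMD hm).1
  push Not at hC1
  have hF : Cfsg.fittingSubgroup X = ⊥ := by
    rw [eq_bot_iff, ← hC1]
    exact Subgroup.le_centralizer_iff.1 Comp.layer_le_centralizer_fitting
  have hO : Cfsg.pPrimeCore p X = ⊥ := by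
    set O := Cfsg.pPrimeCore p X
    rcases Comp.component_le_or_commutator_eq_bot hL (inferInstance : O.Normal).isSubnormal with h' | h'
    · exfalso
      refine quasi_ne_bot hM (eq_bot_of_coprime hM.2.2 ?_)
      exact (Solvable.coprime_card_pPrimeCore p).coprime_dvd_left
        (card_dvd_of_le ((hMD.trans inf_le_left).trans (hLE ▸ h')))
    · rw [eq_bot_iff, ← hC1, hC, ← hLE]
      exact Comp.le_centralizer_of_commutator_eq_bot (by rwa [commutator_comm] at h')
  have hFs : Cfsg.generalizedFittingSubgroup X = L := by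
    rw [Cfsg.generalizedFittingSubgroup, hF, sup_bot_eq, hLE]
  have hq : Cfsg.HasQuasisimpleGeneralizedFitting X :=
    Comp.isQuasisimple_of_equiv (MulEquiv.subgroupCongr hFs).symm hL.2
  by_cases hRL : R ≤ C
  · -- `R` is trivial on the layer
    rw [hC1] at hRL
    have hD : Cfsg.layer X ⊓ centralizer (R : Set X) = E := by
      refine inf_eq_left.2 fun x _ => mem_centralizer_iff.2 fun r hr => ?_
      rw [mem_bot.1 (hRL hr)]; simp
    rw [hD] at hMD hsub
    rw [← hLE] at hMD hsub
    rcases Comp.quasisimple_subnormal hL.2 hsub with h' | h'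
    · exact Comp.isQuasisimple_of_equiv (MulEquiv.subgroupCongr
        (le_antisymm (subgroupOf_eq_top.1 h') hMD)) hL.2
    · refine quasisimple_of_quasi hM (le_bot_iff.1 (le_trans ?_ (le_of_eq (?_ : ⁅M, M⁆ = ⊥))))
      · exact commutator_mono le_rfl (core_le M)
      · rw [commutator_eq_bot_iff_le_centralizer]
        exact fun x hx => mem_centralizer_iff.2 fun y hy => congrArg Subtype.val
          (mem_center_iff.1 (h' (show (⟨x, hMD hx⟩ : L) ∈ M.subgroupOf L from hx)) ⟨y, hMD hy⟩)
  -- an element of order `p` in the centre of `R`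
  have hR1 : R ≠ ⊥ := fun h' => hRL (h' ▸ bot_le)
  haveI := (nontrivial_iff_ne_bot R).2 hR1
  haveI := hR.center_nontrivial
  have hd : p ∣ Nat.card (center ↥R) := by
    obtain ⟨k, hk⟩ := IsPGroup.iff_card.1 (hR.to_subgroup (center ↥R))
    refine hk ▸ dvd_pow_self p fun hk0 => ?_
    have := Finite.one_lt_card (α := center ↥R)
    rw [hk, hk0, pow_zero] at this
    exact lt_irrefl _ this
  obtain ⟨y, hy⟩ := exists_prime_orderOf_dvd_card' p hd
  set x : X := ((y : ↥R) : X)
  have hxo : orderOf x = p := by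
    show orderOf ((y : ↥R) : X) = p
    rw [orderOf_coe, orderOf_coe, hy]
  have hxR : ∀ r ∈ R, r * x = x * r := fun r hr =>
    congrArg Subtype.val (mem_center_iff.1 y.2 ⟨r, hr⟩)
  set Cx := centralizer ({x} : Set X)
  have hCx : Cx ≠ ⊤ := by
    intro htop
    have : x ∈ C := mem_centralizer_iff.2 fun z _ =>
      mem_centralizer_singleton_iff.1 (show z ∈ Cx by rw [htop]; exact mem_top z)
    rw [hC1, mem_bot] at this
    rw [this, orderOf_one] at hxo
    exact (Fact.out : p.Prime).ne_one hxo.symm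
  have hB := (h X (isSectionOf_self X) hq hO).1.2 x hxo
  have hCR : centralizer (R : Set X) ≤ Cx := fun z hz => mem_centralizer_singleton_iff.2
    (mem_centralizer_iff.1 hz x (y : ↥R).2).symm
  have hRC : R ≤ Cx := fun r hr => mem_centralizer_singleton_iff.2 (hxR r hr)
  have hMR : M ≤ centralizer (R : Set X) := hMD.trans inf_le_right
  set R' := R.subgroupOf Cx
  set M' := M.subgroupOf Cx
  have hM' : Quasi p M' := quasi_subgroupOf hM (hMR.trans hCR)
  have hR' : IsPGroup p R' := hR.comap_subtype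
  have hM'R : M' ≤ centralizer (R' : Set Cx) := fun m hm => mem_centralizer_iff.2 fun r hr =>
    Subtype.ext (mem_centralizer_iff.1 (hMR hm) r hr)
  have hsubR : (M.subgroupOf (centralizer (R : Set X))).IsSubnormal :=
    subnormal_mono hMD inf_le_right hsub (layer_inf_normalized R)
  have hsub' : (M'.subgroupOf (centralizer (R' : Set Cx))).IsSubnormal :=
    hsubR.comap ((Cx.subtype.comp (centralizer (R' : Set Cx)).subtype).codRestrict
      (centralizer (R : Set X)) fun z => mem_centralizer_iff.2 fun r hr =>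
        congrArg Subtype.val (mem_centralizer_iff.1 z.2 ⟨r, hRC hr⟩ hr))
  have hsec : IsSectionOf X (↥Cx ⧸ Cfsg.pPrimeCore p Cx) :=
    ((isSectionOf_self X).subgroup Cx).quotient _
  have hlay : M' ≤ Cfsg.layer Cx := by
    refine (quasi_le_pLayer hR' hM'R hsub' hM' fun K hK => ?_).trans
      (PComp.pLayer_le p fun K hK => Comp.component_le_layer ⟨hK.1, hB K hK⟩)
    exact h.schreier hsec (Fitting.pPrimeCore_quotient_eq_bot p) hK
  have hq' := ih Cx (Solvable.card_lt_of_ne_top hCx)
    (h.section ((isSectionOf_self X).subgroup Cx)) R' M' hR' hM' (le_inf hlay hM'R)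
    (subnormal_restrict inf_le_right hsub')
  exact Comp.isQuasisimple_of_equiv (subgroupOfEquivOfLe (hMR.trans hCR)) hq'

/-- `Quasi` subgroups subnormal in the fixed points of a `p`-group on the layer are quasisimple. -/
theorem coreBelow_all : ∀ n, CoreBelow.{u} p n := by
  intro n
  induction n with
  | zero => intro X _ _ h; omega
  | succ n ihn =>
    intro X _ _ hn h R M hR hM hMD hsub
    have ih : CoreBelow.{u} p (Nat.card X) := fun Y _ _ hY => ihn Y (by omega)
    set E := Cfsg.layer X with hE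
    by_cases hP : E ⊔ R = ⊤
    swap
    · exact core_of_proper ih h hR hM hMD hsub hP
    by_cases hZ : E ⊓ centralizer (E : Set X) = ⊥
    swap
    · exact center_step ih h hR hM hMD hsub hZ
    obtain ⟨L, hL⟩ : ∃ L : Subgroup X, Cfsg.IsComponent L := by
      by_contra hno
      push Not at hno
      refine quasi_ne_bot hM (le_bot_iff.1 ((hMD.trans inf_le_left).trans ?_))
      exact Comp.layer_le fun K hK => absurd hK (hno K)
    by_cases hgen : ∀ K : Subgroup X, Cfsg.IsComponent K →
        ∃ r ∈ R, L.map (MulAut.conj r).toMonoidHom = K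
    · by_cases hLn : normalizer (L : Set X) = ⊤
      · refine simple_step ih h hR hM hMD hsub hL ?_ hZ
        refine le_antisymm (Comp.component_le_layer hL) (Comp.layer_le fun K hK => ?_)
        obtain ⟨r, -, rfl⟩ := hgen K hK
        exact (mem_normalizer_iff_map_conj_eq.1 (show r ∈ normalizer (L : Set X) by rw [hLn]; exact mem_top r)).le
      · exact orbit_step ih h hR hM hMD hsub hL hZ hgen hLn
    -- several orbits
    set orb : Subgroup X → Prop := fun K => ∃ r ∈ R, L.map (MulAut.conj r).toMonoidHom = K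
    let E₁ : Subgroup X := sSup {K | Cfsg.IsComponent K ∧ orb K}
    let E₂ : Subgroup X := sSup {K | Cfsg.IsComponent K ∧ ¬ orb K}
    have horb : ∀ r ∈ R, ∀ K, orb K → orb (K.map (MulAut.conj r).toMonoidHom) := by
      rintro r hr K ⟨s, hs, rfl⟩
      refine ⟨r * s, mul_mem hr hs, ?_⟩
      rw [map_map]
      congr 1
      ext z
      simp [mul_assoc]
    have horb' : ∀ r ∈ R, ∀ K, orb (K.map (MulAut.conj r).toMonoidHom) → orb K := by
      intro r hr K hK
      have := horb r⁻¹ (inv_mem hr) _ hK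
      rwa [map_map, show (MulAut.conj r⁻¹).toMonoidHom.comp (MulAut.conj r).toMonoidHom =
        MonoidHom.id X from MonoidHom.ext fun z => by simp [mul_assoc], Subgroup.map_id] at this
    have hnormal : ∀ P : Subgroup X → Prop,
        (∀ r ∈ R, ∀ K, P K → P (K.map (MulAut.conj r).toMonoidHom)) →
        (sSup {K : Subgroup X | Cfsg.IsComponent K ∧ P K}).Normal := by
      intro P hPr
      rw [← normalizer_eq_top_iff, eq_top_iff, ← hP, sup_le_iff]
      have hle : ∀ K ∈ {K : Subgroup X | Cfsg.IsComponent K ∧ P K},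
          K ≤ sSup {K : Subgroup X | Cfsg.IsComponent K ∧ P K} := fun K hK => le_sSup hK
      constructor
      · intro e he
        refine conj_le_imp_normalizer fun d hd => ?_
        have h1 : sSup {K : Subgroup X | Cfsg.IsComponent K ∧ P K} ≤
            (sSup {K : Subgroup X | Cfsg.IsComponent K ∧ P K}).comap (MulAut.conj e).toMonoidHom :=
          sSup_le fun K hK z hz => hle K hK
            ((mem_normalizer_iff.1 (Comp.layer_le_normalizer_component hK.1 he) z).1 hz)
        exact h1 hd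
      · intro r hr
        refine conj_le_imp_normalizer fun d hd => ?_
        have h1 : sSup {K : Subgroup X | Cfsg.IsComponent K ∧ P K} ≤
            (sSup {K : Subgroup X | Cfsg.IsComponent K ∧ P K}).comap (MulAut.conj r).toMonoidHom :=
          sSup_le fun K hK z hz =>
            hle _ ⟨Comp.component_conj r hK.1, hPr r hr K hK.2⟩ (mem_map_of_mem _ hz)
        exact h1 hd
    haveI : E₁.Normal := hnormal orb horb
    haveI : E₂.Normal := hnormal (fun K => ¬ orb K) fun r hr K hK h' => hK (horb' r hr K h')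
    have hE1 : E₁ ≤ E := sSup_le fun K hK => Comp.component_le_layer hK.1
    have hE2 : E₂ ≤ E := sSup_le fun K hK => Comp.component_le_layer hK.1
    have hcomm : E₁ ≤ centralizer (E₂ : Set X) := by
      refine sSup_le fun K hK => Subgroup.le_centralizer_iff.1 (sSup_le fun K' hK' => ?_)
      refine Subgroup.le_centralizer_iff.1 (Comp.le_centralizer_of_commutator_eq_bot
        ((Comp.component_eq_or_commute hK.1 hK'.1).resolve_left ?_))
      rintro rfl
      exact hK'.2 hK.2
    have hjoin : E₁ ⊔ E₂ = E := le_antisymm (sup_le hE1 hE2) (Comp.layer_le fun K hK => by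
      by_cases hK' : orb K
      exacts [le_sup_of_le_left (le_sSup ⟨hK, hK'⟩), le_sup_of_le_right (le_sSup ⟨hK, hK'⟩)])
    refine split_step ih h hR hM hMD hsub E₁ E₂ hjoin ?_ ?_ ?_
    · rw [eq_bot_iff, ← hZ]
      refine fun z hz => ⟨hE1 hz.1, ?_⟩
      have : E ≤ centralizer {z} := by
        rw [← hjoin, sup_le_iff]
        exact ⟨fun w hw => mem_centralizer_singleton_iff.2 (mem_centralizer_iff.1 (hcomm hw) z hz.2).symm,
          fun w hw => mem_centralizer_singleton_iff.2 (mem_centralizer_iff.1 (hcomm hz.1) w hw)⟩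
      exact mem_centralizer_iff.2 fun w hw => mem_centralizer_singleton_iff.1 (this hw)
    · refine fun h' => Comp.component_ne_bot hL (le_bot_iff.1 (h' ▸ le_sSup ⟨hL, 1, one_mem R, ?_⟩))
      ext z; simp
    · push Not at hgen
      obtain ⟨K, hK, hK'⟩ := hgen
      exact fun h' => Comp.component_ne_bot hK (le_bot_iff.1 (h' ▸
        le_sSup ⟨hK, fun ⟨r, hr, e⟩ => hK' r hr e⟩))

end CfsgLib.BBalance
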