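import Cfsg.Agent.Kinf.LocalBalance
import Cfsg.Agent.KGroup.Terminal
import Cfsg.Agent.Comp.LocalLayer
import Cfsg.Prelude.Def_KGroupFacts

/-!
L-balance: the `p`-layer of a `p`-local subgroup lies in the `p`-layer, given the Schreier property
of the components of `X / O_{p'}(X)`.
-/

set_option autoImplicit false
set_option linter.unusedSectionVars false
set_option linter.deprecated false
set_option linter.style.haveILetI false

namespace CfsgLib.LBalance

open Subgroup LocalBalance
open scoped commutatorElement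

variable {G : Type*} [Group G] [Finite G] {p : ℕ} [Fact p.Prime]

/-- A perfect subgroup is generated by its elements of order prime to `p`. -/
theorem le_of_coprime_elements {M T : Subgroup G} (hM : ⁅M, M⁆ = M)
    (h : ∀ x ∈ M, (orderOf x).Coprime p → x ∈ T) : M ≤ T := by
  have hperf : commutator M ⊔ (⊥ : Subgroup M) = ⊤ := by
    rw [sup_bot_eq]
    apply map_injective M.subtype_injective
    rw [map_subtype_commutator, hM, ← MonoidHom.range_eq_map, range_subtype]
  have hcl := LocalLayer.closure_coprime_eq_top (p := p) (O := (⊥ : Subgroup M)) (by simp) hperf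
  suffices (⊤ : Subgroup M) ≤ T.subgroupOf M from
    fun x hx => this (mem_top (⟨x, hx⟩ : M))
  rw [← hcl, closure_le]
  intro y hy
  exact h y y.2 (by rwa [orderOf_coe])

/-- `M` is a perfect subgroup generated by `p`-elements, quasisimple modulo its `p'`-core. -/
def Quasi (p : ℕ) (M : Subgroup G) : Prop :=
  ⁅M, M⁆ = M ∧ Cfsg.IsQuasisimple (↥M ⧸ Cfsg.pPrimeCore p M) ∧ M ≤ PComp.pGen p M

theorem quasi_of_pComponent {J : Subgroup G} (hJ : Cfsg.IsPComponent p J) : Quasi p J := by
  refine ⟨PComp.pComponent_perfect p hJ, PComp.isQuasisimple_quotient p hJ, ?_⟩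
  refine (PComp.eq_compOver p hJ).le.trans ((closure_le _).2 ?_)
  rintro x ⟨hx, k, hk⟩
  exact PComp.mem_pGen p ((PComp.eq_compOver p hJ).ge (subset_closure ⟨hx, k, hk⟩)) hk

/-- A surjection with kernel of order prime to `p` preserves the quotient by the `p'`-core. -/
theorem quotient_equiv_of_surjective {A B : Type*} [Group A] [Group B] [Finite A] [Finite B]
    (g : A →* B) (hg : Function.Surjective g) (hker : (Nat.card g.ker).Coprime p) :
    Nonempty ((A ⧸ Cfsg.pPrimeCore p A) ≃* (B ⧸ Cfsg.pPrimeCore p B)) := by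
  have hk : (Cfsg.pPrimeCore p B).comap g = Cfsg.pPrimeCore p A := by
    refine le_antisymm (Solvable.le_pPrimeCore p inferInstance ?_) ?_
    · have h1 : Nat.card ((Cfsg.pPrimeCore p B).comap g) =
          Nat.card g.ker * Nat.card (Cfsg.pPrimeCore p B) := by
        have e1 := ((Cfsg.pPrimeCore p B).comap g).card_mul_index
        rw [index_comap_of_surjective (f := g) _ hg] at e1
        have e2 := g.ker.card_mul_index
        rw [index_ker, MonoidHom.range_eq_top.2 hg, card_top,
          ← (Cfsg.pPrimeCore p B).card_mul_index, ← mul_assoc] at e2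
        exact Nat.eq_of_mul_eq_mul_right (Nat.pos_of_ne_zero index_ne_zero_of_finite) (e1.trans e2.symm)
      rw [h1]
      exact Nat.Coprime.mul_left hker (Solvable.coprime_card_pPrimeCore p)
    · rw [← map_le_iff_le_comap]
      exact Solvable.le_pPrimeCore p ((inferInstance : (Cfsg.pPrimeCore p A).Normal).map g hg)
        ((Solvable.coprime_card_pPrimeCore p).coprime_dvd_left (card_map_dvd _ _))
  have hk' : ((QuotientGroup.mk' (Cfsg.pPrimeCore p B)).comp g).ker = Cfsg.pPrimeCore p A := by
    rw [← MonoidHom.comap_ker, QuotientGroup.ker_mk', hk]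
  exact ⟨(QuotientGroup.quotientMulEquivOfEq hk'.symm).trans
    (QuotientGroup.quotientKerEquivOfSurjective _ ((QuotientGroup.mk'_surjective _).comp hg))⟩

theorem map_quotient_equiv {G' : Type*} [Group G'] [Finite G'] {M : Subgroup G} (f : G →* G')
    (hf : (Nat.card ↥(M ⊓ f.ker)).Coprime p) :
    Nonempty ((↥M ⧸ Cfsg.pPrimeCore p M) ≃* (↥(M.map f) ⧸ Cfsg.pPrimeCore p ↥(M.map f))) := by
  refine quotient_equiv_of_surjective (f.subgroupMap M) (MonoidHom.subgroupMap_surjective f M)
    (hf.coprime_dvd_left ?_)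
  rw [← card_map_of_injective (K := (f.subgroupMap M).ker) M.subtype_injective]
  refine card_dvd_of_le ?_
  rintro _ ⟨y, hy, rfl⟩
  exact mem_inf.2 ⟨y.2, MonoidHom.mem_ker.2 (congrArg Subtype.val (MonoidHom.mem_ker.1 hy))⟩

/-- `Quasi` passes to images with kernel of order prime to `p`. -/
theorem Quasi.map {G' : Type*} [Group G'] [Finite G'] {M : Subgroup G} (hM : Quasi p M) (f : G →* G')
    (hf : (Nat.card ↥(M ⊓ f.ker)).Coprime p) : Quasi p (M.map f) := by
  obtain ⟨hperf, hq, hgen⟩ := hM
  refine ⟨by rw [← map_commutator, hperf], ?_, ?_⟩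
  · obtain ⟨e⟩ := map_quotient_equiv (p := p) f hf
    exact Comp.isQuasisimple_of_equiv e hq
  · refine (map_mono hgen).trans ?_
    rw [PComp.pGen, MonoidHom.map_closure]
    refine closure_mono ?_
    rintro _ ⟨x, ⟨hx, k, hk⟩, rfl⟩
    exact ⟨mem_map_of_mem f hx, k, by rw [← map_pow, hk, map_one]⟩

/-- A subnormal `Quasi` subgroup lies in a normal subgroup or commutes with it modulo the core. -/
theorem dichotomy {V M H : Subgroup G} (hMV : M ≤ V) (hsub : (M.subgroupOf V).IsSubnormal)
    (hM : Quasi p M) (hHV : H ≤ V) (hn : V ≤ normalizer (H : Set G)) :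
    M ≤ H ∨ ∀ x ∈ M, ∀ h ∈ H, x * h * x⁻¹ * h⁻¹ ∈ core p V := by
  set O := Cfsg.pPrimeCore p V
  set π := QuotientGroup.mk' O
  set M' := M.subgroupOf V
  have hq : Cfsg.IsQuasisimple (↥M' ⧸ Cfsg.pPrimeCore p M') :=
    Comp.isQuasisimple_of_equiv (QuotientGroup.congr _ _ (subgroupOfEquivOfLe hMV).symm
      (Terminal.map_pPrimeCore _)) hM.2.1
  have hker : (MonoidHom.subgroupMap π M').ker = Cfsg.pPrimeCore p M' := by
    apply map_injective M'.subtype_injective
    rw [PComp.pPrimeCore_eq_inf p hsub]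
    ext x
    constructor
    · rintro ⟨y, hy, rfl⟩
      exact ⟨(QuotientGroup.eq_one_iff _).1 (congrArg Subtype.val (MonoidHom.mem_ker.1 hy)), y.2⟩
    · rintro ⟨h1, h2⟩
      exact ⟨⟨x, h2⟩, MonoidHom.mem_ker.2 (Subtype.ext ((QuotientGroup.eq_one_iff _).2 h1)), rfl⟩
  have hcomp : Cfsg.IsComponent (M'.map π) :=
    ⟨hsub.map (QuotientGroup.mk'_surjective _), Comp.isQuasisimple_of_equiv
      ((QuotientGroup.quotientMulEquivOfEq hker.symm).trans
        (QuotientGroup.quotientKerEquivOfSurjective _ (MonoidHom.subgroupMap_surjective π M'))) hq⟩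
  haveI hHn : (H.subgroupOf V).Normal := (normal_subgroupOf_iff_le_normalizer hHV).2 hn
  rcases Comp.component_le_or_commutator_eq_bot hcomp
      ((hHn.map π (QuotientGroup.mk'_surjective _)).isSubnormal) with h | h
  · left
    refine hM.2.2.trans ((closure_le _).2 ?_)
    rintro x ⟨hx, k, hk⟩
    obtain ⟨y, hy, hyx⟩ := h (mem_map_of_mem π (show (⟨x, hMV hx⟩ : V) ∈ M' from hx))
    have h2 : y⁻¹ * ⟨x, hMV hx⟩ ∈ O := (QuotientGroup.eq_one_iff _).1 (by
      show π (y⁻¹ * ⟨x, hMV hx⟩) = 1
      rw [map_mul, map_inv, hyx, inv_mul_cancel])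
    have hxs : (⟨x, hMV hx⟩ : V) ∈ H.subgroupOf V ⊔ O := by
      have := mul_mem (mem_sup_left (T := O) hy) (mem_sup_right (S := H.subgroupOf V) h2)
      rwa [mul_inv_cancel_left] at this
    have h3 : PComp.pGen p (H.subgroupOf V ⊔ O) ≤ H.subgroupOf V :=
      PComp.pGen_le_of_subnormal_sup hHn.isSubnormal (O := O) (Solvable.coprime_card_pPrimeCore p) le_rfl
    exact h3 (PComp.mem_pGen p hxs (k := k) (Subtype.ext (by simpa using hk)))
  · right
    intro x hx h' hh'
    have h1 : π ⁅(⟨x, hMV hx⟩ : V), (⟨h', hHV hh'⟩ : V)⁆ = 1 := by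
      rw [map_commutatorElement, ← mem_bot, ← h]
      exact commutator_mem_commutator (mem_map_of_mem π hx) (mem_map_of_mem π hh')
    exact ⟨_, (QuotientGroup.eq_one_iff _).1 h1, by simp [commutatorElement_def]⟩

/-- A `Quasi` subnormal subgroup centralizes normal `p`-subgroups. -/
theorem le_centralizer_of_pGroup {V M H : Subgroup G} (hMV : M ≤ V)
    (hsub : (M.subgroupOf V).IsSubnormal) (hM : Quasi p M) (hHV : H ≤ V)
    (hn : V ≤ normalizer (H : Set G)) (hH : IsPGroup p H) : M ≤ centralizer (H : Set G) := by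
  rcases dichotomy hMV hsub hM hHV hn with h | h
  · exfalso
    haveI : Group.IsNilpotent M := (hH.to_le h).isNilpotent
    haveI : Group.IsPerfect M := Subgroup.isPerfect_iff.mpr hM.1
    haveI : Nontrivial M := by
      haveI := Comp.quasisimple_nontrivial hM.2.1
      exact (QuotientGroup.mk'_surjective (Cfsg.pPrimeCore p M)).nontrivial
    exact (Group.IsSolvable.commutator_lt_top_of_nontrivial (G := M)).ne
      (Group.IsPerfect.commutator_eq_top (G := M))
  · intro x hx
    refine mem_centralizer_iff.2 fun h' hh' => ?_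
    have h1 : x * h' * x⁻¹ * h'⁻¹ ∈ H :=
      mul_mem ((mem_normalizer_iff.1 (hn (hMV hx)) h').1 hh') (inv_mem hh')
    obtain ⟨k, hk⟩ := hH ⟨_, h1⟩
    have h2 := eq_one_of_coprime (coprime_core V) (h x hx h' hh') (congrArg Subtype.val hk)
    rw [mul_inv_eq_one, mul_inv_eq_iff_eq_mul] at h2
    exact h2.symm

/-- The natural map from `N(K)` to the automorphisms of `K / Z(K)`. -/
def toQuot (K : Subgroup G) : normalizer (K : Set G) →* MulAut (↥K ⧸ center K) where
  toFun n := QuotientGroup.congr (center K) (center K) (K.normalizerMonoidHom n)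
    (characteristic_iff_map_eq.1 inferInstance (K.normalizerMonoidHom n))
  map_one' := by
    ext q
    obtain ⟨k, rfl⟩ := QuotientGroup.mk'_surjective (center K) q
    simp
  map_mul' a b := by
    ext q
    obtain ⟨k, rfl⟩ := QuotientGroup.mk'_surjective (center K) q
    simp [map_mul]
    rfl

section schreier

variable (hO : Cfsg.pPrimeCore p G = ⊥)
include hO

/-- A perfect subgroup normalizing every component and centralizing `O_p(G)` lies in the layer,
under the Schreier property. -/
theorem le_layer_of_schreier {M : Subgroup G} (hperf : ⁅M, M⁆ = M)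
    (hF : M ≤ centralizer (Cfsg.pCore p G : Set G))
    (hN : ∀ K : Subgroup G, Cfsg.IsComponent K → M ≤ normalizer (K : Set G))
    (hS : ∀ K : Subgroup G, Cfsg.IsComponent K →
      Group.IsSolvable (Cfsg.Out (↥K ⧸ center ↥K))) : M ≤ Cfsg.layer G := by
  have hinner : ∀ K : Subgroup G, Cfsg.IsComponent K → ∀ x ∈ M,
      ∃ k ∈ K, k⁻¹ * x ∈ centralizer (K : Set G) := by
    intro K hK x hx
    haveI := hS K hK
    set φ : M →* Cfsg.Out (↥K ⧸ center ↥K) :=
      (QuotientGroup.mk' (Cfsg.Inn (↥K ⧸ center ↥K))).comp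
        ((toQuot K).comp (Subgroup.inclusion (hN K hK)))
    haveI : Group.IsPerfect M := Subgroup.isPerfect_iff.mpr hperf
    have hφ : φ.range = ⊥ := by
      by_contra hne
      haveI : Nontrivial φ.range := φ.range.nontrivial_iff_ne_bot.2 hne
      haveI : Group.IsSolvable φ.range := inferInstance
      haveI : Group.IsPerfect φ.range :=
        ⟨by rw [_root_.commutator_def, ← map_top_of_surjective _ φ.rangeRestrict_surjective,
          ← map_commutator, ← _root_.commutator_def, Group.IsPerfect.commutator_eq_top (G := M)]⟩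
      exact (Group.IsSolvable.commutator_lt_top_of_nontrivial (G := φ.range)).ne
        (Group.IsPerfect.commutator_eq_top (G := φ.range))
    have h1 : φ ⟨x, hx⟩ = 1 := mem_bot.1 (hφ ▸ MonoidHom.mem_range.2 ⟨_, rfl⟩)
    obtain ⟨q, hq⟩ := (QuotientGroup.eq_one_iff _).1 h1
    obtain ⟨⟨k, hk⟩, rfl⟩ := QuotientGroup.mk'_surjective (center K) q
    have hkN : k⁻¹ * x ∈ normalizer (K : Set G) := mul_mem (inv_mem (le_normalizer hk)) (hN K hK hx)
    refine ⟨k, hk, centralizes_of_commutator_central (Comp.component_perfect hK) hkN fun g hg => ?_⟩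
    set g' : K := ⟨g, hg⟩
    set k' : K := ⟨k, hk⟩
    have h2 := congrArg (fun ψ : MulAut (↥K ⧸ center ↥K) => ψ (g' : ↥K ⧸ center ↥K)) hq
    set xg : K := ⟨x * g * x⁻¹, (mem_normalizer_iff.1 (hN K hK hx) g).1 hg⟩
    have h3 : ((k' * g' * k'⁻¹ : K) : ↥K ⧸ center ↥K) = (xg : ↥K ⧸ center ↥K) := by
      exact h2
    have h4 : (k' * g' * k'⁻¹)⁻¹ * xg ∈ center K := QuotientGroup.eq.1 h3
    have h5 : k⁻¹ * x * g * (k⁻¹ * x)⁻¹ * g⁻¹ = k⁻¹ * (x * g * x⁻¹ * (k * g * k⁻¹)⁻¹) * k := by group
    have hc : x * g * x⁻¹ * (k * g * k⁻¹)⁻¹ ∈ centralizer (K : Set G) := by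
      have h6 : xg * (k' * g' * k'⁻¹)⁻¹ ∈ center K :=
        (inferInstance : (center K).Normal).mem_comm h4
      exact mem_centralizer_iff.2 fun u hu =>
        congrArg Subtype.val (mem_center_iff.1 h6 ⟨u, hu⟩)
    rw [h5]
    have := (mem_normalizer_iff.1 (normalizer_le_normalizer_centralizer K
      (inv_mem (le_normalizer hk))) _).1 hc
    rwa [inv_inv] at this
  have hmain : ∀ x ∈ M, ∃ e ∈ Cfsg.layer G,
      ∀ K : Subgroup G, Cfsg.IsComponent K → e⁻¹ * x ∈ centralizer (K : Set G) := by
    intro x hx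
    classical
    suffices hfin : ∀ s : Finset {K : Subgroup G // Cfsg.IsComponent K},
        ∃ e ∈ Cfsg.layer G, ∀ K ∈ s, e⁻¹ * x ∈ centralizer ((K : Subgroup G) : Set G) by
      haveI instF := Fintype.ofFinite {K : Subgroup G // Cfsg.IsComponent K}
      obtain ⟨e, he, h⟩ := hfin Finset.univ
      exact ⟨e, he, fun K hK => h ⟨K, hK⟩ (Finset.mem_univ _)⟩
    intro s
    induction s using Finset.induction with
    | empty => exact ⟨1, one_mem _, by simp⟩
    | @insert K s hKs ih =>
      obtain ⟨e, he, h⟩ := ih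
      obtain ⟨k, hk, hkx⟩ := hinner K K.2 x hx
      have hel : Cfsg.layer G ≤ (K : Subgroup G) ⊔ centralizer ((K : Subgroup G) : Set G) := by
        refine Comp.layer_le fun L hL => ?_
        rcases Comp.component_eq_or_commute hL K.2 with h' | h'
        · rw [h']; exact le_sup_left
        · exact le_sup_of_le_right (Comp.le_centralizer_of_commutator_eq_bot h')
      have hmem : e⁻¹ * x ∈ (K : Subgroup G) ⊔ centralizer ((K : Subgroup G) : Set G) := by
        refine mul_mem (inv_mem (hel he)) ?_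
        rw [← mul_inv_cancel_left k x]
        exact mul_mem (mem_sup_left hk) (mem_sup_right hkx)
      have hmem' : e⁻¹ * x ∈ (((K : Subgroup G) ⊔ centralizer ((K : Subgroup G) : Set G) :
          Subgroup G) : Set G) := hmem
      rw [sup_comm, coe_mul_of_left_le_normalizer_right _ _ (centralizer_le_normalizer _)] at hmem'
      obtain ⟨c, hc, k', hk', hck⟩ := hmem'
      have hkc : k' * c = c * k' := mem_centralizer_iff.1 hc k' hk'
      refine ⟨e * k', mul_mem he (Comp.component_le_layer K.2 hk'), fun L hL => ?_⟩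
      have hval : (e * k')⁻¹ * x = c := by
        rw [mul_inv_rev, mul_assoc, ← hck]
        show k'⁻¹ * (c * k') = c
        rw [← hkc, inv_mul_cancel_left]
      rcases Finset.mem_insert.1 hL with rfl | hL'
      · rw [hval]; exact hc
      · have hne : (K : Subgroup G) ≠ L := fun h' => hKs (Subtype.ext h' ▸ hL')
        rw [mul_inv_rev, mul_assoc]
        exact mul_mem (inv_mem (Comp.le_centralizer_of_commutator_eq_bot
          ((Comp.component_eq_or_commute K.2 L.2).resolve_left hne) hk')) (h L hL')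
  set E := Cfsg.layer G
  set F := Cfsg.generalizedFittingSubgroup G
  have hEF : E ≤ centralizer (Cfsg.pCore p G : Set G) :=
    Comp.layer_le_centralizer_fitting.trans (centralizer_le (Comp.pCore_le_fitting p))
  have hle : M ≤ E ⊔ centralizer (F : Set G) := by
    intro x hx
    obtain ⟨e, he, hc⟩ := hmain x hx
    rw [← mul_inv_cancel_left e x]
    refine mul_mem (mem_sup_left he) (mem_sup_right (mem_centralizer_iff.2 fun z hz => ?_))
    suffices F ≤ centralizer {e⁻¹ * x} from mem_centralizer_singleton_iff.1 (this hz)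
    refine sup_le (Comp.layer_le fun K hK z hz => mem_centralizer_singleton_iff.2
      (mem_centralizer_iff.1 (hc K hK) z hz)) fun z hz => mem_centralizer_singleton_iff.2 ?_
    exact mem_centralizer_iff.1 (mul_mem (inv_mem (hEF he)) (hF hx)) z (fitting_le_pCore hO hz)
  haveI : (centralizer (F : Set G)).Normal := inferInstance
  intro x hx
  have h1 : x ∈ ⁅M, M⁆ := hperf.symm ▸ hx
  suffices ⁅M, M⁆ ≤ E from this h1
  refine commutator_le.2 ?_
  intro u hu v hv
  have hu' : u ∈ ((E ⊔ centralizer (F : Set G) : Subgroup G) : Set G) := hle hu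
  have hv' : v ∈ ((E ⊔ centralizer (F : Set G) : Subgroup G) : Set G) := hle hv
  rw [mul_normal] at hu' hv'
  obtain ⟨a, ha, c, hc, rfl⟩ := hu'
  obtain ⟨b, hb, d, hd, rfl⟩ := hv'
  have hcb : Commute c b := (mem_centralizer_iff.1 hc b (Comp.layer_le_Fstar hb)).symm
  have hda : Commute d a := (mem_centralizer_iff.1 hd a (Comp.layer_le_Fstar ha)).symm
  have hcd : Commute c d := (mem_centralizer_iff.1 hd c (Comp.centralizer_Fstar_le hc))
  have key : ⁅a * c, b * d⁆ = ⁅a, b⁆ := by
    simp only [commutatorElement_def, mul_inv_rev]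
    calc a * c * (b * d) * (c⁻¹ * a⁻¹) * (d⁻¹ * b⁻¹)
        = a * (c * b) * (d * c⁻¹) * a⁻¹ * (d⁻¹ * b⁻¹) := by group
      _ = a * (b * c) * (c⁻¹ * d) * a⁻¹ * (d⁻¹ * b⁻¹) := by rw [hcb.eq, hcd.inv_left.eq]
      _ = a * b * (d * a⁻¹) * (d⁻¹ * b⁻¹) := by group
      _ = a * b * (a⁻¹ * d) * (d⁻¹ * b⁻¹) := by rw [hda.inv_right.eq]
      _ = a * b * a⁻¹ * b⁻¹ := by group
  rw [key, commutatorElement_def]
  exact mul_mem (mul_mem (mul_mem ha hb) (inv_mem ha)) (inv_mem hb)

/-- L-balance in a group with trivial `p'`-core. -/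
theorem le_layer {R M : Subgroup G} (hR : IsPGroup p R)
    (hMR : M ≤ centralizer (R : Set G))
    (hsub : (M.subgroupOf (centralizer (R : Set G))).IsSubnormal) (hM : Quasi p M)
    (hS : ∀ K : Subgroup G, Cfsg.IsComponent K →
      Group.IsSolvable (Cfsg.Out (↥K ⧸ center ↥K))) : M ≤ Cfsg.layer G := by
  set F := Cfsg.pCore p G
  set C := centralizer (R : Set G) with hC
  -- `M` centralizes `O_p(G)`
  have hMF : M ≤ centralizer (F : Set G) := by
    have hfix : M ≤ centralizer ((F ⊓ C : Subgroup G) : Set G) :=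
      le_centralizer_of_pGroup hMR hsub hM inf_le_right
        ((le_inf le_normalizer_of_normal le_normalizer).trans inf_normalizer_le_normalizer_inf)
        ((Solvable.isPGroup_pCore p).to_le inf_le_left)
    refine le_of_coprime_elements (p := p) hM.1 fun x hx hxo => ?_
    refine mem_centralizer_iff.2 fun r hr => ((LocalB.commute_of_pxq hR (Solvable.isPGroup_pCore p)
      le_normalizer_of_normal hxo (le_normalizer_of_normal (mem_top x))
      (fun π hπ => mem_centralizer_iff.1 (hMR hx) π hπ) ?_) r hr).eq.symm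
    intro z hz hzR
    exact (mem_centralizer_iff.1 (hfix hx) z ⟨hz, mem_centralizer_iff.2 hzR⟩).symm
  -- the subgroup `V`
  set V := centralizer (F : Set G) ⊓ (centralizer
    ((R.map (QuotientGroup.mk' F) : Subgroup (G ⧸ F)) : Set (G ⧸ F))).comap (QuotientGroup.mk' F)
    with hV
  have hfixV : ∀ d : G, (d ∈ centralizer (F : Set G) ∧ ∀ r ∈ R, r⁻¹ * (d * r * d⁻¹) ∈ F) ↔ d ∈ V := by
    intro d
    refine and_congr Iff.rfl ⟨fun h => mem_centralizer_iff.2 ?_, fun h r hr => ?_⟩
    · rintro _ ⟨r, hr, rfl⟩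
      have h1 : QuotientGroup.mk' F (r⁻¹ * (d * r * d⁻¹)) = 1 :=
        (QuotientGroup.eq_one_iff _).2 (h r hr)
      rw [map_mul, map_mul, map_mul, map_inv, map_inv, inv_mul_eq_one, eq_mul_inv_iff_mul_eq] at h1
      exact h1
    · refine (QuotientGroup.eq_one_iff _).1 ?_
      show QuotientGroup.mk' F (r⁻¹ * (d * r * d⁻¹)) = 1
      rw [map_mul, map_mul, map_mul, map_inv, map_inv, inv_mul_eq_one, eq_mul_inv_iff_mul_eq]
      exact mem_centralizer_iff.1 h _ ⟨r, hr, rfl⟩
  have hUV : U p R ≤ V := fun y hy => (hfixV y).1 ⟨hy.2, fun r hr => by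
    rw [← mem_centralizer_iff.1 hy.1 r hr, mul_inv_cancel_right, inv_mul_cancel]
    exact one_mem _⟩
  have hMU : M ≤ U p R := le_inf hMR hMF
  have hUn : ((U p R).subgroupOf V).Normal :=
    (normal_subgroupOf_iff_le_normalizer hUV).2 fun v hv =>
      mem_normalizer_U ((hfixV v).2 hv).2
  have hsubV : (M.subgroupOf V).IsSubnormal := by
    refine IsSubnormal.trans (K := (U p R).subgroupOf V) (fun x hx => hMU hx) ?_ hUn.isSubnormal
    exact hsub.comap ((Subgroup.inclusion (inf_le_left : U p R ≤ C)).comp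
      (subgroupOfEquivOfLe hUV).toMonoidHom)
  set H := Cfsg.layer G ⊓ V
  haveI : (Cfsg.layer G).Normal := inferInstance
  rcases dichotomy (hMU.trans hUV) hsubV hM (inf_le_right : H ≤ V)
    ((le_inf le_normalizer_of_normal le_normalizer).trans inf_normalizer_le_normalizer_inf) with h | h
  · exact h.trans inf_le_left
  refine le_layer_of_schreier hO hM.1 hMF (fun K hK => ?_) hS
  refine le_of_coprime_elements (p := p) hM.1 fun x hx hxo => ?_
  refine mem_normalizer_of_mod hO hR hK hxo (mem_centralizer_iff.1 (hMR hx)) (coprime_core V)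
    fun d hd j _ hdfix => h x hx d (mem_inf.2 ⟨hd, (hfixV d).1 ⟨?_, hdfix⟩⟩)
  exact (Comp.layer_le_centralizer_fitting.trans (centralizer_le (Comp.pCore_le_fitting p))) hd

end schreier

/-- L-balance for a `p`-local subgroup. -/
theorem pLayer_normalizer_le
    (hS : ∀ K : Subgroup (G ⧸ Cfsg.pPrimeCore p G), Cfsg.IsComponent K →
      Group.IsSolvable (Cfsg.Out (↥K ⧸ center ↥K)))
    {R : Subgroup G} (hR : IsPGroup p R) :
    (Cfsg.pLayer p ↥(normalizer (R : Set G))).map (normalizer (R : Set G)).subtype ≤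
      Cfsg.pLayer p G := by
  set Y := normalizer (R : Set G)
  set f := QuotientGroup.mk' (Cfsg.pPrimeCore p G)
  rw [map_le_iff_le_comap]
  refine PComp.pLayer_le p fun J hJ => ?_
  rw [← map_le_iff_le_comap]
  set J' := J.map Y.subtype
  have hJY : J' ≤ Y := map_subtype_le _
  have hJ' : J'.subgroupOf Y = J := by
    rw [subgroupOf, comap_map_eq_self_of_injective Y.subtype_injective]
  have hq : Quasi p J' := (quasi_of_pComponent hJ).map Y.subtype (by
    rw [(Subgroup.ker_subtype Y), inf_bot_eq, card_bot]; exact Nat.coprime_one_left _)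
  have hsubY : (J'.subgroupOf Y).IsSubnormal := hJ'.symm ▸ hJ.1
  have hJR : J' ≤ centralizer (R : Set G) :=
    le_centralizer_of_pGroup hJY hsubY hq le_normalizer le_rfl hR
  have hM : Quasi p (J'.map f) := hq.map f (by
    refine (Solvable.coprime_card_pPrimeCore (G := G) p).coprime_dvd_left ?_
    rw [QuotientGroup.ker_mk']
    exact card_dvd_of_le inf_le_right)
  set R' := R.map f
  set C' := centralizer (R' : Set (G ⧸ Cfsg.pPrimeCore p G))
  have hMC : J'.map f ≤ C' := by
    rintro _ ⟨x, hx, rfl⟩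
    refine mem_centralizer_iff.2 ?_
    rintro _ ⟨r, hr, rfl⟩
    rw [← map_mul, ← map_mul, mem_centralizer_iff.1 (hJR hx) r hr]
  have hsub' : ((J'.map f).subgroupOf C').IsSubnormal := by
    have h1 : C' ≤ (centralizer (R : Set G)).map f := by
      intro q hq
      obtain ⟨g, rfl⟩ := QuotientGroup.mk'_surjective _ q
      haveI := hR.isNilpotent
      obtain ⟨j, hj⟩ := IsPGroup.iff_card.1 hR
      obtain ⟨c, hc1, hc2⟩ := CfsgLib.Coprime.exists_commute_mem_coset R (Cfsg.pPrimeCore p G)
        le_normalizer_of_normal (hj ▸ ((Solvable.coprime_card_pPrimeCore p).pow_right j).symm) g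
        (fun r hr => by
          rw [← QuotientGroup.ker_mk' (Cfsg.pPrimeCore p G), MonoidHom.mem_ker]
          simp only [map_mul, map_inv]
          rw [show QuotientGroup.mk' _ r * QuotientGroup.mk' _ g =
            QuotientGroup.mk' _ g * QuotientGroup.mk' _ r from
              mem_centralizer_iff.1 hq (f r) ⟨r, hr, rfl⟩]
          group)
      refine ⟨c, mem_centralizer_iff.2 hc1, ?_⟩
      have : f (g⁻¹ * c) = 1 := (QuotientGroup.eq_one_iff _).2 hc2
      rw [map_mul, map_inv, inv_mul_eq_one] at this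
      exact this.symm
    have hC : C' = (centralizer (R : Set G)).map f := le_antisymm h1 (by
      rintro _ ⟨x, hx, rfl⟩
      refine mem_centralizer_iff.2 ?_
      rintro _ ⟨r, hr, rfl⟩
      rw [← map_mul, ← map_mul, mem_centralizer_iff.1 hx r hr])
    rw [hC]
    set C := centralizer (R : Set G)
    have hsubC : (J'.subgroupOf C).IsSubnormal :=
      hsubY.comap (Subgroup.inclusion (centralizer_le_normalizer _ : C ≤ Y))
    have h3 := hsubC.map (f := f.subgroupMap C) (MonoidHom.subgroupMap_surjective f C)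
    have h4 : (J'.subgroupOf C).map (f.subgroupMap C) = (J'.map f).subgroupOf (C.map f) := by
      apply map_injective (C.map f).subtype_injective
      rw [map_map, map_subgroupOf_eq_of_le (map_mono hJR)]
      rw [show (C.map f).subtype.comp (f.subgroupMap C) = f.comp C.subtype from rfl, ← map_map,
        map_subgroupOf_eq_of_le hJR]
    rwa [h4] at h3
  have hlay := le_layer (Fitting.pPrimeCore_quotient_eq_bot p) (hR.map f) hMC hsub' hM hS
  refine hq.2.2.trans ?_
  refine le_trans (PComp.pGen_mono p ?_)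
    (PComp.pGen_le_of_subnormal_sup (H := Cfsg.pLayer p G) (O := Cfsg.pPrimeCore p G)
      (ExtTwoLayer.pLayer_normal p).isSubnormal (Solvable.coprime_card_pPrimeCore p) le_rfl)
  have h5 := map_le_iff_le_comap.1 (hlay.trans (PComp.map_pLayer p).ge)
  rwa [comap_map_eq, QuotientGroup.ker_mk'] at h5

end CfsgLib.LBalance
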