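import Cfsg.Agent.Kinf.CriticalAction
import Cfsg.Prelude.Def_LocalEven

/-!
An element of low degree on the chief factors of `O_p`, when a K-infinity subgroup is not normal.
-/

set_option autoImplicit false
set_option linter.unusedSectionVars false
set_option linter.style.haveILetI false

namespace CfsgLib.Kinf

open Subgroup CfsgLib.Functor
open scoped CfsgLib.Functor commutatorElement

universe u

variable {G : Type u} [Group G] [Finite G] {p : ℕ} [Fact p.Prime]

/-- A `p`-group cannot act nontrivially and irreducibly on a `p`-section. -/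
theorem commutator_le_of_pGroup_action {X Y M D : Subgroup G} (h : Cfsg.IsChiefFactor X Y)
    [M.Normal] [D.Normal] (hM : ⁅X, M⁆ ≤ Y) (P : Subgroup G) (hP : IsPGroup p P)
    (hD : D = M ⊔ P) (hXP : X ≤ P) : ⁅X, D⁆ ≤ Y := by
  haveI := h.2.1
  haveI hYn := h.2.2.1
  obtain ⟨C, hCn, hC⟩ := normal_sectionCentralizer (N := X) (X := D) (W := Y)
  haveI := hCn
  rcases h.2.2.2 (C ⊔ Y) inferInstance le_sup_right
    (sup_le (fun x hx => ((hC x).1 hx).1) h.1.le) with he | he
  swap
  · refine commutator_le.2 fun u hu d hd => ?_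
    have hu' : u ∈ C ⊔ Y := he.ge hu
    rw [mem_sup_of_normal_right] at hu'
    obtain ⟨c, hc, y, hy, rfl⟩ := hu'
    rw [show ⁅c * y, d⁆ = c * ⁅y, d⁆ * c⁻¹ * ⁅c, d⁆ by simp only [commutatorElement_def]; group]
    exact mul_mem (hYn.conj_mem _ (commutator_le_left Y ⊤ (commutator_mem_commutator hy (mem_top d))) c)
      (((hC c).1 hc).2 d hd)
  exfalso
  set π := QuotientGroup.mk' Y with hπ
  set Pb := P.map π with hPb
  haveI hXb : (X.map π).Normal := h.2.1.map π (QuotientGroup.mk'_surjective Y)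
  haveI : Group.IsNilpotent Pb := (hP.map π).isNilpotent
  haveI : ((X.map π).subgroupOf Pb).Normal := hXb.subgroupOf Pb
  have hne : (X.map π).subgroupOf Pb ≠ ⊥ := fun h' => by
    rw [subgroupOf_eq_bot] at h'
    have h2 : X.map π = ⊥ := le_bot_iff.1 (h'.le_bot.trans' (le_inf le_rfl (map_mono hXP)))
    rw [Subgroup.map_eq_bot_iff, hπ, QuotientGroup.ker_mk'] at h2
    exact h.1.not_ge h2
  obtain ⟨⟨⟨z, hzP⟩, hz⟩, hz1⟩ := Subgroup.ne_bot_iff_exists_ne_one.1
    (PGroupBasic.inf_center_ne_bot _ hne)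
  obtain ⟨x, hx, hxz⟩ := (hz.1 : z ∈ X.map π)
  have hxz2 : π x = z := hxz
  have hxC : x ∈ C := by
    refine (hC x).2 ⟨hx, fun d hd => ?_⟩
    rw [hD, mem_sup_of_normal_left] at hd
    obtain ⟨m, hm, t, ht, rfl⟩ := hd
    rw [show ⁅x, m * t⁆ = ⁅x, m⁆ * (m * ⁅x, t⁆ * m⁻¹) by simp only [commutatorElement_def]; group]
    refine mul_mem (hM (commutator_mem_commutator hx hm)) (hYn.conj_mem _ ?_ m)
    rw [← QuotientGroup.eq_one_iff]
    show π ⁅x, t⁆ = 1
    rw [map_commutatorElement, commutatorElement_eq_one_iff_mul_comm, hxz2]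
    exact (congrArg Subtype.val (mem_center_iff.1 hz.2 ⟨π t, mem_map_of_mem π ht⟩)).symm
  apply hz1
  refine Subtype.ext (Subtype.ext ?_)
  show z = 1
  rw [← hxz2]
  exact (QuotientGroup.eq_one_iff x).2 (le_sup_left.trans he.le hxC)

theorem exists_quartic (S : Sylow p G)
    (hK : ¬ (Cfsg.inducedFunctor (G := G) Cfsg.kInfLower (S : Subgroup G)).Normal ∨
      ¬ (Cfsg.inducedFunctor (G := G) Cfsg.kInfUpper (S : Subgroup G)).Normal) :
    ∃ g : G, g ∈ (S : Subgroup G) ∧ g ∉ Cfsg.pCore p G ∧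
      KillsBelow g 4 (Cfsg.pCore p G) ∧
      ⁅⁅Cfsg.pCore p G ⊓ centralizer (Cfsg.pCore p G : Set G), zpowers g⁆, zpowers g⁆ = ⊥ ∧
      (centralizer (Cfsg.pCore p G : Set G) ≤ Cfsg.pCore p G →
        ∃ (N : Subgroup G) (_ : N.Normal), ¬ Cfsg.IsNormalizerPStable p (G ⧸ N)) := by
  set T := Cfsg.pCore p G with hT
  have hTp : IsPGroup p T := Solvable.isPGroup_pCore p
  have hTS : T ≤ S := by
    obtain ⟨n, -, hle⟩ := (isSylowIn_top S).exists_cj_le hTp le_top
    rwa [mem_normalizer_iff_cj.1 (by rw [normalizer_eq_top]; exact mem_top n)] at hle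
  obtain ⟨H, hHc, hH1, hH2, hH3⟩ := exists_critical hTp
  set A := H.map T.subtype with hA
  haveI hAn : A.Normal := by haveI := hHc; exact ConjAct.normal_of_characteristic_of_normal
  have hAT : A ≤ T := map_subtype_le H
  have hZA : (H ⊓ centralizer (H : Set T)).map T.subtype = A ⊓ centralizer (A : Set G) :=
    center_map T.subtype T.subtype_injective H
  have hA2 : ⁅A, A⁆ ≤ centralizer (A : Set G) := by
    rw [hA, ← map_commutator]
    exact (map_mono ((commutator_mono le_rfl le_top).trans hH2)).trans (hZA.le.trans inf_le_right)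
  have hA3 : ⁅T, A⁆ ≤ A ⊓ centralizer (A : Set G) := by
    have he : T = (⊤ : Subgroup T).map T.subtype := by
      rw [← MonoidHom.range_eq_map, range_subtype]
    rw [← hZA, commutator_comm, hA]
    calc ⁅H.map T.subtype, T⁆ = ⁅H.map T.subtype, (⊤ : Subgroup T).map T.subtype⁆ := by rw [← he]
      _ = ⁅H, (⊤ : Subgroup T)⁆.map T.subtype := (map_commutator _ _ _).symm
      _ ≤ _ := map_mono hH2
  have hA4 : T ⊓ centralizer (A : Set G) = A ⊓ centralizer (A : Set G) := by
    refine le_antisymm (fun x hx => ⟨?_, hx.2⟩) (inf_le_inf_right _ hAT)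
    refine ⟨⟨x, hx.1⟩, hH3 (mem_centralizer_iff.2 fun h hh => Subtype.ext ?_), rfl⟩
    exact mem_centralizer_iff.1 hx.2 _ (mem_map_of_mem _ hh)
  obtain ⟨g, hgS, hgT, hg3, hg2, hfac⟩ := exists_quadratic_of_kInf S A hAT hA2 hA3 hA4 hK
  have hZk : KillsBelow g 2 (A ⊓ centralizer (A : Set G)) := fun U V _ hU =>
    ((commutator_mono (commutator_mono hU le_rfl) le_rfl).trans hg2.le).trans bot_le
  have hA3k : KillsBelow g 3 A :=
    killsBelow_step (N₀ := A ⊓ centralizer (A : Set G)) hg3 (killsBelow_mono (by norm_num) le_rfl hZk)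
  refine ⟨g, hgS, hgT, killsBelow_of_critical (i := 3) (j := 2) hTp hAT hA3 hA4 g (by norm_num)
    (by norm_num) hA3k hZk, ?_, fun hC => ?_⟩
  · refine le_bot_iff.1 (hg2 ▸ commutator_mono (commutator_mono ?_ le_rfl) le_rfl)
    exact (inf_le_inf_left T (centralizer_le hAT)).trans hA4.le
  · obtain ⟨U, V, hUV, hUA, hq, hne⟩ := hfac hC
    haveI := hUV.2.1
    haveI hVn := hUV.2.2.1
    refine ⟨V, hVn, fun hst => hne ?_⟩
    set π := QuotientGroup.mk' V with hπ
    set P := U.map π with hP
    haveI hPn : P.Normal := hUV.2.1.map π (QuotientGroup.mk'_surjective V)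
    have hNtop : ∀ x, π x ∈ normalizer (P : Set (G ⧸ V)) := fun x => by
      rw [normalizer_eq_top]; exact mem_top _
    have hquad : ⁅⁅P, zpowers (π g)⁆, zpowers (π g)⁆ = ⊥ := by
      rw [hP, ← MonoidHom.map_zpowers, ← map_commutator, ← map_commutator,
        Subgroup.map_eq_bot_iff, hπ, QuotientGroup.ker_mk']
      exact hq
    have hUp : IsPGroup p U := hTp.to_le (hUA.trans hAT)
    have h := hst P (hUp.map π) (π g) (hNtop g) hquad
    set Cn := (centralizer (P : Set (G ⧸ V))).subgroupOf (normalizer (P : Set (G ⧸ V)))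
    let f : G →* _ ⧸ Cn := (QuotientGroup.mk' Cn).comp (π.codRestrict _ hNtop)
    have hf : Function.Surjective f := fun y => by
      obtain ⟨⟨y, hy⟩, rfl⟩ := QuotientGroup.mk'_surjective Cn y
      obtain ⟨x, rfl⟩ := QuotientGroup.mk'_surjective V y
      exact ⟨x, rfl⟩
    set K := (Cfsg.pCore p (_ ⧸ Cn)).comap f with hK'
    haveI : K.Normal := Subgroup.Normal.comap inferInstance f
    have hker : ∀ x, x ∈ f.ker ↔ π x ∈ centralizer (P : Set (G ⧸ V)) := fun x => by
      rw [MonoidHom.mem_ker]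
      exact (QuotientGroup.eq_one_iff _).trans mem_subgroupOf
    have hUker : U ≤ f.ker := fun x hx => by
      refine (hker x).2 ?_
      have hUU := (chiefFactor_elementary hUV hUp).1
      have : P ≤ centralizer (P : Set (G ⧸ V)) := by
        rw [← commutator_eq_bot_iff_le_centralizer, hP, ← map_commutator, Subgroup.map_eq_bot_iff,
          hπ, QuotientGroup.ker_mk']
        exact hUU
      exact this (mem_map_of_mem π hx)
    have hUM : ⁅U, f.ker⁆ ≤ V := by
      refine commutator_le.2 fun u hu x hx => ?_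
      rw [← QuotientGroup.eq_one_iff]
      show π ⁅u, x⁆ = 1
      rw [map_commutatorElement, commutatorElement_eq_one_iff_mul_comm]
      exact mem_centralizer_iff.1 ((hker x).1 hx) _ (mem_map_of_mem π hu)
    set TK := (S : Subgroup G) ⊓ K with hTK
    have hTKs : IsSylowIn p TK K := (isSylowIn_top S).inf_normal le_top (by rw [normalizer_eq_top])
    have hKeq : K = f.ker ⊔ TK := by
      refine le_antisymm ?_ (sup_le (f.ker_le_comap _) inf_le_right)
      have h1 := (hTKs.map f)
      have h2 := h1.eq_of_le (Q := K.map f) (by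
        rw [hK', map_comap_eq_self_of_surjective hf]; exact Solvable.isPGroup_pCore p) le_rfl h1.le
      intro x hx
      have : f x ∈ TK.map f := h2.ge (mem_map_of_mem f hx)
      rw [← mem_comap, comap_map_eq, sup_comm] at this
      exact this
    have hUK := commutator_le_of_pGroup_action hUV hUM TK hTKs.2.1 hKeq
      (le_inf ((hUA.trans hAT).trans hTS) (hUker.trans (f.ker_le_comap _)))
    exact (commutator_mono le_rfl (zpowers_le.2 (show g ∈ K from h))).trans hUK

end CfsgLib.Kinf
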