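import Cfsg.Agent.Kinf.Sections
import Cfsg.Agent.Kinf.Quartic

/-!
Sections of a group as groups up to isomorphism.
-/

set_option autoImplicit false
set_option linter.unusedSectionVars false
set_option linter.style.haveILetI false

namespace CfsgLib.Kinf

open Subgroup CfsgLib.Functor
open scoped CfsgLib.Functor commutatorElement

universe u

/-- `Γ` is isomorphic to a section of `G`. -/
def IsSectionOf (G : Type u) [Group G] (Γ : Type u) [Group Γ] : Prop :=
  ∃ (K R : Subgroup G) (_ : (R.subgroupOf K).Normal), Nonempty ((↥K ⧸ R.subgroupOf K) ≃* Γ)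

variable {G : Type u} [Group G]

theorem isSectionOf_quotient_of_surjective {K : Subgroup G} {Δ : Type u} [Group Δ] (f : ↥K →* Δ)
    (hf : Function.Surjective f) : IsSectionOf G Δ := by
  have hR : (f.ker.map K.subtype).subgroupOf K = f.ker :=
    comap_map_eq_self_of_injective K.subtype_injective f.ker
  haveI : ((f.ker.map K.subtype).subgroupOf K).Normal := hR.symm ▸ inferInstance
  exact ⟨K, f.ker.map K.subtype, inferInstance,
    ⟨(QuotientGroup.quotientMulEquivOfEq hR).trans (QuotientGroup.quotientKerEquivOfSurjective f hf)⟩⟩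

theorem isSectionOf_self (G : Type u) [Group G] : IsSectionOf G G :=
  isSectionOf_quotient_of_surjective (K := (⊤ : Subgroup G)) (topEquiv : (⊤ : Subgroup G) ≃* G).toMonoidHom
    (topEquiv : (⊤ : Subgroup G) ≃* G).surjective

theorem IsSectionOf.subgroup_quotient {Γ : Type u} [Group Γ] (h : IsSectionOf G Γ) (H : Subgroup Γ)
    {Δ : Type u} [Group Δ] (g : ↥H →* Δ) (hg : Function.Surjective g) : IsSectionOf G Δ := by
  obtain ⟨K, R, hn, ⟨e⟩⟩ := h
  let φ : ↥K →* Γ := e.toMonoidHom.comp (QuotientGroup.mk' (R.subgroupOf K))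
  have hφ : Function.Surjective φ := e.surjective.comp (QuotientGroup.mk'_surjective _)
  let f₀ : ↥(H.comap φ) →* Δ := g.comp ((φ.comp (H.comap φ).subtype).codRestrict H fun x => x.2)
  have hf₀ : Function.Surjective f₀ := fun y => by
    obtain ⟨⟨y, hy⟩, rfl⟩ := hg y
    obtain ⟨x, rfl⟩ := hφ y
    exact ⟨⟨x, hy⟩, rfl⟩
  let eK := (H.comap φ).equivMapOfInjective K.subtype K.subtype_injective
  exact isSectionOf_quotient_of_surjective (f₀.comp eK.symm.toMonoidHom) (hf₀.comp eK.symm.surjective)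

theorem IsSectionOf.subgroup {Γ : Type u} [Group Γ] (h : IsSectionOf G Γ) (H : Subgroup Γ) :
    IsSectionOf G ↥H :=
  h.subgroup_quotient H (MonoidHom.id _) Function.surjective_id

theorem IsSectionOf.quotient {Γ : Type u} [Group Γ] (h : IsSectionOf G Γ) (N : Subgroup Γ)
    [N.Normal] : IsSectionOf G (Γ ⧸ N) :=
  h.subgroup_quotient ⊤ ((QuotientGroup.mk' N).comp (topEquiv : (⊤ : Subgroup Γ) ≃* Γ).toMonoidHom)
    ((QuotientGroup.mk'_surjective N).comp (topEquiv : (⊤ : Subgroup Γ) ≃* Γ).surjective)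

theorem IsSectionOf.finite [Finite G] {Γ : Type u} [Group Γ] (h : IsSectionOf G Γ) : Finite Γ := by
  obtain ⟨K, R, hn, ⟨e⟩⟩ := h
  exact Finite.of_equiv _ e.toEquiv

theorem IsSectionOf.transfer [Finite G] {p : ℕ} [Fact p.Prime] {𝓦 : Set (∀ (Q : Type u) [Group Q], Subgroup Q)}
    (h𝓦 : ∀ W ∈ 𝓦, Cfsg.IsCharPFunctor.{u} p W)
    (hctl : ∀ (K R : Subgroup G) [(R.subgroupOf K).Normal],
      Cfsg.FamilyControlsTransferIn p (family (↥K ⧸ R.subgroupOf K) 𝓦) ⊤)
    {Γ : Type u} [Group Γ] [Finite Γ] (h : IsSectionOf G Γ) :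
    Cfsg.FamilyControlsTransferIn p (family Γ 𝓦) ⊤ := by
  obtain ⟨K, R, hn, ⟨e⟩⟩ := h
  exact transfer_of_equiv h𝓦 e (hctl K R)

end CfsgLib.Kinf
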