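import Cfsg.Prelude.Def_EvenTechniques
import Cfsg.Agent.Kinf.LBalance
import Cfsg.Agent.Kinf.SectionOf
import Cfsg.Agent.KGroup.SectionLayer

/-!
Auxiliary facts for the balance of the non-quasisimple part of the `p`-layer.
-/

set_option autoImplicit false
set_option linter.unusedSectionVars false
set_option linter.style.haveILetI false

namespace CfsgLib.BBalance

open Subgroup LocalBalance LBalance
open scoped commutatorElement

/-! ### Quasisimple images -/

theorem map_commutator_top {A B : Type*} [Group A] [Group B] (f : A →* B)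
    (hf : Function.Surjective f) (hA : Group.IsPerfect A) : Group.IsPerfect B :=
  ⟨by rw [_root_.commutator_def, ← map_top_of_surjective f hf, ← map_commutator,
    ← _root_.commutator_def, hA.commutator_eq_top]⟩

theorem quasisimple_of_surjective {A B : Type*} [Group A] [Group B] (f : A →* B)
    (hf : Function.Surjective f) (hA : Cfsg.IsQuasisimple A) (hB : Nontrivial B) :
    Cfsg.IsQuasisimple B := by
  have hker : f.ker ≤ center A := by
    refine (Comp.quasisimple_normal hA f.normal_ker).resolve_left fun h => ?_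
    haveI := hB
    obtain ⟨b, hb⟩ := exists_ne (1 : B)
    obtain ⟨a, rfl⟩ := hf b
    exact hb (MonoidHom.mem_ker.1 (h ▸ mem_top a))
  haveI := hA.2
  refine ⟨map_commutator_top f hf hA.1, ?_⟩
  have hc : (center B).comap f = center A := by
    refine le_antisymm (fun x hx => ?_) (fun x hx => mem_center_iff.2 fun b => ?_)
    swap
    · obtain ⟨a, rfl⟩ := hf b
      rw [← map_mul, ← map_mul, mem_center_iff.1 hx a]
    have h2 : ⁅⁅zpowers x, (⊤ : Subgroup A)⁆, (⊤ : Subgroup A)⁆ = ⊥ := by
      rw [commutator_eq_bot_iff_le_centralizer]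
      refine le_trans ?_ (hker.trans (center_le_centralizer _))
      rw [commutator_le]
      intro u hu v _
      obtain ⟨i, rfl⟩ := mem_zpowers_iff.1 hu
      rw [MonoidHom.mem_ker, map_commutatorElement, map_zpow,
        commutatorElement_eq_one_iff_mul_comm]
      exact ((Commute.zpow_left (show Commute _ _ from (mem_center_iff.1 hx (f v)).symm) i)).eq
    have h3 := Comp.commutator_eq_bot_of_perfect (K := zpowers x) (H := (⊤ : Subgroup A))
      (by rw [← _root_.commutator_def]; exact hA.1.commutator_eq_top) h2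
    rw [commutator_eq_bot_iff_le_centralizer] at h3
    exact mem_center_iff.2 fun y => mem_centralizer_iff.1 (h3 (mem_zpowers x)) y (mem_top y)
  have hk : center A = ((QuotientGroup.mk' (center B)).comp f).ker := by
    rw [← MonoidHom.comap_ker, QuotientGroup.ker_mk', hc]
  exact ((QuotientGroup.quotientMulEquivOfEq hk).trans (QuotientGroup.quotientKerEquivOfSurjective _
    ((QuotientGroup.mk'_surjective _).comp hf))).symm.isSimpleGroup

variable {G G' : Type*} [Group G] [Finite G] [Group G'] [Finite G']

/-- Images of components are trivial or components. -/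
theorem component_map (f : G →* G') (hf : Function.Surjective f) {K : Subgroup G}
    (hK : Cfsg.IsComponent K) : K.map f = ⊥ ∨ Cfsg.IsComponent (K.map f) := by
  by_cases h : K.map f = ⊥
  · exact Or.inl h
  refine Or.inr ⟨hK.1.map hf, quasisimple_of_surjective (f.subgroupMap K)
    (MonoidHom.subgroupMap_surjective f K) hK.2 ((nontrivial_iff_ne_bot _).2 h)⟩

/-- Images of layers lie in layers. -/
theorem map_layer_le_layer (f : G →* G') (hf : Function.Surjective f) :
    (Cfsg.layer G).map f ≤ Cfsg.layer G' := by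
  refine map_le_iff_le_comap.2 (Comp.layer_le fun K hK => map_le_iff_le_comap.1 ?_)
  rcases component_map f hf hK with h | h
  · rw [h]; exact bot_le
  · exact Comp.component_le_layer h

variable {p : ℕ} [Fact p.Prime]

/-! ### `Quasi` subgroups -/

theorem eq_bot_of_coprime {M : Subgroup G} (hgen : M ≤ PComp.pGen p M)
    (h : (Nat.card M).Coprime p) : M = ⊥ := by
  refine le_bot_iff.1 (hgen.trans ((closure_le _).2 ?_))
  rintro x ⟨hx, k, hk⟩
  exact mem_bot.2 (eq_one_of_coprime h hx hk)

theorem quasi_ne_bot {M : Subgroup G} (hM : Quasi p M) : M ≠ ⊥ := by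
  rintro rfl
  haveI := Comp.quasisimple_nontrivial hM.2.1
  have h2 : Nontrivial (⊥ : Subgroup G) :=
    (QuotientGroup.mk'_surjective (Cfsg.pPrimeCore p (⊥ : Subgroup G))).nontrivial
  exact not_nontrivial _ h2

/-- The image of a `Quasi` subgroup is trivial or `Quasi`. -/
theorem quasi_map {M : Subgroup G} (hM : Quasi p M) (f : G →* G') (hne : M.map f ≠ ⊥) :
    Quasi p (M.map f) := by
  have hperf : ⁅M.map f, M.map f⁆ = M.map f := by rw [← map_commutator, hM.1]
  have hgen : M.map f ≤ PComp.pGen p (M.map f) := by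
    refine (map_mono hM.2.2).trans ?_
    rw [PComp.pGen, MonoidHom.map_closure]
    refine closure_mono ?_
    rintro _ ⟨x, ⟨hx, k, hk⟩, rfl⟩
    exact ⟨mem_map_of_mem f hx, k, by rw [← map_pow, hk, map_one]⟩
  refine ⟨hperf, ?_, hgen⟩
  set φ := (QuotientGroup.mk' (Cfsg.pPrimeCore p ↥(M.map f))).comp (f.subgroupMap M)
  have hφ : Function.Surjective φ :=
    (QuotientGroup.mk'_surjective _).comp (MonoidHom.subgroupMap_surjective f M)
  have hker : Cfsg.pPrimeCore p M ≤ φ.ker := by
    rw [← MonoidHom.comap_ker, QuotientGroup.ker_mk', ← map_le_iff_le_comap]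
    exact Solvable.le_pPrimeCore p
      ((inferInstance : (Cfsg.pPrimeCore p M).Normal).map _ (MonoidHom.subgroupMap_surjective f M))
      ((Solvable.coprime_card_pPrimeCore p).coprime_dvd_left (card_map_dvd _ _))
  refine quasisimple_of_surjective (QuotientGroup.lift _ φ hker) ?_ hM.2.1 ?_
  · intro q
    obtain ⟨a, rfl⟩ := hφ q
    exact ⟨QuotientGroup.mk' _ a, rfl⟩
  rw [QuotientGroup.nontrivial_iff]
  intro htop
  refine hne (eq_bot_of_coprime hgen ?_)
  have := Solvable.coprime_card_pPrimeCore (G := ↥(M.map f)) p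
  rwa [show Cfsg.pPrimeCore p ↥(M.map f) = ⊤ from htop, Subgroup.card_top] at this

theorem commutator_core_eq_bot {M : Subgroup G} (hM : Quasi p M) (hq : Cfsg.IsQuasisimple M) :
    ⁅M, core p M⁆ = ⊥ := by
  have h : Cfsg.pPrimeCore p M ≤ center M := by
    refine (Comp.quasisimple_normal hq inferInstance).resolve_left fun htop => ?_
    haveI := Comp.quasisimple_nontrivial hM.2.1
    exact (QuotientGroup.nontrivial_iff.1 (inferInstance :
      Nontrivial (↥M ⧸ Cfsg.pPrimeCore p M))) htop
  rw [commutator_eq_bot_iff_le_centralizer]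
  intro x hx
  rw [mem_centralizer_iff]
  rintro _ ⟨y, hy, rfl⟩
  exact (congrArg Subtype.val (mem_center_iff.1 (h hy) ⟨x, hx⟩)).symm

/-- A `Quasi` subgroup with central `p'`-core is quasisimple. -/
theorem quasisimple_of_quasi {M : Subgroup G} (hM : Quasi p M) (h : ⁅M, core p M⁆ = ⊥) :
    Cfsg.IsQuasisimple M := by
  refine SectionLayer.isQuasisimple_of_central (QuotientGroup.mk' (Cfsg.pPrimeCore p M))
    (QuotientGroup.mk'_surjective _) ?_ (Subgroup.isPerfect_iff.mpr hM.1) hM.2.1
  rw [QuotientGroup.ker_mk']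
  intro y hy
  refine mem_center_iff.2 fun x => Subtype.ext ?_
  exact (mem_centralizer_iff.1 (commutator_eq_bot_iff_le_centralizer.1 h x.2) y
    ⟨y, hy, rfl⟩).symm

/-- A subnormal `Quasi` subgroup is a `p`-component. -/
theorem isPComponent_of_quasi {M : Subgroup G} (hsub : M.IsSubnormal) (hM : Quasi p M) :
    Cfsg.IsPComponent p M := by
  set π := QuotientGroup.mk' (Cfsg.pPrimeCore p G)
  have hker : (MonoidHom.subgroupMap π M).ker = Cfsg.pPrimeCore p M := by
    apply map_injective M.subtype_injective
    rw [PComp.pPrimeCore_eq_inf p hsub]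
    ext x
    constructor
    · rintro ⟨y, hy, rfl⟩
      exact ⟨(QuotientGroup.eq_one_iff _).1 (congrArg Subtype.val (MonoidHom.mem_ker.1 hy)), y.2⟩
    · rintro ⟨h1, h2⟩
      exact ⟨⟨x, h2⟩, MonoidHom.mem_ker.2 (Subtype.ext ((QuotientGroup.eq_one_iff _).2 h1)), rfl⟩
  have hcomp : Cfsg.IsComponent (M.map π) :=
    ⟨hsub.map (QuotientGroup.mk'_surjective _), Comp.isQuasisimple_of_equiv
      ((QuotientGroup.quotientMulEquivOfEq hker.symm).trans
        (QuotientGroup.quotientKerEquivOfSurjective _ (MonoidHom.subgroupMap_surjective π M))) hM.2.1⟩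
  have heq : PComp.compOver p (M.map π) = M := by
    refine le_antisymm (PComp.compOver_le p hsub rfl) (hM.2.2.trans (PComp.pGen_mono p ?_))
    exact le_comap_map π M
  exact heq ▸ PComp.isPComponent_compOver p hcomp

theorem quasi_subgroupOf {S C : Subgroup G} (hS : Quasi p S) (h : S ≤ C) :
    Quasi p (S.subgroupOf C) := by
  refine ⟨?_, ?_, ?_⟩
  · refine map_injective C.subtype_injective ?_
    rw [map_commutator, map_subgroupOf_eq_of_le h, hS.1]
  · exact Comp.isQuasisimple_of_equiv (QuotientGroup.congr _ _ (subgroupOfEquivOfLe h).symm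
      (Terminal.map_pPrimeCore _)) hS.2.1
  · rw [← map_le_map_iff_of_injective C.subtype_injective, map_subgroupOf_eq_of_le h,
      PComp.pGen, MonoidHom.map_closure]
    refine hS.2.2.trans (closure_mono ?_)
    rintro x ⟨hx, k, hk⟩
    exact ⟨⟨x, h hx⟩, ⟨hx, k, Subtype.ext (by simpa using hk)⟩, rfl⟩

/-- Subnormality inside a subgroup normalized by a bigger one. -/
theorem subnormal_mono {M A B : Subgroup G} (hMA : M ≤ A) (hAB : A ≤ B)
    (hsub : (M.subgroupOf A).IsSubnormal) (hn : B ≤ normalizer (A : Set G)) :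
    (M.subgroupOf B).IsSubnormal := by
  refine IsSubnormal.trans (K := A.subgroupOf B) (fun x hx => hMA hx) ?_
    ((normal_subgroupOf_iff_le_normalizer hAB).2 hn).isSubnormal
  exact hsub.comap (subgroupOfEquivOfLe hAB).toMonoidHom

theorem subnormal_restrict {M A B : Subgroup G} (hBA : B ≤ A)
    (hsub : (M.subgroupOf A).IsSubnormal) : (M.subgroupOf B).IsSubnormal :=
  hsub.comap (Subgroup.inclusion hBA)

/-- Subnormality in the image. -/
theorem subnormal_map {M A : Subgroup G} (hMA : M ≤ A) (f : G →* G')
    (hsub : (M.subgroupOf A).IsSubnormal) : ((M.map f).subgroupOf (A.map f)).IsSubnormal := by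
  have h3 := hsub.map (f := f.subgroupMap A) (MonoidHom.subgroupMap_surjective f A)
  have h4 : (M.subgroupOf A).map (f.subgroupMap A) = (M.map f).subgroupOf (A.map f) := by
    apply map_injective (A.map f).subtype_injective
    rw [map_map, map_subgroupOf_eq_of_le (map_mono hMA),
      show (A.map f).subtype.comp (f.subgroupMap A) = f.comp A.subtype from rfl, ← map_map,
      map_subgroupOf_eq_of_le hMA]
  rwa [h4] at h3

/-- L-balance for a `Quasi` subgroup subnormal in the centralizer of a `p`-group. -/
theorem quasi_le_pLayer {R M : Subgroup G} (hR : IsPGroup p R)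
    (hMR : M ≤ centralizer (R : Set G))
    (hsub : (M.subgroupOf (centralizer (R : Set G))).IsSubnormal) (hM : Quasi p M)
    (hS : ∀ K : Subgroup (G ⧸ Cfsg.pPrimeCore p G), Cfsg.IsComponent K →
      Group.IsSolvable (Cfsg.Out (↥K ⧸ center ↥K))) : M ≤ Cfsg.pLayer p G := by
  set Y := normalizer (R : Set G)
  set C := centralizer (R : Set G)
  have hCY : C ≤ Y := centralizer_le_normalizer _
  have hn : Y ≤ normalizer (C : Set G) := normalizer_le_normalizer_centralizer R
  have h := subnormal_mono hMR hCY hsub hn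
  have hcomp := isPComponent_of_quasi h (quasi_subgroupOf hM (hMR.trans hCY))
  refine le_trans ?_ (pLayer_normalizer_le hS hR)
  conv_lhs => rw [← map_subgroupOf_eq_of_le (hMR.trans hCY)]
  exact map_mono (PComp.pComponent_le_pLayer p hcomp)

end CfsgLib.BBalance
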