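import Cfsg.Agent.S3743
import Cfsg.Agent.Functor.Fusion
import Cfsg.Agent.PLocal.PConstrained
import Cfsg.Agent.Comp.Basic

/-!
Short facts used in classification techniques.
-/

set_option autoImplicit false
set_option linter.style.haveILetI false

namespace CfsgLib.Kinf

open Subgroup CfsgLib.Functor
open scoped CfsgLib.Functor commutatorElement

/-- A subgroup covering the central quotient of a semisimple group is the whole group. -/
theorem layer_covering {X : Type*} [Group X] [Finite X] (hX : Cfsg.layer X = ⊤) (Y : Subgroup X)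
    (hY : Y ⊔ center X = ⊤) : Y = ⊤ := by
  have hperf : ⁅(⊤ : Subgroup X), (⊤ : Subgroup X)⁆ = ⊤ := by
    have := Comp.layer_perfect (G := X)
    rwa [hX] at this
  refine top_le_iff.1 (hperf.ge.trans (commutator_le.2 fun x _ y _ => ?_))
  have hd : ∀ w : X, ∃ a ∈ Y, ∃ b ∈ center X, a * b = w := fun w =>
    (Solvable.mem_sup_of_le_normalizer le_normalizer_of_normal).1 (hY.ge (mem_top w))
  obtain ⟨a, ha, b, hb, rfl⟩ := hd x
  obtain ⟨c, hc, d, hd', rfl⟩ := hd y
  have hb' : ∀ g : X, g * b = b * g := mem_center_iff.1 hb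
  have hd'' : ∀ g : X, g * d = d * g := mem_center_iff.1 hd'
  have e : a * b * (c * d) * (a * b)⁻¹ * (c * d)⁻¹ = a * c * a⁻¹ * c⁻¹ := by
    calc a * b * (c * d) * (a * b)⁻¹ * (c * d)⁻¹
        = a * (b * (c * d)) * b⁻¹ * a⁻¹ * d⁻¹ * c⁻¹ := by group
      _ = a * (c * d * b) * b⁻¹ * a⁻¹ * d⁻¹ * c⁻¹ := by rw [hb' (c * d)]
      _ = a * c * (d * a⁻¹) * d⁻¹ * c⁻¹ := by group
      _ = a * c * (a⁻¹ * d) * d⁻¹ * c⁻¹ := by rw [hd'' a⁻¹]
      _ = a * c * a⁻¹ * c⁻¹ := by group
  show a * b * (c * d) * (a * b)⁻¹ * (c * d)⁻¹ ∈ Y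
  rw [e]
  exact Y.mul_mem (Y.mul_mem (Y.mul_mem ha hc) (Y.inv_mem ha)) (Y.inv_mem hc)

/-- Basic properties of the π-core. -/
theorem piCore_basic {X : Type*} [Group X] [Finite X] (π : Set ℕ) :
    Cfsg.piCore π (X ⧸ Cfsg.piCore π X) = ⊥ ∧
    (Cfsg.piCore π X = ⊥ →
      (∀ q : ℕ, q.Prime → q ∈ π → ¬ q ∣ Nat.card ↥(Cfsg.fittingSubgroup X)) ∧
      ∀ K : Subgroup X, Cfsg.IsComponent K → ∃ q : ℕ, q.Prime ∧ q ∉ π ∧ q ∣ Nat.card ↥K) := by
  have hpi : ∀ (Y : Type _) [Group Y] [Finite Y], ∀ p : ℕ, p.Prime →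
      p ∣ Nat.card (Cfsg.piCore π Y) → p ∈ π := fun Y _ _ =>
    Cfsg.Agent.S3743.isPi_of_sup _ (fun N hN => hN.1) (fun N hN => hN.2)
  refine ⟨?_, fun hbot => ⟨fun q hq hqπ hqd => ?_, fun K hK => ?_⟩⟩
  · set O := Cfsg.piCore π X with hO
    set f := QuotientGroup.mk' O
    set Y := Cfsg.piCore π (X ⧸ O)
    have hf : Function.Surjective f := QuotientGroup.mk'_surjective O
    have hle : Y.comap f ≤ O := by
      refine le_sSup ⟨Subgroup.Normal.comap inferInstance f, fun p hp hd => ?_⟩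
      have hc : Nat.card O * Nat.card Y = Nat.card ↥(Y.comap f) := by
        conv_lhs => rw [← map_comap_eq_self_of_surjective hf Y, ← relIndex_ker, QuotientGroup.ker_mk']
        rw [← relIndex_bot_left, ← relIndex_bot_left]
        exact relIndex_mul_relIndex ⊥ O _ bot_le ((QuotientGroup.ker_mk' O).ge.trans (f.ker_le_comap Y))
      rw [← hc] at hd
      exact (hp.dvd_mul.1 hd).elim (hpi X p hp) (hpi _ p hp)
    rw [← map_comap_eq_self_of_surjective hf Y, Subgroup.map_eq_bot_iff, QuotientGroup.ker_mk']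
    exact hle
  · haveI := Fact.mk hq
    set F := Cfsg.fittingSubgroup X
    obtain ⟨x, hx⟩ := exists_prime_orderOf_dvd_card' q hqd
    haveI : Group.IsNilpotent F := Solvable.isNilpotent_fittingSubgroup
    obtain ⟨Q, hQ⟩ := (IsPGroup.of_card (n := 1) (by rw [Nat.card_zpowers, hx, pow_one]) :
      IsPGroup q (zpowers x)).exists_le_sylow
    haveI hQn : (Q : Subgroup F).Normal := inferInstance
    haveI : (Q : Subgroup F).Characteristic := Q.characteristic_of_normal hQn
    haveI : F.Normal := inferInstance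
    have h1 : (Q : Subgroup F).map F.subtype ≤ Cfsg.piCore π X := by
      refine le_sSup ⟨inferInstance, fun r hr hd => ?_⟩
      rw [card_map_of_injective F.subtype_injective] at hd
      obtain ⟨k, hk⟩ := Q.2.exists_card_eq
      rw [hk] at hd
      exact (Nat.prime_dvd_prime_iff_eq hr hq).1 (hr.dvd_of_dvd_pow hd) ▸ hqπ
    have h2 : (x : X) ∈ Cfsg.piCore π X := h1 ⟨x, hQ (mem_zpowers x), rfl⟩
    rw [hbot, mem_bot] at h2
    exact hq.one_lt.ne' (by rw [← hx, show x = 1 from Subtype.ext h2, orderOf_one])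
  · by_contra hcon
    push Not at hcon
    have h1 : K ≤ Cfsg.piCore π X := (Cfsg.Agent.S3743.result K hK.1).2 π fun p hp hd => by
      by_contra hpπ
      exact hcon p hp hpπ hd
    rw [hbot, le_bot_iff] at h1
    exact Comp.component_ne_bot hK h1

/-- A self-centralizing normal abelian subgroup containing a given one. -/
theorem exists_scn_containing {P : Type*} [Group P] [Finite P] {p : ℕ} [Fact p.Prime] (hP : IsPGroup p P)
    (A : Subgroup P) [A.Normal] (B : Subgroup P) [B.Normal] (hBA : B ≤ A) (hB : IsMulCommutative B) :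
    ∃ C : Subgroup P, C.Normal ∧ B ≤ C ∧ Cfsg.IsSCN A C := by
  obtain ⟨C, ⟨hCn, hBC, hCA, hCc⟩, hmax⟩ := Set.exists_max_image
    {C : Subgroup P | C.Normal ∧ B ≤ C ∧ C ≤ A ∧ IsMulCommutative C} (fun C => Nat.card C)
    (Set.toFinite _) ⟨B, inferInstance, le_rfl, hBA, hB⟩
  haveI := hCn
  have hCcent : C ≤ A ⊓ centralizer (C : Set P) := fun x hx => ⟨hCA hx, mem_centralizer_iff.2 fun y hy =>
    congrArg Subtype.val (hCc.is_comm.comm ⟨y, hy⟩ ⟨x, hx⟩)⟩
  refine ⟨C, hCn, hBC, hCA, le_normalizer_of_normal, (le_antisymm hCcent ?_).symm⟩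
  by_contra hlt
  set D := A ⊓ centralizer (C : Set P) with hD
  haveI : D.Normal := Subgroup.normal_inf_normal _ _
  set π := QuotientGroup.mk' C with hπ
  haveI hDb : (D.map π).Normal := Normal.map inferInstance π (QuotientGroup.mk'_surjective C)
  have hne : Nontrivial (D.map π) := (D.map π).nontrivial_iff_ne_bot.2 fun h => hlt (by
    rwa [Subgroup.map_eq_bot_iff, QuotientGroup.ker_mk'] at h)
  have hQp : IsPGroup p (P ⧸ C) := hP.to_quotient C
  obtain ⟨q, hq, hq1⟩ : ∃ q ∈ D.map π ⊓ center (P ⧸ C), q ≠ 1 := by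
    obtain ⟨k, hk⟩ := (hQp.to_subgroup (D.map π)).exists_card_eq
    have hpos : p ∣ Nat.card (D.map π) := by
      rw [hk]
      refine dvd_pow_self p fun h0 => ?_
      rw [h0, pow_zero] at hk
      exact (Finite.one_lt_card (α := D.map π)).ne' hk
    have hone : (1 : D.map π) ∈ MulAction.fixedPoints (ConjAct (P ⧸ C)) (D.map π) := fun g =>
      Subtype.ext (smul_one g)
    obtain ⟨b, hb, hb1⟩ := IsPGroup.exists_fixed_point_of_prime_dvd_card_of_fixed_point
      (p := p) (G := ConjAct (P ⧸ C)) (fun g => hQp (ConjAct.ofConjAct g)) (D.map π) hpos hone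
    refine ⟨b, ⟨b.2, mem_center_iff.2 fun g => ?_⟩, fun h => hb1 (Subtype.ext h.symm)⟩
    have := congrArg Subtype.val (hb (ConjAct.toConjAct g))
    rw [ConjAct.Subgroup.val_conj_smul, ConjAct.smul_def, ConjAct.ofConjAct_toConjAct] at this
    exact mul_inv_eq_iff_eq_mul.1 this
  obtain ⟨x, hxD, rfl⟩ := hq.1
  set C' := C ⊔ zpowers x with hC'
  have hC'n : C'.Normal := by
    haveI : (zpowers (π x)).Normal := ⟨fun m hm g => by
      rw [mem_center_iff.1 ((zpowers_le.2 hq.2 : zpowers (π x) ≤ center _) hm) g, mul_inv_cancel_right]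
      exact hm⟩
    have h : ((zpowers (π x)).comap π).Normal := inferInstance
    rwa [← MonoidHom.map_zpowers, comap_map_eq, QuotientGroup.ker_mk', sup_comm] at h
  have hC'c : IsMulCommutative C' := by
    rw [hC', sup_eq_closure]
    refine Subgroup.isMulCommutative_closure ?_
    rintro u (hu | hu) v (hv | hv)
    · exact congrArg Subtype.val (hCc.is_comm.comm ⟨u, hu⟩ ⟨v, hv⟩)
    · exact mem_centralizer_iff.1 ((zpowers_le.2 hxD.2 : zpowers x ≤ centralizer (C : Set P)) hv) u hu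
    · exact (mem_centralizer_iff.1 ((zpowers_le.2 hxD.2 : zpowers x ≤ centralizer (C : Set P)) hu) v hv).symm
    · obtain ⟨i, rfl⟩ := hu
      obtain ⟨j, rfl⟩ := hv
      exact ((Commute.refl x).zpow_zpow i j).eq
  have hle := hmax C' ⟨hC'n, hBC.trans le_sup_left, sup_le hCA (zpowers_le.2 hxD.1), hC'c⟩
  have := eq_of_le_of_card_le' (le_sup_left : C ≤ C') hle
  exact hq1 ((QuotientGroup.eq_one_iff x).2 (this ▸ mem_sup_right (mem_zpowers x)))

/-- A dihedral group of twice odd order acting on an abelian group. -/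
theorem dihedral_action {A : Type*} [CommGroup A] [Finite A] {n : ℕ} (hn : Odd n)
    (d t : MulAut A) (hd : d ^ n = 1) (ht : t ^ 2 = 1) (hdt : t * d * t⁻¹ = d⁻¹)
    (hfix : ∀ a : A, d a = a → a = 1) :
    (MulEquiv.toMonoidHom t).eqLocus (MonoidHom.id A) ⊓ ((MulEquiv.toMonoidHom t).eqLocus (MonoidHom.id A)).map d.toMonoidHom = ⊥ ∧
      (MulEquiv.toMonoidHom t).eqLocus (MonoidHom.id A) ⊔ ((MulEquiv.toMonoidHom t).eqLocus (MonoidHom.id A)).map d.toMonoidHom = ⊤ := by
  have hmem : ∀ a : A, a ∈ (MulEquiv.toMonoidHom t).eqLocus (MonoidHom.id A) ↔ t a = a := fun a => Iff.rfl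
  have htd : t * d = d⁻¹ * t := by rw [← hdt, inv_mul_cancel_right]
  have htd' : ∀ a, t (d a) = d⁻¹ (t a) := fun a => by rw [← MulAut.mul_apply, htd, MulAut.mul_apply]
  have ht2 : ∀ a, t (t a) = a := fun a => by rw [← MulAut.mul_apply, ← pow_two, ht, MulAut.one_apply]
  have hd2 : ∀ a : A, d (d a) = a → a = 1 := by
    intro a ha
    refine hfix a ?_
    obtain ⟨m, rfl⟩ := hn
    have h1 : ∀ j : ℕ, ((d * d) ^ j) a = a := by
      intro j
      induction j with
      | zero => simp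
      | succ j ih => rw [pow_succ, MulAut.mul_apply, MulAut.mul_apply, ha, ih]
    have h2 : d = (d * d) ^ (m + 1) := by
      rw [← pow_two, ← pow_mul, show 2 * (m + 1) = 2 * m + 1 + 1 by omega, pow_succ, hd, one_mul]
    nth_rewrite 1 [h2]
    exact h1 _
  have hdinv : ∀ a, d (d⁻¹ a) = a := fun a => MulAut.apply_inv_self A d a
  have hinvd : ∀ a, d⁻¹ (d a) = a := fun a => MulAut.inv_apply_self A d a
  refine ⟨le_bot_iff.1 ?_, top_le_iff.1 fun a _ => ?_⟩
  · rintro x ⟨hx, u, hu, rfl⟩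
    have h1 : t (d u) = d u := (hmem _).1 hx
    rw [htd', (hmem u).1 hu] at h1
    have h2 : d (d u) = u := by rw [← h1, hdinv]
    show d u ∈ (⊥ : Subgroup A)
    rw [hd2 u h2, map_one]
    exact one_mem _
  · let ψ : A →* A :=
      { toFun := fun x => d⁻¹ (d⁻¹ x) * x⁻¹
        map_one' := by simp
        map_mul' := fun x y => by rw [map_mul, map_mul, mul_inv, mul_mul_mul_comm] }
    have hψ : Function.Injective ψ := by
      rw [injective_iff_map_eq_one]
      intro x hx
      refine hd2 x ?_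
      conv_lhs => rw [← mul_inv_eq_one.1 hx]
      rw [hdinv, hdinv]
    set b := t a * a⁻¹ with hb
    obtain ⟨g, hg⟩ := Finite.injective_iff_surjective.1 hψ b
    have hg' : d⁻¹ (d⁻¹ g) * g⁻¹ = b := hg
    have htb : t b = b⁻¹ := by rw [hb, map_mul, map_inv, ht2, mul_inv, inv_inv, mul_comm]
    have htd2 : ∀ x, t (d⁻¹ x) = d (t x) := fun x => by
      have := htd' (d⁻¹ x)
      rw [hdinv] at this
      rw [this, hdinv]
    set h := d (d (t g)) with hh
    have hh1 : ψ h = b := by
      show d⁻¹ (d⁻¹ h) * h⁻¹ = b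
      have h2 := congrArg t hg'
      rw [map_mul, map_inv, htd2, htd2, htb] at h2
      rw [hh, hinvd, hinvd, ← inv_inv b, ← h2, mul_inv, inv_inv, mul_comm]
    have hhg : h = g := hψ (hh1.trans hg.symm)
    have htg : t g = d⁻¹ (d⁻¹ g) := by
      conv_rhs => rw [← hhg, hh, hinvd, hinvd]
    have hgF : g ∈ ((MulEquiv.toMonoidHom t).eqLocus (MonoidHom.id A)).map d.toMonoidHom :=
      ⟨d⁻¹ g, (hmem _).2 (by rw [htd2, htg, hdinv]), hdinv g⟩
    have hf : a * g⁻¹ ∈ (MulEquiv.toMonoidHom t).eqLocus (MonoidHom.id A) := by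
      refine (hmem _).2 ?_
      have e1 : t a = b * a := by rw [hb, inv_mul_cancel_right]
      have e2 : d⁻¹ (d⁻¹ g) = b * g := by rw [← hg', inv_mul_cancel_right]
      rw [map_mul, map_inv, htg, e1, e2, ← div_eq_mul_inv, ← div_eq_mul_inv, mul_div_mul_left_eq_div]
    rw [← inv_mul_cancel_right a g]
    exact mul_mem (mem_sup_left hf) (mem_sup_right hgF)

/-- An element of a p-power order acting trivially on a normal p'-subgroup and its quotient acts
trivially. -/
theorem commute_of_stable {G : Type*} [Group G] {Q0 : Subgroup G} {x q : G}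
    (hz : x * q * x⁻¹ * q⁻¹ ∈ Q0) (hfix : ∀ z ∈ Q0, x * z * x⁻¹ = z)
    (hcop : (orderOf x).Coprime (orderOf (x * q * x⁻¹ * q⁻¹))) : x * q = q * x := by
  set z := x * q * x⁻¹ * q⁻¹ with hzdef
  have hxq : x * q * x⁻¹ = z * q := by rw [hzdef, inv_mul_cancel_right]
  have key : ∀ j : ℕ, x ^ j * q * (x ^ j)⁻¹ = z ^ j * q := by
    intro j
    induction j with
    | zero => simp
    | succ j ih =>
      calc x ^ (j + 1) * q * (x ^ (j + 1))⁻¹ = x * (x ^ j * q * (x ^ j)⁻¹) * x⁻¹ := by
            rw [pow_succ']; group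
        _ = (x * z * x⁻¹) ^ j * (x * q * x⁻¹) := by rw [ih, conj_pow]; group
        _ = z ^ (j + 1) * q := by rw [hfix z hz, pow_succ, mul_assoc (z ^ j), ← hxq]
  have h1 := key (orderOf x)
  rw [pow_orderOf_eq_one, one_mul, inv_one, mul_one] at h1
  have hz1 : z = 1 := orderOf_eq_one_iff.1 (Nat.eq_one_of_dvd_coprimes hcop
    (orderOf_dvd_of_pow_eq_one (right_eq_mul.1 h1)) dvd_rfl)
  rw [hz1, one_mul] at hxq
  exact mul_inv_eq_iff_eq_mul.1 hxq

/-- In a p-solvable group a p'-subgroup normalizing a Sylow p-subgroup is centralized by the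
p-elements normalizing it. -/
theorem commute_of_normalizes_sylow {p : ℕ} [Fact p.Prime] : ∀ (n : ℕ) (G : Type*) [Group G] [Finite G],
    Nat.card G = n → Cfsg.IsPSolvable p G → ∀ (P : Sylow p G) (Q : Subgroup G), (Nat.card Q).Coprime p →
    Q ≤ normalizer ((P : Subgroup G) : Set G) → ∀ x ∈ normalizer (Q : Set G), (∃ k, x ^ p ^ k = 1) →
    ∀ q ∈ Q, x * q = q * x := by
  intro n
  induction n using Nat.strong_induction_on with
  | _ n ih =>
    intro G _ _ hn hG P Q hQ hQP x hx hxk q hq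
    subst hn
    obtain ⟨k, hk⟩ := hxk
    rcases subsingleton_or_nontrivial G with h1 | h1
    · exact Subsingleton.elim _ _
    -- a normal subgroup
    obtain ⟨N, hNn, hN1, hN⟩ : ∃ N : Subgroup G, N.Normal ∧ N ≠ ⊥ ∧
        (IsPGroup p N ∨ (Nat.card N).Coprime p) := by
      rcases PConstrained.exists_core_ne_bot hG with h | h
      · exact ⟨_, Solvable.pCore_normal p, h, Or.inl (Solvable.isPGroup_pCore p)⟩
      · exact ⟨_, Solvable.pPrimeCore_normal p, h, Or.inr (Solvable.coprime_card_pPrimeCore p)⟩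
    haveI := hNn
    set π := QuotientGroup.mk' N with hπ
    have hπs := QuotientGroup.mk'_surjective N
    have hz : x * q * x⁻¹ * q⁻¹ ∈ Q ⊓ N := by
      refine ⟨Q.mul_mem ((mem_normalizer_iff.1 hx q).1 hq) (Q.inv_mem hq), ?_⟩
      refine (QuotientGroup.eq_one_iff _).1 ?_
      show π (x * q * x⁻¹ * q⁻¹) = 1
      have hlt : Nat.card (G ⧸ N) < Nat.card G := Solvable.card_quotient_lt hN1
      have h2 := ih _ hlt (G ⧸ N) rfl (PConstrained.isPSolvable_map π hπs hG) (P.mapSurjective hπs) (Q.map π)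
        (hQ.coprime_dvd_left (Subgroup.card_map_dvd _ _)) (by
          rw [Sylow.coe_mapSurjective]
          exact (map_mono hQP).trans (le_normalizer_map π)) (π x)
        (le_normalizer_map π ⟨x, hx, rfl⟩) ⟨k, by rw [← map_pow, hk, map_one]⟩ (π q) (mem_map_of_mem π hq)
      rw [map_mul, map_mul, map_mul, map_inv, map_inv, h2, mul_inv_cancel_right, mul_inv_cancel]
    have hcop : ∀ z ∈ Q, (orderOf x).Coprime (orderOf z) := fun z hz => by
      refine Nat.Coprime.coprime_dvd_left (orderOf_dvd_of_pow_eq_one hk) ?_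
      exact ((hQ.coprime_dvd_left (Q.orderOf_dvd_natCard hz)).pow_right k).symm
    rcases hN with hN | hN
    · have h0 : Q ⊓ N = ⊥ := by
        refine (Subgroup.eq_bot_iff_forall _).2 fun y hy => orderOf_eq_one_iff.1 ?_
        obtain ⟨j, hj⟩ := hN ⟨y, hy.2⟩
        exact Nat.eq_one_of_dvd_coprimes ((hQ.coprime_dvd_left (Q.orderOf_dvd_natCard hy.1)).pow_right j)
          dvd_rfl (orderOf_dvd_of_pow_eq_one (congrArg Subtype.val hj))
      rw [h0, mem_bot] at hz
      exact mul_inv_eq_iff_eq_mul.1 (mul_inv_eq_one.1 hz)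
    set Q0 := Q ⊓ N with hQ0
    -- `Q0` centralizes the Sylow subgroup
    have hPQ0 : (P : Subgroup G) ≤ centralizer (Q0 : Set G) := by
      intro y hy
      refine mem_centralizer_iff.2 fun z hzQ => ?_
      have h2 : z * y * z⁻¹ * y⁻¹ ∈ (P : Subgroup G) ⊓ N :=
        ⟨(P : Subgroup G).mul_mem ((mem_normalizer_iff.1 (hQP hzQ.1) y).1 hy) ((P : Subgroup G).inv_mem hy), by
          rw [show z * y * z⁻¹ * y⁻¹ = z * (y * z⁻¹ * y⁻¹) by group]
          exact N.mul_mem hzQ.2 (hNn.conj_mem _ (N.inv_mem hzQ.2) y)⟩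
      obtain ⟨j, hj⟩ := P.2 ⟨_, h2.1⟩
      exact mul_inv_eq_iff_eq_mul.1 (mul_inv_eq_one.1 (orderOf_eq_one_iff.1
        (Nat.eq_one_of_dvd_coprimes ((hN.coprime_dvd_left (N.orderOf_dvd_natCard h2.2)).pow_right j)
          dvd_rfl (orderOf_dvd_of_pow_eq_one (congrArg Subtype.val hj)))))
    have hxN : x ∈ normalizer (Q0 : Set G) := mem_normalizer_iff.2 fun y =>
      and_congr (mem_normalizer_iff.1 hx y)
        ⟨fun h => hNn.conj_mem y h x, fun h => by simpa [mul_assoc] using hNn.conj_mem _ h x⁻¹⟩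
    have hxC : x ∈ centralizer (Q0 : Set G) := by
      set N0 := normalizer (Q0 : Set G) with hN0
      set C0 := (centralizer (Q0 : Set G)).subgroupOf N0 with hC0
      haveI : C0.Normal := inferInstance
      have hidx : ¬ p ∣ C0.index := fun hd => P.not_dvd_index
        (hd.trans ((relIndex_dvd_of_le_left N0 hPQ0).trans
          (relIndex_dvd_index_of_le (hPQ0.trans (centralizer_le_normalizer _)))))
      have h2 : orderOf (QuotientGroup.mk' C0 (⟨x, hxN⟩ : N0)) ∣ C0.index := by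
        rw [index_eq_card]; exact orderOf_dvd_natCard _
      have h3 : orderOf (QuotientGroup.mk' C0 (⟨x, hxN⟩ : N0)) ∣ p ^ k := by
        refine orderOf_dvd_of_pow_eq_one ?_
        rw [← map_pow, show (⟨x, hxN⟩ : N0) ^ p ^ k = 1 from Subtype.ext hk, map_one]
      have h4 := Nat.eq_one_of_dvd_coprimes
        (((Fact.out : p.Prime).coprime_iff_not_dvd.2 hidx).pow_left k) h3 h2
      exact mem_subgroupOf.1 ((QuotientGroup.eq_one_iff (N := C0) (⟨x, hxN⟩ : N0)).1 (orderOf_eq_one_iff.1 h4))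
    exact commute_of_stable hz (fun z hzQ => mul_inv_eq_iff_eq_mul.2 (mem_centralizer_iff.1 hxC z hzQ).symm)
      (hcop _ hz.1)

theorem no_sylow_normalized {G : Type*} [Group G] [Finite G] {p : ℕ} [Fact p.Prime]
    (hG : Cfsg.IsPSolvable p G) (Q : Subgroup G) (hQ : ¬ p ∣ Nat.card Q)
    (hA : p ∣ (centralizer (Q : Set G)).relIndex (normalizer (Q : Set G)))
    (P : Sylow p G) : ¬ Q ≤ normalizer ((P : Subgroup G) : Set G) := by
  intro hQP
  obtain ⟨T, hT⟩ := exists_sylowIn (p := p) (normalizer (Q : Set G))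
  have hTC : T ≤ centralizer (Q : Set G) := fun x hx => by
    obtain ⟨k, hk⟩ := hT.isPGroup ⟨x, hx⟩
    exact mem_centralizer_iff.2 fun q hq => (commute_of_normalizes_sylow _ G rfl hG P Q
      ((Fact.out : p.Prime).coprime_iff_not_dvd.2 hQ).symm hQP x (hT.le hx)
      ⟨k, congrArg Subtype.val hk⟩ q hq).symm
  exact hT.2.2 (hA.trans (relIndex_dvd_of_le_left _ hTC))

/-- Groups of exponent four in class two with elementary commutator subgroup. -/
theorem omega_two {X : Type*} [Group X] [Finite X] (hX : IsPGroup 2 X)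
    (hel : Cfsg.IsElementaryAbelian 2 (commutator X)) (hcen : commutator X ≤ center X) :
    (∀ x ∈ closure {g : X | g ^ 4 = 1}, x ^ 4 = 1) ∧
      ∀ φ : MulAut X, (∀ g : X, g ^ 4 = 1 → φ g = g) → ∃ k : ℕ, φ ^ (2 ^ k) = 1 := by
  have hc : ∀ a b : X, a * b * a⁻¹ * b⁻¹ ∈ commutator X := fun a b =>
    commutator_mem_commutator (mem_top a) (mem_top b)
  have hc2 : ∀ a b : X, (a * b * a⁻¹ * b⁻¹) * (a * b * a⁻¹ * b⁻¹) = 1 := fun a b => by
    rw [← pow_two]; exact hel.2 _ (hc a b)
  have hcz : ∀ a b g : X, g * (a * b * a⁻¹ * b⁻¹) = (a * b * a⁻¹ * b⁻¹) * g := fun a b g =>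
    mem_center_iff.1 (hcen (hc a b)) g
  -- squares
  have hsq : ∀ a b : X, (a * b) * (a * b) = (b * a * b⁻¹ * a⁻¹) * (a * a * (b * b)) := by
    intro a b
    calc (a * b) * (a * b) = a * (b * a * b⁻¹ * a⁻¹) * (a * (b * b)) := by group
      _ = (b * a * b⁻¹ * a⁻¹) * a * (a * (b * b)) := by rw [hcz b a a]
      _ = _ := by group
  -- squares are central
  have hcen2 : ∀ u v g : X, g * v * g⁻¹ * v⁻¹ = u → (∀ h : X, h * u = u * h) → u * u = 1 →
      g * (v * v) = v * v * g := by
    intro u v g hu huc hu2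
    have e : g * v = u * (v * g) := by rw [← hu]; group
    calc g * (v * v) = g * v * v := (mul_assoc _ _ _).symm
      _ = u * (v * g) * v := by rw [e]
      _ = u * v * (g * v) := by group
      _ = u * v * (u * (v * g)) := by rw [e]
      _ = u * (v * u) * v * g := by group
      _ = u * (u * v) * v * g := by rw [huc v]
      _ = u * u * (v * v * g) := by group
      _ = v * v * g := by rw [hu2, one_mul]
  have hsqc : ∀ a g : X, g * (a * a) = a * a * g := fun a g =>
    hcen2 _ a g rfl (fun h => hcz g a h) (hc2 g a)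
  have h4 : ∀ a : X, a ^ 4 = (a * a) * (a * a) := fun a => by
    rw [pow_succ, pow_succ, pow_succ, pow_one, mul_assoc (a * a)]
  have hgen : ∀ u v w : X, (∀ h : X, h * u = u * h) → u * u = 1 → (∀ h : X, h * v = v * h) →
      u * (v * w) * (u * (v * w)) = v * v * (w * w) := by
    intro u v w huc hu2 hvc
    calc u * (v * w) * (u * (v * w)) = u * ((v * w) * u) * (v * w) := by group
      _ = u * (u * (v * w)) * (v * w) := by rw [huc (v * w)]
      _ = u * u * (v * (w * v) * w) := by group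
      _ = v * (v * w) * w := by rw [hu2, one_mul, hvc w]
      _ = v * v * (w * w) := by group
  refine ⟨fun x hx => ?_, fun φ hφ => ?_⟩
  · induction hx using closure_induction with
    | mem y hy => exact hy
    | one => exact one_pow 4
    | mul a b _ _ ha hb =>
      rw [h4, hsq a b, hgen _ _ _ (fun h => hcz b a h) (hc2 b a) (fun h => hsqc a h), ← h4, ← h4, ha, hb,
        one_mul]
    | inv a _ ha => rw [inv_pow, ha, inv_one]
  · haveI : Finite (MulAut X) := Finite.of_injective (fun f : MulAut X => (f : X → X)) DFunLike.coe_injective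
    obtain ⟨e, m, hm, hord⟩ := Nat.exists_eq_pow_mul_and_not_dvd (orderOf_pos φ).ne' 2 (by norm_num)
    refine ⟨e, ?_⟩
    set ψ := φ ^ 2 ^ e with hψ
    have hψm : ψ ^ m = 1 := by rw [hψ, ← pow_mul, ← hord, pow_orderOf_eq_one]
    have hψfix : ∀ g : X, g ^ 4 = 1 → ψ g = g := by
      intro g hg
      have : ∀ j : ℕ, (φ ^ j) g = g := fun j => by
        induction j with
        | zero => simp
        | succ j ih => rw [pow_succ, MulAut.mul_apply, hφ g hg, ih]
      exact this _
    have key : ∀ (k : ℕ) (x : X), x ^ 2 ^ k = 1 → ψ x = x := by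
      intro k
      induction k with
      | zero => intro x hx; rw [pow_zero, pow_one] at hx; rw [hx, map_one]
      | succ k ih =>
        intro x hx
        have hx2 : ψ (x * x) = x * x := ih _ (by rw [← pow_two, ← pow_mul, ← pow_succ']; exact hx)
        set z := x⁻¹ * ψ x with hz
        have hz4 : z ^ 4 = 1 := by
          have h2 : z * z = ψ x * x⁻¹ * (ψ x)⁻¹ * x⁻¹⁻¹ := by
            rw [hz, hsq, show x⁻¹ * x⁻¹ * (ψ x * ψ x) = 1 by
              rw [← map_mul, hx2, ← mul_inv_rev, inv_mul_cancel], mul_one]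
          rw [h4, h2]
          exact hc2 _ _
        have hzf := hψfix z hz4
        have hψx : ψ x = x * z := by rw [hz, mul_inv_cancel_left]
        have hj : ∀ j : ℕ, (ψ ^ j) x = x * z ^ j := by
          intro j
          induction j with
          | zero => simp
          | succ j ihj =>
            rw [pow_succ', MulAut.mul_apply, ihj, map_mul, map_pow, hzf, hψx, mul_assoc, ← pow_succ']
        have h1 := hj m
        rw [hψm, MulAut.one_apply] at h1
        have hzm : z ^ m = 1 := mul_eq_left.1 h1.symm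
        have hz1 : z = 1 := orderOf_eq_one_iff.1 (Nat.eq_one_of_dvd_coprimes (a := m) (b := 2 ^ 2)
          ((Nat.coprime_two_right.2 (Nat.odd_iff.2 (Nat.two_dvd_ne_zero.1 hm))).pow_right 2)
          (orderOf_dvd_of_pow_eq_one hzm) (orderOf_dvd_of_pow_eq_one hz4))
        exact (inv_mul_eq_one.1 hz1).symm
    refine MulEquiv.ext fun x => ?_
    obtain ⟨k, hk⟩ := hX x
    exact key k x hk

end CfsgLib.Kinf
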