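import Cfsg.Prelude.Def_FusionSystem
import Cfsg.Agent.ZJ.Constrained
import Cfsg.Agent.Transfer.Basic
import Cfsg.Agent.Solvable.Fitting

/-!
Centric subgroups in groups, and p-length one groups.
-/

set_option autoImplicit false
set_option linter.style.haveILetI false

namespace CfsgLib.Kinf

open Subgroup CfsgLib.Functor
open scoped CfsgLib.Functor

variable {G : Type*} [Group G] [Finite G] {p : ℕ} [Fact p.Prime]

/-- A group with central Sylow p-subgroup is the product of it and the p'-core. -/
theorem sup_pPrimeCore_of_central {X : Type*} [Group X] [Finite X] (T : Sylow p X)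
    (hT : (T : Subgroup X) ≤ center X) : (T : Subgroup X) ⊔ Cfsg.pPrimeCore p X = ⊤ := by
  have hN : Cfsg.HasNormalPComplement p X :=
    TransferBasic.hasNormalPComplement_of_le_centralizer T
      (fun n _ => mem_centralizer_iff.2 fun t ht => (mem_center_iff.1 (hT ht) n).symm)
  rw [PResidual.hasNormalPComplement_iff] at hN
  have hc := (PResidual.isComplement'_of_coprime_pResidual hN T).sup_eq_top
  have hle : Cfsg.pResidual p X ≤ Cfsg.pPrimeCore p X :=
    Solvable.le_pPrimeCore p inferInstance hN
  exact top_le_iff.1 (hc.ge.trans ((sup_le_sup_right hle _).trans (sup_comm _ _).le))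

omit [Finite G] in
theorem eq_one_of_pGroup_coprime {H K : Subgroup G} (hH : IsPGroup p H) (hK : (Nat.card K).Coprime p)
    {x : G} (hx : x ∈ H) (hxK : x ∈ K) : x = 1 := by
  obtain ⟨k, hk⟩ := hH ⟨x, hx⟩
  exact orderOf_eq_one_iff.1 (Nat.eq_one_of_dvd_coprimes (hK.pow_right k) (K.orderOf_dvd_natCard hxK)
    (orderOf_dvd_of_pow_eq_one (congrArg Subtype.val hk)))

theorem isCentric_iff_directProduct (P : Sylow p G) (Q : Subgroup G) (hQ : Q ≤ P) :
    (Cfsg.groupFusionSystem (P : Subgroup G)).IsCentric Q ↔
      Cfsg.IsInternalDirectProduct (Q ⊓ centralizer (Q : Set G))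
        ((Cfsg.pPrimeCore p ↥(centralizer (Q : Set G))).map (centralizer (Q : Set G)).subtype)
        (centralizer (Q : Set G)) := by
  set C := centralizer (Q : Set G) with hC
  set O := (Cfsg.pPrimeCore p C).map C.subtype with hO
  have hQp : IsPGroup p Q := P.2.to_le hQ
  have hOc : (Nat.card O).Coprime p := by
    rw [hO, card_map_of_injective C.subtype_injective]; exact Solvable.coprime_card_pPrimeCore p
  have hconj : ∀ R : Subgroup G, (Cfsg.groupFusionSystem (P : Subgroup G)).IsConj Q R ↔
      ∃ g : G, g ⋆ Q = R ∧ R ≤ P := by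
    intro R
    constructor
    · rintro ⟨φ, ⟨-, hφS, g, hg⟩, rfl⟩
      refine ⟨g, le_antisymm (cj_le_iff.2 fun x hx => ⟨⟨x, hx⟩, hg _⟩) ?_, ?_⟩
      · rintro _ ⟨x, rfl⟩; rw [hg]; exact conj_mem_cj x.2
      · rintro _ ⟨x, rfl⟩; exact hφS x
    · rintro ⟨g, rfl, hR⟩
      refine ⟨(MulAut.conj g).toMonoidHom.comp Q.subtype,
        ⟨hQ, fun x => hR (conj_mem_cj x.2), g, fun x => rfl⟩, ?_⟩
      rw [MonoidHom.range_comp, range_subtype]
  constructor
  · rintro ⟨-, hcen⟩
    obtain ⟨T⟩ := (inferInstance : Nonempty (Sylow p C))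
    set T' := (T : Subgroup C).map C.subtype with hT'
    have hTQ : T' ≤ Q := by
      have hTC : T' ≤ C := map_subtype_le _
      have hp : IsPGroup p ↥(Q ⊔ T' : Subgroup G) := by
        refine hQp.to_sup_of_normal_left' (T.2.map _) ?_
        exact hTC.trans (centralizer_le_normalizer _)
      obtain ⟨h, -, hh⟩ := (isSylowIn_top P).exists_cj_le hp le_top
      rw [Subgroup.map_sup] at hh
      have hle := hcen (h ⋆ Q) ((hconj _).2 ⟨h, rfl, le_sup_left.trans hh⟩)
      refine cj_le_cj_iff.1 (le_trans (le_inf (le_sup_right.trans hh) ?_) hle)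
      rw [hC] at hTC
      exact (cj_mono h hTC).trans (cj_centralizer h Q).le
    have hcent : (T : Subgroup C) ≤ center C := fun t ht => mem_center_iff.2 fun c => Subtype.ext
      (mem_centralizer_iff.1 c.2 t (hTQ ⟨t, ht, rfl⟩)).symm
    have hsup := congrArg (fun K : Subgroup C => K.map C.subtype) (sup_pPrimeCore_of_central T hcent)
    simp only [Subgroup.map_sup] at hsup
    rw [← MonoidHom.range_eq_map, range_subtype] at hsup
    refine ⟨inf_le_right, map_subtype_le _, fun a ha b hb => ?_, ?_, le_antisymm (sup_le inf_le_right (map_subtype_le _)) ?_⟩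
    · exact mem_centralizer_iff.1 (map_subtype_le _ hb) a ha.1
    · exact (Subgroup.eq_bot_iff_forall _).2 fun x hx => eq_one_of_pGroup_coprime hQp hOc hx.1.1 hx.2
    · exact hsup.ge.trans (sup_le_sup_right (le_inf hTQ (map_subtype_le _)) _)
  · rintro ⟨-, -, hcomm, -, hsup⟩
    refine ⟨hQ, fun R hR => ?_⟩
    obtain ⟨g, rfl, -⟩ := (hconj R).1 hR
    intro x hx
    have hxC : g⁻¹ * x * g ∈ C := by
      have h2 := cj_centralizer g Q
      exact mem_cj.1 (h2.ge hx.2)
    have hmem := hsup.ge hxC
    obtain ⟨z, hz, o, ho, hzo⟩ := (Solvable.mem_sup_of_le_normalizer (A := Q ⊓ C) (K := O) (fun a ha => by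
      refine centralizer_le_normalizer _ (mem_centralizer_iff.2 fun b hb => ?_)
      exact (hcomm a ha b hb).symm)).1 hmem
    obtain ⟨j, hj⟩ := P.2 ⟨x, hx.1⟩
    obtain ⟨i, hi⟩ := hQp ⟨z, hz.1⟩
    have hxp : (g⁻¹ * x * g) ^ p ^ (i + j) = 1 := by
      have := conj_pow (a := g⁻¹) (b := x) (i := p ^ (i + j))
      rw [inv_inv] at this
      rw [this, pow_add, pow_mul', congrArg Subtype.val hj |> (fun h => (by simpa using h : x ^ p ^ j = 1)),
        one_pow, mul_one, inv_mul_cancel]
    have hzp : z ^ p ^ (i + j) = 1 := by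
      rw [pow_add, pow_mul, (by simpa using congrArg Subtype.val hi : z ^ p ^ i = 1), one_pow]
    have hop : o ^ p ^ (i + j) = 1 := by
      have := (show Commute z o from hcomm z hz o ho).mul_pow (p ^ (i + j))
      rwa [hzo, hxp, hzp, one_mul, eq_comm] at this
    have ho1 : o = 1 := orderOf_eq_one_iff.1 (Nat.eq_one_of_dvd_coprimes (hOc.pow_right (i + j))
      (O.orderOf_dvd_natCard ho) (orderOf_dvd_of_pow_eq_one hop))
    rw [ho1, mul_one] at hzo
    exact mem_cj.2 (hzo ▸ hz.1)

theorem sylow_normalizer_sup_iff (S : Sylow p G) :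
    normalizer ((S : Subgroup G) : Set G) ⊔ Cfsg.pPrimeCore p G = ⊤ ↔
      (Cfsg.IsPConstrained p G ∧
        ∀ Q : Subgroup G, Q ≤ (S : Subgroup G) → ∀ g : G, Q.map (MulAut.conj g).toMonoidHom ≤ (S : Subgroup G) →
          ∃ n ∈ normalizer ((S : Subgroup G) : Set G), ∃ c ∈ centralizer (Q : Set G), g = n * c) := by
  set O := Cfsg.pPrimeCore p G with hO
  haveI : O.Normal := Solvable.pPrimeCore_normal p
  have hOc : (Nat.card O).Coprime p := Solvable.coprime_card_pPrimeCore p
  set H := Cfsg.pPrimePCore p G with hH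
  haveI hHn : H.Normal := by rw [hH]; exact Normal.comap inferInstance _
  have hOH : O ≤ H := fun x hx => by
    rw [hH, Cfsg.pPrimePCore, mem_comap, show QuotientGroup.mk' (Cfsg.pPrimeCore p G) x = 1 from
      (QuotientGroup.eq_one_iff x).2 hx]
    exact one_mem _
  constructor
  · intro htop
    have hdec : ∀ g : G, ∃ n ∈ normalizer ((S : Subgroup G) : Set G), ∃ o ∈ O, n * o = g := fun g =>
      (Solvable.mem_sup_of_le_normalizer le_normalizer_of_normal).1 (htop.ge (mem_top g))
    refine ⟨?_, fun Q hQS g hg => ?_⟩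
    · -- `S O` is normal
      set K := (S : Subgroup G) ⊔ O with hK
      haveI hKn : K.Normal := normalizer_eq_top_iff.1 (eq_top_iff.2 (htop.ge.trans
        (sup_le (fun n hn => mem_normalizer_iff_cj.2 (by
          rw [hK, Subgroup.map_sup, mem_normalizer_iff_cj.1 hn, mem_normalizer_iff_cj.1 (le_normalizer_of_normal (mem_top n))]))
          ((le_sup_right : O ≤ K).trans le_normalizer))))
      have hKH : K ≤ H := by
        refine sup_le ?_ hOH
        haveI : (K.map (QuotientGroup.mk' O)).Normal := hKn.map _ (QuotientGroup.mk'_surjective O)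
        have h1 : IsPGroup p (K.map (QuotientGroup.mk' O)) := by
          rw [hK, Subgroup.map_sup, QuotientGroup.map_mk'_self, sup_bot_eq]
          exact S.2.map _
        have h2 := Solvable.le_pCore p inferInstance h1
        intro x hx
        exact h2 (mem_map_of_mem _ (mem_sup_left hx))
      -- the centralizer of `S`
      have hCS : centralizer ((S : Subgroup G) : Set G) ≤ H := by
        set C := centralizer ((S : Subgroup G) : Set G) with hC
        obtain ⟨T⟩ := (inferInstance : Nonempty (Sylow p C))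
        set T' := (T : Subgroup C).map C.subtype
        have hTS : T' ≤ (S : Subgroup G) := by
          have hp : IsPGroup p ↥((S : Subgroup G) ⊔ T' : Subgroup G) := S.2.to_sup_of_normal_left' (T.2.map _)
            ((map_subtype_le _).trans (centralizer_le_normalizer _))
          exact le_sup_right.trans (S.3 hp le_sup_left).le
        have hcent : (T : Subgroup C) ≤ center C := fun t ht => mem_center_iff.2 fun c => Subtype.ext
          (mem_centralizer_iff.1 c.2 t (hTS ⟨t, ht, rfl⟩)).symm
        have hsup := congrArg (fun K : Subgroup C => K.map C.subtype) (sup_pPrimeCore_of_central T hcent)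
        simp only [Subgroup.map_sup] at hsup
        rw [← MonoidHom.range_eq_map, range_subtype] at hsup
        set W := (Cfsg.pPrimeCore p C).map C.subtype with hW
        have hWn : normalizer ((S : Subgroup G) : Set G) ≤ normalizer (W : Set G) := by
          intro n hn
          have hn' : n ∈ normalizer (C : Set G) := by
            rw [mem_normalizer_iff_cj, hC, cj_centralizer, mem_normalizer_iff_cj.1 hn]
          haveI : (Cfsg.pPrimeCore p C).Characteristic := by
            rw [characteristic_iff_map_le]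
            intro φ
            exact Solvable.le_pPrimeCore p ((Solvable.pPrimeCore_normal p).map _ φ.surjective)
              ((Solvable.coprime_card_pPrimeCore p).coprime_dvd_left (card_map_dvd _ _))
          refine mem_normalizer_iff_cj.2 (eq_of_le_of_card_le' (cj_le_iff.2 ?_) (card_cj _ _).ge)
          rintro _ ⟨w, hw, rfl⟩
          exact ⟨C.normalizerMonoidHom ⟨n, hn'⟩ w,
            characteristic_iff_le_comap.1 inferInstance (C.normalizerMonoidHom ⟨n, hn'⟩) hw, rfl⟩
        set M := W ⊔ O with hM
        haveI hMn : M.Normal := normalizer_eq_top_iff.1 (eq_top_iff.2 (htop.ge.trans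
          (sup_le (fun n hn => mem_normalizer_iff_cj.2 (by
            rw [hM, Subgroup.map_sup, mem_normalizer_iff_cj.1 (hWn hn), mem_normalizer_iff_cj.1 (le_normalizer_of_normal (mem_top n))]))
            ((le_sup_right : O ≤ M).trans le_normalizer))))
        have hMc : (Nat.card M).Coprime p := by
          have h1 := Solvable.card_sup_dvd (A := W) (K := O) le_normalizer_of_normal
          refine Nat.Coprime.coprime_dvd_left h1 (Nat.Coprime.mul_left ?_ hOc)
          rw [hW, card_map_of_injective C.subtype_injective]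
          exact Solvable.coprime_card_pPrimeCore p
        have hWO : W ≤ O := le_sup_left.trans (Solvable.le_pPrimeCore p hMn hMc)
        exact hsup.ge.trans (sup_le (hTS.trans (le_sup_left.trans hKH)) (hWO.trans hOH))
      intro P
      obtain ⟨g, -, hg⟩ := (isSylowIn_map_subtype P).exists_cj_eq
        ((isSylowIn_top S).of_le (le_sup_left.trans hKH) le_top)
      rw [← hg, ← cj_centralizer]
      exact (cj_mono g hCS).trans (mem_normalizer_iff_cj.1 (le_normalizer_of_normal (mem_top g) : g ∈ normalizer (H : Set G))).le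
    · obtain ⟨n, hn, o, ho, rfl⟩ := hdec g
      refine ⟨n, hn, o, mem_centralizer_iff.2 fun q hq => ?_, rfl⟩
      have h1 : n * o * q * (n * o)⁻¹ ∈ (S : Subgroup G) := hg (conj_mem_cj hq)
      have h2 : o * q * o⁻¹ ∈ (S : Subgroup G) := by
        refine (mem_normalizer_iff.1 hn _).2 ?_
        simpa [mul_assoc] using h1
      have h3 : o * q * o⁻¹ * q⁻¹ = 1 := eq_one_of_pGroup_coprime S.2 hOc
        ((S : Subgroup G).mul_mem h2 ((S : Subgroup G).inv_mem (hQS hq)))
        (by rw [show o * q * o⁻¹ * q⁻¹ = o * (q * o⁻¹ * q⁻¹) by group]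
            exact O.mul_mem ho ((inferInstance : O.Normal).conj_mem _ (O.inv_mem ho) q))
      exact (mul_inv_eq_iff_eq_mul.1 (mul_inv_eq_one.1 h3)).symm
  · rintro ⟨hcon, hctrl⟩
    obtain ⟨P⟩ := (inferInstance : Nonempty (Sylow p H))
    set U := (S : Subgroup G) ⊓ H with hU
    have hUs : IsSylowIn p U H := by
      have := (isSylowIn_top S).inf_normal (N := H) le_top (by exact le_normalizer_of_normal)
      exact this
    obtain ⟨c₀, -, hc₀⟩ := (isSylowIn_map_subtype P).exists_cj_eq hUs
    have hCU : centralizer (U : Set G) ≤ H := by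
      have h1 := hcon P
      rw [← hc₀, ← cj_centralizer, ← hH,
        ← mem_normalizer_iff_cj.1 (le_normalizer_of_normal (mem_top c₀) : c₀ ∈ normalizer (H : Set G))] at h1
      exact cj_le_cj_iff.1 h1
    have hHle : H ≤ normalizer ((S : Subgroup G) : Set G) ⊔ O := by
      intro x hx
      have hxm : QuotientGroup.mk' O x ∈ Cfsg.pCore p (G ⧸ O) := hx
      have h1 : Cfsg.pCore p (G ⧸ O) ≤ (S : Subgroup G).map (QuotientGroup.mk' O) := by
        have := Fitting.pCore_le_sylow (S.mapSurjective (QuotientGroup.mk'_surjective O))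
        rwa [Sylow.coe_mapSurjective] at this
      obtain ⟨s, hs, hsx⟩ := h1 hxm
      rw [show x = s * (s⁻¹ * x) by group]
      exact mul_mem (mem_sup_left (le_normalizer hs)) (mem_sup_right ((QuotientGroup.eq).1 hsx))
    refine eq_top_iff.2 fun g _ => ?_
    obtain ⟨m, hm, hmg⟩ := hUs.exists_cj_eq (hUs.cj_of_mem (le_normalizer_of_normal (mem_top g)))
    rw [cj_cj] at hmg
    obtain ⟨n, hn, c, hc, he⟩ := hctrl U inf_le_left (m * g) (hmg.le.trans inf_le_left)
    rw [show g = m⁻¹ * (m * g) by group, he]
    exact mul_mem (inv_mem (hHle hm)) (mul_mem (mem_sup_left hn) (hHle (hCU hc)))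

end CfsgLib.Kinf
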