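import Cfsg.Prelude.Def_EvenTechniques
import Cfsg.Agent.Comp.Layer
import Cfsg.Agent.Comp.PComponent
import Cfsg.Agent.LocalB.CharP
import Cfsg.Agent.Kinf.CentricSylow
import Cfsg.Agent.Solvable.PGroupBasic
import Cfsg.Agent.Coprime.Sylow
import Cfsg.Agent.Signalizer.Basic

/-!
Local balance: in a group `G` with `O_{p'}(G) = 1` an element `x` of `O_{p'}(C(R))`, `R` a
`p`-group, normalizes every component and is controlled by the automorphism group of each.
-/

set_option autoImplicit false
set_option linter.unusedSectionVars false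
set_option linter.deprecated false
set_option linter.style.haveILetI false

namespace CfsgLib.LocalBalance

open Subgroup
open scoped commutatorElement

variable {G : Type*} [Group G] [Finite G] {p : ℕ} [Fact p.Prime]

/-! ### Cores of subgroups -/

/-- `O_{p'}(V)` as a subgroup of the ambient group. -/
def core (p : ℕ) (V : Subgroup G) : Subgroup G := (Cfsg.pPrimeCore p V).map V.subtype

theorem core_le (V : Subgroup G) : core p V ≤ V := map_subtype_le _

theorem coprime_core (V : Subgroup G) : (Nat.card (core p V)).Coprime p := by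
  rw [core, card_map_of_injective V.subtype_injective]
  exact Solvable.coprime_card_pPrimeCore p

theorem normalizer_le_normalizer_core (V : Subgroup G) :
    normalizer (V : Set G) ≤ normalizer (core p V : Set G) := fun _ hg =>
  mem_normalizer_iff_map_conj_eq.2 (eq_of_le_of_card_ge (PComp.conj_pPrimeCore_map_le hg)
    (card_map_of_injective (MulAut.conj _).injective).ge)

theorem le_core {N V : Subgroup G} (hNV : N ≤ V) (hn : V ≤ normalizer (N : Set G))
    (hc : (Nat.card N).Coprime p) : N ≤ core p V := by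
  rw [core, ← map_subgroupOf_eq_of_le hNV]
  refine map_mono (Solvable.le_pPrimeCore p ((normal_subgroupOf_iff_le_normalizer hNV).2 hn) ?_)
  rwa [Nat.card_congr (subgroupOfEquivOfLe hNV).toEquiv]

theorem eq_one_of_coprime {N : Subgroup G} (hc : (Nat.card N).Coprime p) {x : G} (hx : x ∈ N)
    {k : ℕ} (hk : x ^ p ^ k = 1) : x = 1 :=
  orderOf_eq_one_iff.1 (Nat.eq_one_of_dvd_coprimes (hc.pow_right k)
    (orderOf_dvd_natCard N hx) (orderOf_dvd_of_pow_eq_one hk))

theorem centralizer_zpowers_eq (b : G) :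
    centralizer ((zpowers b : Subgroup G) : Set G) = centralizer {b} := by
  rw [zpowers_eq_closure, centralizer_closure]

theorem isPGroup_zpowers {b : G} {k : ℕ} (hb : b ^ p ^ k = 1) : IsPGroup p (zpowers b) := by
  rintro ⟨g, hg⟩
  obtain ⟨m, rfl⟩ := mem_zpowers_iff.1 hg
  refine ⟨k, Subtype.ext ?_⟩
  simp only [SubgroupClass.coe_pow, OneMemClass.coe_one]
  rw [← zpow_natCast, zpow_comm, zpow_natCast, hb, one_zpow]

/-- `O_{p'}(C(b))` covers into `O_{p'}` of the centralizer in a quotient by a `p'`-group. -/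
theorem mem_core_quotient {O : Subgroup G} [O.Normal] (hO : (Nat.card O).Coprime p)
    {R : Subgroup G} (hR : IsPGroup p R) {x : G} (hx : x ∈ core p (centralizer (R : Set G))) :
    QuotientGroup.mk' O x ∈
      core p (centralizer ((R.map (QuotientGroup.mk' O) : Subgroup (G ⧸ O)) : Set (G ⧸ O))) := by
  set f := QuotientGroup.mk' O
  refine le_core (N := (core p (centralizer (R : Set G))).map f) ?_ ?_
    ((coprime_core _).coprime_dvd_left (card_map_dvd _ _)) (mem_map_of_mem f hx)
  · rintro _ ⟨y, hy, rfl⟩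
    refine mem_centralizer_iff.2 ?_
    rintro _ ⟨r, hr, rfl⟩
    rw [← map_mul, ← map_mul, mem_centralizer_iff.1 (core_le _ hy) r hr]
  · intro q hq
    obtain ⟨g, rfl⟩ := QuotientGroup.mk'_surjective O q
    haveI := hR.isNilpotent
    obtain ⟨j, hj⟩ := IsPGroup.iff_card.1 hR
    obtain ⟨c, hc1, hc2⟩ := CfsgLib.Coprime.exists_commute_mem_coset R O le_normalizer_of_normal
      (hj ▸ (hO.pow_right j).symm) g (fun r hr => by
        rw [← QuotientGroup.ker_mk' O, MonoidHom.mem_ker]
        have h1 := mem_centralizer_iff.1 hq (f r) ⟨r, hr, rfl⟩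
        simp only [map_mul, map_inv]
        rw [show QuotientGroup.mk' O r * QuotientGroup.mk' O g =
          QuotientGroup.mk' O g * QuotientGroup.mk' O r from h1]
        group)
    have hce : f c = f g := by
      have : f (g⁻¹ * c) = 1 := (QuotientGroup.eq_one_iff _).2 hc2
      rw [map_mul, map_inv, inv_mul_eq_one] at this
      exact this.symm
    rw [show (QuotientGroup.mk' O g) = f c from hce.symm]
    exact le_normalizer_map f (mem_map_of_mem f
      (normalizer_le_normalizer_core _ (le_normalizer (mem_centralizer_iff.2 hc1))))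

theorem normalizer_le_normalizer_centralizer (H : Subgroup G) :
    normalizer (H : Set G) ≤ normalizer (centralizer (H : Set G) : Set G) := fun g hg => by
  refine mem_normalizer_iff_map_conj_eq.2
    (eq_of_le_of_card_ge ?_ (card_map_of_injective (MulAut.conj g).injective).ge)
  rintro _ ⟨y, hy, rfl⟩
  refine mem_centralizer_iff.2 fun h hh => ?_
  obtain ⟨u, hu, rfl⟩ : h ∈ H.map (MulAut.conj g).toMonoidHom := by
    have e : H.map (MulAut.conj g).toMonoidHom = H := mem_normalizer_iff_map_conj_eq.1 hg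
    rw [e]; exact hh
  show MulAut.conj g u * MulAut.conj g y = MulAut.conj g y * MulAut.conj g u
  rw [← map_mul, ← map_mul, mem_centralizer_iff.1 hy u hu]

omit [Finite G] in
theorem exists_ne_one {H : Subgroup G} (h : H ≠ ⊥) : ∃ x ∈ H, x ≠ 1 := by
  obtain ⟨⟨x, hx⟩, hne⟩ := ne_bot_iff_exists_ne_one.1 h
  exact ⟨x, hx, fun e => hne (Subtype.ext e)⟩

/-! ### The subgroup `U(R) = C(R) ∩ C(O_p(G))` -/

/-- `C(R) ∩ C(O_p(G))`. -/
def U (p : ℕ) (R : Subgroup G) : Subgroup G :=
  centralizer (R : Set G) ⊓ centralizer (Cfsg.pCore p G : Set G)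

theorem core_centralizer_le_U {R : Subgroup G} (hR : IsPGroup p R) :
    core p (centralizer (R : Set G)) ≤ U p R := by
  intro w hw
  have hwR := mem_centralizer_iff.1 (core_le _ hw)
  refine mem_inf.2 ⟨core_le _ hw, mem_centralizer_iff.2 fun r hr => ?_⟩
  refine ((LocalB.commute_of_pxq hR (Solvable.isPGroup_pCore p) le_normalizer_of_normal
    ((coprime_core _).coprime_dvd_left (orderOf_dvd_natCard _ hw))
    (le_normalizer_of_normal (mem_top w)) hwR ?_) r hr).eq.symm
  intro r hr hfix
  have hrC : r ∈ centralizer (R : Set G) := mem_centralizer_iff.2 hfix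
  have h1 : w * r * w⁻¹ * r⁻¹ ∈ core p (centralizer (R : Set G)) := by
    rw [show w * r * w⁻¹ * r⁻¹ = w * (r * w⁻¹ * r⁻¹) by group]
    refine mul_mem hw ?_
    exact (mem_normalizer_iff.1 (normalizer_le_normalizer_core _ (le_normalizer hrC)) _).1
      (inv_mem hw)
  have h2 : w * r * w⁻¹ * r⁻¹ ∈ Cfsg.pCore p G :=
    mul_mem ((inferInstance : (Cfsg.pCore p G).Normal).conj_mem r hr w) (inv_mem hr)
  obtain ⟨k, hk⟩ := (Solvable.isPGroup_pCore (G := G) p) ⟨_, h2⟩
  have h3 := eq_one_of_coprime (coprime_core _) h1 (congrArg Subtype.val hk)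
  have h4 : w * r = r * w := by
    have := mul_inv_eq_one.1 h3
    rwa [mul_inv_eq_iff_eq_mul] at this
  exact h4

theorem core_centralizer_le_core_U {R : Subgroup G} (hR : IsPGroup p R) :
    core p (centralizer (R : Set G)) ≤ core p (U p R) :=
  le_core (core_centralizer_le_U hR)
    (fun _ hu => normalizer_le_normalizer_core _ (le_normalizer hu.1)) (coprime_core _)

theorem mem_normalizer_U {R : Subgroup G} {d : G}
    (hd : ∀ r ∈ R, r⁻¹ * (d * r * d⁻¹) ∈ Cfsg.pCore p G) :
    d ∈ normalizer (U p R : Set G) := by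
  refine mem_normalizer_iff_map_conj_eq.2
    (eq_of_le_of_card_ge ?_ (card_map_of_injective (MulAut.conj d).injective).ge)
  rintro _ ⟨y, ⟨hyR, hyF⟩, rfl⟩
  show d * y * d⁻¹ ∈ U p R
  have hF : d * y * d⁻¹ ∈ centralizer (Cfsg.pCore p G : Set G) :=
    (inferInstance : (centralizer (Cfsg.pCore p G : Set G)).Normal).conj_mem y hyF d
  refine mem_inf.2 ⟨mem_centralizer_iff.2 fun r hr => ?_, hF⟩
  have c1 : Commute (d * r * d⁻¹) (d * y * d⁻¹) :=
    (show Commute r y from mem_centralizer_iff.1 hyR r hr).conj d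
  have c2 : Commute (r⁻¹ * (d * r * d⁻¹)) (d * y * d⁻¹) :=
    mem_centralizer_iff.1 hF _ (hd r hr)
  have c3 := c1.mul_left c2.inv_left
  rwa [mul_inv_rev, inv_inv, ← mul_assoc, mul_inv_cancel, one_mul] at c3

theorem mem_normalizer_core_U {R : Subgroup G} {d : G}
    (hd : ∀ r ∈ R, r⁻¹ * (d * r * d⁻¹) ∈ Cfsg.pCore p G) :
    d ∈ normalizer (core p (U p R) : Set G) :=
  normalizer_le_normalizer_core _ (mem_normalizer_U hd)

theorem mem_normalizer_core_U_of_commute {R : Subgroup G} {d : G} (hd : ∀ r ∈ R, r * d = d * r) :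
    d ∈ normalizer (core p (U p R) : Set G) :=
  mem_normalizer_core_U fun r hr => by
    rw [← hd r hr, mul_inv_cancel_right, inv_mul_cancel]; exact one_mem _

/-- Commuting modulo a normal subgroup passes to powers. -/
theorem inv_mul_conj_mem_of_mem_zpowers {F : Subgroup G} [F.Normal] {b d : G}
    (h : d * b * d⁻¹ * b⁻¹ ∈ F) {r : G} (hr : r ∈ zpowers b) : r⁻¹ * (d * r * d⁻¹) ∈ F := by
  obtain ⟨m, rfl⟩ := mem_zpowers_iff.1 hr
  set f := QuotientGroup.mk' F with hf
  have h' : f (d * b * d⁻¹ * b⁻¹) = 1 := (QuotientGroup.eq_one_iff _).2 h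
  rw [map_mul, map_mul, map_mul, map_inv, map_inv, mul_inv_eq_one, mul_inv_eq_iff_eq_mul] at h'
  have hc : Commute (f d) (f b ^ m) := (show Commute (f d) (f b) from h').zpow_right m
  rw [← QuotientGroup.eq_one_iff]
  show f ((b ^ m)⁻¹ * (d * b ^ m * d⁻¹)) = 1
  rw [map_mul, map_mul, map_mul, map_inv, map_inv, map_zpow, hc.eq]
  group

/-! ### Components -/

variable (hO : Cfsg.pPrimeCore p G = ⊥)
include hO

theorem fitting_le_pCore : Cfsg.fittingSubgroup G ≤ Cfsg.pCore p G := by
  rw [Comp.fitting_eq_iSup_pCore]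
  refine iSup_le fun q => ?_
  haveI : Fact (q : ℕ).Prime := ⟨Nat.prime_of_mem_primeFactors q.2⟩
  rcases eq_or_ne (q : ℕ) p with h | h
  · rw [h]
  · refine (Solvable.le_pPrimeCore p inferInstance ?_).trans (hO.le.trans bot_le)
    obtain ⟨k, hk⟩ := IsPGroup.iff_card.1 (Solvable.isPGroup_pCore (G := G) (q : ℕ))
    rw [hk]
    exact ((Nat.coprime_primes (Fact.out : (q : ℕ).Prime) (Fact.out : p.Prime)).2 h).pow_left k

theorem inf_centralizer_le_pCore {E : Subgroup G} (hE : E ≤ Cfsg.layer G)
    (h : ∀ L : Subgroup G, Cfsg.IsComponent L → L ≤ E ∨ E ≤ centralizer (L : Set G)) :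
    E ⊓ centralizer (E : Set G) ≤ Cfsg.pCore p G := by
  intro z hz
  refine fitting_le_pCore hO ((Comp.center_layer_eq_fitting_inf (G := G)).le.trans inf_le_left ?_)
  rw [Comp.map_center_eq]
  refine mem_inf.2 ⟨hE hz.1, mem_centralizer_iff.2 fun y hy => ?_⟩
  suffices Cfsg.layer G ≤ centralizer {z} from mem_centralizer_singleton_iff.1 (this hy)
  refine Comp.layer_le fun L hL y hy => mem_centralizer_singleton_iff.2 ?_
  rcases h L hL with h1 | h1
  · exact mem_centralizer_iff.1 hz.2 y (h1 hy)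
  · exact mem_centralizer_iff.1 (h1 hz.1) y hy

theorem component_inf_centralizer_le_pCore {K : Subgroup G} (hK : Cfsg.IsComponent K) :
    K ⊓ centralizer (K : Set G) ≤ Cfsg.pCore p G := by
  refine inf_centralizer_le_pCore hO (Comp.component_le_layer hK) fun L hL => ?_
  rcases Comp.component_eq_or_commute hK hL with h | h
  · exact Or.inl h.ge
  · exact Or.inr (Comp.le_centralizer_of_commutator_eq_bot h)

/-- A component has a `p`-element outside its centre. -/
theorem exists_pElement {K : Subgroup G} (hK : Cfsg.IsComponent K) :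
    ∃ d ∈ K, (∃ k : ℕ, d ^ p ^ k = 1) ∧ d ∉ centralizer (K : Set G) := by
  by_contra hcon
  push Not at hcon
  let T : Sylow p K := default
  have hTc : (T : Subgroup K) ≤ center K := by
    intro t ht
    obtain ⟨k, hk⟩ := T.isPGroup' ⟨t, ht⟩
    have hk' : (t : G) ^ p ^ k = 1 := by
      have := congrArg (fun u : (T : Subgroup K) => ((u : K) : G)) hk
      simpa using this
    exact mem_center_iff.2 fun g => Subtype.ext
      (mem_centralizer_iff.1 (hcon t t.2 ⟨k, hk'⟩) g g.2)
  have h1 := Kinf.sup_pPrimeCore_of_central T hTc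
  rw [PComp.component_pPrimeCore_eq_bot p hK.1 hO, sup_bot_eq] at h1
  exact Comp.quasisimple_center_ne_top hK.2 (top_le_iff.1 (h1.ge.trans hTc))

omit hO in
/-- A `p`-group `R` normalizing `E` and `N` fixes some `p`-element of `E` modulo `N`. -/
theorem exists_fixed_mod {E R N : Subgroup G} (hR : IsPGroup p R)
    (hRE : R ≤ normalizer (E : Set G)) (hRN : R ≤ normalizer (N : Set G))
    (hEN : E ≤ normalizer (N : Set G)) {e : G} (he : e ∈ E) {k : ℕ} (hk : e ^ p ^ k = 1)
    (heN : e ∉ N) :
    ∃ d ∈ E, (∃ j : ℕ, d ^ p ^ j = 1) ∧ d ∉ N ∧ ∀ r ∈ R, r⁻¹ * (d * r * d⁻¹) ∈ N := by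
  set M := E ⊔ R
  have hME : M ≤ normalizer (E : Set G) := sup_le le_normalizer hRE
  have hMN : M ≤ normalizer (N : Set G) := sup_le hEN hRN
  obtain ⟨T, hT⟩ := (hR.comap_subtype (H := R) (K := M)).exists_le_sylow
  set e' : M := ⟨e, le_sup_left (a := E) he⟩
  obtain ⟨T', hT'⟩ := (isPGroup_zpowers (b := e') (k := k) (Subtype.ext (by simpa [e'] using hk))).exists_le_sylow
  obtain ⟨m, hm⟩ := MulAction.exists_smul_eq M T' T
  set S := (T : Subgroup M).map M.subtype
  have hS : IsPGroup p S := T.isPGroup'.map _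
  have hSM : S ≤ M := map_subtype_le _
  have hRS : R ≤ S := fun r hr => ⟨⟨r, le_sup_right (a := E) hr⟩, hT hr, rfl⟩
  have heS : (m : G) * e * (m : G)⁻¹ ∈ S := by
    refine ⟨m * e' * m⁻¹, ?_, rfl⟩
    rw [← hm, Sylow.coe_subgroup_smul]
    exact ⟨e', hT' (mem_zpowers e'), rfl⟩
  have heE : (m : G) * e * (m : G)⁻¹ ∈ E := (mem_normalizer_iff.1 (hME m.2) e).1 he
  have heN' : (m : G) * e * (m : G)⁻¹ ∉ N := fun h => heN ((mem_normalizer_iff.1 (hMN m.2) e).2 h)
  haveI hn : (N.subgroupOf S).Normal :=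
    ⟨fun x hx g => (mem_normalizer_iff.1 (hMN (hSM g.2)) (x : G)).1 hx⟩
  haveI hn' : (E.subgroupOf S).Normal :=
    ⟨fun x hx g => (mem_normalizer_iff.1 (hME (hSM g.2)) (x : G)).1 hx⟩
  set π := QuotientGroup.mk' (N.subgroupOf S)
  haveI : Group.IsNilpotent (↥S ⧸ N.subgroupOf S) := (hS.to_quotient _).isNilpotent
  haveI : ((E.subgroupOf S).map π).Normal := hn'.map _ (QuotientGroup.mk'_surjective _)
  have hne : (E.subgroupOf S).map π ≠ ⊥ := fun h => heN' (by
    have h1 : π ⟨_, heS⟩ ∈ (⊥ : Subgroup _) := h ▸ mem_map_of_mem π (show (⟨_, heS⟩ : S) ∈ E.subgroupOf S from heE)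
    exact (QuotientGroup.eq_one_iff (N := N.subgroupOf S) ⟨_, heS⟩).1 (mem_bot.1 h1))
  obtain ⟨q, hq⟩ := (ne_bot_iff_exists_ne_one.1
    (PGroupBasic.inf_center_ne_bot _ hne))
  obtain ⟨⟨d, hdE, hd⟩, hqc⟩ := mem_inf.1 q.2
  refine ⟨d, hdE, ?_, fun hdN => hq (Subtype.ext ?_), fun r hr => ?_⟩
  · obtain ⟨j, hj⟩ := hS d
    exact ⟨j, congrArg Subtype.val hj⟩
  · rw [← hd]
    exact (QuotientGroup.eq_one_iff _).2 hdN
  · have h1 := mem_center_iff.1 hqc (π ⟨r, hRS hr⟩)
    rw [← hd] at h1
    have h2 : π (⟨r, hRS hr⟩⁻¹ * (d * ⟨r, hRS hr⟩ * d⁻¹)) = 1 := by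
      rw [map_mul, map_mul, map_mul, map_inv, map_inv, ← h1]
      group
    exact (QuotientGroup.eq_one_iff (N := N.subgroupOf S) _).1 h2

/-- An element of order prime to `p` commuting with `R` normalizes a component when its commutators
with the `R`-fixed `p`-elements of the layer modulo `O_p(G)` lie in a `p'`-group. -/
theorem mem_normalizer_of_mod {R : Subgroup G} (hR : IsPGroup p R) {K : Subgroup G}
    (hK : Cfsg.IsComponent K) {x : G} (hxo : (orderOf x).Coprime p)
    (hxR : ∀ r ∈ R, r * x = x * r) {W : Subgroup G} (hW : (Nat.card W).Coprime p)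
    (hmod : ∀ d ∈ Cfsg.layer G, ∀ j : ℕ, d ^ p ^ j = 1 →
      (∀ r ∈ R, r⁻¹ * (d * r * d⁻¹) ∈ Cfsg.pCore p G) → x * d * x⁻¹ * d⁻¹ ∈ W) :
    x ∈ normalizer (K : Set G) := by
  set c := fun (g : G) => K.map (MulAut.conj g).toMonoidHom with hc
  have hmul : ∀ g h : G, (c h).map (MulAut.conj g).toMonoidHom = c (g * h) := by
    intro g h
    simp only [hc, map_map]
    congr 1
    ext z
    simp
  have hcomp : ∀ g : G, Cfsg.IsComponent (c g) := fun g => Comp.component_conj g hK
  have hone : c 1 = K := by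
    simp only [hc, map_one]
    exact Subgroup.map_id K
  by_cases hΩ : ∃ r ∈ R, c x = c r
  · obtain ⟨r, hr, hxr⟩ := hΩ
    have hpow : ∀ j : ℕ, c (x ^ j) = c (r ^ j) := by
      intro j
      induction j with
      | zero => simp
      | succ j ih =>
        calc c (x ^ (j + 1)) = (c x).map (MulAut.conj (x ^ j)).toMonoidHom := by
              rw [hmul, pow_succ]
          _ = c (r * x ^ j) := by
              rw [hxr, hmul, ((show Commute r x from hxR r hr).pow_right j).eq]
          _ = c (r ^ (j + 1)) := by rw [← hmul, ih, hmul, pow_succ']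
    obtain ⟨k, hk⟩ := hR ⟨r, hr⟩
    have hk' : r ^ p ^ k = 1 := congrArg Subtype.val hk
    have hcop : (orderOf x).Coprime (orderOf r) :=
      (hxo.pow_right k).coprime_dvd_right
        (orderOf_dvd_of_pow_eq_one hk')
    have h1 : r ^ orderOf x ∈ normalizer (K : Set G) :=
      mem_normalizer_iff_map_conj_eq.2 (by
        have := hpow (orderOf x)
        rw [pow_orderOf_eq_one, hone] at this
        exact this.symm)
    obtain ⟨m, hm⟩ := exists_pow_eq_self_of_coprime hcop
    have h2 : r ∈ normalizer (K : Set G) := hm ▸ pow_mem h1 m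
    exact mem_normalizer_iff_map_conj_eq.2 (hxr.trans (mem_normalizer_iff_map_conj_eq.1 h2))
  · exfalso
    push Not at hΩ
    set E := ⨆ r : R, c r with hE
    have hcE : ∀ r ∈ R, c r ≤ E := fun r hr => le_iSup (fun r : R => c r) ⟨r, hr⟩
    have hKE : K ≤ E := by
      have := hcE 1 (one_mem R)
      rwa [hone] at this
    have hRE : R ≤ normalizer (E : Set G) := by
      intro s hs
      refine mem_normalizer_iff_map_conj_eq.2
        (eq_of_le_of_card_ge ?_ (card_map_of_injective (MulAut.conj s).injective).ge)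
      rw [Subgroup.map_iSup]
      exact iSup_le fun r => (hmul s r).le.trans (hcE _ (mul_mem hs r.2))
    set N := E ⊓ centralizer (E : Set G)
    have hRN : R ≤ normalizer (N : Set G) := fun s hs =>
      inf_normalizer_le_normalizer_inf (mem_inf.2 ⟨hRE hs, normalizer_le_normalizer_centralizer _ (hRE hs)⟩)
    have hEN : E ≤ normalizer (N : Set G) := fun s hs => inf_normalizer_le_normalizer_inf
      (mem_inf.2 ⟨le_normalizer hs, normalizer_le_normalizer_centralizer _ (le_normalizer hs)⟩)
    obtain ⟨e, heK, ⟨k, hk⟩, he⟩ := exists_pElement hO hK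
    obtain ⟨d, hdE, ⟨j, hj⟩, hdN, hfix⟩ := exists_fixed_mod hR hRE hRN hEN (hKE heK) hk
      (fun h => he (centralizer_le hKE h.2))
    have hNF : N ≤ Cfsg.pCore p G := inf_centralizer_le_pCore hO
      (iSup_le fun r => Comp.component_le_layer (hcomp r)) fun L hL => by
        by_cases h : ∃ r : R, L = c r
        · obtain ⟨r, rfl⟩ := h
          exact Or.inl (hcE r r.2)
        · push Not at h
          exact Or.inr (iSup_le fun r => Comp.le_centralizer_of_commutator_eq_bot
            ((Comp.component_eq_or_commute (hcomp r) hL).resolve_left fun e => h r e.symm))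
    have hcomm : E.map (MulAut.conj x).toMonoidHom ≤ centralizer (E : Set G) := by
      rw [Subgroup.map_iSup]
      refine iSup_le fun r => ?_
      rw [hmul]
      refine Subgroup.le_centralizer_iff.1 (iSup_le fun s => ?_)
      refine Comp.le_centralizer_of_commutator_eq_bot
        ((Comp.component_eq_or_commute (hcomp s) (hcomp _)).resolve_left fun e => ?_)
      refine hΩ ((r : G)⁻¹ * s) (mul_mem (inv_mem r.2) s.2) ?_
      have h1 := congrArg (fun L : Subgroup G => L.map (MulAut.conj (r : G)⁻¹).toMonoidHom) e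
      simp only [hmul] at h1
      rw [h1]
      congr 1
      rw [← mul_assoc, mul_assoc (r : G)⁻¹, ← hxR r r.2]
      group
    have hd' : x * d * x⁻¹ ∈ centralizer (E : Set G) := hcomm (mem_map_of_mem _ hdE)
    have hc1 : x * d * x⁻¹ * d⁻¹ ∈ W := hmod d ((show E ≤ Cfsg.layer G from iSup_le fun r => Comp.component_le_layer (hcomp r)) hdE)
      j hj fun r hr => hNF (hfix r hr)
    have hcd : Commute (x * d * x⁻¹) d⁻¹ :=
      (show Commute d (x * d * x⁻¹) from mem_centralizer_iff.1 hd' d hdE).symm.inv_right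
    have hc2 : (x * d * x⁻¹ * d⁻¹) ^ p ^ j = 1 := by
      rw [hcd.mul_pow, conj_pow, inv_pow, hj]; group
    exact hdN (mem_inf.2 ⟨hdE,
      mul_inv_eq_one.1 (eq_one_of_coprime hW hc1 hc2) ▸ hd'⟩)

/-- Elements of `O_{p'}(C(R))` normalize every component. -/
theorem core_centralizer_le_normalizer {R : Subgroup G} (hR : IsPGroup p R) {K : Subgroup G}
    (hK : Cfsg.IsComponent K) :
    core p (centralizer (R : Set G)) ≤ normalizer (K : Set G) := fun x hx =>
  mem_normalizer_of_mod hO hR hK ((coprime_core _).coprime_dvd_left (orderOf_dvd_natCard _ hx))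
    (mem_centralizer_iff.1 (core_le _ hx)) (coprime_core (U p R)) fun d _ j _ hd => by
    rw [show x * d * x⁻¹ * d⁻¹ = x * (d * x⁻¹ * d⁻¹) by group]
    exact mul_mem (core_centralizer_le_core_U hR hx) ((mem_normalizer_iff.1
      (mem_normalizer_core_U hd) _).1 (inv_mem (core_centralizer_le_core_U hR hx)))

/-- A component centralized by `R` is centralized by `O_{p'}(C(R))`. -/
theorem core_centralizer_le_centralizer {R : Subgroup G} (hR : IsPGroup p R) {K : Subgroup G}
    (hK : Cfsg.IsComponent K) (hKR : K ≤ centralizer (R : Set G)) :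
    core p (centralizer (R : Set G)) ≤ centralizer (K : Set G) := by
  intro x hx
  have hxU := core_centralizer_le_core_U hR hx
  have hxK := core_centralizer_le_normalizer hO hR hK hx
  have hn : ∀ k ∈ K, k ∈ normalizer (core p (U p R) : Set G) := fun k hk =>
    mem_normalizer_core_U_of_commute fun r hr => mem_centralizer_iff.1 (hKR hk) r hr
  have hW : core p (U p R) ⊓ K = ⊥ := by
    have h1 : (core p (U p R) ⊓ K).subgroupOf K ≤ Cfsg.pPrimeCore p K := by
      refine Solvable.le_pPrimeCore p ((normal_subgroupOf_iff_le_normalizer inf_le_right).2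
        fun k hk => inf_normalizer_le_normalizer_inf (mem_inf.2 ⟨hn k hk, le_normalizer hk⟩)) ?_
      rw [Nat.card_congr (subgroupOfEquivOfLe inf_le_right).toEquiv]
      exact (coprime_core _).coprime_dvd_left (card_dvd_of_le inf_le_left)
    rw [PComp.component_pPrimeCore_eq_bot p hK.1 hO, le_bot_iff, subgroupOf_eq_bot] at h1
    exact h1.eq_bot_of_le inf_le_right
  refine mem_centralizer_iff.2 fun k hk => ?_
  have h1 : x * k * x⁻¹ * k⁻¹ ∈ core p (U p R) ⊓ K := by
    refine mem_inf.2 ⟨?_, mul_mem ((mem_normalizer_iff.1 hxK k).1 hk) (inv_mem hk)⟩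
    rw [show x * k * x⁻¹ * k⁻¹ = x * (k * x⁻¹ * k⁻¹) by group]
    refine mul_mem hxU ?_
    exact (mem_normalizer_iff.1 (hn k hk) _).1 (inv_mem hxU)
  rw [hW, mem_bot, mul_inv_eq_one, mul_inv_eq_iff_eq_mul] at h1
  exact h1.symm

omit hO in
/-- `x` centralizes the perfect group `K` as soon as all `[x, k]` are central in `K`. -/
theorem centralizes_of_commutator_central {K : Subgroup G} (hK : ⁅K, K⁆ = K) {x : G}
    (hxK : x ∈ normalizer (K : Set G))
    (h : ∀ k ∈ K, x * k * x⁻¹ * k⁻¹ ∈ centralizer (K : Set G)) :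
    x ∈ centralizer (K : Set G) := by
  have hz : ∀ k : K, (⟨_, mul_mem ((mem_normalizer_iff.1 hxK _).1 k.2) (inv_mem k.2)⟩ : K) ∈ center K :=
    fun k => mem_center_iff.2 fun g => Subtype.ext (mem_centralizer_iff.1 (h k k.2) g g.2)
  let ψ : K →* center K :=
    { toFun := fun k => ⟨_, hz k⟩
      map_one' := Subtype.ext (Subtype.ext (by simp))
      map_mul' := fun a b => Subtype.ext (Subtype.ext (by
        have hb : Commute (a : G) (x * b * x⁻¹ * (b : G)⁻¹) :=
          mem_centralizer_iff.1 (h b b.2) a a.2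
        show x * ((a : G) * b) * x⁻¹ * ((a : G) * b)⁻¹ =
          x * a * x⁻¹ * (a : G)⁻¹ * (x * b * x⁻¹ * (b : G)⁻¹)
        calc _ = x * a * x⁻¹ * (x * b * x⁻¹ * (b : G)⁻¹ * (a : G)⁻¹) := by group
          _ = _ := by rw [← hb.inv_left.eq, mul_assoc (x * a * x⁻¹) (a : G)⁻¹])) }
  have hker : ∀ k : K, ψ k = 1 := by
    intro k
    have hp : Group.IsPerfect K := Subgroup.isPerfect_iff.mpr hK
    have h1 : commutator K ≤ ψ.ker := by
      rw [commutator_eq_closure, closure_le]
      rintro _ ⟨a, b, rfl⟩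
      show ψ ⁅a, b⁆ = 1
      rw [map_commutatorElement, commutatorElement_eq_one_iff_mul_comm]
      exact Subtype.ext (mem_center_iff.1 (ψ b).2 ((ψ a : center K) : K))
    exact h1 (by rw [hp.commutator_eq_top]; exact mem_top k)
  refine mem_centralizer_iff.2 fun k hk => ?_
  have h1 : x * k * x⁻¹ * k⁻¹ = 1 :=
    congrArg (fun u : center K => ((u : K) : G)) (hker ⟨k, hk⟩)
  rw [mul_inv_eq_one, mul_inv_eq_iff_eq_mul] at h1
  exact h1.symm

/-- A component moved by an element `b` of order `p` is centralized by `O_{p'}(C(b))`. -/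
theorem core_centralizer_le_centralizer_of_moved {b : G} (hb : b ^ p = 1) {K : Subgroup G}
    (hK : Cfsg.IsComponent K) (hbK : b ∉ normalizer (K : Set G)) :
    core p (centralizer ((zpowers b : Subgroup G) : Set G)) ≤ centralizer (K : Set G) := by
  intro x hx
  have hR : IsPGroup p (zpowers b) := isPGroup_zpowers (k := 1) (by simpa using hb)
  have hxU := core_centralizer_le_core_U hR hx
  have hxK := core_centralizer_le_normalizer hO hR hK hx
  set V := core p (U p (zpowers b)) ⊓ normalizer (K : Set G)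
  set C := centralizer (K : Set G)
  set W := K ⊓ (C ⊔ V)
  set kk : G → ℕ → G := fun k i => b ^ i * k * (b ^ i)⁻¹
  have hcomm : ∀ i : ℕ, 0 < i → i < p → ∀ k ∈ K, kk k i ∈ C := by
    intro i hi0 hip k hk
    have hne : K.map (MulAut.conj (b ^ i)).toMonoidHom ≠ K := fun h => hbK (by
      obtain ⟨m, hm⟩ := exists_pow_eq_self_of_coprime
        (((Nat.Prime.coprime_iff_not_dvd (Fact.out : p.Prime)).2
          (Nat.not_dvd_of_pos_of_lt hi0 hip)).symm.coprime_dvd_right (orderOf_dvd_of_pow_eq_one hb))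
      exact hm ▸ pow_mem (mem_normalizer_iff_map_conj_eq.2 h) m)
    exact Comp.le_centralizer_of_commutator_eq_bot
      ((Comp.component_eq_or_commute (Comp.component_conj (b ^ i) hK) hK).resolve_left hne)
      ⟨k, hk, rfl⟩
  have key : ∀ k ∈ K, k ∈ normalizer (W : Set G) ∧ x * k * x⁻¹ * k⁻¹ ∈ W := by
    intro k hk
    set f : ℕ → G := fun n => Nat.rec (motive := fun _ => G) 1 (fun i a => a * kk k (i + 1)) n
    have hstep : ∀ n, b * (k * f n) * b⁻¹ = f (n + 1) := by
      intro n
      induction n with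
      | zero => simp [f, kk]
      | succ n ih =>
        show b * (k * (f n * kk k (n + 1))) * b⁻¹ = f (n + 1) * kk k (n + 1 + 1)
        rw [← ih]
        simp only [kk, pow_succ' b (n + 1)]
        group
    have hfC : ∀ n, n < p → f n ∈ C := by
      intro n
      induction n with
      | zero => intro _; exact one_mem _
      | succ n ih => intro hn; exact mul_mem (ih (by omega)) (hcomm _ n.succ_pos hn k hk)
    obtain ⟨q, hq⟩ : ∃ q, p = q + 1 := ⟨p - 1, by have := (Fact.out : p.Prime).pos; omega⟩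
    set z := f q
    have hz : z ∈ C := hfC q (by omega)
    have hbd : b * (k * z) * b⁻¹ = k * z := by
      rw [hstep]
      show z * kk k (q + 1) = k * z
      simp only [kk, ← hq, hb, one_mul, inv_one, mul_one]
      exact (mem_centralizer_iff.1 hz k hk).symm
    have hd : k * z ∈ normalizer (core p (U p (zpowers b)) : Set G) :=
      mem_normalizer_core_U_of_commute fun r hr => by
        obtain ⟨m, rfl⟩ := mem_zpowers_iff.1 hr
        exact ((show Commute b (k * z) from mul_inv_eq_iff_eq_mul.1 hbd).zpow_left m).eq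
    have hkN : k ∈ normalizer (K : Set G) := le_normalizer hk
    have hzN : z ∈ normalizer (K : Set G) := centralizer_le_normalizer _ hz
    have hdV : k * z ∈ normalizer (V : Set G) :=
      inf_normalizer_le_normalizer_inf (mem_inf.2 ⟨hd, le_normalizer (mul_mem hkN hzN)⟩)
    have hdC : k * z ∈ normalizer (C : Set G) :=
      normalizer_le_normalizer_centralizer _ (mul_mem hkN hzN)
    have hkS : k ∈ normalizer ((C ⊔ V : Subgroup G) : Set G) := by
      rw [← mul_inv_cancel_right k z]
      refine mul_mem (mem_normalizer_iff_map_conj_eq.2 ?_) (inv_mem (le_normalizer (mem_sup_left hz)))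
      rw [Subgroup.map_sup, mem_normalizer_iff_map_conj_eq.1 hdC, mem_normalizer_iff_map_conj_eq.1 hdV]
    refine ⟨inf_normalizer_le_normalizer_inf (mem_inf.2 ⟨hkN, hkS⟩),
      mem_inf.2 ⟨mul_mem ((mem_normalizer_iff.1 hxK k).1 hk) (inv_mem hk), ?_⟩⟩
    have hc : x * (k * z) * x⁻¹ * (k * z)⁻¹ ∈ V := by
      refine mem_inf.2 ⟨?_, mul_mem (mul_mem (mul_mem hxK (mul_mem hkN hzN)) (inv_mem hxK))
        (inv_mem (mul_mem hkN hzN))⟩
      rw [show x * (k * z) * x⁻¹ * (k * z)⁻¹ = x * ((k * z) * x⁻¹ * (k * z)⁻¹) by group]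
      refine mul_mem hxU ?_
      exact (mem_normalizer_iff.1 hd _).1 (inv_mem hxU)
    have hz' : k * (x * z * x⁻¹ * z⁻¹)⁻¹ * k⁻¹ ∈ C :=
      (mem_normalizer_iff.1 (normalizer_le_normalizer_centralizer _ hkN) _).1 (inv_mem
        (mul_mem ((mem_normalizer_iff.1 (normalizer_le_normalizer_centralizer _ hxK) z).1 hz)
          (inv_mem hz)))
    rw [show x * k * x⁻¹ * k⁻¹ = x * (k * z) * x⁻¹ * (k * z)⁻¹ *
      (k * (x * z * x⁻¹ * z⁻¹)⁻¹ * k⁻¹) by group]
    exact mul_mem (mem_sup_right hc) (mem_sup_left hz')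
  rcases Comp.quasisimple_normal hK.2
    ((normal_subgroupOf_iff_le_normalizer (inf_le_left : W ≤ K)).2 fun k hk => (key k hk).1)
    with h | h
  · exfalso
    obtain ⟨e, heK, ⟨k, hk⟩, he⟩ := exists_pElement hO hK
    have heS : e ∈ C ⊔ V := (subgroupOf_eq_top.1 h heK).2
    set π := K.normalizerMonoidHom
    have hCN : C ≤ normalizer (K : Set G) := centralizer_le_normalizer _
    have h1 : (C ⊔ V).subgroupOf (normalizer (K : Set G)) =
        C.subgroupOf _ ⊔ V.subgroupOf _ := subgroupOf_sup hCN inf_le_right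
    have h2 : π ⟨e, le_normalizer heK⟩ ∈ (V.subgroupOf (normalizer (K : Set G))).map π := by
      have h3 : π ⟨e, le_normalizer heK⟩ ∈ ((C ⊔ V).subgroupOf (normalizer (K : Set G))).map π :=
        mem_map_of_mem π heS
      rw [h1, Subgroup.map_sup, ← normalizerMonoidHom_ker, (Subgroup.map_eq_bot_iff _).2 le_rfl, bot_sup_eq] at h3
      exact h3
    have h4 : π ⟨e, le_normalizer heK⟩ = 1 := by
      refine eq_one_of_coprime (p := p) ((coprime_core (U p (zpowers b))).coprime_dvd_left ?_) h2 (k := k) ?_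
      · refine (card_map_dvd _ _).trans ?_
        rw [Nat.card_congr (subgroupOfEquivOfLe (inf_le_right : V ≤ _)).toEquiv]
        exact card_dvd_of_le inf_le_left
      · rw [← map_pow, show (⟨e, le_normalizer heK⟩ : normalizer (K : Set G)) ^ p ^ k = 1 from
          Subtype.ext (by simpa using hk), map_one]
    rw [← MonoidHom.mem_ker, normalizerMonoidHom_ker] at h4
    exact he h4
  · refine centralizes_of_commutator_central (Comp.component_perfect hK) hxK fun k hk => ?_
    have h1 := h (show (⟨_, (key k hk).2.1⟩ : K) ∈ W.subgroupOf K from (key k hk).2)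
    exact mem_centralizer_iff.2 fun g hg => congrArg Subtype.val (mem_center_iff.1 h1 ⟨g, hg⟩)

omit hO in
/-- Elementary abelian groups pass to injective images. -/
theorem isElementaryAbelian_map {A B : Type*} [Group A] [Group B] {E : Subgroup A}
    (hE : Cfsg.IsElementaryAbelian p E) (f : A →* B) : Cfsg.IsElementaryAbelian p (E.map f) := by
  refine ⟨⟨⟨fun a b => ?_⟩⟩, ?_⟩
  · obtain ⟨u, hu, hua⟩ := a.2
    obtain ⟨v, hv, hvb⟩ := b.2
    refine Subtype.ext ?_
    show (a : B) * b = b * a
    rw [← hua, ← hvb, ← map_mul, ← map_mul]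
    exact congrArg f (congrArg Subtype.val (hE.1.is_comm.comm ⟨u, hu⟩ ⟨v, hv⟩))
  · rintro _ ⟨u, hu, rfl⟩
    rw [← map_pow, hE.2 u hu, map_one]

/-- The automorphism picture of a component `K` normalized by an elementary abelian group `B` of
order `p ^ k` acting faithfully. -/
theorem exists_aut {k : ℕ} {B : Subgroup G} (hB : Cfsg.IsElementaryAbelian p B)
    (hBk : Nat.card B = p ^ k) {K : Subgroup G} (hK : Cfsg.IsComponent K)
    (hBK : B ≤ normalizer (K : Set G))
    (hfaith : ∀ b ∈ B, b ≠ 1 → ¬ K ≤ centralizer {b}) :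
    ∃ (H : Subgroup (MulAut K)) (T : Subgroup G) (f : T →* H) (Bb : Subgroup H),
      (MulAut.conj : K →* MulAut K).range ≤ H ∧
      centralizer (B : Set G) ⊓ normalizer (K : Set G) ≤ T ∧
      (∀ t : T, f t = 1 → (t : G) ∈ centralizer (K : Set G)) ∧
      Cfsg.IsElementaryAbelian p Bb ∧ Nat.card Bb = p ^ k ∧
      (∀ t : T, (t : G) ∈ centralizer (B : Set G) → f t ∈ centralizer (Bb : Set H)) ∧
      ∀ t : T, (∀ b ∈ B, b ≠ 1 → (t : G) ∈ core p (centralizer ((zpowers b : Subgroup G) : Set G))) →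
        f t ∈ Cfsg.signalizerDelta p Bb := by
  set T0 := centralizer (B : Set G) ⊓ normalizer (K : Set G)
  set M := T0 ⊔ K
  have hMN : M ≤ normalizer (K : Set G) := sup_le inf_le_right le_normalizer
  set ψ : M →* MulAut K := K.normalizerMonoidHom.comp (Subgroup.inclusion hMN)
  set f : M →* ψ.range := ψ.rangeRestrict
  have hBM : B ≤ M := fun b hb => mem_sup_left (mem_inf.2
    ⟨mem_centralizer_iff.2 fun c hc => congrArg Subtype.val (hB.1.is_comm.comm ⟨c, hc⟩ ⟨b, hb⟩), hBK hb⟩)
  have hker : ∀ t : M, f t = 1 → (t : G) ∈ centralizer (K : Set G) := fun t ht => by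
    have h1 : ψ t = 1 := congrArg Subtype.val ht
    rw [MonoidHom.comp_apply, ← MonoidHom.mem_ker, normalizerMonoidHom_ker] at h1
    exact h1
  set Bb := (B.subgroupOf M).map f
  refine ⟨ψ.range, M, f, Bb, ?_, le_sup_left, hker,
    isElementaryAbelian_map (E := B.subgroupOf M) ⟨⟨⟨fun a b => Subtype.ext (Subtype.ext
      (congrArg (Subtype.val : B → G) (hB.1.is_comm.comm ⟨((a : M) : G), a.2⟩ ⟨((b : M) : G), b.2⟩) :))⟩⟩,
      fun a ha => Subtype.ext (by simpa using hB.2 (a : G) ha)⟩ f, ?_, ?_, ?_⟩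
  · rintro _ ⟨k, rfl⟩
    refine ⟨⟨k, mem_sup_right k.2⟩, ?_⟩
    ext z
    rfl
  · rw [← hBk, ← Nat.card_congr (subgroupOfEquivOfLe hBM).toEquiv]
    have hinj : Function.Injective (f.comp (B.subgroupOf M).subtype) := by
      rw [injective_iff_map_eq_one]
      intro b hb
      by_contra hb1
      exact hfaith _ b.2 (fun h => hb1 (Subtype.ext (Subtype.ext h)))
        (fun z hz => mem_centralizer_singleton_iff.2 (mem_centralizer_iff.1 (hker _ hb) z hz))
    refine (Nat.card_congr ((MonoidHom.ofInjective hinj).trans (MulEquiv.subgroupCongr ?_)).toEquiv).symm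
    exact (MonoidHom.range_comp f (B.subgroupOf M).subtype).trans (by rw [range_subtype])
  · intro t ht
    refine mem_centralizer_iff.2 ?_
    rintro _ ⟨b, hb, rfl⟩
    rw [← map_mul, ← map_mul]
    exact congrArg f (Subtype.ext (mem_centralizer_iff.1 ht _ hb))
  · intro t ht
    refine mem_iInf.2 ?_
    rintro ⟨_, ⟨b, hb, rfl⟩, hb1⟩
    have hbne : (b : G) ≠ 1 := fun h => hb1 (by rw [show b = 1 from Subtype.ext h, map_one])
    set R := zpowers (b : G)
    have hR : IsPGroup p R := isPGroup_zpowers (k := 1) (by simpa using hB.2 _ hb)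
    set V := (core p (U p R)).subgroupOf M
    show f t ∈ core p (centralizer ({f b} : Set ψ.range))
    refine le_core (N := V.map f) ?_ ?_ ?_
      (mem_map_of_mem f (show t ∈ V from core_centralizer_le_core_U hR (ht _ hb hbne)))
    · rintro _ ⟨v, hv, rfl⟩
      refine mem_centralizer_singleton_iff.2 ?_
      rw [← map_mul, ← map_mul]
      exact congrArg f (Subtype.ext (mem_centralizer_iff.1 (core_le _ hv).1 _ (mem_zpowers _)).symm)
    · intro q hq
      obtain ⟨m, rfl⟩ := MonoidHom.rangeRestrict_surjective ψ q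
      have hm : (m : G) ∈ (↑(T0 ⊔ K) : Set G) := m.2
      rw [coe_mul_of_left_le_normalizer_right T0 K inf_le_right] at hm
      obtain ⟨u, hu, k, hk, huk⟩ := hm
      have hub : u * (b : G) = b * u := (mem_centralizer_iff.1 hu.1 _ hb).symm
      have hn : (m : G) ∈ normalizer (core p (U p R) : Set G) := by
        rw [← huk]
        refine mul_mem (mem_normalizer_core_U_of_commute fun r hr => ?_)
          (mem_normalizer_core_U fun r hr => inv_mul_conj_mem_of_mem_zpowers ?_ hr)
        · obtain ⟨j, rfl⟩ := mem_zpowers_iff.1 hr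
          exact ((show Commute (b : G) u from hub.symm).zpow_left j).eq
        · refine component_inf_centralizer_le_pCore hO hK (mem_inf.2 ⟨?_, ?_⟩)
          · rw [show k * (b : G) * k⁻¹ * (b : G)⁻¹ = k * ((b : G) * k⁻¹ * (b : G)⁻¹) by group]
            exact mul_mem hk ((mem_normalizer_iff.1 (hBK hb) _).1 (inv_mem hk))
          · set u' : M := ⟨u, mem_sup_left hu⟩
            set k' : M := ⟨k, mem_sup_right hk⟩
            have hmu : m = u' * k' := Subtype.ext huk.symm
            have h1 : f u' * f b = f b * f u' := by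
              rw [← map_mul, ← map_mul]; exact congrArg f (Subtype.ext hub)
            have h2 : f m * f b = f b * f m := mem_centralizer_singleton_iff.1 hq
            rw [hmu, map_mul] at h2
            have h3 : Commute (f k') (f b) := by
              have h4 := (show Commute (f u') (f b) from h1).inv_left.mul_left
                (show Commute (f u' * f k') (f b) from h2)
              rwa [inv_mul_cancel_left] at h4
            have h5 : f (k' * b * k'⁻¹ * b⁻¹) = 1 := by
              rw [map_mul, map_mul, map_mul, map_inv, map_inv, h3.eq]; group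
            exact hker _ h5
      refine le_normalizer_map f (mem_map_of_mem f ?_)
      refine mem_normalizer_iff.2 fun v => ?_
      simpa [V, mem_subgroupOf] using mem_normalizer_iff.1 hn (v : G)
    · refine (coprime_core (U p R)).coprime_dvd_left ((card_map_dvd _ _).trans ?_)
      rw [← card_map_of_injective (K := (core p (U p R)).subgroupOf M) M.subtype_injective,
        subgroupOf_map_subtype]
      exact card_dvd_of_le inf_le_left

omit hO in
theorem exists_le_card_pow {B : Subgroup G} (hB : Cfsg.IsElementaryAbelian p B) {k : ℕ}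
    (hk : p ^ k ≤ Nat.card B) : ∃ B₀ ≤ B, Nat.card B₀ = p ^ k := by
  obtain ⟨m, hm⟩ := IsPGroup.iff_card.1 (Signalizer.isPGroup hB)
  have h : p ^ k ∣ Nat.card B := by
    rw [hm] at hk ⊢
    exact pow_dvd_pow p ((Nat.pow_le_pow_iff_right (Fact.out : p.Prime).one_lt).1 hk)
  obtain ⟨E, hE⟩ := Sylow.exists_subgroup_card_pow_prime p h
  exact ⟨E.map B.subtype, map_subtype_le _, (card_map_of_injective B.subtype_injective).trans hE⟩

/-- If `K` is locally `k`-balanced, `Δ(B)` centralizes `K`. -/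
theorem centralizes_of_balanced {k : ℕ} {B : Subgroup G} (hB : Cfsg.IsElementaryAbelian p B)
    (hBk : p ^ k ≤ Nat.card B) (hk : 1 ≤ k) {K : Subgroup G} (hK : Cfsg.IsComponent K)
    (hloc : Cfsg.IsLocallyKBalanced p k K) {x : G}
    (hx : ∀ b ∈ B, b ≠ 1 → x ∈ core p (centralizer ((zpowers b : Subgroup G) : Set G))) :
    x ∈ centralizer (K : Set G) := by
  obtain ⟨B₀, hB₀B, hB₀⟩ := exists_le_card_pow hB hBk
  by_cases hmov : ∃ b ∈ B₀, b ∉ normalizer (K : Set G)
  · obtain ⟨b, hb, hbK⟩ := hmov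
    have hb1 : b ≠ 1 := fun h => hbK (h ▸ one_mem _)
    exact core_centralizer_le_centralizer_of_moved hO (hB.2 b (hB₀B hb)) hK hbK
      (hx b (hB₀B hb) hb1)
  push Not at hmov
  by_cases hfix : ∃ b ∈ B₀, b ≠ 1 ∧ K ≤ centralizer {b}
  · obtain ⟨b, hb, hb1, hKb⟩ := hfix
    exact core_centralizer_le_centralizer hO
      (isPGroup_zpowers (k := 1) (by simpa using hB.2 b (hB₀B hb))) hK
      (by rwa [centralizer_zpowers_eq]) (hx b (hB₀B hb) hb1)
  push Not at hfix
  obtain ⟨b₀, hb₀, hb₀1⟩ : ∃ b₀ ∈ B₀, b₀ ≠ 1 := by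
    refine exists_ne_one fun h => ?_
    rw [h, Subgroup.card_bot] at hB₀
    exact absurd hB₀.symm (one_lt_pow₀ (Fact.out : p.Prime).one_lt (by omega)).ne'
  have hxB : x ∈ centralizer (B₀ : Set G) := mem_centralizer_iff.2 fun b hb => by
    rcases eq_or_ne b 1 with rfl | hb1
    · simp
    · exact mem_centralizer_iff.1 (core_le _ (hx b (hB₀B hb) hb1)) b (mem_zpowers b)
  have hxN : x ∈ normalizer (K : Set G) := core_centralizer_le_normalizer hO
    (isPGroup_zpowers (k := 1) (by simpa using hB.2 b₀ (hB₀B hb₀))) hK (hx b₀ (hB₀B hb₀) hb₀1)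
  obtain ⟨H, T, f, Bb, hI, hT, hker, hEl, hcard, -, hdelta⟩ :=
    exists_aut hO (Signalizer.of_le hB hB₀B) hB₀ hK hmov hfix
  have h1 := hdelta ⟨x, hT (mem_inf.2 ⟨hxB, hxN⟩)⟩ (fun b hb hb1 => hx b (hB₀B hb) hb1)
  rw [hloc H hI Bb hEl hcard, mem_bot] at h1
  exact hker _ h1

/-- If `K` is weakly locally `k`-balanced, `[Δ(B), a]` centralizes `K`. -/
theorem commutator_centralizes_of_weakly {k : ℕ} {B : Subgroup G} (hB : Cfsg.IsElementaryAbelian p B)
    (hBk : p ^ k ≤ Nat.card B) (hk : 1 ≤ k) {K : Subgroup G} (hK : Cfsg.IsComponent K)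
    (hloc : Cfsg.IsWeaklyLocallyKBalanced p k K) {x a : G}
    (hx : ∀ b ∈ B, b ≠ 1 → x ∈ core p (centralizer ((zpowers b : Subgroup G) : Set G)))
    (ha : a ^ p = 1) (haB : a ∈ centralizer (B : Set G)) (haK : a ∈ normalizer (K : Set G)) :
    x * a * x⁻¹ * a⁻¹ ∈ centralizer (K : Set G) := by
  have hcase : x ∈ centralizer (K : Set G) → x * a * x⁻¹ * a⁻¹ ∈ centralizer (K : Set G) := by
    intro h
    rw [show x * a * x⁻¹ * a⁻¹ = x * (a * x⁻¹ * a⁻¹) by group]
    refine mul_mem h ?_
    exact (mem_normalizer_iff.1 (normalizer_le_normalizer_centralizer _ haK) _).1 (inv_mem h)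
  obtain ⟨B₀, hB₀B, hB₀⟩ := exists_le_card_pow hB hBk
  by_cases hmov : ∃ b ∈ B₀, b ∉ normalizer (K : Set G)
  · obtain ⟨b, hb, hbK⟩ := hmov
    have hb1 : b ≠ 1 := fun h => hbK (h ▸ one_mem _)
    exact hcase (core_centralizer_le_centralizer_of_moved hO (hB.2 b (hB₀B hb)) hK hbK
      (hx b (hB₀B hb) hb1))
  push Not at hmov
  by_cases hfix : ∃ b ∈ B₀, b ≠ 1 ∧ K ≤ centralizer {b}
  · obtain ⟨b, hb, hb1, hKb⟩ := hfix
    exact hcase (core_centralizer_le_centralizer hO
      (isPGroup_zpowers (k := 1) (by simpa using hB.2 b (hB₀B hb))) hK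
      (by rwa [centralizer_zpowers_eq]) (hx b (hB₀B hb) hb1))
  push Not at hfix
  obtain ⟨b₀, hb₀, hb₀1⟩ : ∃ b₀ ∈ B₀, b₀ ≠ 1 := by
    refine exists_ne_one fun h => ?_
    rw [h, Subgroup.card_bot] at hB₀
    exact absurd hB₀.symm (one_lt_pow₀ (Fact.out : p.Prime).one_lt (by omega)).ne'
  have hxB : x ∈ centralizer (B₀ : Set G) := mem_centralizer_iff.2 fun b hb => by
    rcases eq_or_ne b 1 with rfl | hb1
    · simp
    · exact mem_centralizer_iff.1 (core_le _ (hx b (hB₀B hb) hb1)) b (mem_zpowers b)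
  have hxN : x ∈ normalizer (K : Set G) := core_centralizer_le_normalizer hO
    (isPGroup_zpowers (k := 1) (by simpa using hB.2 b₀ (hB₀B hb₀))) hK (hx b₀ (hB₀B hb₀) hb₀1)
  obtain ⟨H, T, f, Bb, hI, hT, hker, hEl, hcard, hcent, hdelta⟩ :=
    exists_aut hO (Signalizer.of_le hB hB₀B) hB₀ hK hmov hfix
  set x' : T := ⟨x, hT (mem_inf.2 ⟨hxB, hxN⟩)⟩
  set a' : T := ⟨a, hT (mem_inf.2 ⟨centralizer_le hB₀B haB, haK⟩)⟩
  have hcomm : f x' * f a' = f a' * f x' := by
    by_cases h1 : f a' = 1
    · simp [h1]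
    · have hord : orderOf (f a') = p := orderOf_eq_prime
        (by rw [← map_pow, show a' ^ p = 1 from Subtype.ext (by simpa [a'] using ha), map_one]) h1
      exact mem_centralizer_singleton_iff.1
        (hloc H hI Bb hEl hcard (f a') hord (hcent a' (centralizer_le hB₀B haB))
          (hdelta x' fun b hb hb1 => hx b (hB₀B hb) hb1))
  have h2 : f (x' * a' * x'⁻¹ * a'⁻¹) = 1 := by
    rw [map_mul, map_mul, map_mul, map_inv, map_inv, hcomm]; group
  exact hker _ h2

/-- A `p'`-element centralizing `O_p(G)` and all components is trivial. -/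
theorem eq_one_of_centralizes {y : G} (hy : (orderOf y).Coprime p)
    (hF : y ∈ centralizer (Cfsg.pCore p G : Set G))
    (hK : ∀ K : Subgroup G, Cfsg.IsComponent K → y ∈ centralizer (K : Set G)) : y = 1 := by
  set F := Cfsg.generalizedFittingSubgroup G with hFdef
  have hyC : y ∈ centralizer (F : Set G) := by
    have h1 : F ≤ centralizer {y} := sup_le
      (Comp.layer_le fun K hK' z hz => mem_centralizer_singleton_iff.2
        (mem_centralizer_iff.1 (hK K hK') z hz))
      (fun z hz => mem_centralizer_singleton_iff.2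
        (mem_centralizer_iff.1 hF z (fitting_le_pCore hO hz)))
    exact mem_centralizer_iff.2 fun z hz => mem_centralizer_singleton_iff.1 (h1 hz)
  haveI : IsMulCommutative ↥(centralizer (F : Set G)) := ⟨⟨fun a b => Subtype.ext
    (mem_centralizer_iff.1 b.2 a (Comp.centralizer_Fstar_le a.2))⟩⟩
  have hC : centralizer (F : Set G) ≤ Cfsg.fittingSubgroup G :=
    Comp.le_fitting inferInstance (Subgroup.isNilpotent_of_lowerCentralSeries_eq_bot (n := 1)
      (by simp [commutator_self_eq_bot_iff.mpr inferInstance]))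
  obtain ⟨j, hj⟩ := IsPGroup.iff_card.1 (Solvable.isPGroup_pCore (G := G) p)
  exact orderOf_eq_one_iff.1 (Nat.eq_one_of_dvd_coprimes (hy.pow_right j) dvd_rfl
    (hj ▸ orderOf_dvd_natCard _ (fitting_le_pCore hO (hC hyC))))

end CfsgLib.LocalBalance
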