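import Cfsg.Agent.PLocal.PConstrained
import Cfsg.Agent.Solvable.Fitting

/-!
A `p`-solvable group with abelian Sylow `p`-subgroups generated by its `p`-elements is abelian modulo its
`p'`-core; consequences for two elements of order `p`.
-/

set_option autoImplicit false
set_option linter.unusedSectionVars false
set_option linter.style.haveILetI false

namespace CfsgLib.PairSolvable

open Subgroup
open scoped Pointwise

universe u

variable {G : Type u} [Group G] [Finite G] {p : ℕ} [Fact p.Prime]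

theorem quotient_abelian_pGroup (hs : Cfsg.IsPSolvable p G)
    (hab : ∀ P : Subgroup G, IsPGroup p P → IsMulCommutative P)
    (hgen : closure {g : G | ∃ n, g ^ p ^ n = 1} = ⊤) :
    IsPGroup p (G ⧸ Cfsg.pPrimeCore p G) ∧
      ∀ a b : G ⧸ Cfsg.pPrimeCore p G, a * b = b * a := by
  haveI := Solvable.pPrimeCore_normal (G := G) p
  set O := Cfsg.pPrimeCore p G
  have hf : Function.Surjective (QuotientGroup.mk' O) := QuotientGroup.mk'_surjective O
  have h0 : Cfsg.pPrimeCore p (G ⧸ O) = ⊥ := Fitting.pPrimeCore_quotient_eq_bot p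
  have hQs := PConstrained.isPSolvable_map _ hf hs
  have hc : centralizer (Cfsg.pCore p (G ⧸ O) : Set (G ⧸ O)) ≤ Cfsg.pCore p (G ⧸ O) :=
    PConstrained.selfCent_of_pSolvable h0
      (PConstrained.isPSolvable_comap (Subgroup.subtype _) (Subgroup.subtype_injective _) hQs)
  -- `p`-subgroups of the quotient are abelian
  have hab' : ∀ P : Subgroup (G ⧸ O), IsPGroup p P → ∀ a ∈ P, ∀ b ∈ P, a * b = b * a := by
    intro P hP a ha b hb
    obtain ⟨R, hR⟩ := hP.exists_le_sylow
    obtain ⟨S⟩ : Nonempty (Sylow p G) := inferInstance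
    obtain ⟨c, hc'⟩ := MulAction.exists_smul_eq (G ⧸ O) (S.mapSurjective hf) R
    obtain ⟨c, rfl⟩ := hf c
    have hmem : ∀ z ∈ P, ∃ s : G, s ∈ (S : Subgroup G) ∧
        QuotientGroup.mk' O (c * s * c⁻¹) = z := by
      intro z hz
      have hz' := hR hz
      rw [← hc'] at hz'
      change z ∈ ((MulAut.conj (QuotientGroup.mk' O c) •
        ((S.mapSurjective hf : Sylow p (G ⧸ O)) : Subgroup (G ⧸ O)))) at hz'
      obtain ⟨w, hw, rfl⟩ := hz'
      obtain ⟨s, hs', rfl⟩ := hw
      exact ⟨s, hs', by simp [MulAut.conj_apply]⟩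
    obtain ⟨s, hs1, rfl⟩ := hmem a ha
    obtain ⟨t, ht1, rfl⟩ := hmem b hb
    have hst : s * t = t * s :=
      congrArg Subtype.val ((hab S S.2).is_comm.comm ⟨s, hs1⟩ ⟨t, ht1⟩)
    simp only [← map_mul]
    congr 1
    calc c * s * c⁻¹ * (c * t * c⁻¹) = c * (s * t) * c⁻¹ := by group
      _ = c * t * c⁻¹ * (c * s * c⁻¹) := by rw [hst]; group
  have hR := Solvable.isPGroup_pCore (G := G ⧸ O) (p := p)
  haveI := Solvable.pCore_normal (G := G ⧸ O) p
  have hle : ∀ g : G ⧸ O, (∃ n, g ^ p ^ n = 1) → g ∈ Cfsg.pCore p (G ⧸ O) := by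
    rintro g ⟨n, hn⟩
    have hz : IsPGroup p (zpowers g) := by
      rintro ⟨x, k, rfl⟩
      refine ⟨n, Subtype.ext ?_⟩
      show (g ^ k) ^ p ^ n = 1
      rw [← zpow_natCast, zpow_comm, zpow_natCast, hn, one_zpow]
    have hsup : IsPGroup p ↥(zpowers g ⊔ Cfsg.pCore p (G ⧸ O)) :=
      hz.to_sup_of_normal_right hR
    exact hc (mem_centralizer_iff.2 fun r hr => hab' _ hsup r (mem_sup_right hr) g
      (mem_sup_left (mem_zpowers g)))
  have htop : (⊤ : Subgroup (G ⧸ O)) ≤ Cfsg.pCore p (G ⧸ O) := by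
    rw [← map_top_of_surjective _ hf, ← hgen, MonoidHom.map_closure, closure_le]
    rintro _ ⟨g, ⟨n, hn⟩, rfl⟩
    exact hle _ ⟨n, by rw [← map_pow, hn, map_one]⟩
  exact ⟨(hR.to_le htop).of_equiv Subgroup.topEquiv,
    fun a b => hab' _ hR a (htop (mem_top a)) b (htop (mem_top b))⟩

/-- The consequences for a pair: the image in an abelian `p`-group, detecting regularity. -/
theorem exists_hom {x y : G} (hx : orderOf x = p) (hy : orderOf y = p)
    (hs : Cfsg.IsPSolvable p ↥(closure ({x, y} : Set G)))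
    (hab : ∀ P : Subgroup G, IsPGroup p P → IsMulCommutative P) :
    ∃ (Q : Type u) (_ : CommGroup Q) (f : ↥(closure ({x, y} : Set G)) →* Q), IsPGroup p Q ∧
      (∀ h : ↥(closure ({x, y} : Set G)), f h = 1 → ¬ p ∣ orderOf (h : G)) ∧
      (∀ h : ↥(closure ({x, y} : Set G)), ¬ p ∣ orderOf (h : G) → f h = 1) ∧
      ∀ q : Q, q ^ p = 1 := by
  set H := closure ({x, y} : Set G)
  have hp : p.Prime := Fact.out
  have hgen : closure {g : H | ∃ n, g ^ p ^ n = 1} = ⊤ := by
    refine eq_top_iff.2 ?_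
    rw [← closure_closure_coe_preimage (k := ({x, y} : Set G))]
    refine closure_mono fun g hg => ⟨1, Subtype.ext ?_⟩
    rcases hg with hg | hg
    · show (g : G) ^ p ^ 1 = 1
      rw [pow_one, hg, ← hx, pow_orderOf_eq_one]
    · show (g : G) ^ p ^ 1 = 1
      rw [pow_one, Set.mem_singleton_iff.1 hg, ← hy, pow_orderOf_eq_one]
  obtain ⟨hQ, hcomm⟩ := quotient_abelian_pGroup hs (fun P hP => by
    have := hab _ (hP.map H.subtype)
    refine ⟨⟨fun a b => Subtype.ext (Subtype.ext ?_)⟩⟩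
    have h' := congrArg Subtype.val
      (this.is_comm.comm ⟨_, (a : H), a.2, rfl⟩ ⟨_, (b : H), b.2, rfl⟩)
    simpa using h') hgen
  haveI := Solvable.pPrimeCore_normal (G := H) p
  letI : CommGroup (H ⧸ Cfsg.pPrimeCore p H) :=
    { (inferInstance : Group (H ⧸ Cfsg.pPrimeCore p H)) with mul_comm := hcomm }
  refine ⟨H ⧸ Cfsg.pPrimeCore p H, inferInstance, QuotientGroup.mk' (Cfsg.pPrimeCore p H), hQ,
    fun h hh => ?_, fun h hh => ?_, ?_⟩
  · rw [orderOf_coe]
    exact fun hd => (hp.coprime_iff_not_dvd.1 (Solvable.coprime_card_pPrimeCore p).symm)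
      (hd.trans (orderOf_dvd_natCard _ ((QuotientGroup.eq_one_iff h).1 hh)))
  · obtain ⟨n, hn⟩ := hQ (QuotientGroup.mk' (Cfsg.pPrimeCore p H) h)
    rw [← orderOf_eq_one_iff]
    exact Nat.eq_one_of_dvd_coprimes ((hp.coprime_iff_not_dvd.2 hh).pow_left n)
      (orderOf_dvd_of_pow_eq_one hn) ((orderOf_map_dvd _ h).trans (orderOf_coe h).symm.dvd)
  · intro q
    obtain ⟨g, rfl⟩ := QuotientGroup.mk'_surjective (Cfsg.pPrimeCore p H) q
    obtain ⟨g, hg⟩ := g
    induction hg using Subgroup.closure_induction with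
    | mem z hz =>
      rw [← map_pow]
      refine (congrArg _ (Subtype.ext ?_)).trans (map_one _)
      rcases hz with hz | hz
      · show z ^ p = 1
        rw [hz, ← hx, pow_orderOf_eq_one]
      · show z ^ p = 1
        rw [Set.mem_singleton_iff.1 hz, ← hy, pow_orderOf_eq_one]
    | one => exact (congrArg (· ^ p) (map_one _)).trans (one_pow p)
    | mul a b ha hb iha ihb =>
      rw [show (⟨a * b, _⟩ : H) = ⟨a, ha⟩ * ⟨b, hb⟩ from rfl, map_mul, mul_pow, iha, ihb, one_mul]
    | inv a ha iha =>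
      rw [show (⟨a⁻¹, _⟩ : H) = ⟨a, ha⟩⁻¹ from rfl, map_inv, inv_pow, iha, inv_one]

/-- Products of non-regular pairs have order-`p` `p`-part; at most one power gives a regular product. -/
theorem pow_unique {x y : G} (hx : orderOf x = p) (hy : orderOf y = p)
    (hs : Cfsg.IsPSolvable p ↥(closure ({x, y} : Set G)))
    (hab : ∀ P : Subgroup G, IsPGroup p P → IsMulCommutative P) {i j : ℕ}
    (hi : ¬ p ∣ orderOf (x * y ^ i)) (hj : ¬ p ∣ orderOf (x * y ^ j)) :
    i % p = j % p := by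
  obtain ⟨Q, _, f, -, hreg, hreg', hexp⟩ := exists_hom hx hy hs hab
  set x' : ↥(closure ({x, y} : Set G)) := ⟨x, subset_closure (by simp)⟩
  set y' : ↥(closure ({x, y} : Set G)) := ⟨y, subset_closure (by simp)⟩
  have hi' : f x' * f y' ^ i = 1 := by
    rw [← map_pow, ← map_mul]; exact hreg' _ hi
  have hj' : f x' * f y' ^ j = 1 := by
    rw [← map_pow, ← map_mul]; exact hreg' _ hj
  have hne : f x' ≠ 1 := fun h => by
    have := hreg _ h
    rw [show ((x' : ↥(closure ({x, y} : Set G))) : G) = x from rfl, hx] at this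
    exact this dvd_rfl
  have hyne : f y' ≠ 1 := fun h => hne (by rwa [h, one_pow, mul_one] at hi')
  have hyo : orderOf (f y') = p := orderOf_eq_prime (hexp _) hyne
  have h := mul_left_cancel (hi'.trans hj'.symm)
  rwa [pow_inj_mod, hyo] at h

/-- The `p`-part of a product has order dividing `p`. -/
theorem not_dvd_orderOf_pow {x y : G} (hx : orderOf x = p) (hy : orderOf y = p)
    (hs : Cfsg.IsPSolvable p ↥(closure ({x, y} : Set G)))
    (hab : ∀ P : Subgroup G, IsPGroup p P → IsMulCommutative P) {g : G}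
    (hg : g ∈ closure ({x, y} : Set G)) : ¬ p ∣ orderOf (g ^ p) := by
  obtain ⟨Q, _, f, -, hreg, -, hexp⟩ := exists_hom hx hy hs hab
  refine hreg (⟨g, hg⟩ ^ p) ?_
  rw [map_pow]
  exact hexp _

end CfsgLib.PairSolvable
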