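import Cfsg.Agent.Kinf.SectionCount
import Cfsg.Agent.Kinf.PairSolvable
import Cfsg.Prelude.Def_Transfer

/-!
A simple group with elementary abelian Sylow `p`-subgroups, one class of elements of order `p`, centralizers with
normal `p`-complements and `p`-solvable pairs: `p = 2`.
-/

set_option autoImplicit false
set_option linter.unusedSectionVars false
set_option linter.style.haveILetI false

namespace CfsgLib.PairSimple

open Finset
open CfsgLib.Block CfsgLib.Block.Chr CfsgLib.Char CfsgLib.SectionCount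
open scoped ComplexConjugate

universe u

variable {G : Type u} [Group G] {p : ℕ}

/-- The index of the core of a centralizer with a normal `p`-complement. -/
theorem index_core [Finite G] [Fact p.Prime] {x : G}
    (h : Cfsg.HasNormalPComplement p ↥(Subgroup.centralizer ({x} : Set G))) (P : Sylow p G)
    (hP : (P : Subgroup G) ≤ Subgroup.centralizer ({x} : Set G)) :
    ∃ a, (core p x).index = p ^ a ∧ Nat.card (P : Subgroup G) = p ^ a := by
  obtain ⟨P', N, hN, hc⟩ := h
  have hp : p.Prime := Fact.out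
  obtain ⟨a, ha⟩ := IsPGroup.iff_card.1 P'.2
  have hidx : N.index = p ^ a := hc.symm.index_eq_card.trans ha
  have hcard : (Nat.card N).Coprime p := by
    have h2 : (P' : Subgroup ↥(Subgroup.centralizer ({x} : Set G))).index = Nat.card N := hc.index_eq_card
    rw [← h2]
    exact (hp.coprime_iff_not_dvd.2 P'.not_dvd_index).symm
  haveI := hN
  have hle : N ≤ core p x := CfsgLib.Solvable.le_pPrimeCore p hN hcard
  have h1 : (core p x).index = p ^ a := by
    have h3 : p ^ a ∣ (core p x).index := by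
      have h4 : p ^ a ∣ Nat.card (core p x) * (core p x).index := by
        rw [Subgroup.card_mul_index, ← ha]; exact Subgroup.card_subgroup_dvd_card _
      exact ((CfsgLib.Solvable.coprime_card_pPrimeCore p).symm.pow_left a).dvd_of_dvd_mul_left h4
    exact Nat.dvd_antisymm (hidx ▸ Subgroup.index_dvd_of_le hle) h3
  refine ⟨a, h1, le_antisymm ?_ ?_⟩
  · obtain ⟨R, hR⟩ := (P.2.comap_of_injective _ (Subgroup.subtype_injective
      (Subgroup.centralizer ({x} : Set G)))).exists_le_sylow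
    calc Nat.card (P : Subgroup G)
        = Nat.card ((P : Subgroup G).subgroupOf (Subgroup.centralizer ({x} : Set G))) :=
          (Nat.card_congr (Subgroup.subgroupOfEquivOfLe hP).toEquiv).symm
      _ ≤ Nat.card (R : Subgroup ↥(Subgroup.centralizer ({x} : Set G))) := Subgroup.card_le_of_le hR
      _ = p ^ a := by rw [← ha]; exact (Sylow.equiv R P').toEquiv |> Nat.card_congr
  · obtain ⟨R, hR⟩ := (P'.2.map (Subgroup.centralizer ({x} : Set G)).subtype).exists_le_sylow
    calc p ^ a = Nat.card ((P' : Subgroup ↥(Subgroup.centralizer ({x} : Set G))).map (Subgroup.centralizer ({x} : Set G)).subtype) := by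
          rw [Subgroup.card_map_of_injective (Subgroup.subtype_injective _), ha]
      _ ≤ Nat.card (R : Subgroup G) := Subgroup.card_le_of_le hR
      _ = Nat.card (P : Subgroup G) := Nat.card_congr (Sylow.equiv R P).toEquiv

/-- Splitting an element into a `p`-element and a `p'`-element. -/
theorem exists_decomposition [Finite G] (hp : p.Prime) (g : G) :
    ∃ u v : G, u * v = g ∧ v * u = g ∧ (∃ e, u ^ p ^ e = 1) ∧ ¬ p ∣ orderOf v ∧
      (u = 1 → ¬ p ∣ orderOf g) := by
  obtain ⟨e, m, hm, hn⟩ := Nat.exists_eq_pow_mul_and_not_dvd (orderOf_pos g).ne' p hp.ne_one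
  obtain ⟨a, b, hab⟩ : ∃ a b : ℤ, (m : ℤ) * a + ((p ^ e : ℕ) : ℤ) * b = 1 := by
    have h : IsCoprime (m : ℤ) ((p ^ e : ℕ) : ℤ) := by
      rw [Nat.isCoprime_iff_coprime]
      exact ((hp.coprime_iff_not_dvd.2 hm).pow_left e).symm
    obtain ⟨a, b, h⟩ := h
    exact ⟨a, b, by linarith⟩
  have hz : (g ^ ((p ^ e : ℕ) * m : ℤ)) = 1 := by
    rw [← Nat.cast_mul, ← hn, zpow_natCast, pow_orderOf_eq_one]
  refine ⟨g ^ ((m : ℤ) * a), g ^ (((p ^ e : ℕ) : ℤ) * b), ?_, ?_, ⟨e, ?_⟩, fun h => ?_, fun h => ?_⟩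
  · rw [← zpow_add, hab, zpow_one]
  · rw [← zpow_add, add_comm, hab, zpow_one]
  · rw [← zpow_natCast, ← zpow_mul, show (m : ℤ) * a * ((p ^ e : ℕ) : ℤ) =
      ((p ^ e : ℕ) * m : ℤ) * a by ring, zpow_mul, hz, one_zpow]
  · refine hm (h.trans (orderOf_dvd_of_pow_eq_one ?_))
    rw [← zpow_natCast, ← zpow_mul, show ((p ^ e : ℕ) : ℤ) * b * (m : ℤ) =
      ((p ^ e : ℕ) * m : ℤ) * b by ring, zpow_mul, hz, one_zpow]
  · refine fun hd => hm (hd.trans (orderOf_dvd_of_pow_eq_one ?_))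
    have hg : g ^ (((p ^ e : ℕ) : ℤ) * b) = g := by
      conv_rhs => rw [← zpow_one g, ← hab, zpow_add, h, one_mul]
    rw [← zpow_natCast, ← hg, ← zpow_mul, show ((p ^ e : ℕ) : ℤ) * b * (m : ℤ) =
      ((p ^ e : ℕ) * m : ℤ) * b by ring, zpow_mul, hz, one_zpow]

variable [Fintype G]

/-- A nontrivial character of a simple group takes its degree only at the identity. -/
theorem eq_oneIrr_of_apply [IsSimpleGroup G] (χ : Cfsg.IrrCharacter G) {x : G} (hx : x ≠ 1)
    (h : (χ : G → ℂ) x = (χ : G → ℂ) 1) : χ = oneIrr G := by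
  classical
  obtain ⟨n, σ, hirr, hσ⟩ := χ.2
  let N : Subgroup G :=
    { carrier := {g | σ g = 1}
      one_mem' := map_one σ
      mul_mem' := fun {a b} ha hb => show σ (a * b) = 1 by rw [map_mul, ha, hb, one_mul]
      inv_mem' := fun {a} ha => show σ a⁻¹ = 1 by
        have h1 : σ (a * a⁻¹) = 1 := by rw [mul_inv_cancel, map_one]
        rwa [map_mul, ha, one_mul] at h1 }
  haveI hNn : N.Normal := ⟨fun a ha g => show σ (g * a * g⁻¹) = 1 by
    rw [map_mul, map_mul, show σ a = 1 from ha, mul_one, ← map_mul, mul_inv_cancel, map_one]⟩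
  have hxN : x ∈ N := by
    refine apply_eq_one_of_character_eq σ ?_
    rw [hσ, h, ← hσ, Representation.char_one]
  have hN : N = ⊤ := hNn.eq_bot_or_eq_top.resolve_left fun hb =>
    hx (Subgroup.mem_bot.1 (hb ▸ hxN))
  have hconst : ∀ g, (χ : G → ℂ) g = (n : ℂ) := fun g => by
    rw [← hσ, Representation.character, show σ g = 1 from (hN.ge (Subgroup.mem_top g) : g ∈ N),
      LinearMap.trace_one, Module.finrank_fin_fun]
  have h11 := classInner_irr χ χ
  rw [if_pos rfl, Cfsg.classInner] at h11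
  have hG : (Nat.card G : ℂ) ≠ 0 := by exact_mod_cast (Nat.card_pos (α := G)).ne'
  simp only [hconst, Complex.conj_natCast, sum_const, card_univ, nsmul_eq_mul,
    ← Nat.card_eq_fintype_card, ← mul_assoc] at h11
  rw [inv_mul_cancel₀ hG, one_mul] at h11
  have hn1 : n = 1 := Nat.eq_one_of_mul_eq_one_right (by exact_mod_cast h11)
  exact Subtype.ext (funext fun g => by rw [hconst g, hn1, oneIrr_apply, Nat.cast_one])

/-- The value at `x`, the degree and the order of a fused abelian subgroup. -/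
theorem value_facts (P : Subgroup G) {x : G} (hx : x ∈ P) (hx1 : x ≠ 1)
    (hcl : ∀ y ∈ P, y ≠ 1 → IsConj x y) (χ : Cfsg.IrrCharacter G) :
    ∃ d : ℤ, (χ : G → ℂ) x = d ∧ (Nat.card P : ℤ) ∣ (Cfsg.charDegree (χ : G → ℂ) : ℤ) - d := by
  classical
  haveI : Fintype P := Fintype.ofFinite _
  obtain ⟨a, ha⟩ := IsCharacter.exists_classInner_eq_natCast'
    (IsCharacter.restrict (isCharacter_irr χ) P) (isCharacter_one (G := P))
  rw [Cfsg.classInner] at ha
  simp only [map_one, mul_one] at ha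
  have hsum : ∑ u : P, (χ : G → ℂ) u =
      (χ : G → ℂ) 1 + ((Nat.card P : ℂ) - 1) * (χ : G → ℂ) x := by
    rw [← Finset.add_sum_erase _ _ (mem_univ (1 : P)), OneMemClass.coe_one]
    congr 1
    rw [Finset.sum_congr rfl fun (u : P) hu => (IsClassFunction.apply_eq_of_isConj
        (isClassFunction_irr χ) (hcl u u.2 fun h => (mem_erase.1 hu).1 (Subtype.ext h))).symm,
      sum_const, card_erase_of_mem (mem_univ _), nsmul_eq_mul, card_univ,
      ← Nat.card_eq_fintype_card, Nat.cast_sub Nat.card_pos, Nat.cast_one]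
  rw [show ∑ u : P, (χ : G → ℂ) (u : G) = (χ : G → ℂ) 1 + ((Nat.card P : ℂ) - 1) * (χ : G → ℂ) x
    from hsum, inv_mul_eq_iff_eq_mul₀ (Nat.cast_ne_zero.2 Nat.card_pos.ne'), (irr_one χ).1] at ha
  haveI : Nontrivial P := ⟨⟨⟨x, hx⟩, 1, fun h => hx1 (congrArg Subtype.val h)⟩⟩
  have hq1 : (Nat.card P : ℂ) - 1 ≠ 0 := sub_ne_zero.2 (by
    exact_mod_cast (Finite.one_lt_card (α := P)).ne')
  let r : ℚ := ((Nat.card P : ℚ) * a - Cfsg.charDegree (χ : G → ℂ)) / ((Nat.card P : ℚ) - 1)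
  have hr : algebraMap ℚ ℂ r = (χ : G → ℂ) x := by
    rw [eq_ratCast]
    push_cast [r]
    rw [div_eq_iff hq1]
    linear_combination -ha
  obtain ⟨d, hd⟩ := IsIntegrallyClosed.isIntegral_iff.1
    ((isIntegral_algebraMap_iff (algebraMap ℚ ℂ).injective).1
      (hr ▸ IsCharacter.isIntegral (isCharacter_irr χ) x))
  have hd' : (χ : G → ℂ) x = d := by rw [← hr, ← hd]; simp
  refine ⟨d, hd', (a : ℤ) - d, ?_⟩
  rw [hd'] at ha
  have h2 : (((Cfsg.charDegree (χ : G → ℂ) : ℤ) - d : ℤ) : ℂ) =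
      (((Nat.card P : ℤ) * ((a : ℤ) - d) : ℤ) : ℂ) := by
    push_cast
    linear_combination ha
  exact_mod_cast h2

/-- The sum of cubes over degrees is small. -/
theorem cube_sum_le {ι : Type*} (s : Finset ι) (d n : ι → ℤ) {q : ℤ} (i₀ : ι) (hi₀ : i₀ ∈ s)
    (h0 : d i₀ = 1) (hn0 : n i₀ = 1) (hn : ∀ i ∈ s, 0 < n i) (hsq : ∑ i ∈ s, d i ^ 2 = q)
    (horth : ∑ i ∈ s, n i * d i = 0) (hbound : ∀ i ∈ s, i ≠ i₀ → 0 < d i → d i + q ≤ n i) :
    ∑ i ∈ s, ((d i : ℝ) ^ 3 / (n i : ℝ)) ≤ ((q : ℝ) + 1) / 3 := by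
  classical
  obtain ⟨i₁, hi₁, hlt⟩ : ∃ i ∈ s, d i < 0 := by
    by_contra h
    push Not at h
    have := single_le_sum (f := fun i => n i * d i) (fun i hi => mul_nonneg (hn i hi).le (h i hi)) hi₀
    rw [horth] at this
    simp [h0, hn0] at this
  have hne : i₁ ≠ i₀ := fun h => by rw [h, h0] at hlt; exact absurd hlt (by norm_num)
  have hi₁' : i₁ ∈ s.erase i₀ := mem_erase.2 ⟨hne, hi₁⟩
  rw [← add_sum_erase _ _ hi₀, h0, ← add_sum_erase _ _ hi₁'] at hsq
  rw [← add_sum_erase _ _ hi₀, ← add_sum_erase _ _ hi₁', h0, hn0]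
  have h1 : (d i₁ : ℝ) ^ 3 / (n i₁ : ℝ) ≤ 0 := by
    refine div_nonpos_of_nonpos_of_nonneg ?_ (by exact_mod_cast (hn i₁ hi₁).le)
    exact Odd.pow_nonpos (by decide) (by exact_mod_cast hlt.le)
  have hone : 1 ≤ d i₁ ^ 2 := by nlinarith
  set t := (s.erase i₀).erase i₁
  have hrest : 0 ≤ ∑ i ∈ t, d i ^ 2 := sum_nonneg fun i _ => sq_nonneg _
  have hterm : ∀ i ∈ t, (d i : ℝ) ^ 3 / (n i : ℝ) ≤ (d i : ℝ) ^ 2 / 3 := by
    intro i hi
    obtain ⟨-, hi'⟩ := mem_erase.1 hi
    obtain ⟨hi0, his⟩ := mem_erase.1 hi'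
    have hnpos : (0 : ℝ) < n i := by exact_mod_cast hn i his
    rcases le_or_gt (d i) 0 with hd | hd
    · exact (div_nonpos_of_nonpos_of_nonneg (Odd.pow_nonpos (by decide) (by exact_mod_cast hd))
        hnpos.le).trans (by positivity)
    · have hb := hbound i his hi0 hd
      have hdle : d i ^ 2 ≤ ∑ j ∈ t, d j ^ 2 :=
        single_le_sum (f := fun j => d j ^ 2) (fun j _ => sq_nonneg _) hi
      have h3 : 3 * d i ≤ n i := by nlinarith [sq_nonneg (d i - 1)]
      rw [div_le_div_iff₀ hnpos (by norm_num)]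
      have h3' : (3 : ℝ) * d i ≤ n i := by exact_mod_cast h3
      nlinarith [sq_nonneg (d i : ℝ)]
  have hsum := sum_le_sum hterm
  rw [← sum_div] at hsum
  have hsqR : (∑ i ∈ t, (d i : ℝ) ^ 2) + 2 ≤ q := by
    have : (∑ i ∈ t, d i ^ 2) + 2 ≤ q := by linarith
    exact_mod_cast this
  norm_num
  linarith

theorem eq_two [IsSimpleGroup G] [Fact p.Prime] (P : Sylow p G) (hP1 : (P : Subgroup G) ≠ ⊥)
    (hPe : Cfsg.IsElementaryAbelian p (P : Subgroup G))
    (hconj : ∀ x ∈ (P : Subgroup G), ∀ y ∈ (P : Subgroup G), x ≠ 1 → y ≠ 1 → ∃ g : G, g * x * g⁻¹ = y)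
    (hb : ∀ x ∈ (P : Subgroup G), orderOf x = p →
      Cfsg.HasNormalPComplement p ↥(Subgroup.centralizer ({x} : Set G)))
    (hc : ∀ x y : G, orderOf x = p → orderOf y = p →
      Cfsg.IsPSolvable p ↥(Subgroup.closure ({x, y} : Set G))) : p = 2 := by
  classical
  have hp : p.Prime := Fact.out
  by_contra hp2
  have hp3 : 3 ≤ p := by have := hp.two_le; omega
  obtain ⟨M, hM⟩ := exists_isPModular hp
  haveI := hM.2.1.isPrime
  letI := irrFintype (G := G)
  obtain ⟨x, hxP, hx1⟩ : ∃ x ∈ (P : Subgroup G), x ≠ 1 := by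
    by_contra h
    push Not at h
    exact hP1 ((Subgroup.eq_bot_iff_forall _).2 h)
  have hx : orderOf x = p := orderOf_eq_prime (hPe.2 x hxP) hx1
  have hxk : orderOf x = p ^ 1 := by rw [pow_one, hx]
  -- `p`-subgroups are conjugate into `P`
  have hinto : ∀ Q : Subgroup G, IsPGroup p Q → ∃ c : G, ∀ u ∈ Q, c * u * c⁻¹ ∈ (P : Subgroup G) := by
    intro Q hQ
    obtain ⟨R, hR⟩ := hQ.exists_le_sylow
    obtain ⟨c, hc'⟩ := MulAction.exists_smul_eq G R P
    refine ⟨c, fun u hu => ?_⟩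
    rw [← hc', Sylow.coe_subgroup_smul]
    exact ⟨u, hR hu, rfl⟩
  have hab : ∀ Q : Subgroup G, IsPGroup p Q → IsMulCommutative Q := by
    intro Q hQ
    obtain ⟨c, hc'⟩ := hinto Q hQ
    refine ⟨⟨fun a b => Subtype.ext ?_⟩⟩
    have h := congrArg Subtype.val
      (hPe.1.is_comm.comm ⟨_, hc' a a.2⟩ ⟨_, hc' b b.2⟩)
    simp only [Subgroup.coe_mul] at h ⊢
    calc (a : G) * b = c⁻¹ * ((c * a * c⁻¹) * (c * b * c⁻¹)) * c := by group
      _ = c⁻¹ * ((c * b * c⁻¹) * (c * a * c⁻¹)) * c := by rw [h]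
      _ = (b : G) * a := by group
  have hel : ∀ (u : G) (e : ℕ), u ^ p ^ e = 1 → u ≠ 1 → orderOf u = p ∧ IsConj x u := by
    intro u e hu hu1
    have hz : IsPGroup p (Subgroup.zpowers u) := by
      rintro ⟨v, k, rfl⟩
      refine ⟨e, Subtype.ext ?_⟩
      show (u ^ k) ^ p ^ e = 1
      rw [← zpow_natCast, zpow_comm, zpow_natCast, hu, one_zpow]
    obtain ⟨c, hc'⟩ := hinto _ hz
    have hcu := hc' u (Subgroup.mem_zpowers u)
    have hne : c * u * c⁻¹ ≠ 1 := fun h => hu1 (conj_eq_one_iff.1 h)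
    obtain ⟨g, hg⟩ := hconj x hxP _ hcu hx1 hne
    refine ⟨?_, (isConj_iff.2 ⟨g, hg⟩).trans (isConj_iff.2 ⟨c, rfl⟩).symm⟩
    refine orderOf_eq_prime ?_ hu1
    have h := hPe.2 _ hcu
    rwa [conj_pow, conj_eq_one_iff] at h
  set A := univ.filter (IsConj x) with hA
  have hAord : ∀ u ∈ A, orderOf u = p := fun u hu => by
    obtain ⟨c, hc'⟩ := isConj_iff.1 (mem_filter.1 hu).2
    rw [← hc', ← hx]
    exact orderOf_injective (MulAut.conj c).toMonoidHom (MulAut.conj c).injective x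
  -- the centralizer
  obtain ⟨a, hidx, hq⟩ := index_core (hb x hxP hx) P fun u hu =>
    Subgroup.mem_centralizer_singleton_iff.2
      (congrArg Subtype.val (hPe.1.is_comm.comm ⟨u, hu⟩ ⟨x, hxP⟩))
  -- every element is regular or in the section
  have hsplit : ∀ g : G, g ∉ section' p x ↔ ¬ p ∣ orderOf g := by
    intro g
    constructor
    · intro hg hd
      obtain ⟨u, v, huv, hvu, ⟨e, hu⟩, hv, hu1⟩ := exists_decomposition hp g
      have hune : u ≠ 1 := fun h => hu1 h hd
      obtain ⟨-, hcj⟩ := hel u e hu hune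
      obtain ⟨c, hc'⟩ := isConj_iff.1 hcj
      have hw : c⁻¹ * v * c ∈ Subgroup.centralizer ({x} : Set G) := by
        rw [Subgroup.mem_centralizer_singleton_iff]
        calc c⁻¹ * v * c * x = c⁻¹ * (v * (c * x * c⁻¹)) * c := by group
          _ = c⁻¹ * (c * x * c⁻¹ * v) * c := by rw [hc', hvu, huv]
          _ = x * (c⁻¹ * v * c) := by group
      refine hg ⟨c, ⟨_, hw⟩, ?_, ?_⟩
      · haveI := CfsgLib.Solvable.pPrimeCore_normal (G := Subgroup.centralizer ({x} : Set G)) p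
        rw [← QuotientGroup.eq_one_iff, ← orderOf_eq_one_iff]
        refine Nat.eq_one_of_dvd_coprimes ((hp.coprime_iff_not_dvd.2 hv).pow_left a) ?_
          ((orderOf_map_dvd (QuotientGroup.mk' (core p x)) _).trans ?_)
        · rw [← hidx, Subgroup.index]; exact orderOf_dvd_natCard _
        · rw [← Subgroup.orderOf_coe]
          show orderOf (c⁻¹ * v * c) ∣ orderOf v
          rw [show c⁻¹ * v * c = (MulAut.conj c⁻¹).toMonoidHom v by simp,
            orderOf_injective _ (MulAut.conj c⁻¹).injective]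
      · show c * (x * (c⁻¹ * v * c)) * c⁻¹ = g
        rw [← huv, ← hc']
        group
    · rintro hd ⟨c, v, hv, rfl⟩
      refine hd ?_
      rw [show c * (x * (v : G)) * c⁻¹ = (MulAut.conj c).toMonoidHom (x * (v : G)) from rfl,
        orderOf_injective _ (MulAut.conj c).injective,
        (show Commute x (v : G) from (Subgroup.mem_centralizer_singleton_iff.1 v.2).symm).orderOf_mul_eq_mul_orderOf_of_coprime
          (by rw [hx, Subgroup.orderOf_coe]; exact hp.coprime_iff_not_dvd.2 (not_dvd_orderOf hp hv)),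
        hx]
      exact dvd_mul_right p _
  -- at most one power of the second factor gives a regular product
  set R := (A ×ˢ A).filter fun uw : G × G => ¬ (uw.1 * uw.2 ∈ section' p x) with hR
  set S := (A ×ˢ A).filter fun uw : G × G => uw.1 * uw.2 ∈ section' p x with hS
  have hRle : R.card * (p - 1) ≤ A.card * A.card := by
    rw [← card_range (p - 1), ← card_product, ← card_product A A]
    have hcop : ∀ m, m < p - 1 → (m + 1).Coprime p := fun m hm =>
      (hp.coprime_iff_not_dvd.2 (Nat.not_dvd_of_pos_of_lt (Nat.succ_pos m) (by omega))).symm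
    refine card_le_card_of_injOn (fun t => (t.1.1, t.1.2 ^ (t.2 + 1))) ?_ ?_
    · rintro ⟨⟨u, w⟩, m⟩ ht
      simp only [coe_product, Set.mem_prod, mem_coe, hR, mem_filter, mem_product, mem_range] at ht ⊢
      obtain ⟨⟨⟨hu, hw⟩, -⟩, hm⟩ := ht
      refine ⟨hu, mem_filter.2 ⟨mem_univ _, ?_⟩⟩
      refine (hel _ 1 ?_ ?_).2
      · rw [pow_one, ← pow_mul, mul_comm, pow_mul, ← hAord w hw, pow_orderOf_eq_one, one_pow]
      · rw [Ne, ← orderOf_eq_one_iff, Nat.Coprime.orderOf_pow (by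
          rw [hAord w hw]; exact (hcop m hm).symm), hAord w hw]
        exact hp.ne_one
    · rintro ⟨⟨u, w⟩, m⟩ ht ⟨⟨u', w'⟩, m'⟩ ht' h
      simp only [coe_product, Set.mem_prod, mem_coe, hR, mem_filter, mem_product, mem_range] at ht ht'
      obtain ⟨⟨⟨hu, hw⟩, hreg⟩, hm⟩ := ht
      obtain ⟨⟨⟨-, hw'⟩, hreg'⟩, hm'⟩ := ht'
      simp only [Prod.mk.injEq] at h
      obtain ⟨rfl, hz⟩ := h
      obtain ⟨i, hi⟩ := exists_pow_eq_self_of_coprime (n := m + 1) (x := w)
        (by rw [hAord w hw]; exact hcop m hm)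
      obtain ⟨j, hj⟩ := exists_pow_eq_self_of_coprime (n := m' + 1) (x := w')
        (by rw [hAord w' hw']; exact hcop m' hm')
      have hzo : orderOf (w ^ (m + 1)) = p := by
        rw [Nat.Coprime.orderOf_pow (by rw [hAord w hw]; exact (hcop m hm).symm), hAord w hw]
      have hij := PairSolvable.pow_unique (hAord u hu) hzo (hc _ _ (hAord u hu) hzo) hab
        (i := i) (j := j) (by rw [hi]; exact (hsplit _).1 hreg)
        (by rw [hz, hj]; exact (hsplit _).1 hreg')
      have hww : w = w' := by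
        rw [← hi, ← hj, ← hz, pow_inj_mod, hzo, hij]
      subst hww
      have hmm : (m + 1) % p = (m' + 1) % p := by
        have := pow_inj_mod.1 hz
        rwa [hAord w hw] at this
      rw [Nat.mod_eq_of_lt (by omega), Nat.mod_eq_of_lt (by omega)] at hmm
      simp only [Prod.mk.injEq, true_and]
      omega
  have htot : S.card + R.card = A.card * A.card := by
    rw [← card_product, hS, hR, card_filter_add_card_filter_not]
  -- the characters
  choose d hd hdvd using fun χ : Cfsg.IrrCharacter G =>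
    value_facts (P : Subgroup G) hxP hx1
      (fun y hy hy1 => isConj_iff.2 (hconj x hxP y hy hx1 hy1)) χ
  set B := univ.filter (· ∈ Cfsg.principalBlock M G) with hB
  let n : Cfsg.IrrCharacter G → ℤ := fun χ => Cfsg.charDegree (χ : G → ℂ)
  have hn1 : ∀ χ : Cfsg.IrrCharacter G, (χ : G → ℂ) 1 = (n χ : ℂ) := fun χ => by
    rw [(irr_one χ).1]; simp [n]
  have hone : n (oneIrr G) = 1 := by
    have := hn1 (oneIrr G)
    rw [oneIrr_apply] at this
    exact_mod_cast this.symm
  have hd0 : d (oneIrr G) = 1 := by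
    have := hd (oneIrr G)
    rw [oneIrr_apply] at this
    exact_mod_cast this.symm
  have hsq : ∑ χ ∈ B, d χ ^ 2 = ((p ^ a : ℕ) : ℤ) := by
    have h := sum_sq_principal hM hxk hidx
    simp only [hd, map_intCast] at h
    rw [sum_congr rfl fun χ _ => pow_two (d χ)]
    exact_mod_cast h
  have horth : ∑ χ ∈ B, n χ * d χ = 0 := by
    have h := sum_degree_mul hM hxk hx1 hidx
    simp only [hd, hn1, map_intCast] at h
    exact_mod_cast h
  have hnpos : ∀ χ, 0 < n χ := fun χ => by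
    simpa [n] using (irr_one χ).2
  have hbound : ∀ χ ∈ B, χ ≠ oneIrr G → 0 < d χ → d χ + ((p ^ a : ℕ) : ℤ) ≤ n χ := by
    intro χ _ hne _
    have hlt : d χ < n χ := by
      refine lt_of_le_of_ne ?_ fun h => hne (eq_oneIrr_of_apply χ hx1 (by rw [hd, hn1, h]))
      have h := IsCharacter.norm_apply_le (isCharacter_irr χ) x
      rw [hd, hn1, Complex.intCast_re, Complex.norm_intCast] at h
      exact_mod_cast (le_abs_self _).trans h
    have h := Int.le_of_dvd (sub_pos.2 hlt) (hdvd χ)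
    rw [hq] at h
    linarith
  have hcube := cube_sum_le B d n (oneIrr G)
    (mem_filter.2 ⟨mem_univ _, oneIrr_mem_principalBlock⟩) hd0 hone (fun χ _ => hnpos χ) hsq horth hbound
  have hcount := card_pairs hM hxk hidx x x
  rw [← hA, ← hS, ← hB] at hcount
  simp only [hd, hn1, map_intCast] at hcount
  have hcountR : (S.card : ℝ) * (p ^ a : ℕ) =
      (A.card : ℝ) * A.card * ∑ χ ∈ B, ((d χ : ℝ) ^ 3 / (n χ : ℝ)) := by
    rw [sum_congr rfl fun χ (_ : χ ∈ B) => show ((d χ : ℝ) ^ 3 / (n χ : ℝ)) =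
      (d χ : ℝ) * d χ * d χ / (n χ : ℝ) by ring]
    exact_mod_cast hcount
  have hqp : (p : ℝ) ≤ ((p ^ a : ℕ) : ℝ) := by
    have h : p ∣ p ^ a := by
      have := Subgroup.orderOf_dvd_natCard _ hxP
      rwa [hx, hq] at this
    exact_mod_cast Nat.le_of_dvd (pow_pos hp.pos a) h
  have hApos : (0 : ℝ) < A.card := by
    exact_mod_cast card_pos.2 ⟨x, mem_filter.2 ⟨mem_univ _, IsConj.refl x⟩⟩
  have h2R : (R.card : ℝ) * 2 ≤ A.card * A.card := by
    have : R.card * 2 ≤ A.card * A.card :=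
      le_trans (Nat.mul_le_mul_left _ (by omega)) hRle
    exact_mod_cast this
  have htotR : (S.card : ℝ) + R.card = A.card * A.card := by exact_mod_cast htot
  have hp3' : (3 : ℝ) ≤ p := by exact_mod_cast hp3
  rw [Int.cast_natCast] at hcube
  have hkey : (A.card : ℝ) * A.card * ((p ^ a : ℕ) : ℝ) ≤
      2 * ((A.card : ℝ) * A.card * ((((p ^ a : ℕ) : ℝ) + 1) / 3)) := by
    have h1 : (A.card : ℝ) * A.card * ∑ χ ∈ B, ((d χ : ℝ) ^ 3 / (n χ : ℝ)) ≤
        (A.card : ℝ) * A.card * ((((p ^ a : ℕ) : ℝ) + 1) / 3) :=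
      mul_le_mul_of_nonneg_left hcube (mul_nonneg (Nat.cast_nonneg _) (Nat.cast_nonneg _))
    have h2 := mul_le_mul_of_nonneg_right (show (A.card : ℝ) * A.card ≤ 2 * S.card by linarith)
      (Nat.cast_nonneg (α := ℝ) (p ^ a))
    linarith
  nlinarith [mul_pos hApos hApos]

end CfsgLib.PairSimple
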