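import Cfsg.Agent.Kinf.WeakClosure

/-!
The steps for weak closure when `A` lies in `O_p(H)`.
-/

set_option autoImplicit false
set_option linter.unusedSectionVars false
set_option linter.style.haveILetI false

namespace CfsgLib.Kinf

open Subgroup CfsgLib.Functor
open scoped CfsgLib.Functor commutatorElement

variable {G : Type*} [Group G] [Finite G] {p : ℕ} [Fact p.Prime]

theorem iterCommutator_map {G' : Type*} [Group G'] (f : G →* G') (U Y : Subgroup G) :
    ∀ n, (Cfsg.iterCommutator U Y n).map f = Cfsg.iterCommutator (U.map f) (Y.map f) n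
  | 0 => rfl
  | n + 1 => by
    show Subgroup.map f ⁅_, Y⁆ = ⁅_, _⁆
    rw [map_commutator, iterCommutator_map f U Y n]

theorem cj_zpowers (h g : G) : h ⋆ zpowers g = zpowers (h * g * h⁻¹) := by
  rw [MonoidHom.map_zpowers]; rfl

theorem cj_eq_of_normalize {H N : Subgroup G} (hn : H ≤ normalizer (N : Set G)) {h : G}
    (hh : h ∈ H) : h ⋆ N = N := mem_normalizer_iff_cj.1 (hn hh)

/-- The global step for elements. -/
theorem element_step {H T : Subgroup G} (hT : IsSylowIn p T H) {x : G}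
    (hx : x ∈ Cfsg.pCoreOf p H) (hxT : x ∈ centralizer (T : Set G))
    (hlocal : ∃ g : G, g ∈ T ∧ g ∉ Cfsg.pCoreOf p H ∧ ∀ U V : Subgroup ↥H, Cfsg.IsChiefFactor U V →
      U.map H.subtype ≤ Cfsg.pCoreOf p H ⊓ centralizer ((Cfsg.pCoreOf p H : Subgroup G) : Set G) →
      Cfsg.iterCommutator (U.map H.subtype) (zpowers g) (p - 1) ≤ V.map H.subtype)
    (hK : ∀ K : Subgroup G, T ≤ K → K < H → (∀ k ∈ K, k ⋆ zpowers x ≤ T) → K ≤ centralizer {x}) :
    H ≤ centralizer {x} := by
  classical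
  set O := Cfsg.pCoreOf p H with hO
  set Z := O ⊓ centralizer (O : Set G) with hZ
  have hOT : O ≤ T := pCoreOf_le_sylowIn hT
  have hOn : H ≤ normalizer (O : Set G) := le_normalizer_pCoreOf p H
  have hxZ : x ∈ Z := ⟨hx, centralizer_le hOT hxT⟩
  have hZn : H ≤ normalizer (Z : Set G) := fun h hh => mem_normalizer_iff_cj.2 (by
    rw [hZ, cj_inf, cj_centralizer, cj_eq_of_normalize hOn hh])
  set cond : G → Prop := fun g => ∀ U V : Subgroup ↥H, Cfsg.IsChiefFactor U V →
    U.map H.subtype ≤ Z → Cfsg.iterCommutator (U.map H.subtype) (zpowers g) (p - 1) ≤ V.map H.subtype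
    with hcond
  have hconj : ∀ h ∈ H, ∀ g : G, cond g → cond (h * g * h⁻¹) := by
    intro h hh g hg U V hUV hU
    haveI := hUV.2.1
    haveI := hUV.2.2.1
    have := cj_mono h (hg U V hUV hU)
    rwa [iterCommutator_cj, cj_zpowers, cj_eq_of_normalize (le_normalizer_map_of_normal U) hh,
      cj_eq_of_normalize (le_normalizer_map_of_normal V) hh] at this
  have hcondO : ∀ g ∈ O, cond g := by
    intro g hg U V hUV hU
    haveI := hUV.2.1
    have h1 : ∀ n, Cfsg.iterCommutator (U.map H.subtype) (zpowers g) (n + 1) = ⊥ := by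
      intro n
      induction n with
      | zero =>
        show ⁅U.map H.subtype, zpowers g⁆ = ⊥
        exact commutator_eq_bot_iff_le_centralizer.2
          ((hU.trans inf_le_right).trans (centralizer_le (zpowers_le.2 hg)))
      | succ n ih =>
        show ⁅Cfsg.iterCommutator (U.map H.subtype) (zpowers g) (n + 1), zpowers g⁆ = ⊥
        rw [ih, commutator_bot_left]
    obtain ⟨n, hn⟩ : ∃ n, p - 1 = n + 1 :=
      ⟨p - 2, by have := (Fact.out : p.Prime).two_le; omega⟩
    rw [hn, h1]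
    exact bot_le
  set E : Set G := {e | e ∈ T ∧ cond e} with hE
  set Q := closure E with hQ
  have hQT : Q ≤ T := (closure_le _).2 fun e he => he.1
  have hOQ : O ≤ Q := fun g hg => subset_closure ⟨hOT hg, hcondO g hg⟩
  obtain ⟨g₀, hg₀T, hg₀O, hg₀⟩ := hlocal
  have hTQ : T ≤ normalizer (Q : Set G) := fun t ht => mem_normalizer_iff_cj.2 (by
    refine eq_of_le_of_card_le' ?_ (card_cj t Q).ge
    rw [hQ, MonoidHom.map_closure]
    refine closure_mono ?_
    rintro _ ⟨e, he, rfl⟩
    exact ⟨mul_mem (mul_mem ht he.1) (inv_mem ht), hconj t (hT.1 ht) e he.2⟩)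
  set K := H ⊓ normalizer (Q : Set G) with hKdef
  have hKH : K < H := lt_of_le_of_ne inf_le_left fun he => hg₀O
    (le_pCoreOf (hQT.trans hT.1) (he ▸ inf_le_right) (hT.2.1.to_le hQT)
      (subset_closure ⟨hg₀T, hg₀⟩))
  have hKC : K ≤ centralizer {x} := by
    refine hK K (le_inf hT.1 hTQ) hKH fun k hk => ?_
    refine le_trans (cj_mono k (zpowers_le.2 hxZ)) ?_
    rw [cj_eq_of_normalize hZn hk.1]
    exact inf_le_left.trans hOT
  set M := H ⊓ centralizer ({x} : Set G) with hM
  have hTM : T ≤ M := le_inf hT.1 fun t ht => mem_centralizer_singleton_iff.2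
    (mem_centralizer_iff.1 hxT t ht)
  have hTM' : IsSylowIn p T M := hT.of_le hTM inf_le_left
  have hfix : ∀ g ∈ H, (∀ e ∈ E, g⁻¹ * e * g ∈ M) → g ∈ M := by
    intro g hg he
    have hle : g⁻¹ ⋆ Q ≤ M := by
      rw [hQ, MonoidHom.map_closure, closure_le]
      rintro _ ⟨e, hee, rfl⟩
      simpa using he e hee
    obtain ⟨m, hm, hmle⟩ := hTM'.exists_cj_le (isPGroup_cj _ (hT.2.1.to_le hQT)) hle
    rw [cj_cj] at hmle
    have hmH : m * g⁻¹ ∈ H := mul_mem hm.1 (inv_mem hg)
    have hQQ : (m * g⁻¹) ⋆ Q ≤ Q := by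
      rw [hQ, MonoidHom.map_closure]
      refine closure_mono ?_
      rintro _ ⟨e, hee, rfl⟩
      exact ⟨hmle (conj_mem_cj (subset_closure hee)), hconj _ hmH e hee.2⟩
    have hk : m * g⁻¹ ∈ K :=
      ⟨hmH, mem_normalizer_iff_cj.2 (eq_of_le_of_card_le' hQQ (card_cj _ Q).ge)⟩
    have hM1 : m * g⁻¹ ∈ M := ⟨hmH, hKC hk⟩
    have := mul_mem (inv_mem hM1) hm
    simpa using this
  intro g hg
  haveI : (Z.subgroupOf H).Normal := normal_subgroupOf_of_le hZn
  have hZH : Z ≤ H := inf_le_left.trans (pCoreOf_le p H)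
  have hidx : ¬ p ∣ (M.subgroupOf H).index := fun hd => hT.2.2
    (hd.trans (Dvd.intro_left _ (relIndex_mul_relIndex T M H hTM inf_le_left)))
  have key := mem_center_of_unipotent (p := p) (A := Z.subgroupOf H)
    (((isPGroup_pCoreOf H).to_le inf_le_left).of_equiv (subgroupOfEquivOfLe hZH).symm)
    (fun a ha b hb => Subtype.ext (mem_centralizer_iff.1 (mem_subgroupOf.1 hb).2 _
      (mem_subgroupOf.1 ha).1))
    (x := ⟨x, hZH hxZ⟩) (mem_subgroupOf.2 hxZ) (M.subgroupOf H) hidx
    (fun m hm => Subtype.ext (mem_centralizer_singleton_iff.1 (mem_subgroupOf.1 hm).2))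
    (Q.subgroupOf H) ((hT.2.1.to_le hQT).of_equiv (subgroupOfEquivOfLe (hQT.trans hT.1)).symm)
    (fun q hq => mem_subgroupOf.2 (hTM (hQT hq))) (H.subtype ⁻¹' E) ?_ ?_ ?_
    (fun k hk => mem_subgroupOf.2 (hfix k k.2 fun e he => ?_)) ⟨g, hg⟩
  · exact mem_centralizer_singleton_iff.2 (congrArg Subtype.val key)
  · refine map_injective H.subtype_injective ?_
    rw [MonoidHom.map_closure, map_subgroupOf_eq_of_le (hQT.trans hT.1),
      Set.image_preimage_eq_inter_range, Set.inter_eq_left.2]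
    intro e he
    exact ⟨⟨e, hT.1 he.1⟩, rfl⟩
  · intro e he q hq
    exact ⟨mul_mem (mul_mem (hQT (mem_subgroupOf.1 hq)) he.1) (inv_mem (hQT (mem_subgroupOf.1 hq))),
      hconj q q.2 e he.2⟩
  · intro e he U V hUV hU
    rw [← map_le_map_iff_of_injective H.subtype_injective, iterCommutator_map, MonoidHom.map_zpowers]
    exact he.2 U V hUV (by
      rw [← map_subgroupOf_eq_of_le hZH]; exact map_mono hU)
  · exact mem_subgroupOf.1 (hk ⟨e, hT.1 he.1⟩ he)

/-- The global step for subgroups of `p`-th powers of central elements. -/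
theorem power_step {H T : Subgroup G} (hT : IsSylowIn p T H) {A B F : Subgroup G}
    (hA : A ≤ closure ((fun z : G => z ^ p) '' (B : Set G))) (hAO : A ≤ Cfsg.pCoreOf p H)
    (hB : B ≤ T ⊓ centralizer (T : Set G)) (hCF : centralizer (A : Set G) ≤ F)
    (hlocal : ∃ g : G, g ∈ T ∧ g ∉ Cfsg.pCoreOf p H ∧
      ⁅⁅Cfsg.pCoreOf p H ⊓ centralizer ((Cfsg.pCoreOf p H : Subgroup G) : Set G), zpowers g⁆,
        zpowers g⁆ = ⊥)
    (hK : ∀ K : Subgroup G, T ≤ K → K < H → (∀ k ∈ K, k ⋆ A ≤ T) → K ≤ F) : H ≤ F := by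
  classical
  set O := Cfsg.pCoreOf p H with hO
  have hOT : O ≤ T := pCoreOf_le_sylowIn hT
  have hOH : O ≤ H := pCoreOf_le p H
  have hOn : H ≤ normalizer (O : Set G) := le_normalizer_pCoreOf p H
  have hOp : IsPGroup p O := isPGroup_pCoreOf H
  have hKA : ∀ k ∈ H, k ⋆ A ≤ T := fun k hk =>
    ((cj_mono k hAO).trans_eq (cj_eq_of_normalize hOn hk)).trans hOT
  -- a normal subgroup whose Sylow subgroup is not in O_p
  have main : ∀ C : Subgroup G, C ≤ H → H ≤ normalizer (C : Set G) → C ≤ F → ¬ T ⊓ C ≤ O →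
      H ≤ F := by
    intro C hCH hCn hCF' hC h hh
    obtain ⟨c, hc, n, hn, rfl⟩ := hT.frattini hCH hCn hh
    refine mul_mem (hCF' hc) (hK (H ⊓ normalizer ((T ⊓ C : Subgroup G) : Set G)) ?_ ?_
      (fun k hk => hKA k hk.1) hn)
    · refine le_inf hT.1 fun t ht => mem_normalizer_iff_cj.2 ?_
      rw [cj_inf, cj_eq_self_of_mem ht, cj_eq_of_normalize hCn (hT.1 ht)]
    · exact lt_of_le_of_ne inf_le_left fun he => hC (le_pCoreOf (inf_le_left.trans hT.1)
        (he ▸ inf_le_right) (hT.2.1.to_le inf_le_left))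
  by_cases hcons : T ⊓ centralizer (O : Set G) ≤ O
  · have hBZ : B ≤ O ⊓ centralizer (O : Set G) := le_inf
      (le_trans (le_inf (hB.trans inf_le_left) ((hB.trans inf_le_right).trans (centralizer_le hOT)))
        hcons)
      ((hB.trans inf_le_right).trans (centralizer_le hOT))
    obtain ⟨g, hgT, hgO, hg⟩ := hlocal
    -- replace g by its last p-power outside O
    obtain ⟨n, hn⟩ := hT.2.1 ⟨g, hgT⟩
    have hex : ∃ k, g ^ p ^ k ∈ O := ⟨n, by
      rw [show g ^ p ^ n = 1 from congrArg Subtype.val hn]; exact one_mem O⟩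
    obtain ⟨k, hk, hk'⟩ : ∃ k, g ^ p ^ k ∉ O ∧ g ^ p ^ (k + 1) ∈ O := by
      obtain ⟨j, hj⟩ : ∃ j, Nat.find hex = j + 1 := ⟨Nat.find hex - 1,
        (Nat.succ_pred_eq_of_pos (Nat.pos_of_ne_zero fun h0 => hgO (by
          have := Nat.find_spec hex; rwa [h0, pow_zero, pow_one] at this))).symm⟩
      exact ⟨j, Nat.find_min hex (by omega), hj ▸ Nat.find_spec hex⟩
    set y := g ^ p ^ k with hy
    have hyT : y ∈ T := pow_mem hgT _
    set S₀ : Set G := (fun z : G => z ^ p) '' ((O ⊓ centralizer (O : Set G) : Subgroup G) : Set G)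
      with hS₀
    have hAC : A ≤ closure S₀ := hA.trans (closure_mono (Set.image_mono hBZ))
    have hyc : y ∈ centralizer S₀ := by
      refine mem_centralizer_iff.2 ?_
      rintro _ ⟨z, hz, rfl⟩
      have hzO : z ∈ O := hz.1
      have hzc : y * z * y⁻¹ ∈ O ⊓ centralizer (O : Set G) := by
        have h1 : y ∈ normalizer (O : Set G) := hOn (hT.1 hyT)
        have h2 := mem_normalizer_iff_cj.1 h1
        have h3 : y * z * y⁻¹ ∈ y ⋆ (O ⊓ centralizer (O : Set G)) := conj_mem_cj hz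
        rwa [cj_inf, cj_centralizer, h2] at h3
      set c := y * z * y⁻¹ * z⁻¹ with hc
      have hcO : c ∈ O ⊓ centralizer (O : Set G) := mul_mem hzc (inv_mem hz)
      have hyg : zpowers y ≤ zpowers g := zpowers_le.2 (pow_mem (mem_zpowers g) _)
      have hbot : ⁅⁅O ⊓ centralizer (O : Set G), zpowers y⁆, zpowers y⁆ = ⊥ :=
        le_bot_iff.1 (hg ▸ commutator_mono (commutator_mono le_rfl hyg) hyg)
      have hc1 : c ∈ ⁅O ⊓ centralizer (O : Set G), zpowers y⁆ := by
        have := inv_mem (commutator_mem_commutator hz (mem_zpowers y))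
        simpa [hc, commutatorElement_def, mul_assoc] using this
      have hcy : y * c = c * y :=
        (mem_centralizer_iff.1 (commutator_eq_bot_iff_le_centralizer.1 hbot hc1) y (mem_zpowers y))
      have hiter : ∀ i : ℕ, y ^ i * z * (y ^ i)⁻¹ = c ^ i * z := by
        intro i
        induction i with
        | zero => simp
        | succ i ih =>
          have hyi : y * c ^ i = c ^ i * y := (show Commute y c from hcy).pow_right i
          calc y ^ (i + 1) * z * (y ^ (i + 1))⁻¹ = y * (y ^ i * z * (y ^ i)⁻¹) * y⁻¹ := by group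
            _ = (y * c ^ i) * z * y⁻¹ := by rw [ih]; group
            _ = c ^ i * (y * z * y⁻¹) := by rw [hyi]; group
            _ = c ^ (i + 1) * z := by rw [pow_succ, mul_assoc (c ^ i) c z]; congr 1; rw [hc]; group
      have hcp : c ^ p = 1 := by
        have h1 := hiter p
        have hyp : y ^ p ∈ O := by rw [hy, ← pow_mul, ← pow_succ]; exact hk'
        rw [← mem_centralizer_iff.1 hz.2 _ hyp |>.symm, mul_inv_cancel_right] at h1
        exact mul_eq_right.1 h1.symm
      have hzc' : Commute c z := mem_centralizer_iff.1 hz.2 c hcO.1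
      have hfinal : y * z ^ p * y⁻¹ = z ^ p := by
        rw [← conj_pow, show y * z * y⁻¹ = c * z by rw [hc]; group, hzc'.mul_pow, hcp, one_mul]
      calc z ^ p * y = (y * z ^ p * y⁻¹) * y := by rw [hfinal]
        _ = y * z ^ p := by group
    have hS₀n : ∀ h ∈ H, ∀ s ∈ S₀, h * s * h⁻¹ ∈ S₀ := by
      rintro h hh _ ⟨z, hz, rfl⟩
      refine ⟨h * z * h⁻¹, ?_, conj_pow⟩
      have h3 : h * z * h⁻¹ ∈ h ⋆ (O ⊓ centralizer (O : Set G)) := conj_mem_cj hz
      rwa [cj_inf, cj_centralizer, cj_eq_of_normalize hOn hh] at h3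
    refine main (H ⊓ centralizer S₀) inf_le_left (fun h hh => ?_) ?_ ?_
    · refine mem_normalizer_iff_cj.2 (eq_of_le_of_card_le' ?_ (card_cj h _).ge)
      rintro _ ⟨c, ⟨hcH, hc⟩, rfl⟩
      refine mem_inf.2 ⟨mul_mem (mul_mem hh hcH) (inv_mem hh), mem_centralizer_iff.2 fun s hs => ?_⟩
      have h1 := mem_centralizer_iff.1 hc _ (by simpa using hS₀n h⁻¹ (inv_mem hh) s hs)
      show s * (h * c * h⁻¹) = h * c * h⁻¹ * s
      calc s * (h * c * h⁻¹) = h * ((h⁻¹ * s * h) * c) * h⁻¹ := by group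
        _ = h * (c * (h⁻¹ * s * h)) * h⁻¹ := by rw [h1]
        _ = _ := by group
    · refine le_trans inf_le_right (le_trans ?_ hCF)
      rw [← centralizer_closure]
      exact centralizer_le hAC
    · exact fun hle => hk (hle ⟨hyT, hT.1 hyT, hyc⟩)
  · refine main (H ⊓ centralizer (O : Set G)) inf_le_left (fun h hh => ?_) ?_ ?_
    · exact mem_normalizer_iff_cj.2 (by
        rw [cj_inf, cj_centralizer, cj_eq_self_of_mem hh, cj_eq_of_normalize hOn hh])
    · exact inf_le_right.trans ((centralizer_le hAO).trans hCF)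
    · rw [← inf_assoc, inf_eq_left.2 hT.1]
      exact hcons

end CfsgLib.Kinf
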