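import Cfsg.Agent.Kinf.SectionOf
import Cfsg.Agent.Kinf.GlobalSteps

/-!
Consequences for the K-infinity subgroups; normal subgroups of index `p`.
-/

set_option autoImplicit false
set_option linter.unusedSectionVars false
set_option linter.style.haveILetI false

namespace CfsgLib.Kinf

open Subgroup CfsgLib.Functor
open scoped CfsgLib.Functor commutatorElement

universe u

variable {G : Type u} [Group G] [Finite G] {p : ℕ} [Fact p.Prime]

theorem center_le_inducedLower (P : Subgroup G) (hP : IsPGroup p P) :
    P ⊓ centralizer (P : Set G) ≤ Cfsg.inducedFunctor (G := G) Cfsg.kInfLower P := by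
  rintro x ⟨hxP, hx⟩
  refine ⟨⟨x, hxP⟩, centralizer_kInfLower_le hP (center_le_centralizer _ (mem_center_iff.2 fun y => ?_)), rfl⟩
  exact Subtype.ext (mem_centralizer_iff.1 hx y y.2)

/-- A quadratic element on `Z(O_p(H))` when the lower K-infinity subgroup is not normal in `H`. -/
theorem exists_quadratic_center {H T : Subgroup G} (hT : IsSylowIn p T H)
    (hne : ¬ H ≤ normalizer ((Cfsg.inducedFunctor (G := G) Cfsg.kInfLower T : Subgroup G) : Set G)) :
    ∃ g : G, g ∈ T ∧ g ∉ Cfsg.pCoreOf p H ∧
      ⁅⁅Cfsg.pCoreOf p H ⊓ centralizer (Cfsg.pCoreOf p H : Set G), zpowers g⁆, zpowers g⁆ = ⊥ := by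
  obtain ⟨P, hP⟩ := hT.exists_sylow
  have hW := (isCharPFunctor_kInf.{u} p).1.2
  have hmap : Cfsg.inducedFunctor (G := G) Cfsg.kInfLower T =
      (Cfsg.inducedFunctor (G := H) Cfsg.kInfLower (P : Subgroup H)).map H.subtype := by
    rw [← hP]
    exact induced_map hW H.subtype _ P.2 fun x _ hx => H.subtype_injective (hx.trans H.subtype.map_one.symm)
  obtain ⟨g, hgP, hgT, -, hg, -⟩ := exists_quartic P (Or.inl fun hn => hne (by
    rw [hmap]; haveI := hn; exact le_normalizer_map_of_normal _))
  refine ⟨g, hP.le (mem_map_of_mem _ hgP), fun h => hgT ?_, ?_⟩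
  · obtain ⟨y, hy, hyg⟩ := h
    rwa [H.subtype_injective hyg] at hy
  · have h1 := congrArg (Subgroup.map H.subtype) hg
    rwa [map_commutator, map_commutator, MonoidHom.map_zpowers, center_map H.subtype H.subtype_injective,
      Subgroup.map_bot] at h1

/-- Iterated commutators with a quadratic element vanish from degree two on. -/
theorem iterCommutator_of_quadratic {Z U : Subgroup G} {g : G}
    (h : ⁅⁅Z, zpowers g⁆, zpowers g⁆ = ⊥) (hU : U ≤ Z) {n : ℕ} (hn : 2 ≤ n) :
    Cfsg.iterCommutator U (zpowers g) n = ⊥ := by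
  obtain ⟨k, rfl⟩ := Nat.exists_eq_add_of_le hn
  induction k with
  | zero => exact le_bot_iff.1 (h ▸ commutator_mono (commutator_mono hU le_rfl) le_rfl)
  | succ k ih =>
    show ⁅Cfsg.iterCommutator U (zpowers g) (2 + k), zpowers g⁆ = ⊥
    rw [ih (by omega), commutator_bot_left]

/-- Control of transfer by a K-infinity subgroup for `p ≥ 5`. -/
theorem transfer_kInf (hp : 5 ≤ p) (W : ∀ (Q : Type u) [Group Q], Subgroup Q)
    (hW : Cfsg.IsCharPFunctor.{u} p W)
    (hor : ∀ (Γ : Type u) [Group Γ] [Finite Γ] (S : Sylow p Γ),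
      ¬ (Cfsg.inducedFunctor (G := Γ) W (S : Subgroup Γ)).Normal →
      ¬ (Cfsg.inducedFunctor (G := Γ) Cfsg.kInfLower (S : Subgroup Γ)).Normal ∨
      ¬ (Cfsg.inducedFunctor (G := Γ) Cfsg.kInfUpper (S : Subgroup Γ)).Normal)
    (K R : Subgroup G) [(R.subgroupOf K).Normal] :
    Cfsg.FamilyControlsTransferIn p (family (↥K ⧸ R.subgroupOf K) {W}) ⊤ := by
  have h𝓦 : ∀ V ∈ ({W} : Set (∀ (Q : Type u) [Group Q], Subgroup Q)), Cfsg.IsCharPFunctor.{u} p V :=
    fun V hV => by rw [Set.mem_singleton_iff] at hV; exact hV ▸ hW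
  refine transfer_of_constrained_aux h𝓦 (Set.singleton_nonempty W) (fun K R _ _ S hnt hlast => ?_) K R
  obtain ⟨g, hgS, hgO, hg, -⟩ := exists_quartic S (hor _ S fun hn => hnt W rfl (by
    rw [Subgroup.normalizer_eq_top_iff]; exact hn))
  obtain ⟨X, V, hXV, hX, hne⟩ := hlast g hgS hgO
  exact absurd (killsBelow_mono (show 4 ≤ p - 1 by omega) le_rfl hg X V hXV hX) hne

theorem transfer_kInf_group (hp : 5 ≤ p) (W : ∀ (Q : Type u) [Group Q], Subgroup Q)
    (hW : Cfsg.IsCharPFunctor.{u} p W)
    (hor : ∀ (Γ : Type u) [Group Γ] [Finite Γ] (S : Sylow p Γ),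
      ¬ (Cfsg.inducedFunctor (G := Γ) W (S : Subgroup Γ)).Normal →
      ¬ (Cfsg.inducedFunctor (G := Γ) Cfsg.kInfLower (S : Subgroup Γ)).Normal ∨
      ¬ (Cfsg.inducedFunctor (G := Γ) Cfsg.kInfUpper (S : Subgroup Γ)).Normal) :
    Cfsg.FamilyControlsTransferIn p (family G {W}) ⊤ := by
  have h𝓦 : ∀ V ∈ ({W} : Set (∀ (Q : Type u) [Group Q], Subgroup Q)), Cfsg.IsCharPFunctor.{u} p V :=
    fun V hV => by rw [Set.mem_singleton_iff] at hV; exact hV ▸ hW
  exact transfer_of_bot_section h𝓦 ⊤ (transfer_kInf hp W hW hor ⊤ ⊥)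

theorem transfer_eq {W : ∀ (Q : Type u) [Group Q], Subgroup Q} (hW : Cfsg.IsCharPFunctor.{u} p W)
    (h : Cfsg.FamilyControlsTransferIn p (family G {W}) ⊤) (S : Sylow p G) :
    (S : Subgroup G) ⊓ commutator G = (S : Subgroup G) ⊓
      ⁅normalizer ((Cfsg.inducedFunctor (G := G) W (S : Subgroup G) : Subgroup G) : Set G),
        normalizer ((Cfsg.inducedFunctor (G := G) W (S : Subgroup G) : Subgroup G) : Set G)⁆ := by
  have h𝓦 : ∀ V ∈ ({W} : Set (∀ (Q : Type u) [Group Q], Subgroup Q)), Cfsg.IsCharPFunctor.{u} p V :=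
    fun V hV => by rw [Set.mem_singleton_iff] at hV; exact hV ▸ hW
  have h1 := (familyTransfer_iff (family_conjugacy h𝓦) (isSylowIn_top S)).1 h
  rw [transferGen_family, iSup_singleton] at h1
  rw [_root_.commutator_def]
  exact le_antisymm h1 (inf_le_inf_left _ (commutator_mono le_top le_top))

/-- A Sylow subgroup centralized by the `p'`-elements of its normalizer is not in the derived group,
when a functor controls transfer in every section. -/
theorem not_le_commutator {W : ∀ (Q : Type u) [Group Q], Subgroup Q} (hW : Cfsg.IsCharPFunctor.{u} p W)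
    (hctl : ∀ (K R : Subgroup G) [(R.subgroupOf K).Normal],
      Cfsg.FamilyControlsTransferIn p (family (↥K ⧸ R.subgroupOf K) {W}) ⊤) :
    ∀ (n : ℕ) (Γ : Type u) [Group Γ] [Finite Γ], Nat.card Γ ≤ n → IsSectionOf G Γ → ∀ S : Sylow p Γ,
      (S : Subgroup Γ) ≠ ⊥ → (∀ g ∈ normalizer ((S : Subgroup Γ) : Set Γ), (orderOf g).Coprime p →
        g ∈ centralizer ((S : Subgroup Γ) : Set Γ)) → ¬ (S : Subgroup Γ) ≤ commutator Γ := by
  have h𝓦 : ∀ V ∈ ({W} : Set (∀ (Q : Type u) [Group Q], Subgroup Q)), Cfsg.IsCharPFunctor.{u} p V :=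
    fun V hV => by rw [Set.mem_singleton_iff] at hV; exact hV ▸ hW
  intro n
  induction n with
  | zero => intro Γ _ _ h; have : 0 < Nat.card Γ := Nat.card_pos; omega
  | succ n ih =>
    intro Γ _ _ hcard hsec S hS hN hle
    set WS := Cfsg.inducedFunctor (G := Γ) W (S : Subgroup Γ) with hWS
    have hWle : WS ≤ S := map_subtype_le _
    have hWne : WS ≠ ⊥ := (isConjugacyFunctor_induced hW _ S.2).2.1 hS
    set N := normalizer (WS : Set Γ) with hNdef
    have hNS : normalizer ((S : Subgroup Γ) : Set Γ) ≤ N :=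
      normalizer_le_functor (isConjugacyFunctor_induced hW) S.2
    have hSN : (S : Subgroup Γ) ≤ N := le_normalizer.trans hNS
    by_cases hNtop : N = ⊤
    · haveI : WS.Normal := Subgroup.normalizer_eq_top_iff.1 hNtop
      set π := QuotientGroup.mk' WS with hπ
      have hπs : Function.Surjective π := QuotientGroup.mk'_surjective WS
      have hSb : IsSylowIn p ((S : Subgroup Γ).map π) ⊤ := by
        have := (isSylowIn_top S).map π
        rwa [map_top_of_surjective π hπs] at this
      obtain ⟨P, hP⟩ := hSb.exists_sylow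
      by_cases hSW : (S : Subgroup Γ) = WS
      · -- `S` is normal and its `p'`-elements centralize it
        haveI : (S : Subgroup Γ).Normal := hSW ▸ inferInstance
        have hSn : normalizer ((S : Subgroup Γ) : Set Γ) = ⊤ := normalizer_eq_top _
        set C := centralizer ((S : Subgroup Γ) : Set Γ) with hC
        haveI hCn : C.Normal := Subgroup.normalizer_eq_top_iff.1 (top_le_iff.1 fun x _ => by
          rw [mem_normalizer_iff_cj, cj_centralizer, mem_normalizer_iff_cj.1 (hSn.ge (mem_top x))])
        have htop : (S : Subgroup Γ) ⊔ C = ⊤ := by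
          refine top_le_iff.1 fun x _ => ?_
          obtain ⟨k, m, hm, hkm⟩ := Nat.exists_eq_pow_mul_and_not_dvd (orderOf_pos x).ne' p
            (Fact.out : p.Prime).ne_one
          have h1 : x ^ p ^ k ∈ C := hN _ (hSn.ge (mem_top _)) (by
            rw [orderOf_pow' x (pow_ne_zero k (Fact.out : p.Prime).ne_zero), hkm, Nat.gcd_mul_right_left,
              Nat.mul_div_cancel_left _ (pow_pos (Fact.out : p.Prime).pos k)]
            exact ((Fact.out : p.Prime).coprime_iff_not_dvd.2 hm).symm)
          set SC := (S : Subgroup Γ) ⊔ C with hSC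
          have hp' : ¬ p ∣ SC.index := fun h => S.not_dvd_index (h.trans (index_dvd_of_le le_sup_left))
          have hk : ((QuotientGroup.mk' SC x) : Γ ⧸ SC) ^ p ^ k = 1 := by
            rw [← map_pow]
            exact (QuotientGroup.eq_one_iff _).2 ((le_sup_right : C ≤ SC) h1)
          have hcard' : orderOf (QuotientGroup.mk' SC x) ∣ SC.index := by
            rw [index_eq_card]; exact orderOf_dvd_natCard _
          obtain ⟨j, -, hj⟩ := (Nat.dvd_prime_pow (Fact.out : p.Prime)).1 (orderOf_dvd_of_pow_eq_one hk)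
          rcases j with _ | j
          · rw [pow_zero, orderOf_eq_one_iff] at hj
            exact (QuotientGroup.eq_one_iff x).1 hj
          · exact absurd ((hj ▸ dvd_pow_self p j.succ_ne_zero).trans hcard') hp'
        have hder : ∀ a ∈ (S : Subgroup Γ), a ∈ ⁅(S : Subgroup Γ), (S : Subgroup Γ)⁆ ⊔ ⁅C, C⁆ := by
          intro a ha
          have hh : commutator Γ ≤ ⁅(S : Subgroup Γ), (S : Subgroup Γ)⁆ ⊔ ⁅C, C⁆ := by
            rw [_root_.commutator_def, ← htop]
            refine commutator_le.2 fun x hx y hy => ?_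
            rw [mem_sup_of_normal_right] at hx hy
            obtain ⟨s, hs, c, hc, rfl⟩ := hx
            obtain ⟨t, ht, d, hd, rfl⟩ := hy
            have e1 : Commute c t := (mem_centralizer_iff.1 hc t ht).symm
            have e2 : Commute d s := (mem_centralizer_iff.1 hd s hs).symm
            have e3 : ∀ w ∈ (S : Subgroup Γ), Commute c w := fun w hw => (mem_centralizer_iff.1 hc w hw).symm
            have e4 : ∀ w ∈ (S : Subgroup Γ), Commute d w := fun w hw => (mem_centralizer_iff.1 hd w hw).symm
            rw [show ⁅s * c, t * d⁆ = ⁅s, t⁆ * ⁅c, d⁆ by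
              simp only [commutatorElement_def]
              calc s * c * (t * d) * (s * c)⁻¹ * (t * d)⁻¹
                  = s * (c * t) * d * c⁻¹ * s⁻¹ * d⁻¹ * t⁻¹ := by group
                _ = s * t * (c * d * c⁻¹ * d⁻¹) * (d * s⁻¹) * d⁻¹ * t⁻¹ := by rw [e1.eq]; group
                _ = s * t * (c * d * c⁻¹ * d⁻¹) * (s⁻¹ * t⁻¹) := by
                  rw [(e4 _ (inv_mem hs)).eq]; group
                _ = s * t * (s⁻¹ * t⁻¹) * (c * d * c⁻¹ * d⁻¹) := by
                  have h2 : Commute (c * d * c⁻¹ * d⁻¹) (s⁻¹ * t⁻¹) := by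
                    have hw := mul_mem (inv_mem hs) (inv_mem ht)
                    exact (((e3 _ hw).mul_left (e4 _ hw)).mul_left (e3 _ hw).inv_left).mul_left
                      (e4 _ hw).inv_left
                  rw [mul_assoc, h2.eq]; group
                _ = _ := by group]
            exact mul_mem ((le_sup_left : _ ≤ _ ⊔ ⁅C, C⁆) (commutator_mem_commutator hs ht))
              ((le_sup_right : ⁅C, C⁆ ≤ _) (commutator_mem_commutator hc hd))
          exact hh (hle ha)
        set S' := ⁅(S : Subgroup Γ), (S : Subgroup Γ)⁆ with hS'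
        have hS'lt : ¬ (S : Subgroup Γ) ≤ S' := by
          intro h
          haveI : Group.IsNilpotent (S : Subgroup Γ) := (S.2).isNilpotent
          haveI : Group.IsSolvable (S : Subgroup Γ) := IsNilpotent.to_isSolvable
          haveI : Nontrivial (S : Subgroup Γ) := (nontrivial_iff_ne_bot _).2 hS
          refine (Group.IsSolvable.commutator_lt_top_of_nontrivial (S : Subgroup Γ)).ne
            (map_injective (S : Subgroup Γ).subtype_injective ?_)
          rw [map_subtype_commutator, ← MonoidHom.range_eq_map, range_subtype]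
          exact le_antisymm (commutator_le_self _) h
        -- the p-part of the centralizer is central in it
        set CS := C ⊓ (S : Subgroup Γ) with hCS
        have hCcomm : ⁅C, C⁆ ⊓ (S : Subgroup Γ) = ⊥ := by
          obtain ⟨Q, hQ⟩ := ((isSylowIn_top S).inf_normal (le_top : C ≤ ⊤) (by rw [normalizer_eq_top])).exists_sylow
          have hQc : normalizer ((Q : Subgroup C) : Set C) ≤ centralizer ((Q : Subgroup C) : Set C) := by
            intro c _
            refine mem_centralizer_iff.2 fun q hq => Subtype.ext ?_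
            exact mem_centralizer_iff.1 c.2 _ (hQ.le (mem_map_of_mem _ hq)).1
          refine le_bot_iff.1 fun x hx => ?_
          have hxC : x ∈ C := commutator_le_self C hx.1
          have hxker : (⟨x, hxC⟩ : C) ∈ (MonoidHom.transferSylow Q hQc).ker := by
            haveI : IsMulCommutative (Q : Subgroup C) :=
              ⟨⟨fun a b => Subtype.ext (hQc (le_normalizer b.2) a a.2)⟩⟩
            have : x ∈ (commutator C).map C.subtype := by rw [map_subtype_commutator]; exact hx.1
            obtain ⟨y, hy, hyx⟩ := this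
            rw [show (⟨x, hxC⟩ : C) = y from Subtype.ext hyx.symm]
            have hle : commutator C ≤ (MonoidHom.transferSylow Q hQc).ker := by
              rw [_root_.commutator_def]
              refine commutator_le.2 fun a _ b _ => ?_
              rw [MonoidHom.mem_ker, map_commutatorElement, commutatorElement_eq_one_iff_mul_comm]
              exact mul_comm' _ _
            exact hle hy
          obtain ⟨y, hy, hyx⟩ := hQ.ge (⟨hx.2, hxC⟩ : x ∈ (S : Subgroup Γ) ⊓ C)
          rw [show (⟨x, hxC⟩ : C) = y from Subtype.ext hyx.symm] at hxker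
          have hdisj := (MonoidHom.ker_transferSylow_disjoint Q hQc (Q : Subgroup C) Q.2).le_bot ⟨hxker, hy⟩
          rw [mem_bot] at hdisj ⊢
          rw [← hyx, hdisj, map_one]
        refine hS'lt fun a ha => ?_
        have h := hder a ha
        rw [mem_sup_of_normal_right] at h
        obtain ⟨u, hu, v, hv, rfl⟩ := h
        have hvS : v ∈ (S : Subgroup Γ) := by
          simpa using mul_mem (inv_mem (commutator_le_self _ hu)) ha
        have hv1 : v ∈ (⊥ : Subgroup Γ) := hCcomm ▸ (⟨hv, hvS⟩ : v ∈ ⁅C, C⁆ ⊓ (S : Subgroup Γ))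
        rw [mem_bot.1 hv1, mul_one]; exact hu
      · have hPmap : (P : Subgroup (⊤ : Subgroup (Γ ⧸ WS))).map (⊤ : Subgroup (Γ ⧸ WS)).subtype =
            (S : Subgroup Γ).map π := hP
        let S' : Sylow p (Γ ⧸ WS) := S.mapSurjective hπs
        refine ih (Γ ⧸ WS) ?_ (hsec.quotient WS) S' ?_ ?_ ?_
        · have h1 := Subgroup.card_eq_card_quotient_mul_card_subgroup WS
          have h2 : 1 < Nat.card WS := WS.one_lt_card_iff_ne_bot.2 hWne
          have h3 : 0 < Nat.card (Γ ⧸ WS) := Nat.card_pos
          nlinarith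
        · show (S : Subgroup Γ).map π ≠ ⊥
          rw [Ne, Subgroup.map_eq_bot_iff, hπ, QuotientGroup.ker_mk']
          exact fun h => hSW (le_antisymm h hWle)
        · intro y hy hco
          change y ∈ normalizer (((S : Subgroup Γ).map π : Subgroup _) : Set _) at hy
          obtain ⟨x, rfl⟩ := hπs y
          have hx : x ∈ normalizer ((S : Subgroup Γ) : Set Γ) := by
            rw [mem_normalizer_iff_cj]
            have h1 := mem_normalizer_iff_cj.1 hy
            have h2 : ((x ⋆ (S : Subgroup Γ)).map π) = (S : Subgroup Γ).map π := by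
              rw [← h1, map_map, map_map]; congr 1
            have h3 := congrArg (Subgroup.comap π) h2
            rw [comap_map_eq, comap_map_eq, hπ, QuotientGroup.ker_mk'] at h3
            have hWx : WS ≤ x ⋆ (S : Subgroup Γ) := by
              rw [← mem_normalizer_iff_cj.1 (hNtop.ge (mem_top x) : x ∈ N)]
              exact cj_mono x hWle
            rwa [sup_eq_left.2 hWle, sup_eq_left.2 hWx] at h3
          obtain ⟨k, m, hm, hkm⟩ := Nat.exists_eq_pow_mul_and_not_dvd (orderOf_pos x).ne' p
            (Fact.out : p.Prime).ne_one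
          have h1 : x ^ p ^ k ∈ centralizer ((S : Subgroup Γ) : Set Γ) := hN _ (pow_mem hx _) (by
            rw [orderOf_pow' x (pow_ne_zero k (Fact.out : p.Prime).ne_zero), hkm, Nat.gcd_mul_right_left,
              Nat.mul_div_cancel_left _ (pow_pos (Fact.out : p.Prime).pos k)]
            exact ((Fact.out : p.Prime).coprime_iff_not_dvd.2 hm).symm)
          show π x ∈ centralizer (((S : Subgroup Γ).map π : Subgroup _) : Set _)
          refine mem_of_pow_mem_of_coprime (n := p ^ k) ?_ (Nat.Coprime.pow_left k hco.symm)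
          rw [← map_pow]
          refine mem_centralizer_iff.2 ?_
          rintro _ ⟨z, hz, rfl⟩
          rw [← map_mul, ← map_mul, mem_centralizer_iff.1 h1 z hz]
        · show (S : Subgroup Γ).map π ≤ commutator (Γ ⧸ WS)
          rw [_root_.commutator_def, ← map_top_of_surjective π hπs, ← map_commutator,
            ← _root_.commutator_def]
          exact map_mono hle
    · have h1 := transfer_eq hW (hsec.transfer h𝓦 hctl) S
      rw [inf_eq_left.2 hle] at h1
      have hle' : (S : Subgroup Γ) ≤ ⁅N, N⁆ := h1.le.trans inf_le_right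
      refine ih ↥N ?_ (hsec.subgroup N) (S.subtype hSN) ?_ ?_ ?_
      · have : Nat.card N < Nat.card Γ := lt_of_le_of_ne N.card_le_card_group
          fun he => hNtop (Subgroup.eq_top_of_card_eq N he)
        omega
      · rw [Sylow.coe_subtype, Ne, subgroupOf_eq_bot, disjoint_iff, inf_eq_left.2 hSN]
        exact hS
      · intro g hg hco
        rw [Sylow.coe_subtype] at hg ⊢
        have hgmap : (g : Γ) ∈ normalizer ((S : Subgroup Γ) : Set Γ) := by
          have h2 := mem_map_of_mem N.subtype hg
          rw [map_normalizer_eq, map_subgroupOf_eq_of_le hSN] at h2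
          exact h2.2
        have := hN g hgmap (by rwa [Subgroup.orderOf_coe])
        exact mem_centralizer_iff.2 fun z hz => Subtype.ext (mem_centralizer_iff.1 this z hz)
      · rw [Sylow.coe_subtype, ← map_le_map_iff_of_injective N.subtype_injective,
          map_subgroupOf_eq_of_le hSN, map_subtype_commutator]
        exact hle'

/-- A Sylow subgroup outside the derived group gives a normal subgroup of index `p`. -/
theorem exists_index_p (S : Sylow p G) (h : ¬ (S : Subgroup G) ≤ commutator G) :
    ∃ N : Subgroup G, N.Normal ∧ N.index = p := by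
  classical
  set G' := commutator G with hG'
  have hdvd : p ∣ Nat.card (G ⧸ G') := by
    obtain ⟨x, hxS, hx⟩ := SetLike.not_le_iff_exists.1 h
    obtain ⟨k, hk⟩ := IsPGroup.iff_orderOf.1 S.2 ⟨x, hxS⟩
    rw [Subgroup.orderOf_mk] at hk
    have h1 : orderOf (QuotientGroup.mk' G' x) ∣ p ^ k := hk ▸ orderOf_map_dvd _ x
    obtain ⟨j, -, hj⟩ := (Nat.dvd_prime_pow (Fact.out : p.Prime)).1 h1
    rcases j with _ | j
    · rw [pow_zero, orderOf_eq_one_iff] at hj
      exact absurd ((QuotientGroup.eq_one_iff x).1 hj) hx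
    · exact (hj ▸ dvd_pow_self p j.succ_ne_zero).trans (orderOf_dvd_natCard _)
  let f : G ⧸ G' →* G ⧸ G' :=
    { toFun := fun a => a ^ p
      map_one' := one_pow p
      map_mul' := fun a b => by
        obtain ⟨a, rfl⟩ := QuotientGroup.mk'_surjective G' a
        obtain ⟨b, rfl⟩ := QuotientGroup.mk'_surjective G' b
        refine Commute.mul_pow ?_ p
        show _ = _
        rw [← map_mul, ← map_mul]
        refine (QuotientGroup.eq.2 ?_)
        rw [show (a * b)⁻¹ * (b * a) = ⁅b⁻¹, a⁻¹⁆ by simp only [commutatorElement_def]; group, hG',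
          _root_.commutator_def]
        exact commutator_mem_commutator (mem_top _) (mem_top _) }
  have hrange : f.range ≠ ⊤ := by
    intro htop
    obtain ⟨y, hy⟩ := exists_prime_orderOf_dvd_card' (G := G ⧸ G') p hdvd
    have hinj : Function.Injective f :=
      Finite.injective_iff_surjective.2 (MonoidHom.range_eq_top.1 htop)
    have h1 : f y = f 1 := by
      show y ^ p = (1 : G ⧸ G') ^ p
      rw [one_pow, ← hy, pow_orderOf_eq_one]
    rw [hinj h1, orderOf_one] at hy
    exact (Fact.out : p.Prime).ne_one hy.symm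
  have hcomap : f.range.comap (QuotientGroup.mk' G') ≠ ⊤ := fun he => hrange (by
    rw [← map_comap_eq_self_of_surjective (QuotientGroup.mk'_surjective G') f.range, he,
      map_top_of_surjective _ (QuotientGroup.mk'_surjective G')])
  obtain ⟨M, hMle, hM⟩ := (Set.toFinite {M : Subgroup G | M ≠ ⊤}).exists_le_maximal
    (a := f.range.comap (QuotientGroup.mk' G')) hcomap
  have hGM : G' ≤ M := fun x hx => hMle (mem_comap.2
    ⟨1, by rw [map_one, show QuotientGroup.mk' G' x = 1 from (QuotientGroup.eq_one_iff x).2 hx]⟩)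
  have hMn : M.Normal := ⟨fun m hm g => by
    have hc : ⁅g, m⁆ ∈ M := hGM (by
      rw [hG', _root_.commutator_def]; exact commutator_mem_commutator (mem_top g) (mem_top m))
    simpa [commutatorElement_def, mul_assoc] using mul_mem hc hm⟩
  refine ⟨M, hMn, ?_⟩
  haveI := hMn
  obtain ⟨x, -, hx⟩ := SetLike.exists_of_lt (lt_top_iff_ne_top.2 hM.prop)
  set π := QuotientGroup.mk' M with hπ
  have hord : orderOf (π x) = p := by
    refine orderOf_eq_prime ?_ fun h1 => hx ((QuotientGroup.eq_one_iff x).1 h1)
    rw [← map_pow]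
    refine (QuotientGroup.eq_one_iff _).2 (hMle ⟨QuotientGroup.mk' G' x, ?_⟩)
    exact (map_pow (QuotientGroup.mk' G') x p).symm
  have hz : zpowers (π x) = ⊤ := by
    rw [← map_comap_eq_self_of_surjective (QuotientGroup.mk'_surjective M) (zpowers (π x))]
    have htop : (zpowers (π x)).comap π = ⊤ := by
      by_contra hne
      refine hx (hM.2 hne (fun m hm => ?_) (mem_zpowers (π x) : x ∈ (zpowers (π x)).comap π))
      show π m ∈ zpowers (π x)
      rw [show π m = 1 from (QuotientGroup.eq_one_iff m).2 hm]
      exact one_mem _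
    rw [← hπ, htop, map_top_of_surjective π (QuotientGroup.mk'_surjective M)]
  rw [index_eq_card, ← hord, ← Nat.card_zpowers, hz, card_top]

end CfsgLib.Kinf
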