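import Cfsg.Agent.Functor.Functors
import Mathlib.GroupTheory.Nilpotent
import Mathlib.GroupTheory.Commutator.Basic

/-!
Basic properties of the families and sequences defining the K-infinity subgroups.
-/

set_option autoImplicit false

namespace CfsgLib.Kinf

open Subgroup Cfsg

universe u

variable {P : Type*} [Group P]

theorem mem_classTwo {Q : Subgroup P} :
    Q ∈ classTwoSubgroups P ↔ ⁅Q, Q⁆ ≤ centralizer (Q : Set P) := Iff.rfl

theorem mem_upper {Q B : Subgroup P} : B ∈ kUpperStarFamily Q ↔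
    B ∈ classTwoSubgroups P ∧ ⁅B, Q⁆ ≤ B ⊓ centralizer (B : Set P) := Iff.rfl

theorem mem_lower {Q B : Subgroup P} : B ∈ kLowerStarFamily Q ↔
    B ∈ classTwoSubgroups P ∧ Q ≤ normalizer (B : Set P) ∧
    ∀ A ∈ classTwoSubgroups P, A ≤ Q → B ≤ normalizer (A : Set P) → ⁅B, ⁅A, A⁆⁆ = ⊥ →
      ⁅⁅B ⊓ centralizer (B : Set P), A⁆, A⁆ = ⊥ → ⁅B, A⁆ ≤ B ⊓ centralizer (B : Set P) := Iff.rfl

theorem classTwo_of_comm {A : Subgroup P} (hA : IsMulCommutative ↥A) :
    A ∈ classTwoSubgroups P := by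
  show ⁅A, A⁆ ≤ _
  rw [commutator_eq_bot_iff_le_centralizer.2 (le_centralizer_iff_isMulCommutative.2 hA)]
  exact bot_le

theorem abelian_mem_upper {A : Subgroup P} [A.Normal] (hA : IsMulCommutative ↥A)
    (Q : Subgroup P) : A ∈ kUpperStarFamily Q :=
  ⟨classTwo_of_comm hA, le_inf (commutator_le_left A Q)
    (le_trans (commutator_le_left A Q) (le_centralizer_iff_isMulCommutative.2 hA))⟩

theorem abelian_mem_lower {A : Subgroup P} [A.Normal] (hA : IsMulCommutative ↥A)
    (Q : Subgroup P) : A ∈ kLowerStarFamily Q :=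
  ⟨classTwo_of_comm hA, by simp [normalizer_eq_top], fun A' _ _ _ _ _ => le_inf (commutator_le_left A A')
    (le_trans (commutator_le_left A A') (le_centralizer_iff_isMulCommutative.2 hA))⟩

theorem upper_anti {Q Q' : Subgroup P} (h : Q ≤ Q') :
    kUpperStarFamily Q' ⊆ kUpperStarFamily Q :=
  fun _ hB => ⟨hB.1, le_trans (commutator_mono le_rfl h) hB.2⟩

theorem lower_anti {Q Q' : Subgroup P} (h : Q ≤ Q') :
    kLowerStarFamily Q' ⊆ kLowerStarFamily Q :=
  fun _ hB => ⟨hB.1, le_trans h hB.2.1, fun A h1 h2 => hB.2.2 A h1 (h2.trans h)⟩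

theorem kSeqEven_eq (n : ℕ) :
    kSeqEven P n = sSup (kLowerStarFamily (kSeqOdd P n)) := rfl

theorem kSeqOdd_succ (n : ℕ) :
    kSeqOdd P (n + 1) = sSup (kUpperStarFamily (kSeqEven P n)) := rfl

theorem kSeqOdd_zero : kSeqOdd P 0 = ⊤ := rfl

theorem kSeqOdd_succ_le : ∀ n : ℕ, kSeqOdd P (n + 1) ≤ kSeqOdd P n
  | 0 => le_top
  | n + 1 => by
    rw [kSeqOdd_succ (n + 1), kSeqOdd_succ n]
    exact sSup_le_sSup (upper_anti (sSup_le_sSup (lower_anti (kSeqOdd_succ_le n))))

theorem kSeqEven_le_succ (n : ℕ) : kSeqEven P n ≤ kSeqEven P (n + 1) :=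
  sSup_le_sSup (lower_anti (kSeqOdd_succ_le n))

theorem kSeqOdd_antitone : Antitone (kSeqOdd P) := antitone_nat_of_succ_le kSeqOdd_succ_le

theorem kSeqEven_monotone : Monotone (kSeqEven P) := monotone_nat_of_le_succ kSeqEven_le_succ

theorem eventually_const (P : Type u) [Group P] [Finite P] :
    ∃ n : ℕ, ∀ m : ℕ, n ≤ m → kSeqEven P m = kInfLower P ∧ kSeqOdd P m = kInfUpper P := by
  obtain ⟨a, ha⟩ := WellFoundedGT.monotone_chain_condition ⟨kSeqEven P, kSeqEven_monotone⟩
  obtain ⟨b, hb⟩ := WellFoundedGT.monotone_chain_condition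
    (α := (Subgroup P)ᵒᵈ) ⟨OrderDual.toDual ∘ kSeqOdd P, fun _ _ h => kSeqOdd_antitone h⟩
  refine ⟨max a b, fun m hm => ⟨le_antisymm (le_iSup (kSeqEven P) m) ?_,
    le_antisymm ?_ (iInf_le (kSeqOdd P) m)⟩⟩
  · refine iSup_le fun k => ?_
    calc kSeqEven P k ≤ kSeqEven P (max m k) := kSeqEven_monotone (le_max_right _ _)
      _ = kSeqEven P m := (ha _ (le_trans (le_max_left a b) (hm.trans (le_max_left _ _)))).symm.trans
          (ha _ ((le_max_left a b).trans hm))
  · refine le_iInf fun k => ?_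
    calc kSeqOdd P m = kSeqOdd P (max m k) :=
          (OrderDual.toDual_inj.1 (hb _ ((le_max_right a b).trans hm))).symm.trans
            (OrderDual.toDual_inj.1 (hb _ ((le_max_right a b).trans (hm.trans (le_max_left _ _)))))
      _ ≤ kSeqOdd P k := kSeqOdd_antitone (le_max_right _ _)

theorem exists_central_mod [Group.IsNilpotent P] {N B C : Subgroup P} (hC : ¬ C ≤ B)
    (hN : N ≤ normalizer (C : Set P)) :
    ∃ z ∈ C, z ∉ B ∧ ∀ x ∈ N, z * x * z⁻¹ * x⁻¹ ∈ C ⊓ B := by
  classical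
  let it : ℕ → Subgroup P := fun k => Nat.rec C (fun _ D => ⁅D, N⁆) k
  have hle : ∀ k, it k ≤ (⊤ : Subgroup P).lowerCentralSeries k ∧ it k ≤ C := by
    intro k
    induction k with
    | zero => exact ⟨le_top.trans_eq (Subgroup.lowerCentralSeries_zero _).symm, le_rfl⟩
    | succ k ih =>
      refine ⟨?_, ?_⟩
      · rw [Subgroup.lowerCentralSeries_succ]
        exact commutator_mono ih.1 le_top
      · refine le_trans (commutator_mono ih.2 le_rfl) ?_
        rw [commutator_le]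
        intro c hc x hx
        have := mul_mem hc ((mem_normalizer_iff.1 (hN hx) c⁻¹).1 (inv_mem hc))
        simpa [commutatorElement_def, mul_assoc] using this
  obtain ⟨k, hk⟩ := Subgroup.nilpotent_iff_lowerCentralSeries.1 (inferInstance : Group.IsNilpotent P)
  have hex : ∃ k, it k ≤ B := ⟨k, le_trans (hle k).1 (by rw [hk]; exact bot_le)⟩
  set k₀ := @Nat.find (fun k => it k ≤ B) (Classical.decPred _) hex with hk₀
  obtain ⟨j, hj⟩ : ∃ j, k₀ = j + 1 := by
    refine ⟨k₀ - 1, (Nat.succ_pred_eq_of_pos (Nat.pos_of_ne_zero fun h => hC ?_)).symm⟩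
    have : it k₀ ≤ B := @Nat.find_spec (fun k => it k ≤ B) (Classical.decPred _) hex
    rwa [h] at this
  obtain ⟨z, hz, hzB⟩ := SetLike.not_le_iff_exists.1
    (@Nat.find_min (fun k => it k ≤ B) (Classical.decPred _) hex j (show j < k₀ by omega) : ¬ it j ≤ B)
  refine ⟨z, (hle j).2 hz, hzB, fun x hx => ?_⟩
  have h1 : z * x * z⁻¹ * x⁻¹ ∈ it (j + 1) := commutator_mem_commutator hz hx
  exact ⟨(hle (j + 1)).2 h1, (hj ▸ @Nat.find_spec (fun k => it k ≤ B) (Classical.decPred _) hex : it (j + 1) ≤ B) h1⟩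

theorem commutator_sup_zpowers_le {B Q M : Subgroup P} {z : P}
    (hM : B ⊔ zpowers z ≤ centralizer (M : Set P))
    (hB : ∀ b ∈ B, ∀ q ∈ Q, b * q * b⁻¹ * q⁻¹ ∈ M) (hz : ∀ q ∈ Q, z * q * z⁻¹ * q⁻¹ ∈ M) :
    ⁅B ⊔ zpowers z, Q⁆ ≤ M := by
  have key : ∀ x ∈ B ⊔ zpowers z, ∀ q ∈ Q, x * q * x⁻¹ * q⁻¹ ∈ M := by
    intro x hx
    rw [show B ⊔ zpowers z = closure ((B : Set P) ∪ {z}) by
      rw [Subgroup.closure_union, closure_eq, zpowers_eq_closure]] at hx hM
    induction hx using closure_induction with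
    | mem x hx =>
      rcases hx with h | h
      · exact hB x h
      · rw [Set.mem_singleton_iff] at h; subst h; exact hz
    | one => intro q _; simp
    | mul x y hx hy ihx ihy =>
      intro q hq
      have hc := mem_centralizer_iff.1 (hM hx) _ (ihy q hq)
      have hm := mul_mem (ihy q hq) (ihx q hq)
      rwa [show (x * y) * q * (x * y)⁻¹ * q⁻¹ =
        (y * q * y⁻¹ * q⁻¹) * (x * q * x⁻¹ * q⁻¹) from by
          calc (x * y) * q * (x * y)⁻¹ * q⁻¹
              = x * (y * q * y⁻¹ * q⁻¹) * q * x⁻¹ * q⁻¹ := by group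
            _ = (y * q * y⁻¹ * q⁻¹) * x * q * x⁻¹ * q⁻¹ := by rw [← hc]
            _ = _ := by group]
    | inv x hx ih =>
      intro q hq
      have hc := mem_centralizer_iff.1 (hM hx) _ (inv_mem (ih q hq))
      rw [show x⁻¹ * q * x⁻¹⁻¹ * q⁻¹ = (x * q * x⁻¹ * q⁻¹)⁻¹ from by
        calc x⁻¹ * q * x⁻¹⁻¹ * q⁻¹ = x⁻¹ * ((x * q * x⁻¹ * q⁻¹)⁻¹ * x) := by group
          _ = x⁻¹ * (x * (x * q * x⁻¹ * q⁻¹)⁻¹) := by rw [hc]
          _ = _ := by group]
      exact inv_mem (ih q hq)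
  rw [commutator_le]
  exact key

theorem classTwo_sup {B : Subgroup P} {z : P} (hB : B ∈ classTwoSubgroups P)
    (hz : z ∈ centralizer (B : Set P)) : B ⊔ zpowers z ∈ classTwoSubgroups P := by
  have hz' : zpowers z ≤ centralizer (B : Set P) := zpowers_le.2 hz
  have hBz : B ≤ centralizer (zpowers z : Set P) := le_centralizer_iff.1 hz'
  have hM : B ⊔ zpowers z ≤ centralizer ((⁅B, B⁆ : Subgroup P) : Set P) :=
    sup_le (le_centralizer_iff.1 hB) (le_trans hz'
      (centralizer_le (commutator_le_self B)))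
  have h1 : ⁅B ⊔ zpowers z, B ⊔ zpowers z⁆ ≤ ⁅B, B⁆ := by
    refine commutator_sup_zpowers_le hM (fun b hb q hq => ?_) fun q hq => ?_
    · have h := commutator_sup_zpowers_le (B := B) (Q := zpowers b) (M := ⁅B, B⁆) (z := z) hM
        (fun b' hb' q' hq' => commutator_mem_commutator hb' (zpowers_le.2 hb hq'))
        (fun q' hq' => by
          rw [← mem_centralizer_iff.1 (hz' (mem_zpowers z)) q' (zpowers_le.2 hb hq')]
          simp)
        (commutator_mem_commutator hq (mem_zpowers b))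
      simpa [commutatorElement_def, mul_assoc] using inv_mem h
    · have : z ∈ centralizer (B ⊔ zpowers z : Subgroup P) := by
        have : (B ⊔ zpowers z : Subgroup P) ≤ centralizer ({z} : Set P) := by
          refine sup_le (fun b hb => mem_centralizer_singleton_iff.2 ?_) (zpowers_le.2 ?_)
          · exact (mem_centralizer_iff.1 hz b hb)
          · exact mem_centralizer_singleton_iff.2 rfl
        exact mem_centralizer_iff.2 fun y hy => mem_centralizer_singleton_iff.1 (this hy)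
      rw [← mem_centralizer_iff.1 this q hq]
      simp
  exact le_trans h1 (le_centralizer_iff.1 hM)

theorem center_le_center_sup {B : Subgroup P} {z : P} (hz : z ∈ centralizer (B : Set P)) :
    B ⊓ centralizer (B : Set P) ≤
      (B ⊔ zpowers z) ⊓ centralizer ((B ⊔ zpowers z : Subgroup P) : Set P) := by
  rintro c ⟨hcB, hc⟩
  refine ⟨(le_sup_left : B ≤ B ⊔ zpowers z) hcB, mem_centralizer_iff.2 fun y hy => ?_⟩
  have h : B ⊔ zpowers z ≤ centralizer ({c} : Set P) :=
    sup_le (fun b hb => mem_centralizer_singleton_iff.2 (mem_centralizer_iff.1 hc b hb))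
      (zpowers_le.2 (mem_centralizer_singleton_iff.2 (mem_centralizer_iff.1 hz c hcB).symm))
  exact mem_centralizer_singleton_iff.1 (h hy)

end CfsgLib.Kinf
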