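import Cfsg.Agent.Kinf.Minimal

/-!
Transferring unipotence from the chief factors in a critical subgroup to the whole `p`-group.
-/

set_option autoImplicit false
set_option linter.unusedSectionVars false
set_option linter.style.haveILetI false

namespace CfsgLib.Kinf

open Subgroup
open scoped commutatorElement

variable {G : Type*} [Group G]

/-- The three-subgroup lemma modulo a subgroup normalized by all three. -/
theorem three_subgroup_mod {A B C R : Subgroup G} (hA : A ≤ normalizer (R : Set G))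
    (hB : B ≤ normalizer (R : Set G)) (hC : C ≤ normalizer (R : Set G))
    (h1 : ⁅⁅B, C⁆, A⁆ ≤ R) (h2 : ⁅⁅C, A⁆, B⁆ ≤ R) : ⁅⁅A, B⁆, C⁆ ≤ R := by
  set N := normalizer (R : Set G) with hN
  haveI : (R.subgroupOf N).Normal := normal_in_normalizer
  set π := QuotientGroup.mk' (R.subgroupOf N) with hπ
  have key : ∀ X Y Z : Subgroup G, X ≤ N → Y ≤ N → Z ≤ N → (⁅⁅X, Y⁆, Z⁆ ≤ R ↔
      ⁅⁅(X.subgroupOf N).map π, (Y.subgroupOf N).map π⁆, (Z.subgroupOf N).map π⁆ = ⊥) := by
    intro X Y Z hX hY hZ
    rw [← map_commutator, ← map_commutator, Subgroup.map_eq_bot_iff, hπ, QuotientGroup.ker_mk',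
      ← map_le_map_iff_of_injective N.subtype_injective, map_commutator, map_commutator,
      map_subgroupOf_eq_of_le hX, map_subgroupOf_eq_of_le hY, map_subgroupOf_eq_of_le hZ,
      map_subgroupOf_eq_of_le (le_normalizer : R ≤ N)]
  rw [key A B C hA hB hC]
  exact commutator_commutator_eq_bot_of_rotate ((key B C A hB hC hA).1 h1) ((key C A B hC hA hB).1 h2)

theorem iterCommutator_le_sup {U V N Y : Subgroup G} [V.Normal] (h : U ≤ V ⊔ N) :
    ∀ n, Cfsg.iterCommutator U Y n ≤ V ⊔ Cfsg.iterCommutator N Y n := by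
  intro n
  set π := QuotientGroup.mk' V with hπ
  have hm : ∀ (X : Subgroup G) (k : ℕ), (Cfsg.iterCommutator X Y k).map π =
      Cfsg.iterCommutator (X.map π) (Y.map π) k := by
    intro X k
    induction k with
    | zero => rfl
    | succ k ih =>
      show Subgroup.map π ⁅_, Y⁆ = ⁅_, _⁆
      rw [map_commutator, ih]
  have hUN : U.map π ≤ N.map π := by
    refine (map_mono h).trans ?_
    rw [Subgroup.map_sup, sup_le_iff]
    exact ⟨((Subgroup.map_eq_bot_iff _).2 (by rw [hπ, QuotientGroup.ker_mk'])).le.trans bot_le, le_rfl⟩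
  have h1 : (Cfsg.iterCommutator U Y n).map π ≤ (Cfsg.iterCommutator N Y n).map π := by
    rw [hm, hm]; exact iterCommutator_mono hUN le_rfl n
  rw [map_le_iff_le_comap, comap_map_eq, hπ, QuotientGroup.ker_mk', sup_comm] at h1
  exact h1

/-- `g` is unipotent of degree `n` on every chief factor inside `N`. -/
def KillsBelow (g : G) (n : ℕ) (N : Subgroup G) : Prop :=
  ∀ U V : Subgroup G, Cfsg.IsChiefFactor U V → U ≤ N →
    Cfsg.iterCommutator U (zpowers g) n ≤ V

theorem killsBelow_mono {g : G} {m n : ℕ} (hmn : m ≤ n) {N N' : Subgroup G} (hN : N' ≤ N)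
    (h : KillsBelow g m N) : KillsBelow g n N' := fun U V hUV hU => by
  haveI := hUV.2.1
  exact (iterCommutator_antitone (U := U) (zpowers g) hmn).trans (h U V hUV (hU.trans hN))

/-- A chief factor meeting `N` outside its bottom is a chief factor inside `N`. -/
theorem chiefFactor_inf {U V N : Subgroup G} [N.Normal] (h : Cfsg.IsChiefFactor U V)
    (hN : ¬ U ⊓ N ≤ V) : Cfsg.IsChiefFactor (U ⊓ N) (V ⊓ N) := by
  haveI := h.2.1
  haveI := h.2.2.1
  refine ⟨lt_of_le_of_ne (inf_le_inf_right _ h.1.le) fun he => hN (he ▸ inf_le_left),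
    inferInstance, inferInstance, fun M hM hVM hMU => ?_⟩
  rcases h.2.2.2 (V ⊔ M) inferInstance le_sup_left (sup_le h.1.le (hMU.trans inf_le_left)) with he | he
  · left
    exact le_antisymm (le_inf (he ▸ le_sup_right) (hMU.trans inf_le_right)) hVM
  · right
    refine le_antisymm hMU fun x hx => ?_
    have hx' : x ∈ V ⊔ M := he.ge hx.1
    rw [mem_sup_of_normal_right] at hx'
    obtain ⟨v, hv, m, hm, rfl⟩ := hx'
    refine mul_mem (hVM ⟨hv, ?_⟩) hm
    simpa using mul_mem (show v * m ∈ N from hx.2) (inv_mem (hMU hm).2)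

theorem killsBelow_step {g : G} {n : ℕ} {N N₀ : Subgroup G} [N.Normal] [N₀.Normal] (hn : Cfsg.iterCommutator N (zpowers g) n ≤ N₀)
    (h : KillsBelow g n N₀) : KillsBelow g n N := by
  intro U V hUV hU
  haveI := hUV.2.1
  haveI := hUV.2.2.1
  by_cases hc : U ⊓ N₀ ≤ V
  · exact (le_inf (iterCommutator_le _ _) ((iterCommutator_mono hU le_rfl n).trans hn)).trans hc
  · have he := le_sup_of_normal_factor hUV (inf_le_left : U ⊓ N₀ ≤ U) hc
    refine (iterCommutator_le_sup he.ge n).trans (sup_le le_rfl ?_)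
    exact (h _ _ (chiefFactor_inf hUV hc) inf_le_right).trans inf_le_left

variable [Finite G] {p : ℕ} [Fact p.Prime]

theorem normal_sectionCentralizer {N X W : Subgroup G} [N.Normal] [X.Normal] [W.Normal] :
    ∃ N₀ : Subgroup G, N₀.Normal ∧ ∀ u, u ∈ N₀ ↔ u ∈ N ∧ ∀ x ∈ X, ⁅u, x⁆ ∈ W := by
  set π := QuotientGroup.mk' W with hπ
  haveI : (X.map π).Normal := Normal.map inferInstance π (QuotientGroup.mk'_surjective W)
  refine ⟨N ⊓ (centralizer ((X.map π : Subgroup _) : Set (G ⧸ W))).comap π, inferInstance, fun u => ?_⟩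
  refine and_congr_right fun _ => ?_
  constructor
  · intro h x hx
    rw [← QuotientGroup.eq_one_iff]
    show π ⁅u, x⁆ = 1
    rw [map_commutatorElement, commutatorElement_eq_one_iff_mul_comm]
    exact (mem_centralizer_iff.1 h _ (mem_map_of_mem π hx)).symm
  · intro h
    refine mem_centralizer_iff.2 ?_
    rintro _ ⟨x, hx, rfl⟩
    refine Eq.symm ?_
    rw [← commutatorElement_eq_one_iff_mul_comm, ← map_commutatorElement]
    exact (QuotientGroup.eq_one_iff _).2 (h x hx)

theorem iterCommutator_commutator_le {N X Y Y' : Subgroup G} [hN : N.Normal] [hX : X.Normal]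
    [hY : Y.Normal] [Y'.Normal] {P : Subgroup G} [P.Normal] (hNP : N ≤ P) (hXP : X ≤ P)
    (hPY : ⁅Y, P⁆ ≤ Y') (hNX : ⁅N, X⁆ ≤ Y) (g : G) (i : ℕ) (hi : 1 ≤ i)
    (hXi : ⁅N, Cfsg.iterCommutator X (zpowers g) i⁆ ≤ Y') :
    ∀ a b c : ℕ, c + (i - 1) ≤ a + b →
      ⁅Cfsg.iterCommutator N (zpowers g) a, Cfsg.iterCommutator X (zpowers g) b⁆ ≤
        Y' ⊔ Cfsg.iterCommutator Y (zpowers g) c := by
  set R : ℕ → Subgroup G := fun c => Y' ⊔ Cfsg.iterCommutator Y (zpowers g) c with hR
  have hg : ∀ c, zpowers g ≤ normalizer ((R c : Subgroup G) : Set G) := by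
    intro c
    refine zpowers_le.2 (Functor.mem_normalizer_iff_cj.2 ?_)
    rw [hR, Subgroup.map_sup, iterCommutator_cj, MonoidHom.map_zpowers]
    have hn : ∀ K : Subgroup G, K.Normal → Subgroup.map (MulAut.conj g).toMonoidHom K = K :=
      fun K hK => Functor.mem_normalizer_iff_cj.1 (by
        rw [Subgroup.normalizer_eq_top_iff.2 hK]; exact mem_top g)
    rw [hn Y' inferInstance, hn Y hY]
    congr 2
    simp
  have hP : ∀ c, P ≤ normalizer ((R c : Subgroup G) : Set G) := by
    intro c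
    refine le_normalizer_iff_commutator_le_left.2 ?_
    refine le_trans ?_ (le_sup_left : Y' ≤ R c)
    refine le_trans (commutator_mono (sup_le_sup_left (iterCommutator_le (U := Y) (zpowers g) c) Y') le_rfl) ?_
    refine commutator_le.2 fun v hv q hq => ?_
    rw [mem_sup_of_normal_right] at hv
    obtain ⟨v, hv, w, hw, rfl⟩ := hv
    rw [show ⁅v * w, q⁆ = v * ⁅w, q⁆ * v⁻¹ * ⁅v, q⁆ by simp only [commutatorElement_def]; group]
    exact mul_mem ((inferInstance : Y'.Normal).conj_mem _ (hPY (commutator_mem_commutator hw hq)) v)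
      (commutator_le_left Y' P (commutator_mem_commutator hv hq))
  intro a
  induction a with
  | zero =>
    intro b c hc
    by_cases hb : i ≤ b
    · exact ((commutator_mono le_rfl (iterCommutator_antitone (U := X) (zpowers g) hb)).trans hXi).trans
        le_sup_left
    · obtain rfl : c = 0 := by omega
      exact ((commutator_mono le_rfl (iterCommutator_le _ b)).trans hNX).trans le_sup_right
  | succ a ih =>
    intro b c hc
    rcases c with _ | c
    · exact ((commutator_mono (iterCommutator_le _ _) (iterCommutator_le _ b)).trans hNX).trans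
        le_sup_right
    show ⁅⁅Cfsg.iterCommutator N (zpowers g) a, zpowers g⁆, _⁆ ≤ R (c + 1)
    refine three_subgroup_mod (((iterCommutator_le _ a).trans hNP).trans (hP _)) (hg _)
      (((iterCommutator_le _ b).trans hXP).trans (hP _)) ?_ ?_
    · rw [commutator_comm (zpowers g), commutator_comm]
      exact ih (b + 1) (c + 1) (by omega)
    · rw [commutator_comm (Cfsg.iterCommutator X (zpowers g) b)]
      refine (commutator_mono (ih b c (by omega)) le_rfl).trans ?_
      refine commutator_le.2 fun v hv q hq => ?_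
      rw [mem_sup_of_normal_left] at hv
      obtain ⟨v, hv, w, hw, rfl⟩ := hv
      rw [show ⁅v * w, q⁆ = v * ⁅w, q⁆ * v⁻¹ * ⁅v, q⁆ by simp only [commutatorElement_def]; group]
      refine mul_mem ?_ ((le_sup_left : Y' ≤ R (c + 1)) ?_)
      · have hwq : ⁅w, q⁆ ∈ R (c + 1) := (le_sup_right : _ ≤ R (c + 1))
          (show ⁅w, q⁆ ∈ Cfsg.iterCommutator Y (zpowers g) (c + 1) from commutator_mem_commutator hw hq)
        have hvn : v ∈ normalizer ((R (c + 1) : Subgroup G) : Set G) :=
          le_normalizer ((le_sup_left : Y' ≤ R (c + 1)) hv)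
        exact (mem_normalizer_iff.1 hvn _).1 hwq
      · have h := (inferInstance : Y'.Normal).conj_mem _ (inv_mem hv) q
        simpa [commutatorElement_def, mul_assoc] using mul_mem hv h

/-- Unipotence passes from a subgroup with small centralizer to the whole normal `p`-group. -/
theorem killsBelow_of_critical {P Q : Subgroup G} [P.Normal] [Q.Normal] (hP : IsPGroup p P)
    (hQP : Q ≤ P) (hQ3 : ⁅P, Q⁆ ≤ Q ⊓ centralizer (Q : Set G))
    (hQ4 : P ⊓ centralizer (Q : Set G) = Q ⊓ centralizer (Q : Set G)) (g : G) {i j : ℕ}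
    (hi : 1 ≤ i) (hj : 1 ≤ j) (hQi : KillsBelow g i Q)
    (hZj : KillsBelow g j (Q ⊓ centralizer (Q : Set G))) : KillsBelow g (i + j - 1) P := by
  classical
  suffices key : ∀ N : Subgroup G, N.Normal → N ≤ P → KillsBelow g (i + j - 1) N from
    key P inferInstance le_rfl
  intro N
  induction N using WellFoundedLT.induction with
  | _ N ih =>
    intro hN hNP
    haveI := hN
    by_cases hNQ : N ≤ centralizer (Q : Set G)
    · exact killsBelow_mono (by omega) ((le_inf hNP hNQ).trans hQ4.le) hZj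
    set Y := ⁅N, Q⁆ with hY
    have hY1 : Y ≠ ⊥ := fun h => hNQ (commutator_eq_bot_iff_le_centralizer.1 h)
    haveI : Y.Normal := Subgroup.commutator_normal N Q
    obtain ⟨Y', -, hY'⟩ := exists_chiefFactor_below (inferInstance : Y.Normal) inferInstance
      (bot_lt_iff_ne_bot.2 hY1)
    haveI := hY'.2.2.1
    obtain ⟨X, hXQ, hX⟩ := (Set.toFinite {X : Subgroup G | X.Normal ∧ X ≤ Q ∧ ¬ ⁅N, X⁆ ≤ Y'}).exists_le_minimal
      (a := Q) ⟨inferInstance, le_rfl, fun h => hY'.1.not_ge h⟩
    obtain ⟨hXn, -, hXY⟩ := hX.prop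
    haveI := hXn
    have hX1 : X ≠ ⊥ := fun h => hXY (by rw [h, commutator_bot_right]; exact bot_le)
    obtain ⟨X', -, hX'⟩ := exists_chiefFactor_below hXn inferInstance (bot_lt_iff_ne_bot.2 hX1)
    haveI := hX'.2.2.1
    have hNX' : ⁅N, X'⁆ ≤ Y' := by
      by_contra h
      exact hX'.1.not_ge (hX.2 ⟨inferInstance, hX'.1.le.trans hXQ, h⟩ hX'.1.le)
    have hYZ : Y ≤ Q ⊓ centralizer (Q : Set G) := (commutator_mono hNP le_rfl).trans hQ3
    have hYP : Y ≤ P := hYZ.trans (inf_le_left.trans hQP)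
    obtain ⟨N₀, hN₀n, hN₀⟩ := normal_sectionCentralizer (N := N) (X := X) (W := Y')
    haveI := hN₀n
    have hlt : N₀ < N := lt_of_le_of_ne (fun u hu => ((hN₀ u).1 hu).1)
      fun he => hXY (commutator_le.2 fun u hu x hx => ((hN₀ u).1 (he.ge hu)).2 x hx)
    refine killsBelow_step (N₀ := N₀) ?_ (ih N₀ hlt hN₀n (hlt.le.trans hNP))
    have h := iterCommutator_commutator_le (P := P) (N := N) (X := X) (Y := Y) (Y' := Y')
      hNP (hXQ.trans hQP) (commutator_le_of_chiefFactor hY' hP hYP) (commutator_mono le_rfl hXQ)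
      g i hi ((commutator_mono le_rfl (hQi X X' hX' hXQ)).trans hNX') (i + j - 1) 0 j (by omega)
    intro u hu
    refine (hN₀ u).2 ⟨iterCommutator_le _ _ hu, fun x hx => ?_⟩
    exact (h.trans (sup_le le_rfl (hZj Y Y' hY' hYZ))) (commutator_mem_commutator hu hx)

end CfsgLib.Kinf
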