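import Cfsg.Agent.Invol.BrauerFowler

/-!
The Thompson order formula for any number of classes of involutions.
-/

set_option autoImplicit false

namespace CfsgLib.Kinf

open Subgroup CfsgLib.Invol

variable {G : Type*} [Group G] [Finite G]

/-- A cyclic subgroup has at most one involution. -/
theorem invol_unique {a j j' : G} (hj : orderOf j = 2) (hj' : orderOf j' = 2)
    (hja : j ∈ zpowers a) (hj'a : j' ∈ zpowers a) : j = j' := by
  have key : ∀ b : G, orderOf b = 2 → b ∈ zpowers a → b = a ^ (orderOf a / 2) := by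
    intro b hb hba
    have hd : 2 ∣ orderOf a := hb ▸ orderOf_dvd_of_mem_zpowers hba
    obtain ⟨k, rfl⟩ := (mem_powers_iff_mem_zpowers.2 hba : b ∈ Submonoid.powers a)
    obtain ⟨m, hm⟩ := hd
    have h0 : orderOf a ∣ k * 2 :=
      orderOf_dvd_of_pow_eq_one (by rw [pow_mul, sq]; exact Invol.mul_self_eq_one hb)
    rw [hm, mul_comm 2 m] at h0
    obtain ⟨c, rfl⟩ := Nat.dvd_of_mul_dvd_mul_right two_pos h0
    rcases Nat.even_or_odd c with ⟨d, rfl⟩ | ⟨d, rfl⟩
    · exfalso
      refine Invol.ne_one hb ?_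
      show a ^ (m * (d + d)) = 1
      rw [show m * (d + d) = orderOf a * d by rw [hm]; ring, pow_mul, pow_orderOf_eq_one, one_pow]
    · show a ^ (m * (2 * d + 1)) = a ^ (orderOf a / 2)
      rw [show m * (2 * d + 1) = orderOf a * d + orderOf a / 2 by
          rw [hm, Nat.mul_div_cancel_left _ two_pos]; ring,
        pow_add, pow_mul, pow_orderOf_eq_one, one_pow, one_mul]
  exact (key j hj hja).trans (key j' hj' hj'a).symm

/-- Thompson's order formula. -/
theorem order_formula_general (u v : G) (hu : orderOf u = 2) (hv : orderOf v = 2)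
    (huv : ¬ IsConj u v) (W : Finset G) (hW2 : ∀ w ∈ W, orderOf w = 2)
    (hWrep : ∀ t : G, orderOf t = 2 → ∃ w ∈ W, IsConj t w ∧ ∀ w' ∈ W, IsConj t w' → w' = w) :
    (Nat.card G : ℚ) =
      (Nat.card ↥(centralizer ({u} : Set G)) : ℚ) * Nat.card ↥(centralizer ({v} : Set G)) *
        ∑ w ∈ W,
          (Nat.card {q : G × G // IsConj u q.1 ∧ IsConj v q.2 ∧ w ∈ zpowers (q.1 * q.2)} : ℚ) /
            Nat.card ↥(centralizer ({w} : Set G)) := by
  classical
  haveI := Fintype.ofFinite G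
  have hord : ∀ {a b : G}, IsConj a b → orderOf b = orderOf a := fun {a b} h => by
    obtain ⟨g, hg⟩ := isConj_iff.1 h
    rw [← hg, orderOf_conj_eq]
  let N : G → Type _ := fun j => {q : G × G // IsConj u q.1 ∧ IsConj v q.2 ∧ j ∈ zpowers (q.1 * q.2)}
  let K : G → Type _ := fun x => {b : G // IsConj x b}
  have hN : ∀ {a b : G}, IsConj a b → Nat.card (N b) = Nat.card (N a) := by
    intro a b hab
    obtain ⟨g, rfl⟩ := isConj_iff.1 hab
    refine (Nat.card_congr (Equiv.subtypeEquiv ((MulAut.conj g).toEquiv.prodCongr (MulAut.conj g).toEquiv) fun q => ?_)).symm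
    have hc : ∀ x y : G, IsConj x (MulAut.conj g y) ↔ IsConj x y := fun x y =>
      ⟨fun h => h.trans (isConj_iff.2 ⟨g, by simp⟩).symm, fun h => h.trans (isConj_iff.2 ⟨g, by simp⟩)⟩
    show _ ↔ IsConj u (MulAut.conj g q.1) ∧ IsConj v (MulAut.conj g q.2) ∧
      MulAut.conj g a ∈ zpowers (MulAut.conj g q.1 * MulAut.conj g q.2)
    rw [hc, hc, ← map_mul, show zpowers (MulAut.conj g (q.1 * q.2)) =
      (zpowers (q.1 * q.2)).map (MulAut.conj g).toMonoidHom from (MonoidHom.map_zpowers (MulAut.conj g).toMonoidHom _).symm]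
    exact and_congr_right fun _ => and_congr_right fun _ =>
      (mem_map_iff_mem (f := (MulAut.conj g).toMonoidHom) (MulAut.conj g).injective).symm
  have hj : ∀ q : K u × K v, ∃ j : G, orderOf j = 2 ∧ j ∈ zpowers (q.1.1 * q.2.1) := fun q => by
    have hu' := (hord q.1.2).trans hu
    have hv' := (hord q.2.2).trans hv
    have hne : ¬ IsConj q.1.1 q.2.1 := fun h => huv (q.1.2.trans (h.trans q.2.2.symm))
    exact ⟨_, (half_props hu' hv' (even_orderOf_mul_of_not_isConj hu' hv' hne)).1, pow_mem (mem_zpowers _) _⟩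
  choose j hj2 hjm using hj
  choose rep hrepW hrepc hrepu using fun q => hWrep (j q) (hj2 q)
  let e : K u × K v ≃ (Σ w : W, Σ a : K w.1, N a.1) :=
    { toFun := fun q => ⟨⟨rep q, hrepW q⟩, ⟨j q, (hrepc q).symm⟩, ⟨(q.1.1, q.2.1), q.1.2, q.2.2, hjm q⟩⟩
      invFun := fun s => (⟨s.2.2.1.1, s.2.2.2.1⟩, ⟨s.2.2.1.2, s.2.2.2.2.1⟩)
      left_inv := fun q => rfl
      right_inv := fun s => by
        obtain ⟨⟨w, hw⟩, ⟨a, ha⟩, ⟨⟨x, y⟩, hx, hy, hm⟩⟩ := s
        obtain rfl : j (⟨x, hx⟩, ⟨y, hy⟩) = a :=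
          invol_unique (hj2 _) ((hord ha).trans (hW2 w hw)) (hjm _) hm
        obtain rfl : w = rep (⟨x, hx⟩, ⟨y, hy⟩) := hrepu _ w hw ha.symm
        rfl }
  have hsum : Nat.card (K u) * Nat.card (K v) = ∑ w ∈ W, Nat.card (K w) * Nat.card (N w) := by
    rw [← Nat.card_prod, Nat.card_congr e, Nat.card_sigma,
      ← Finset.sum_coe_sort W (fun w => Nat.card (K w) * Nat.card (N w))]
    refine Finset.sum_congr rfl fun w _ => ?_
    rw [Nat.card_sigma, Finset.sum_congr rfl (fun (a : K w.1) _ => hN a.2)]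
    simp
  have hpos : ∀ x : G, (0 : ℚ) < Nat.card (centralizer ({x} : Set G)) := fun x => by
    exact_mod_cast Nat.card_pos
  have hG : (0 : ℚ) < Nat.card G := by exact_mod_cast Nat.card_pos
  have hk : ∀ x : G, (Nat.card (K x) : ℚ) = Nat.card G / Nat.card (centralizer ({x} : Set G)) := by
    intro x
    rw [eq_div_iff (hpos x).ne']
    exact_mod_cast BrauerFowler.card_class_mul x
  have h1 : (Nat.card (K u) : ℚ) * Nat.card (K v) = ∑ w ∈ W, (Nat.card (K w) : ℚ) * Nat.card (N w) := by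
    exact_mod_cast hsum
  rw [hk u, hk v, Finset.sum_congr rfl (fun w _ => by rw [hk w, div_mul_eq_mul_div, mul_div_assoc]),
    ← Finset.mul_sum] at h1
  have := hpos u
  have := hpos v
  field_simp at h1
  linarith

end CfsgLib.Kinf
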