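import Cfsg.Agent.Kinf.Minimal
import Cfsg.Agent.Solvable.Fitting

/-!
Control of transfer in all sections from the constrained ones.
-/

set_option autoImplicit false
set_option linter.unusedSectionVars false
set_option linter.style.haveILetI false

namespace CfsgLib.Kinf

open Subgroup CfsgLib.Functor
open scoped CfsgLib.Functor commutatorElement

universe u

variable {G : Type u} [Group G] [Finite G] {p : ℕ} [Fact p.Prime]

theorem family_singleton (G : Type u) [Group G] (W : ∀ (Q : Type u) [Group Q], Subgroup Q) :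
    family G {W} = {Cfsg.inducedFunctor (G := G) W} := Set.image_singleton

/-- The section `↥⊤ / N` is `G / N`. -/
noncomputable def topSectionEquiv (N : Subgroup G) [hN : N.Normal] :
    (↥(⊤ : Subgroup G) ⧸ N.subgroupOf ⊤) ≃* G ⧸ N :=
  haveI : (N.subgroupOf ⊤).Normal := hN.subgroupOf ⊤
  QuotientGroup.congr (N.subgroupOf ⊤) N topEquiv (by
    ext x
    constructor
    · rintro ⟨y, hy, rfl⟩; exact hy
    · intro hx; exact ⟨⟨x, mem_top x⟩, hx, rfl⟩)

theorem transfer_of_bot_section {𝓦 : Set (∀ (Q : Type u) [Group Q], Subgroup Q)}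
    (h𝓦 : ∀ W ∈ 𝓦, Cfsg.IsCharPFunctor.{u} p W) (K : Subgroup G)
    [((⊥ : Subgroup G).subgroupOf K).Normal]
    (h : Cfsg.FamilyControlsTransferIn p (family (↥K ⧸ (⊥ : Subgroup G).subgroupOf K) 𝓦) ⊤) :
    Cfsg.FamilyControlsTransferIn p (family G 𝓦) K := by
  have h' := transfer_of_injective h𝓦 K.subtype K.subtype_injective
    (transfer_of_equiv h𝓦 ((QuotientGroup.quotientMulEquivOfEq (bot_subgroupOf K)).trans
      QuotientGroup.quotientBot) h)
  rwa [range_subtype] at h'

theorem transfer_of_top_section {𝓦 : Set (∀ (Q : Type u) [Group Q], Subgroup Q)}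
    (h𝓦 : ∀ W ∈ 𝓦, Cfsg.IsCharPFunctor.{u} p W) (N : Subgroup G) [N.Normal]
    [(N.subgroupOf (⊤ : Subgroup G)).Normal]
    (h : Cfsg.FamilyControlsTransferIn p (family (↥(⊤ : Subgroup G) ⧸ N.subgroupOf ⊤) 𝓦) ⊤) :
    Cfsg.FamilyControlsTransferIn p (family (G ⧸ N) 𝓦) ⊤ :=
  transfer_of_equiv h𝓦 (topSectionEquiv N) h

/-- A nonempty set of functors controlling transfer in the constrained sections controls it. -/
theorem transfer_of_constrained_aux {𝓦 : Set (∀ (Q : Type u) [Group Q], Subgroup Q)}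
    (h𝓦 : ∀ W ∈ 𝓦, Cfsg.IsCharPFunctor.{u} p W) (hne : 𝓦.Nonempty)
    (hloc : ∀ (K R : Subgroup G) [(R.subgroupOf K).Normal],
      Subgroup.centralizer ((Cfsg.pCore p (↥K ⧸ R.subgroupOf K) : Subgroup (↥K ⧸ R.subgroupOf K))
        : Set (↥K ⧸ R.subgroupOf K)) ≤ Cfsg.pCore p (↥K ⧸ R.subgroupOf K) →
      ∀ S : Sylow p (↥K ⧸ R.subgroupOf K),
        (∀ W ∈ 𝓦, normalizer ((Cfsg.inducedFunctor (G := ↥K ⧸ R.subgroupOf K) W
          (S : Subgroup (↥K ⧸ R.subgroupOf K)) : Subgroup _) : Set (↥K ⧸ R.subgroupOf K)) ≠ ⊤) →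
        (∀ u ∈ (S : Subgroup (↥K ⧸ R.subgroupOf K)), u ∉ Cfsg.pCore p (↥K ⧸ R.subgroupOf K) →
          ∃ X W : Subgroup (↥K ⧸ R.subgroupOf K), Cfsg.IsChiefFactor X W ∧
            X ≤ Cfsg.pCore p (↥K ⧸ R.subgroupOf K) ∧
            ¬ Cfsg.iterCommutator X (zpowers u) (p - 1) ≤ W) →
        Cfsg.pCore p (↥K ⧸ R.subgroupOf K) ⊓ commutator (↥K ⧸ R.subgroupOf K) ≤
          transferGen (family (↥K ⧸ R.subgroupOf K) 𝓦) ⊤ (S : Subgroup (↥K ⧸ R.subgroupOf K)))
    (K R : Subgroup G) [(R.subgroupOf K).Normal] :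
    Cfsg.FamilyControlsTransferIn p (family (↥K ⧸ R.subgroupOf K) 𝓦) ⊤ := by
  refine controls_of_minimal h𝓦 (fun K R _ hsub hquot => ?_) K R
  by_contra hG
  set Γ := ↥K ⧸ R.subgroupOf K
  obtain ⟨S⟩ := (inferInstance : Nonempty (Sylow p Γ))
  obtain ⟨hC, -, -, hnot, hlast⟩ := minimal_structure h𝓦 hne hsub hquot hG S _ _ _ rfl rfl rfl
  refine hnot (hloc K R hC S (fun W hW he => hG ?_) hlast)
  refine (familyTransfer_iff (family_conjugacy h𝓦) (isSylowIn_top S)).2 ?_
  rw [transferGen_family]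
  exact le_iSup₂_of_le W hW (by rw [he])

/-- Control of transfer in the constrained sections gives it everywhere. -/
theorem transfer_of_constrained {𝓦 : Set (∀ (Q : Type u) [Group Q], Subgroup Q)}
    (h𝓦 : ∀ W ∈ 𝓦, Cfsg.IsCharPFunctor.{u} p W)
    (hloc : ∀ (K R : Subgroup G) [(R.subgroupOf K).Normal],
      Subgroup.centralizer ((Cfsg.pCore p (↥K ⧸ R.subgroupOf K) : Subgroup (↥K ⧸ R.subgroupOf K))
        : Set (↥K ⧸ R.subgroupOf K)) ≤ Cfsg.pCore p (↥K ⧸ R.subgroupOf K) →
      Cfsg.FamilyControlsTransferIn p (family (↥K ⧸ R.subgroupOf K) 𝓦) ⊤) :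
    Cfsg.FamilyControlsTransferIn p (family G 𝓦) ⊤ := by
  classical
  rcases 𝓦.eq_empty_or_nonempty with hempty | hne
  · subst hempty
    set 𝓥 : Set (∀ (Q : Type u) [Group Q], Subgroup Q) := {fun Q [Group Q] => (⊤ : Subgroup Q)}
      with h𝓥
    have hV : ∀ W ∈ 𝓥, Cfsg.IsCharPFunctor.{u} p W := fun W hW => by
      rw [h𝓥, Set.mem_singleton_iff] at hW
      exact hW ▸ isCharPFunctor_top p
    have hgen0 : ∀ (Γ : Type u) [Group Γ] (T : Subgroup Γ),
        transferGen (family Γ (∅ : Set (∀ (Q : Type u) [Group Q], Subgroup Q))) ⊤ T = ⊥ :=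
      fun Γ _ T => by simp [transferGen, family]
    have h1 : Cfsg.FamilyControlsTransferIn p (family G 𝓥) ⊤ := by
      refine transfer_of_bot_section hV ⊤ (transfer_of_constrained_aux hV
        (Set.singleton_nonempty _) (fun K R _ hC S _ _ => ?_) ⊤ ⊥)
      refine le_trans (le_trans (inf_le_inf_right _ ?_) ((familyTransfer_iff (family_conjugacy (fun _ h => h.elim))
        (isSylowIn_top S)).1 (hloc K R hC))) ?_
      · obtain ⟨n, -, hle⟩ := (isSylowIn_top S).exists_cj_le (Solvable.isPGroup_pCore (G := ↥K ⧸ R.subgroupOf K) p) le_top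
        rwa [mem_normalizer_iff_cj.1 (by rw [normalizer_eq_top]; exact mem_top n)] at hle
      · rw [hgen0]; exact bot_le
    obtain ⟨S⟩ := (inferInstance : Nonempty (Sylow p G))
    refine (familyTransfer_iff (family_conjugacy h𝓦) (isSylowIn_top S)).2 ?_
    rw [hgen0]
    refine ((familyTransfer_iff (family_conjugacy hV) (isSylowIn_top S)).1 h1).trans ?_
    rw [transferGen_family]
    refine iSup₂_le fun W hW => ?_
    rw [h𝓥, Set.mem_singleton_iff] at hW
    subst hW
    have hWS : Cfsg.inducedFunctor (G := G) (fun Q [Group Q] => (⊤ : Subgroup Q)) (S : Subgroup G) =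
        (S : Subgroup G) := by
      unfold Cfsg.inducedFunctor
      rw [← MonoidHom.range_eq_map, range_subtype]
    rw [hWS]
    set N := normalizer ((S : Subgroup G) : Set G) with hN
    set R := (Cfsg.pPrimeCore p N).map N.subtype with hR
    have hRN : R.subgroupOf N = Cfsg.pPrimeCore p N :=
      comap_map_eq_self_of_injective N.subtype_injective _
    haveI : (R.subgroupOf N).Normal := hRN ▸ inferInstance
    set π := QuotientGroup.mk' (R.subgroupOf N) with hπ
    set Sb := ((S : Subgroup G).subgroupOf N).map π with hSb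
    have hSle : (S : Subgroup G) ≤ N := le_normalizer
    have hSbS : IsSylowIn p Sb ⊤ := by
      have hs : IsSylowIn p ((S : Subgroup G).subgroupOf N) ⊤ := by
        refine ⟨le_top, S.2.of_equiv (subgroupOfEquivOfLe hSle).symm, ?_⟩
        rw [relIndex_top_right]
        exact ((isSylowIn_top S).of_le hSle le_top).2.2
      have := hs.map π
      rwa [map_top_of_surjective π (QuotientGroup.mk'_surjective _)] at this
    haveI hSn : ((S : Subgroup G).subgroupOf N).Normal := normal_subgroupOf_of_le le_rfl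
    haveI : Sb.Normal := hSn.map π (QuotientGroup.mk'_surjective _)
    have hO : Cfsg.pPrimeCore p (↥N ⧸ R.subgroupOf N) = ⊥ := by
      have e := QuotientGroup.quotientMulEquivOfEq hRN
      have h0 := Fitting.pPrimeCore_quotient_eq_bot (G := N) p
      refine le_bot_iff.1 ((map_le_map_iff_of_injective (f := e.toMonoidHom) e.injective).1 ?_)
      rw [Subgroup.map_bot, ← h0]
      refine Solvable.le_pPrimeCore p ((Solvable.pPrimeCore_normal p).map _ e.surjective) ?_
      rw [card_map_of_injective e.injective]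
      exact Solvable.coprime_card_pPrimeCore p
    have hcon : centralizer ((Cfsg.pCore p (↥N ⧸ R.subgroupOf N) : Subgroup _) : Set (↥N ⧸ R.subgroupOf N))
        ≤ Cfsg.pCore p (↥N ⧸ R.subgroupOf N) := by
      have hSc : Sb ≤ Cfsg.pCore p (↥N ⧸ R.subgroupOf N) := Solvable.le_pCore p inferInstance hSbS.2.1
      refine (centralizer_le hSc).trans ?_
      have hP := hSbS.inf_normal (le_top : centralizer (Sb : Set _) ≤ ⊤)
        (by rw [normalizer_eq_top])
      exact (le_of_sylow_central hO hP (centralizer_le inf_le_left)).trans (inf_le_left.trans hSc)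
    have h2 := (familyTransfer_iff (family_conjugacy h𝓦) hSbS).1 (hloc N R hcon)
    rw [hgen0] at h2
    rintro s ⟨hsS, hs⟩
    have hsN : s ∈ N := hSle hsS
    have h3 : π ⟨s, hsN⟩ ∈ Sb ⊓ ⁅(⊤ : Subgroup (↥N ⧸ R.subgroupOf N)), ⊤⁆ := by
      refine ⟨⟨⟨s, hsN⟩, hsS, rfl⟩, ?_⟩
      rw [← map_top_of_surjective π (QuotientGroup.mk'_surjective _), ← map_commutator]
      refine mem_map_of_mem π ?_
      rw [← _root_.commutator_def]
      have hs' : s ∈ (commutator N).map N.subtype := by rw [map_subtype_commutator]; exact hs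
      obtain ⟨y, hy, hys⟩ := hs'
      rwa [show (⟨s, hsN⟩ : N) = y from Subtype.ext hys.symm]
    have h4 := (QuotientGroup.eq_one_iff _).1 (mem_bot.1 (h2 h3))
    rw [hRN] at h4
    obtain ⟨k, hk⟩ := IsPGroup.iff_orderOf.1 S.2 ⟨s, hsS⟩
    rw [Subgroup.orderOf_mk] at hk
    have h5 : orderOf s ∣ Nat.card (Cfsg.pPrimeCore p N) := by
      rw [← Subgroup.orderOf_mk s hsN, ← Nat.card_zpowers]
      exact card_dvd_of_le (zpowers_le.2 h4)
    refine mem_bot.2 (orderOf_eq_one_iff.1 (Nat.eq_one_of_dvd_coprimes ?_ h5 (dvd_of_eq hk)))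
    exact (Solvable.coprime_card_pPrimeCore p).pow_right k
  · refine transfer_of_bot_section h𝓦 ⊤ (transfer_of_constrained_aux h𝓦 hne
      (fun K R _ hC S _ _ => ?_) ⊤ ⊥)
    refine le_trans (inf_le_inf ?_ (le_of_eq (_root_.commutator_def _)))
      ((familyTransfer_iff (family_conjugacy h𝓦) (isSylowIn_top S)).1 (hloc K R hC))
    obtain ⟨n, -, hle⟩ := (isSylowIn_top S).exists_cj_le (Solvable.isPGroup_pCore (G := ↥K ⧸ R.subgroupOf K) p) le_top
    rwa [mem_normalizer_iff_cj.1 (by rw [normalizer_eq_top]; exact mem_top n)] at hle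

end CfsgLib.Kinf
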