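import Cfsg.Agent.Kinf.Series
import Mathlib.Algebra.Group.TypeTags.Finite

/-!
Two applications of the orbit-sum theorem to chief series.
-/

set_option autoImplicit false
set_option linter.style.haveILetI false

namespace CfsgLib.Kinf

open Subgroup
open scoped CfsgLib.Functor commutatorElement

variable {G : Type*} [Group G] [Finite G] {p : ℕ} [Fact p.Prime]

/-- A chief factor `X / W` with a proper `M`-invariant subgroup containing `[X, M]` is central. -/
theorem central_of_chiefFactor {X W D : Subgroup G} (h : Cfsg.IsChiefFactor X W)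
    (hXp : IsPGroup p X) (M : Subgroup G) (hM : ¬ p ∣ M.index) (hWD : W ≤ D) (hDX : D < X)
    (hMX : ⁅X, M⁆ ≤ D) (Q : Subgroup G) (hQ : IsPGroup p Q) (hQM : Q ≤ M) (E : Set G)
    (hQE : closure E = Q) (hEconj : ∀ e ∈ E, ∀ q ∈ Q, q * e * q⁻¹ ∈ E)
    (hu : ∀ e ∈ E, Cfsg.iterCommutator X (zpowers e) (p - 1) ≤ W)
    (hfix : ∀ g : G, (∀ e ∈ E, g⁻¹ * e * g ∈ M) → g ∈ M) :
    ⁅X, (⊤ : Subgroup G)⁆ ≤ W := by
  classical
  haveI hXn : X.Normal := h.2.1
  haveI hWn : W.Normal := h.2.2.1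
  obtain ⟨hder, -⟩ := chiefFactor_elementary h hXp
  -- a subgroup of index p of X above D
  obtain ⟨K, hDK, hKlt, hKmax⟩ : ∃ K : Subgroup X, D.subgroupOf X ≤ K ∧ K < ⊤ ∧
      ∀ L, K < L → L = ⊤ := by
    obtain ⟨K, hle, hK⟩ := (Set.toFinite {K : Subgroup X | K < ⊤}).exists_le_maximal
      (a := D.subgroupOf X) (lt_top_iff_ne_top.2 fun he => hDX.not_ge (subgroupOf_eq_top.1 he))
    exact ⟨K, hle, hK.1, fun L hL => by
      by_contra hne
      exact hL.not_ge (hK.2 (lt_top_iff_ne_top.2 hne) hL.le)⟩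
  have hKn : K.Normal := ⟨fun a ha g => by
    have hc : ⁅(g : G), (a : G)⁆ ∈ W := hder (commutator_mem_commutator g.2 a.2)
    have hc' : g * a * g⁻¹ * a⁻¹ ∈ K := hDK (mem_subgroupOf.2 (hWD (by
      simpa [commutatorElement_def] using hc)))
    simpa using mul_mem hc' ha⟩
  have hidx : K.index = p := by
    have hp : IsPGroup p (X ⧸ K) := hXp.to_quotient K
    obtain ⟨n, hn⟩ := IsPGroup.iff_card.1 hp
    rcases n with _ | n
    · refine absurd ?_ hKlt.ne
      rw [← index_eq_one, index_eq_card, hn, pow_zero]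
    obtain ⟨a, ha⟩ := exists_prime_orderOf_dvd_card' (G := X ⧸ K) p (hn ▸ dvd_pow_self p n.succ_ne_zero)
    have htop : (zpowers a).comap (QuotientGroup.mk' K) = ⊤ := by
      refine hKmax _ (lt_of_le_of_ne (fun x hx => ?_) fun he => ?_)
      · show QuotientGroup.mk' K x ∈ zpowers a
        rw [show QuotientGroup.mk' K x = 1 from (QuotientGroup.eq_one_iff x).2 hx]
        exact one_mem _
      · obtain ⟨b, rfl⟩ := QuotientGroup.mk'_surjective K a
        have hb : b ∈ (zpowers (QuotientGroup.mk' K b)).comap (QuotientGroup.mk' K) := mem_zpowers _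
        rw [← he] at hb
        rw [show QuotientGroup.mk' K b = 1 from (QuotientGroup.eq_one_iff b).2 hb, orderOf_one] at ha
        exact (Fact.out : p.Prime).ne_one ha.symm
    have : zpowers a = ⊤ := by
      rw [← map_comap_eq_self_of_surjective (QuotientGroup.mk'_surjective K) (zpowers a), htop,
        map_top_of_surjective _ (QuotientGroup.mk'_surjective K)]
    rw [index_eq_card, ← ha, ← Nat.card_zpowers, this, card_top]
  let φ : X →* Multiplicative (ZMod p) := ((mulEquivOfPrimeCardEq (p := p)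
    (G := X ⧸ K) (G' := Multiplicative (ZMod p)) hidx
    (Nat.card_zmod p)).toMonoidHom).comp (QuotientGroup.mk' K)
  have hφ : ∀ x : X, φ x = 1 ↔ x ∈ K := fun x => by
    simp [φ]
  let inst : DistribMulAction G (G → ZMod p) :=
    { smul := fun g f x => f (g⁻¹ * x * g)
      one_smul := fun f => funext fun x => show f (1⁻¹ * x * 1) = f x by simp
      mul_smul := fun g g' f => funext fun x => show f ((g * g')⁻¹ * x * (g * g')) =
        f (g'⁻¹ * (g⁻¹ * x * g) * g') by simp [mul_assoc]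
      smul_zero := fun g => rfl
      smul_add := fun g f f' => rfl }
  let V : AddSubgroup (G → ZMod p) :=
    { carrier := {f | (∀ x ∈ X, ∀ y ∈ X, f (x * y) = f x + f y) ∧ (∀ w ∈ W, f w = 0) ∧
        ∀ x ∉ X, f x = 0}
      zero_mem' := ⟨fun _ _ _ _ => (add_zero _).symm, fun _ _ => rfl, fun _ _ => rfl⟩
      add_mem' := fun {f f'} hf hf' => ⟨fun x hx y hy => by
          show f (x * y) + f' (x * y) = f x + f' x + (f y + f' y)
          rw [hf.1 x hx y hy, hf'.1 x hx y hy]; abel,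
        fun w hw => by show f w + f' w = 0; rw [hf.2.1 w hw, hf'.2.1 w hw, add_zero],
        fun x hx => by show f x + f' x = 0; rw [hf.2.2 x hx, hf'.2.2 x hx, add_zero]⟩
      neg_mem' := fun {f} hf => ⟨fun x hx y hy => by
          show -f (x * y) = -f x + -f y
          rw [hf.1 x hx y hy]; abel,
        fun w hw => by show -f w = 0; rw [hf.2.1 w hw, neg_zero],
        fun x hx => by show -f x = 0; rw [hf.2.2 x hx, neg_zero]⟩ }
  have hVG : ∀ g : G, ∀ f ∈ V, g • f ∈ V := by
    intro g f hf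
    have hc : ∀ {N : Subgroup G} [N.Normal] (x : G), g⁻¹ * x * g ∈ N ↔ x ∈ N := fun {N} hN x => by
      refine ⟨fun h => ?_, fun h => hN.conj_mem' x h g⟩
      simpa [mul_assoc] using hN.conj_mem _ h g
    refine ⟨fun x hx y hy => ?_, fun w hw => hf.2.1 _ ((hc w).2 hw),
      fun x hx => hf.2.2 _ fun h => hx ((hc x).1 h)⟩
    show f (g⁻¹ * (x * y) * g) = f (g⁻¹ * x * g) + f (g⁻¹ * y * g)
    rw [← hf.1 _ ((hc x).2 hx) _ ((hc y).2 hy)]
    congr 1; group
  let lam : G → ZMod p := fun x => if hx : x ∈ X then (φ ⟨x, hx⟩).toAdd else 0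
  have hlam : lam ∈ V := by
    refine ⟨fun x hx y hy => ?_, fun w hw => ?_, fun x hx => dif_neg hx⟩
    · simp only [lam, dif_pos hx, dif_pos hy, dif_pos (mul_mem hx hy)]
      rw [← toAdd_mul, ← map_mul]; rfl
    · have hwX := h.1.le hw
      simp only [lam, dif_pos hwX]
      rw [(hφ ⟨w, hwX⟩).2 (hDK (mem_subgroupOf.2 (hWD hw))), toAdd_one]
  have hp0 : ∀ f ∈ V, p • f = 0 := fun f _ => funext fun x => by simp
  have hXM : ∀ m ∈ M, m • lam = lam := by
    intro m hm
    funext x
    show lam (m⁻¹ * x * m) = lam x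
    by_cases hx : x ∈ X
    · have hxc : x⁻¹ * (m⁻¹ * x * m) ∈ X :=
        mul_mem (inv_mem hx) (hXn.conj_mem' x hx m)
      have hD : x⁻¹ * (m⁻¹ * x * m) ∈ D := hMX (by
        simpa [commutatorElement_def, mul_assoc] using
          commutator_mem_commutator (inv_mem hx) (inv_mem hm))
      rw [show m⁻¹ * x * m = x * (x⁻¹ * (m⁻¹ * x * m)) by group, hlam.1 x hx _ hxc]
      simp only [lam, dif_pos hxc]
      rw [(hφ ⟨_, hxc⟩).2 (hDK (mem_subgroupOf.2 hD)), toAdd_one, add_zero]
    · rw [hlam.2.2 x hx, hlam.2.2]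
      intro hc
      exact hx (by simpa [mul_assoc] using hXn.conj_mem _ hc m)
  have hinv : ∀ g : G, g • lam = lam := by
    refine smul_eq_of_unipotent (p := p) M hM V hp0 hVG lam
      (fun g => sub_mem (hVG g _ hlam) hlam) hXM Q hQ hQM E hQE hEconj ?_ hfix
    intro e he f hf
    have key : ∀ (n : ℕ) (f : G → ZMod p), f ∈ V → (fun w => e • w - w)^[n] f ∈ V ∧
        ∀ x ∈ X, (fun w => e • w - w)^[n] f x = f ((fun y => y⁻¹ * e⁻¹ * y * e)^[n] x) := by
      intro n
      induction n with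
      | zero => exact fun f hf => ⟨hf, fun x _ => rfl⟩
      | succ n ih =>
        intro f hf
        obtain ⟨h1, h2⟩ := ih f hf
        rw [Function.iterate_succ_apply']
        refine ⟨sub_mem (hVG e _ h1) h1, fun x hx => ?_⟩
        rw [Function.iterate_succ_apply]
        have hx' : e⁻¹ * x * e ∈ X := hXn.conj_mem' x hx e
        have hx'' : x⁻¹ * e⁻¹ * x * e ∈ X := by
          simpa [mul_assoc] using mul_mem (inv_mem hx) hx'
        rw [← h2 _ hx'']
        show (fun w => e • w - w)^[n] f (e⁻¹ * x * e) - (fun w => e • w - w)^[n] f x = _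
        conv_lhs => rw [show e⁻¹ * x * e = x * (x⁻¹ * e⁻¹ * x * e) by group, h1.1 x hx _ hx'']
        abel
    funext x
    by_cases hx : x ∈ X
    · rw [(key _ f hf).2 x hx]
      exact hf.2.1 _ (hu e he (iterate_mem_iterCommutator hx _))
    · exact (key _ f hf).1.2.2 x hx
  have hL : (⁅X, (⊤ : Subgroup G)⁆ ⊔ W) = W ∨ (⁅X, (⊤ : Subgroup G)⁆ ⊔ W) = X :=
    h.2.2.2 _ inferInstance le_sup_right (sup_le (commutator_le_left X ⊤) h.1.le)
  rcases hL with hL | hL
  · exact le_sup_left.trans hL.le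
  exfalso
  let Z : Subgroup G :=
    { carrier := {x | x ∈ X ∧ lam x = 0}
      one_mem' := ⟨one_mem X, hlam.2.1 1 (one_mem W)⟩
      mul_mem' := fun {a b} ha hb =>
        ⟨mul_mem ha.1 hb.1, by rw [hlam.1 a ha.1 b hb.1, ha.2, hb.2, add_zero]⟩
      inv_mem' := fun {a} ha => ⟨inv_mem ha.1, by
        have := hlam.1 a ha.1 a⁻¹ (inv_mem ha.1)
        rw [mul_inv_cancel, hlam.2.1 1 (one_mem W), ha.2, zero_add] at this
        exact this.symm⟩ }
  have hXZ : X ≤ Z := by
    conv_lhs => rw [← hL]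
    refine sup_le ?_ fun w hw => ⟨h.1.le hw, hlam.2.1 w hw⟩
    refine commutator_le.2 fun x hx g _ => ⟨commutator_le_left X ⊤ (commutator_mem_commutator hx (mem_top g)), ?_⟩
    have hgx : g * x⁻¹ * g⁻¹ ∈ X := hXn.conj_mem _ (inv_mem hx) g
    rw [commutatorElement_def, show x * g * x⁻¹ * g⁻¹ = x * (g * x⁻¹ * g⁻¹) by group,
      hlam.1 x hx _ hgx]
    have h3 := congrFun (hinv g⁻¹) x⁻¹
    change lam (g⁻¹⁻¹ * x⁻¹ * g⁻¹) = lam x⁻¹ at h3
    rw [inv_inv] at h3
    rw [h3, ← hlam.1 x hx _ (inv_mem hx), mul_inv_cancel, hlam.2.1 1 (one_mem W)]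
  obtain ⟨⟨x, hx⟩, -, hxK⟩ := SetLike.exists_of_lt hKlt
  have h0 := (hXZ hx).2
  simp only [lam, dif_pos hx, toAdd_eq_zero] at h0
  exact hxK ((hφ _).1 h0)

/-- An element of an abelian normal `p`-subgroup `A` centralised by `M` is central when the
generators of `Q` are unipotent of degree `< p` on the chief factors in `A`. -/
theorem mem_center_of_unipotent {A : Subgroup G} [hAn : A.Normal] (hAp : IsPGroup p A)
    (hAc : ∀ a ∈ A, ∀ b ∈ A, a * b = b * a) {x : G} (hx : x ∈ A) (M : Subgroup G)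
    (hM : ¬ p ∣ M.index) (hxM : ∀ m ∈ M, m * x = x * m) (Q : Subgroup G) (hQ : IsPGroup p Q)
    (hQM : Q ≤ M) (E : Set G) (hQE : closure E = Q)
    (hEconj : ∀ e ∈ E, ∀ q ∈ Q, q * e * q⁻¹ ∈ E)
    (hu : ∀ e ∈ E, ∀ U V : Subgroup G, Cfsg.IsChiefFactor U V → U ≤ A →
      Cfsg.iterCommutator U (zpowers e) (p - 1) ≤ V)
    (hfix : ∀ g : G, (∀ e ∈ E, g⁻¹ * e * g ∈ M) → g ∈ M) (g : G) : g * x = x * g := by
  classical
  suffices key : ∀ N : Subgroup G, N.Normal → N ≤ A → (∀ g : G, g * x * g⁻¹ * x⁻¹ ∈ N) →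
      ∀ g : G, g * x * g⁻¹ * x⁻¹ = 1 by
    have := key A hAn le_rfl (fun g => mul_mem (hAn.conj_mem x hx g) (inv_mem hx)) g
    calc g * x = (g * x * g⁻¹ * x⁻¹) * (x * g) := by group
      _ = x * g := by rw [this, one_mul]
  intro N
  induction N using WellFoundedLT.induction with
  | _ N ih =>
    intro hN hNA hNx g
    by_cases hN1 : N = ⊥
    · simpa [hN1] using hNx g
    obtain ⟨V, -, hfac⟩ := exists_chiefFactor_below hN inferInstance (bot_lt_iff_ne_bot.2 hN1)
    haveI := hfac.2.2.1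
    refine ih V hfac.1 inferInstance (hfac.1.le.trans hNA) (fun g => ?_) g
    set π := QuotientGroup.mk' V with hπ
    set Ā := A.map π with hĀ
    haveI hĀn : Ā.Normal := hAn.map π (QuotientGroup.mk'_surjective V)
    let _ : CommGroup Ā := { (inferInstance : Group Ā) with
      mul_comm := fun ⟨a, ha⟩ ⟨b, hb⟩ => by
        obtain ⟨a, ha', rfl⟩ := ha
        obtain ⟨b, hb', rfl⟩ := hb
        exact Subtype.ext (show π a * π b = π b * π a by rw [← map_mul, ← map_mul, hAc a ha' b hb']) }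
    let inst : DistribMulAction G (Additive Ā) :=
      { smul := fun g a => Additive.ofMul ⟨π g * (a.toMul : Ā) * (π g)⁻¹,
          hĀn.conj_mem _ a.toMul.2 _⟩
        one_smul := fun a => congrArg Additive.ofMul (Subtype.ext (by simp; rfl))
        mul_smul := fun g g' a => congrArg Additive.ofMul (Subtype.ext (by
          show π (g * g') * _ * (π (g * g'))⁻¹ = π g * (π g' * _ * (π g')⁻¹) * (π g)⁻¹
          simp [mul_assoc]))
        smul_zero := fun g => congrArg Additive.ofMul (Subtype.ext (by simp))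
        smul_add := fun g a b => congrArg Additive.ofMul (Subtype.ext (by
          show π g * ((a.toMul : G ⧸ V) * (b.toMul : G ⧸ V)) * (π g)⁻¹ =
            π g * (a.toMul : G ⧸ V) * (π g)⁻¹ * (π g * (b.toMul : G ⧸ V) * (π g)⁻¹)
          group)) }
    have hN' : ∀ n ∈ N, π n ∈ Ā := fun n hn => mem_map_of_mem π (hNA hn)
    let NB : AddSubgroup (Additive Ā) := Subgroup.toAddSubgroup ((N.map π).subgroupOf Ā)
    have hmemNB : ∀ a : Additive Ā, a ∈ NB ↔ ((a.toMul : Ā) : G ⧸ V) ∈ N.map π := fun a => Iff.rfl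
    have hNn : (N.map π).Normal := hN.map π (QuotientGroup.mk'_surjective V)
    obtain ⟨-, hpow⟩ := chiefFactor_elementary hfac (hAp.to_le hNA)
    have h1 := smul_eq_of_unipotent (p := p) M hM NB
      (fun a ha => ?_) (fun g a ha => (hmemNB _).2 (hNn.conj_mem _ ha _))
      (Additive.ofMul (⟨π x, mem_map_of_mem π hx⟩ : Ā)) (fun g => (hmemNB _).2 ?_) (fun m hm => ?_)
      Q hQ hQM E hQE hEconj ?_ hfix g
    · have h2 : π g * π x * (π g)⁻¹ = π x := congrArg (fun a : Additive Ā => ((a.toMul : Ā) : G ⧸ V)) h1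
      rw [← map_inv, ← map_mul, ← map_mul] at h2
      exact (QuotientGroup.eq_one_iff _).1 (show π (g * x * g⁻¹ * x⁻¹) = 1 by
        rw [map_mul, h2, map_inv, mul_inv_cancel])
    · obtain ⟨n, hn, hna⟩ := (hmemNB a).1 ha
      refine congrArg Additive.ofMul (show (a.toMul : Ā) ^ p = 1 from Subtype.ext ?_)
      rw [Subgroup.coe_pow, ← hna, ← map_pow]
      exact (QuotientGroup.eq_one_iff _).2 (hpow n hn)
    · refine ⟨g * x * g⁻¹ * x⁻¹, hNx g, ?_⟩
      show π (g * x * g⁻¹ * x⁻¹) = π g * π x * (π g)⁻¹ / π x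
      simp [div_eq_mul_inv]
    · refine congrArg Additive.ofMul (Subtype.ext ?_)
      show π m * π x * (π m)⁻¹ = π x
      rw [← map_mul, hxM m hm, map_mul, mul_inv_cancel_right]
    · intro e he a ha
      obtain ⟨n, hn, hna⟩ := (hmemNB a).1 ha
      have key : ∀ k : ℕ, ((((fun w => e • w - w)^[k] a).toMul : Ā) : G ⧸ V) =
          π ((fun y => e * y * e⁻¹ * y⁻¹)^[k] n) := by
        intro k
        induction k with
        | zero => exact hna.symm
        | succ k ihk =>
          rw [Function.iterate_succ_apply', Function.iterate_succ_apply']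
          show π e * (((fun w => e • w - w)^[k] a).toMul : G ⧸ V) * (π e)⁻¹ /
            (((fun w => e • w - w)^[k] a).toMul : G ⧸ V) = _
          rw [ihk]
          simp [div_eq_mul_inv]
      refine congrArg Additive.ofMul (show (((fun w => e • w - w)^[p - 1] a).toMul : Ā) = 1 from
        Subtype.ext ?_)
      rw [key]
      exact (QuotientGroup.eq_one_iff _).2 (hu e he N V hfac hNA (iterate_mem_iterCommutator' hn _))

end CfsgLib.Kinf
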