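import Cfsg.Agent.Kinf.TransferTools
import Cfsg.Agent.Kinf.Fixed

/-!
The structure of a minimal group without control of transfer, and induction over sections.
-/

set_option autoImplicit false
set_option linter.unusedSectionVars false
set_option linter.style.haveILetI false

namespace CfsgLib.Kinf

open Subgroup CfsgLib.Functor
open scoped CfsgLib.Functor commutatorElement

universe u

variable {G : Type u} [Group G] [Finite G] {p : ℕ} [Fact p.Prime]

/-- A normal `p`-subgroup centralizes the chief factors inside it. -/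
theorem commutator_le_of_chiefFactor {X W U : Subgroup G} (h : Cfsg.IsChiefFactor X W)
    [hUn : U.Normal] (hU : IsPGroup p U) (hXU : X ≤ U) : ⁅X, U⁆ ≤ W := by
  haveI := h.2.1
  haveI := h.2.2.1
  by_contra hc
  have he := le_sup_of_normal_factor h (commutator_le_left X U) hc
  have hall : ∀ n, X ≤ W ⊔ Cfsg.iterCommutator X U n := by
    intro n
    induction n with
    | zero => exact le_sup_right
    | succ n ih =>
      conv_lhs => rw [← he]
      refine sup_le le_sup_left ((commutator_mono ih le_rfl).trans ?_)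
      have hn : ∀ k, (Cfsg.iterCommutator X U k).Normal := by
        intro k
        induction k with
        | zero => exact h.2.1
        | succ k ihk => exact Subgroup.commutator_normal _ _
      haveI := hn n
      haveI := hn (n + 1)
      rw [commutator_le]
      intro y hy z hz
      rw [sup_comm, mem_sup_of_normal_right] at hy
      obtain ⟨a, ha, w, hw, rfl⟩ := hy
      rw [show ⁅a * w, z⁆ = a * ⁅w, z⁆ * a⁻¹ * ⁅a, z⁆ by simp only [commutatorElement_def]; group]
      refine mul_mem ((le_sup_left : W ≤ _) ?_) ((le_sup_right : _ ≤ W ⊔ _) ?_)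
      · exact h.2.2.1.conj_mem _ (commutator_le_left W U (commutator_mem_commutator hw hz)) a
      · exact commutator_mem_commutator ha hz
  have := hU.isNilpotent
  obtain ⟨n, hn⟩ := Subgroup.nilpotent_iff_lowerCentralSeries.1 (inferInstance : Group.IsNilpotent U)
  have hle : ∀ k, Cfsg.iterCommutator X U k ≤ ((⊤ : Subgroup U).lowerCentralSeries k).map U.subtype := by
    intro k
    induction k with
    | zero =>
      rw [Subgroup.lowerCentralSeries_zero, ← MonoidHom.range_eq_map, range_subtype]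
      exact hXU
    | succ k ih =>
      rw [Subgroup.lowerCentralSeries_succ, map_commutator, ← MonoidHom.range_eq_map, range_subtype]
      exact commutator_mono ih le_rfl
  have hXW : X ≤ W := (hall n).trans (sup_le le_rfl ((hle n).trans (by rw [hn, Subgroup.map_bot]; exact bot_le)))
  exact h.1.not_ge hXW

theorem commutator_zpowers_le {X W U : Subgroup G} (h : Cfsg.IsChiefFactor X W) [U.Normal]
    (hU : IsPGroup p U) (hXU : X ≤ U) {g : G} (hg : g ∈ U) {n : ℕ} (hn : 1 ≤ n) :
    Cfsg.iterCommutator X (zpowers g) n ≤ W := by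
  haveI := h.2.1
  refine (iterCommutator_antitone (U := X) (zpowers g) hn).trans ?_
  show ⁅X, zpowers g⁆ ≤ W
  exact (commutator_mono le_rfl (zpowers_le.2 hg)).trans (commutator_le_of_chiefFactor h hU hXU)

/-- Structure of a minimal group in which transfer is not controlled. -/
theorem minimal_structure {𝓦 : Set (∀ (Q : Type u) [Group Q], Subgroup Q)}
    (h𝓦 : ∀ W ∈ 𝓦, Cfsg.IsCharPFunctor.{u} p W) (hne : 𝓦.Nonempty)
    (hsub : ∀ K : Subgroup G, K ≠ ⊤ → Cfsg.FamilyControlsTransferIn p (family G 𝓦) K)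
    (hquot : ∀ (N : Subgroup G) [N.Normal], N ≠ ⊥ →
      Cfsg.FamilyControlsTransferIn p (family (G ⧸ N) 𝓦) ⊤)
    (hG : ¬ Cfsg.FamilyControlsTransferIn p (family G 𝓦) ⊤) (S : Sylow p G) (T U M : Subgroup G)
    (hT : T = transferGen (family G 𝓦) ⊤ (S : Subgroup G)) (hU : U = Cfsg.pCore p G)
    (hM : M = normalizer ((T ⊓ U : Subgroup G) : Set G)) :
    centralizer (U : Set G) ≤ U ∧ (M ≠ ⊤ ∧ ∀ H : Subgroup G, (S : Subgroup G) ≤ H → H ≠ ⊤ → H ≤ M) ∧
      (⁅U, M⁆ ≤ U ⊓ ⁅M, M⁆ ∧ U ⊓ ⁅M, M⁆ ≤ U ⊓ T) ∧ ¬ U ⊓ commutator G ≤ T ∧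
      ∀ u ∈ (S : Subgroup G), u ∉ U → ∃ X W : Subgroup G, Cfsg.IsChiefFactor X W ∧ X ≤ U ∧
        ¬ Cfsg.iterCommutator X (zpowers u) (p - 1) ≤ W := by
  classical
  have hc := family_conjugacy (G := G) h𝓦
  have hTle : T ≤ (S : Subgroup G) ⊓ commutator G := by
    rw [hT, _root_.commutator_def]; exact transferGen_le _ _ _
  have hfail : ¬ (S : Subgroup G) ⊓ commutator G ≤ T := fun h => hG
    ((familyTransfer_iff hc (isSylowIn_top S)).2 (by rwa [← _root_.commutator_def, ← hT]))
  have hUn : U.Normal := hU ▸ inferInstance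
  have hUp : IsPGroup p U := hU ▸ Solvable.isPGroup_pCore p
  have hUS : U ≤ S := by
    obtain ⟨n, hn, hle⟩ := (isSylowIn_top S).exists_cj_le hUp le_top
    rwa [mem_normalizer_iff_cj.1 (by rw [normalizer_eq_top]; exact mem_top n)] at hle
  have hsubT : ∀ K : Subgroup G, (S : Subgroup G) ≤ K → K ≠ ⊤ → (S : Subgroup G) ⊓ ⁅K, K⁆ ≤ T :=
    fun K hSK hK => hT ▸ inf_commutator_le_gen h𝓦 S hSK (hsub K hK)
  have hgen : ∀ W ∈ 𝓦, (S : Subgroup G) ⊓
      ⁅normalizer ((Cfsg.inducedFunctor (G := G) W (S : Subgroup G) : Subgroup G) : Set G),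
        normalizer ((Cfsg.inducedFunctor (G := G) W (S : Subgroup G) : Subgroup G) : Set G)⁆ ≤ T :=
    fun W hW => by rw [hT, transferGen_family]; exact le_iSup₂_of_le W hW le_rfl
  have hNS : ∀ W ∈ 𝓦, normalizer ((S : Subgroup G) : Set G) ≤
      normalizer ((Cfsg.inducedFunctor (G := G) W (S : Subgroup G) : Subgroup G) : Set G) :=
    fun W hW => normalizer_le_functor (hc _ ⟨W, hW, rfl⟩) S.2
  obtain ⟨W₀, hW₀⟩ := hne
  have hNW₀ : ∀ W ∈ 𝓦, normalizer ((Cfsg.inducedFunctor (G := G) W (S : Subgroup G) : Subgroup G) : Set G) ≠ ⊤ := by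
    intro W hW he
    refine hfail (le_trans ?_ (hgen W hW))
    rw [he, _root_.commutator_def]
  -- O_{p'} = 1
  have hO : Cfsg.pPrimeCore p G = ⊥ := by
    by_contra hR
    set R := Cfsg.pPrimeCore p G with hRdef
    have hRcop : (Nat.card R).Coprime p := Solvable.coprime_card_pPrimeCore p
    have hSR : ∀ x ∈ (S : Subgroup G), x ∈ R → x = 1 := fun x hxS hxR => by
      have h1 : orderOf x ∣ Nat.card R := by
        rw [← Nat.card_zpowers]; exact card_dvd_of_le (zpowers_le.2 hxR)
      obtain ⟨k, hk⟩ := IsPGroup.iff_orderOf.1 S.2 ⟨x, hxS⟩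
      rw [Subgroup.orderOf_mk] at hk
      have h2 : (orderOf x).Coprime (orderOf x) := by
        nth_rw 2 [hk]
        exact ((hRcop.coprime_dvd_left h1).pow_right k)
      exact orderOf_eq_one_iff.1 ((Nat.coprime_self _).1 h2)
    have key : (S : Subgroup G) ⊓ commutator G ≤ T ⊔ R := by
      refine inf_commutator_le_of_quotient h𝓦 S R (hquot R hR) _ le_sup_right fun W hW K hK => ?_
      set π := QuotientGroup.mk' R with hπ
      set WS := Cfsg.inducedFunctor (G := G) W (S : Subgroup G) with hWS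
      set N := normalizer (WS : Set G) with hN
      have hWSS : WS ≤ S := map_subtype_le _
      have hmap : Cfsg.inducedFunctor (G := G ⧸ R) W ((S : Subgroup G).map π) = WS.map π :=
        induced_map (h𝓦 W hW).2 π S S.2 fun x hx hx1 =>
          hSR x hx ((QuotientGroup.eq_one_iff x).1 hx1)
      rw [hmap] at hK
      have hKN : K ≤ N ⊔ R := by
        intro x hx
        rw [hK, mem_comap, mem_normalizer_iff_cj] at hx
        set Y := WS ⊔ R with hY
        have hYc : (WS.map π).comap π = Y := by rw [comap_map_eq, hπ, QuotientGroup.ker_mk']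
        have hSN : (S : Subgroup G) ≤ normalizer (Y : Set G) := fun s hs => by
          refine mem_normalizer_iff_cj.2 ?_
          rw [hY, Subgroup.map_sup, mem_normalizer_iff_cj.1 (hNS W hW (le_normalizer hs)),
            mem_normalizer_iff_cj.1 (by rw [normalizer_eq_top]; exact mem_top s)]
        have hxY : x ∈ normalizer (Y : Set G) := by
          refine mem_normalizer_iff_cj.2 ?_
          rw [← hYc]
          ext y
          rw [mem_cj, mem_comap, mem_comap]
          conv_rhs => rw [← hx, mem_cj]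
          simp
        have hTY : (S : Subgroup G) ⊓ Y = WS := by
          refine le_antisymm ?_ (le_inf hWSS le_sup_left)
          rintro y ⟨hyS, hyY⟩
          replace hyY : y ∈ WS ⊔ R := hyY
          rw [mem_sup_of_normal_right] at hyY
          obtain ⟨w, hw, r, hr, rfl⟩ := hyY
          have : r = 1 := hSR r (by simpa using mul_mem (inv_mem (hWSS hw)) hyS) hr
          rw [this, mul_one]; exact hw
        obtain ⟨c, hc', n, hn, rfl⟩ := IsSylowIn.frattini ((isSylowIn_top S).of_le hSN le_top)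
          (le_normalizer : Y ≤ _) le_rfl hxY
        rw [hTY] at hn
        refine mul_mem ?_ ((le_sup_left : N ≤ N ⊔ R) hn.2)
        exact (sup_le_sup_right (le_normalizer (H := WS)) R : Y ≤ N ⊔ R) hc'
      have hNn : N ≤ normalizer ((⁅N, N⁆ : Subgroup G) : Set G) := normalizer_commutator_ge_left N N
      have hder : ⁅K, K⁆ ⊔ R ≤ ⁅N, N⁆ ⊔ R := by
        refine sup_le ?_ le_sup_right
        refine (commutator_mono hKN hKN).trans (commutator_le.2 fun a ha b hb => ?_)
        rw [mem_sup_of_normal_right] at ha hb ⊢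
        obtain ⟨a, ha, r, hr, rfl⟩ := ha
        obtain ⟨b, hb, r', hr', rfl⟩ := hb
        refine ⟨⁅a, b⁆, commutator_mem_commutator ha hb, ⁅a, b⁆⁻¹ * ⁅a * r, b * r'⁆, ?_,
          mul_inv_cancel_left _ _⟩
        rw [← QuotientGroup.eq_one_iff]
        show π _ = 1
        rw [map_mul, map_inv, map_commutatorElement, map_commutatorElement, map_mul, map_mul,
          show π r = 1 from (QuotientGroup.eq_one_iff r).2 hr,
          show π r' = 1 from (QuotientGroup.eq_one_iff r').2 hr', mul_one, mul_one, inv_mul_cancel]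
      rintro s ⟨hsS, hs⟩
      refine (le_sup_left : T ≤ T ⊔ R) (hgen W hW ⟨hsS, ?_⟩)
      have hs' := hder hs
      rw [mem_sup_of_normal_right] at hs'
      obtain ⟨c, hc', r, hr, rfl⟩ := hs'
      have hrN : r ∈ N := by
        simpa using mul_mem (inv_mem (commutator_le_self N hc')) (hNS W hW (le_normalizer hsS))
      have hcN : c ∈ N := commutator_le_self N hc'
      set D := (⁅N, N⁆ : Subgroup G).subgroupOf N with hD
      haveI : D.Normal := normal_subgroupOf_of_le hNn
      have hpow : (⟨c * r, mul_mem hcN hrN⟩ : N) ^ Nat.card R ∈ D := by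
        rw [← QuotientGroup.eq_one_iff, QuotientGroup.mk_pow]
        have h1 : ((⟨c * r, mul_mem hcN hrN⟩ : N) : N ⧸ D) = ((⟨r, hrN⟩ : N) : N ⧸ D) := by
          rw [show (⟨c * r, mul_mem hcN hrN⟩ : N) = ⟨c, hcN⟩ * ⟨r, hrN⟩ from rfl,
            QuotientGroup.mk_mul, (QuotientGroup.eq_one_iff _).2 (mem_subgroupOf.2 hc'), one_mul]
        rw [h1, ← QuotientGroup.mk_pow]
        have h2 : (⟨r, hrN⟩ : N) ^ Nat.card R = 1 := Subtype.ext (by
          show r ^ Nat.card R = 1
          exact congrArg Subtype.val (pow_card_eq_one' (x := (⟨r, hr⟩ : R))))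
        rw [h2]; rfl
      exact mem_of_pow_mem_of_coprime (mem_subgroupOf.1 hpow)
        (coprime_orderOf_of_mem S.2 hsS ((Fact.out : p.Prime).coprime_iff_not_dvd.1 hRcop.symm))
    apply hfail
    intro s hs
    have := key hs
    rw [mem_sup_of_normal_right] at this
    obtain ⟨t, ht, r, hr, rfl⟩ := this
    rw [hSR r (by simpa using mul_mem (inv_mem (show t ∈ (S : Subgroup G) from (hTle ht).1)) (show t * r ∈ (S : Subgroup G) from hs.1)) hr, mul_one]
    exact ht
  -- U ≠ 1
  have hU1 : U ≠ ⊥ := by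
    intro hU1
    refine hfail (le_trans (le_of_eq (by rw [_root_.commutator_def])) (le_trans
      (transfer_top_of_local S (family G 𝓦) hc (fun _ => True) (fun A hA => ?_)
        (fun V hV hV1 hext _ => ?_)) hT.ge))
    · obtain ⟨g, h1, h2, h3⟩ := exists_extremal S hA
      exact ⟨g, h1, h2, h3, trivial⟩
    · refine (familyTransfer_iff hc (IsExtremal.sylowIn S.2 hext)).1 (hsub _ fun he => hV1 ?_)
      have hVn : V.Normal := Subgroup.normalizer_eq_top_iff.1 he
      exact le_bot_iff.1 (hU1 ▸ hU ▸ Solvable.le_pCore (p := p) hVn (S.2.to_le hV))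
  -- reduction modulo U
  have hTU : (S : Subgroup G) ⊓ commutator G ≤ T ⊔ U := by
    refine inf_commutator_le_of_quotient h𝓦 S U (hquot U hU1) _ le_sup_right fun W hW K hK => ?_
    set π := QuotientGroup.mk' U with hπ
    set Sb := (S : Subgroup G).map π with hSb
    set Wb := Cfsg.inducedFunctor (G := G ⧸ U) W Sb with hWb
    have hSK : (S : Subgroup G) ≤ K := by
      rw [hK, ← map_le_iff_le_comap]
      exact (le_normalizer (H := Sb)).trans
        (normalizer_le_functor (family_conjugacy h𝓦 _ ⟨W, hW, rfl⟩) (S.2.map π))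
    have hKtop : K ≠ ⊤ := by
      intro he
      by_cases hSb1 : Sb = ⊥
      · rw [hSb, Subgroup.map_eq_bot_iff, hπ, QuotientGroup.ker_mk'] at hSb1
        refine hNW₀ W hW (top_le_iff.1 ?_)
        refine le_trans ?_ (hNS W hW)
        rw [le_antisymm hSb1 hUS, normalizer_eq_top]
      · haveI hWbn : Wb.Normal := by
          refine Subgroup.normalizer_eq_top_iff.1 ?_
          rw [← map_comap_eq_self_of_surjective (QuotientGroup.mk'_surjective U)
            (normalizer (Wb : Set (G ⧸ U))), ← hπ, ← hK, he,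
            map_top_of_surjective π (QuotientGroup.mk'_surjective U)]
        have hker : IsPGroup p π.ker := by rw [hπ, QuotientGroup.ker_mk']; exact hUp
        have hle : Wb.comap π ≤ U := (Solvable.le_pCore (p := p) (Subgroup.Normal.comap hWbn π)
          (((S.2.map π).to_le (map_subtype_le _)).comap_of_ker_isPGroup π hker)).trans hU.ge
        refine (family_conjugacy h𝓦 _ ⟨W, hW, rfl⟩ Sb (S.2.map π)).2.1 hSb1 ?_
        show Wb = ⊥
        rw [← map_comap_eq_self_of_surjective (QuotientGroup.mk'_surjective U) Wb, ← hπ,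
          Subgroup.map_eq_bot_iff, hπ, QuotientGroup.ker_mk']
        exact hle
    rintro s ⟨hs, hsK⟩
    replace hsK : s ∈ ⁅K, K⁆ ⊔ U := hsK
    rw [mem_sup_of_normal_right] at hsK
    obtain ⟨k, hk, v, hv, rfl⟩ := hsK
    refine mul_mem ((le_sup_left : T ≤ T ⊔ U) (hsubT K hSK hKtop ⟨?_, hk⟩))
      ((le_sup_right : U ≤ T ⊔ U) hv)
    have h1 := mul_mem (show k * v ∈ (S : Subgroup G) from hs) (inv_mem (hUS hv))
    rwa [mul_inv_cancel_right] at h1
  have hUnot : ¬ U ⊓ commutator G ≤ T := fun h => hfail fun s hs => by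
    have h1 := hTU hs
    rw [mem_sup_of_normal_right] at h1
    obtain ⟨t, ht, v, hv, rfl⟩ := h1
    exact mul_mem ht (h ⟨hv, by simpa using mul_mem (inv_mem (show t ∈ commutator G from (hTle ht).2)) (show t * v ∈ commutator G from hs.2)⟩)
  -- M
  have hTS : (S : Subgroup G) ≤ normalizer (T : Set G) := fun s hs => by
    refine mem_normalizer_iff_cj.2 ?_
    rw [hT, transferGen_cj hc S.2 (by rw [normalizer_eq_top]; exact mem_top s),
      cj_eq_self_of_mem hs]
  have hSM : (S : Subgroup G) ≤ M := fun s hs => by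
    rw [hM, mem_normalizer_iff_cj, cj_inf, mem_normalizer_iff_cj.1 (hTS hs),
      mem_normalizer_iff_cj.1 (by rw [normalizer_eq_top]; exact mem_top s)]
  have hcommU : ∀ H : Subgroup G, (S : Subgroup G) ≤ H → H ≠ ⊤ → ⁅U, H⁆ ≤ U ⊓ ⁅H, H⁆ ∧
      U ⊓ ⁅H, H⁆ ≤ U ⊓ T := fun H hSH hH =>
    ⟨le_inf (commutator_le_left U H) (commutator_mono (hUS.trans hSH) le_rfl),
      le_inf inf_le_left ((inf_le_inf_right _ hUS).trans (hsubT H hSH hH))⟩
  have hHM : ∀ H : Subgroup G, (S : Subgroup G) ≤ H → H ≠ ⊤ → H ≤ M := by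
    intro H hSH hH h hh
    rw [hM]
    have key : ∀ h ∈ H, ∀ x ∈ T ⊓ U, h * x * h⁻¹ ∈ T ⊓ U := by
      intro h hh x hx
      have h1 : ⁅x, h⁆ ∈ U ⊓ T := ((hcommU H hSH hH).1.trans (hcommU H hSH hH).2)
        (commutator_mem_commutator hx.2 hh)
      have h2 := mul_mem (inv_mem (show ⁅x, h⁆ ∈ T ⊓ U from ⟨h1.2, h1.1⟩)) hx
      simpa [commutatorElement_def, mul_assoc] using h2
    exact mem_normalizer_iff.2 fun x => ⟨key h hh x, fun hx => by
      simpa [mul_assoc] using key h⁻¹ (inv_mem hh) _ hx⟩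
  have hW₀top := hNW₀ W₀ hW₀
  have hSN₀ : (S : Subgroup G) ≤
      normalizer ((Cfsg.inducedFunctor (G := G) W₀ (S : Subgroup G) : Subgroup G) : Set G) :=
    le_normalizer.trans (hNS W₀ hW₀)
  have hder : ⁅(S : Subgroup G), (S : Subgroup G)⁆ ≤ T :=
    le_trans (le_inf (commutator_le_self _) (commutator_mono hSN₀ hSN₀)) (hgen W₀ hW₀)
  have hMtop : M ≠ ⊤ := by
    intro he
    haveI hDn : (T ⊓ U).Normal := Subgroup.normalizer_eq_top_iff.1 (hM ▸ he)
    set π := QuotientGroup.mk' (T ⊓ U) with hπ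
    haveI : (U.map π).Normal := hUn.map π (QuotientGroup.mk'_surjective _)
    set C := (centralizer ((U.map π : Subgroup _) : Set (G ⧸ T ⊓ U))).comap π with hC
    have hCmem : ∀ x, (∀ v ∈ U, ⁅v, x⁆ ∈ T ⊓ U) → x ∈ C := fun x hx => by
      refine mem_centralizer_iff.2 ?_
      rintro _ ⟨v, hv, rfl⟩
      show π v * π x = π x * π v
      rw [← commutatorElement_eq_one_iff_mul_comm, ← map_commutatorElement]
      exact (QuotientGroup.eq_one_iff _).2 (hx v hv)
    have hSC : (S : Subgroup G) ≤ C := fun s hs => hCmem s fun v hv =>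
      ⟨hder (commutator_mem_commutator (hUS hv) hs), commutator_le_left U S (commutator_mem_commutator hv hs)⟩
    have hNC : normalizer ((Cfsg.inducedFunctor (G := G) W₀ (S : Subgroup G) : Subgroup G) : Set G) ≤ C :=
      fun x hx => hCmem x fun v hv => by
        have := ((hcommU _ hSN₀ hW₀top).1.trans (hcommU _ hSN₀ hW₀top).2)
          (commutator_mem_commutator hv hx)
        exact ⟨this.2, this.1⟩
    have hCtop : C = ⊤ := by
      haveI : C.Normal := Subgroup.Normal.comap inferInstance π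
      refine top_le_iff.1 fun x _ => ?_
      obtain ⟨c, hc', n, hn, rfl⟩ := (isSylowIn_top S).frattini (le_top : C ≤ ⊤)
        (by rw [normalizer_eq_top]) (mem_top x)
      rw [inf_eq_left.2 hSC] at hn
      exact mul_mem hc' (hNC (hNS W₀ hW₀ hn.2))
    apply hUnot
    have hX : ⁅U ⊓ commutator G, (⊤ : Subgroup G)⁆ ≤ T ⊓ U := by
      refine commutator_le.2 fun v hv x _ => ?_
      rw [← QuotientGroup.eq_one_iff]
      show π ⁅v, x⁆ = 1
      rw [map_commutatorElement, commutatorElement_eq_one_iff_mul_comm]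
      exact mem_centralizer_iff.1 (hCtop.ge (mem_top x) : x ∈ C) _ (mem_map_of_mem π hv.1)
    exact (central_le_commutator S (inf_le_left.trans hUS) hX inf_le_right).trans
      (sup_le inf_le_left hder)
  -- C(U) ≤ U
  have hCU : centralizer (U : Set G) ≤ U := by
    set C := centralizer (U : Set G) with hCdef
    haveI hCn : C.Normal := hCdef ▸ Subgroup.normalizer_eq_top_iff.1 (top_le_iff.1
      ((normalizer_eq_top (H := U)).ge.trans fun g hg => mem_normalizer_iff_cj.2 (by
        rw [cj_centralizer, mem_normalizer_iff_cj.1 hg])))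
    by_cases hcs : (S : Subgroup G) ⊓ C ≤ U
    · have hP := (isSylowIn_top S).inf_normal (le_top : C ≤ ⊤) (by rw [normalizer_eq_top])
      exact (le_of_sylow_central hO hP (le_centralizer_iff.1 (hcs.trans
        (le_centralizer_iff.1 le_rfl)))).trans hcs
    exfalso
    by_cases hCM : C ≤ M
    · refine hMtop (top_le_iff.1 fun x _ => ?_)
      obtain ⟨c, hc', n, hn, rfl⟩ := (isSylowIn_top S).frattini (le_top : C ≤ ⊤)
        (by rw [normalizer_eq_top]) (mem_top x)
      refine mul_mem (hCM hc') ((hHM _ ?_ ?_) hn.2)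
      · intro s hs
        rw [mem_normalizer_iff_cj, cj_inf, cj_eq_self_of_mem hs,
          mem_normalizer_iff_cj.1 (by rw [normalizer_eq_top]; exact mem_top s)]
      · intro he
        exact hcs (hU ▸ Solvable.le_pCore (p := p) (Subgroup.normalizer_eq_top_iff.1 he)
          (S.2.to_le inf_le_left))
    · exact hCM fun c hc' => hM ▸ centralizer_le_normalizer _ (centralizer_le inf_le_right hc')
  refine ⟨hCU, ⟨hMtop, hHM⟩, hcommU M hSM hMtop, hUnot, ?_⟩
  -- the chief factor
  intro u huS huU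
  by_contra hcon
  push Not at hcon
  set cond : G → Prop := fun g => ∀ X W : Subgroup G, Cfsg.IsChiefFactor X W → X ≤ U →
    Cfsg.iterCommutator X (zpowers g) (p - 1) ≤ W with hcond
  have hconj : ∀ h g : G, cond g → cond (h * g * h⁻¹) := by
    intro h g hg X W hXW hX
    have := cj_mono h (hg X W hXW hX)
    rwa [iterCommutator_cj, MonoidHom.map_zpowers, mem_normalizer_iff_cj.1
      (by rw [Subgroup.normalizer_eq_top_iff.2 hXW.2.1]; exact mem_top h),
      mem_normalizer_iff_cj.1 (by rw [Subgroup.normalizer_eq_top_iff.2 hXW.2.2.1]; exact mem_top h)]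
      at this
  set E : Set G := {e | e ∈ (S : Subgroup G) ∧ cond e} with hE
  set Q := closure E with hQ
  have hQS : Q ≤ S := (closure_le _).2 fun e he => he.1
  have hp1 : 1 ≤ p - 1 := by have := (Fact.out : p.Prime).two_le; omega
  have hUQ : U ≤ Q := fun g hg => subset_closure ⟨hUS hg, fun X W hXW hX =>
    commutator_zpowers_le hXW hUp hX hg hp1⟩
  have hSQ : (S : Subgroup G) ≤ normalizer (Q : Set G) := fun s hs => mem_normalizer_iff_cj.2 (by
    refine eq_of_le_of_card_le' ?_ (card_cj s Q).ge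
    rw [hQ, MonoidHom.map_closure]
    refine closure_mono ?_
    rintro _ ⟨e, he, rfl⟩
    exact ⟨mul_mem (mul_mem hs he.1) (inv_mem hs), hconj s e he.2⟩)
  have hNQ : normalizer (Q : Set G) ≤ M := hHM _ hSQ fun he => huU
    (hU ▸ Solvable.le_pCore (p := p) (Subgroup.normalizer_eq_top_iff.1 he) (S.2.to_le hQS)
      (subset_closure ⟨huS, hcon⟩))
  -- X and W
  obtain ⟨W₁, hW₁⟩ := (Set.toFinite {N : Subgroup G | N.Normal ∧ N ≤ T ⊓ (U ⊓ commutator G)}).exists_maximal
    ⟨⊥, inferInstance, bot_le⟩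
  haveI hW₁n := hW₁.1.1
  have hlt : W₁ < U ⊓ commutator G := lt_of_le_of_ne (hW₁.1.2.trans inf_le_right)
    fun he => hUnot (he ▸ hW₁.1.2.trans inf_le_left)
  obtain ⟨X, hXle, hXW⟩ := exists_chiefFactor_above hW₁n inferInstance hlt
  haveI := hXW.2.1
  have hXT : ¬ X ≤ T := fun h => hXW.1.not_ge (hW₁.2 ⟨inferInstance, le_inf h hXle⟩ hXW.1.le)
  refine hXT ((central_le_commutator S ((hXle.trans inf_le_left).trans hUS) ?_
    (hXle.trans inf_le_right)).trans (sup_le (hW₁.1.2.trans inf_le_left) hder))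
  have hXU := hXle.trans inf_le_left
  refine central_of_chiefFactor hXW (hUp.to_le hXU) M
    (fun hd => S.not_dvd_index (hd.trans (index_dvd_of_le hSM))) (D := X ⊓ T)
    (le_inf hXW.1.le (hW₁.1.2.trans inf_le_left)) (lt_of_le_of_ne inf_le_left fun he => hXT (inf_eq_left.1 he))
    (le_inf (commutator_le_left X M) ?_) Q (S.2.to_le hQS) (hQS.trans hSM) E rfl ?_
    (fun e he => he.2 X W₁ hXW hXU) ?_
  · exact ((commutator_mono hXU le_rfl).trans ((hcommU M hSM hMtop).1.trans
      (hcommU M hSM hMtop).2)).trans inf_le_right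
  · exact fun e he q hq => ⟨mul_mem (mul_mem (hQS hq) he.1) (inv_mem (hQS hq)), hconj q e he.2⟩
  · intro g he
    have hle : g⁻¹ ⋆ Q ≤ M := by
      rw [hQ, MonoidHom.map_closure, closure_le]
      rintro _ ⟨e, hee, rfl⟩
      simpa using he e hee
    obtain ⟨m, hm, hmle⟩ := ((isSylowIn_top S).of_le hSM le_top).exists_cj_le
      (isPGroup_cj _ (S.2.to_le hQS)) hle
    rw [cj_cj] at hmle
    have hQQ : (m * g⁻¹) ⋆ Q ≤ Q := by
      rw [hQ, MonoidHom.map_closure]
      refine closure_mono ?_
      rintro _ ⟨e, hee, rfl⟩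
      exact ⟨hmle (conj_mem_cj (subset_closure hee)), hconj _ e hee.2⟩
    have hk : m * g⁻¹ ∈ M :=
      hNQ (mem_normalizer_iff_cj.2 (eq_of_le_of_card_le' hQQ (card_cj _ Q).ge))
    have := mul_mem (inv_mem hk) hm
    simpa using this

/-- The singleton of the identity functor. -/
theorem isCharPFunctor_top (p : ℕ) :
    Cfsg.IsCharPFunctor.{u} p (fun Q [Group Q] => (⊤ : Subgroup Q)) :=
  ⟨fun _ _ _ _ _ => top_ne_bot, fun _ _ _ _ _ _ φ => map_top_of_surjective _ φ.surjective⟩

/-- Induction over sections: it suffices to treat a minimal counterexample. -/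
theorem controls_of_minimal {𝓦 : Set (∀ (Q : Type u) [Group Q], Subgroup Q)}
    (h𝓦 : ∀ W ∈ 𝓦, Cfsg.IsCharPFunctor.{u} p W)
    (hmin : ∀ (K R : Subgroup G) [(R.subgroupOf K).Normal],
      (∀ H : Subgroup (↥K ⧸ R.subgroupOf K), H ≠ ⊤ →
        Cfsg.FamilyControlsTransferIn p (family (↥K ⧸ R.subgroupOf K) 𝓦) H) →
      (∀ (N : Subgroup (↥K ⧸ R.subgroupOf K)) [N.Normal], N ≠ ⊥ →
        Cfsg.FamilyControlsTransferIn p (family ((↥K ⧸ R.subgroupOf K) ⧸ N) 𝓦) ⊤) →
      Cfsg.FamilyControlsTransferIn p (family (↥K ⧸ R.subgroupOf K) 𝓦) ⊤)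
    (K R : Subgroup G) [(R.subgroupOf K).Normal] :
    Cfsg.FamilyControlsTransferIn p (family (↥K ⧸ R.subgroupOf K) 𝓦) ⊤ := by
  suffices key : ∀ (n : ℕ) (K R : Subgroup G) (hn : (R.subgroupOf K).Normal),
      Nat.card (↥K ⧸ R.subgroupOf K) ≤ n →
      Cfsg.FamilyControlsTransferIn p (family (↥K ⧸ R.subgroupOf K) 𝓦) ⊤ from
    key _ K R inferInstance le_rfl
  intro n
  induction n with
  | zero =>
    intro K R hn h
    have : 0 < Nat.card (↥K ⧸ R.subgroupOf K) := Nat.card_pos
    omega
  | succ n ih =>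
    intro K R hn hcard
    -- sections of the section
    have sub : ∀ (H : Subgroup (↥K ⧸ R.subgroupOf K)) (N : Subgroup H) (hN : N.Normal),
        Nat.card (↥H ⧸ N) ≤ n → Cfsg.FamilyControlsTransferIn p (family (↥H ⧸ N) 𝓦) ⊤ := by
      intro H N hN hc
      set π := QuotientGroup.mk' (R.subgroupOf K) with hπ
      set K' := (H.comap π).map K.subtype with hK'
      let f₀ : ↥(H.comap π) →* ↥H ⧸ N := (QuotientGroup.mk' N).comp
        ((π.comp (H.comap π).subtype).codRestrict H fun x => x.2)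
      have hf₀ : Function.Surjective f₀ := fun y => by
        obtain ⟨⟨y, hy⟩, rfl⟩ := QuotientGroup.mk'_surjective N y
        obtain ⟨x, rfl⟩ := QuotientGroup.mk'_surjective (R.subgroupOf K) y
        exact ⟨⟨x, hy⟩, rfl⟩
      let eK := (H.comap π).equivMapOfInjective K.subtype K.subtype_injective
      let f : ↥K' →* ↥H ⧸ N := f₀.comp eK.symm.toMonoidHom
      have hf : Function.Surjective f := hf₀.comp eK.symm.surjective
      set R' := f.ker.map K'.subtype with hR'
      have hR'eq : R'.subgroupOf K' = f.ker :=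
        comap_map_eq_self_of_injective K'.subtype_injective f.ker
      haveI hR'n : (R'.subgroupOf K').Normal := hR'eq ▸ inferInstance
      let e := (QuotientGroup.quotientMulEquivOfEq hR'eq).trans
        (QuotientGroup.quotientKerEquivOfSurjective f hf)
      exact transfer_of_equiv h𝓦 e (ih K' R' hR'n (by rwa [Nat.card_congr e.toEquiv]))
    refine hmin K R (fun H hH => ?_) fun N hN hN1 => ?_
    · have hlt : Nat.card H < Nat.card (↥K ⧸ R.subgroupOf K) :=
        lt_of_le_of_ne H.card_le_card_group fun he => hH (Subgroup.eq_top_of_card_eq H he)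
      have h1 := sub H ⊥ inferInstance (by
        rw [Nat.card_congr (QuotientGroup.quotientBot (G := H)).toEquiv]; omega)
      have h2 := transfer_of_injective h𝓦 H.subtype H.subtype_injective
        (transfer_of_equiv h𝓦 QuotientGroup.quotientBot h1)
      rwa [range_subtype] at h2
    · haveI : (N.subgroupOf ⊤).Normal := hN.subgroupOf ⊤
      let e : (↥(⊤ : Subgroup (↥K ⧸ R.subgroupOf K)) ⧸ N.subgroupOf ⊤) ≃* (↥K ⧸ R.subgroupOf K) ⧸ N :=
        QuotientGroup.congr (N.subgroupOf ⊤) N topEquiv (by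
          ext x
          constructor
          · rintro ⟨y, hy, rfl⟩; exact hy
          · intro hx; exact ⟨⟨x, mem_top x⟩, hx, rfl⟩)
      refine transfer_of_equiv h𝓦 e (sub ⊤ (N.subgroupOf ⊤) inferInstance ?_)
      rw [Nat.card_congr e.toEquiv]
      have h1 := Subgroup.card_eq_card_quotient_mul_card_subgroup N
      have h2 : 1 < Nat.card N := N.one_lt_card_iff_ne_bot.2 hN1
      have h3 : 0 < Nat.card ((↥K ⧸ R.subgroupOf K) ⧸ N) := Nat.card_pos
      nlinarith

end CfsgLib.Kinf
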