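import Mathlib.GroupTheory.Sylow
import Mathlib.NumberTheory.Padics.PadicVal.Basic
import Mathlib.LinearAlgebra.Dual.Lemmas
import Mathlib.Algebra.Polynomial.AlgebraMap
import Mathlib.Algebra.CharP.Lemmas
import Mathlib.Algebra.Module.ZMod
import Mathlib.Algebra.Field.ZMod
import Mathlib.Data.Fintype.Perm
import Mathlib.LinearAlgebra.Basis.VectorSpace
import Mathlib.Algebra.Module.Projective
import Cfsg.Prelude.Def_Transfer

/-!
A `p`-group with an elementary abelian subgroup of index `p` and a nontrivial norm maps onto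
`Z_p ≀ Z_p`, realised inside the symmetric group of degree `p²`.
-/

set_option autoImplicit false
set_option linter.unusedSectionVars false

namespace CfsgLib.WreathImage

open Subgroup Polynomial

theorem poly_identity (p : ℕ) [Fact p.Prime] :
    (X - 1 : (ZMod p)[X]) ^ (p - 1) = ∑ i ∈ Finset.range p, X ^ i := by
  have h1 : (X - 1 : (ZMod p)[X]) ≠ 0 := X_sub_C_ne_zero (R := ZMod p) 1 |> (by simpa using ·)
  refine mul_right_cancel₀ h1 ?_
  rw [geom_sum_mul, ← pow_succ, Nat.sub_add_cancel (Fact.out : p.Prime).one_le, sub_pow_char, one_pow]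

theorem card_sylow_perm (p : ℕ) [Fact p.Prime] (Q : Sylow p (Equiv.Perm (Fin (p ^ 2)))) :
    Nat.card (Q : Subgroup (Equiv.Perm (Fin (p ^ 2)))) = p ^ (p + 1) := by
  rw [Q.card_eq_multiplicity, Nat.card_eq_fintype_card, Fintype.card_perm, Fintype.card_fin,
    Nat.factorization_def _ Fact.out]
  congr 1
  rw [pow_two, padicValNat_factorial_mul]
  have : padicValNat p p.factorial = 1 := by
    have h := padicValNat_factorial_mul (p := p) 1
    rwa [mul_one, Nat.factorial_one, padicValNat.one, zero_add] at h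
  rw [this, add_comm]

theorem main {P : Type*} [Group P] [Finite P] {p : ℕ} [Fact p.Prime] (hP : IsPGroup p P)
    (A : Subgroup P) [hAn : A.Normal] (hA : Cfsg.IsElementaryAbelian p A) (hidx : A.index = p)
    (x y : P) (hx : x ∈ A) (hy : y ∉ A)
    (hprod : ((List.range p).map (fun i => (y ^ i)⁻¹ * x * y ^ i)).prod ≠ 1) :
    ∃ (Q : Sylow p (Equiv.Perm (Fin (p ^ 2))))
      (f : P →* ↥(Q : Subgroup (Equiv.Perm (Fin (p ^ 2))))), Function.Surjective f := by
  classical
  letI : CommGroup A :=
    { (inferInstance : Group A) with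
      mul_comm := fun a b => hA.1.is_comm.comm a b }
  have hexp : ∀ m : Additive A, p • m = 0 := fun m => by
    apply Additive.toMul.injective
    rw [toMul_nsmul, toMul_zero]
    exact Subtype.ext (hA.2 _ (Additive.toMul m).2)
  letI : Module (ZMod p) (Additive A) := AddCommGroup.zmodModule (n := p) hexp
  let σA : A →* A :=
    { toFun := fun a => ⟨y⁻¹ * a * y, by simpa using hAn.conj_mem _ a.2 y⁻¹⟩
      map_one' := Subtype.ext (by simp)
      map_mul' := fun a b => Subtype.ext (by simp [mul_assoc]) }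
  let σ : Module.End (ZMod p) (Additive A) := (MonoidHom.toAdditive σA).toZModLinearMap p
  let v : Additive A → P := fun m => ((Additive.toMul m : A) : P)
  have hv0 : v 0 = 1 := rfl
  have hvadd : ∀ m n, v (m + n) = v m * v n := fun m n => rfl
  have hσ : ∀ (i : ℕ) (m : Additive A), v ((σ ^ i) m) = (y ^ i)⁻¹ * v m * y ^ i := by
    intro i m
    induction i with
    | zero => simp
    | succ i ih =>
      rw [pow_succ' σ, Module.End.mul_apply, show v (σ ((σ ^ i) m)) = y⁻¹ * v ((σ ^ i) m) * y from rfl,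
        ih, pow_succ y]
      group
  have hσp : σ ^ p = 1 := by
    refine LinearMap.ext fun m => Additive.toMul.injective (Subtype.ext ?_)
    show v ((σ ^ p) m) = v m
    rw [hσ, mul_assoc]
    have hyp : y ^ p ∈ A := hidx ▸ A.pow_index_mem y
    have := congrArg Subtype.val (mul_comm (Additive.toMul m : A) ⟨y ^ p, hyp⟩)
    simp only [coe_mul] at this
    show (y ^ p)⁻¹ * (((Additive.toMul m : A) : P) * y ^ p) = _
    rw [this, inv_mul_cancel_left]
  set D : Module.End (ZMod p) (Additive A) := σ - 1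
  have hD1 : D ^ (p - 1) = ∑ i ∈ Finset.range p, σ ^ i := by
    have := congrArg (aeval σ) (poly_identity p)
    simpa [D, map_sum] using this
  have hDp : D ^ p = 0 := by
    have := congrArg (aeval σ) (sub_pow_char (R := (ZMod p)[X]) (p := p) X 1)
    simpa [D, hσp] using this
  set xm : Additive A := Additive.ofMul (⟨x, hx⟩ : A)
  set z := (D ^ (p - 1)) xm
  have hvz : v z = ((List.range p).map (fun i => (y ^ i)⁻¹ * x * y ^ i)).prod := by
    show v ((D ^ (p - 1)) xm) = _
    rw [hD1, LinearMap.sum_apply]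
    have : ∀ n : ℕ, v (∑ i ∈ Finset.range n, (σ ^ i) xm) =
        ((List.range n).map (fun i => (y ^ i)⁻¹ * x * y ^ i)).prod := by
      intro n
      induction n with
      | zero => simp [hv0]
      | succ n ih =>
        rw [Finset.sum_range_succ, hvadd, ih, hσ, List.range_succ]
        simp [xm, v]
    exact this p
  have hz : z ≠ 0 := fun h => hprod (by rw [← hvz, h, hv0])
  obtain ⟨lam, hlam⟩ : ∃ lam : Module.Dual (ZMod p) (Additive A), lam z ≠ 0 := by
    by_contra h
    push Not at h
    exact hz ((Module.forall_dual_apply_eq_zero_iff (ZMod p) z).1 h)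
  let Λ : A →* Multiplicative (ZMod p) := AddMonoidHom.toMultiplicativeRight lam.toAddMonoidHom
  have hΛ : ∀ m : Additive A, Additive.toMul m ∈ Λ.ker ↔ lam m = 0 := fun m => by
    rw [MonoidHom.mem_ker]; rfl
  set B := Λ.ker.map A.subtype
  have hBA : B ≤ A := map_subtype_le _
  have hvB : ∀ m : Additive A, v m ∈ B ↔ lam m = 0 := fun m => by
    rw [← hΛ]
    exact mem_map_iff_mem A.subtype_injective
  have hBindex : B.index = p ^ 2 := by
    have h1 : B.relIndex A = p := by
      show ((Λ.ker.map A.subtype).subgroupOf A).index = p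
      rw [subgroupOf, comap_map_eq_self_of_injective A.subtype_injective, index_ker]
      have hc : Nat.card (Multiplicative (ZMod p)) = p :=
        (Nat.card_congr Multiplicative.toAdd).trans (Nat.card_zmod p)
      have hne : Λ.range ≠ ⊥ := fun h => hlam ((hΛ z).1 (by
        rw [(MonoidHom.range_eq_bot_iff).1 h]; exact MonoidHom.mem_ker.2 rfl))
      haveI : Fact (Nat.card (Multiplicative (ZMod p))).Prime := ⟨by rw [hc]; exact Fact.out⟩
      rw [(Subgroup.eq_bot_or_eq_top_of_prime_card Λ.range).resolve_left hne, card_top, hc]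
    rw [← relIndex_mul_index hBA, h1, hidx, pow_two]
  set K := B.normalCore
  have hKB : K ≤ B := normalCore_le B
  have hKσ : ∀ m, v m ∈ K → v (σ m) ∈ K := fun m hm => by
    have := (inferInstance : K.Normal).conj_mem _ hm y⁻¹
    show y⁻¹ * v m * y ∈ K
    simpa using this
  have hKD : ∀ (i : ℕ) (m : Additive A), v m ∈ K → v ((D ^ i) m) ∈ K := by
    intro i m hm
    induction i with
    | zero => simpa using hm
    | succ i ih =>
      rw [pow_succ' D, Module.End.mul_apply]
      show v (σ ((D ^ i) m) - (D ^ i) m) ∈ K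
      exact mul_mem (hKσ _ ih) (inv_mem ih) |> (by
        simpa [v, div_eq_mul_inv] using ·)
  have hKz : ∀ c : ZMod p, v (c • z) ∈ K → c = 0 := fun c hc => by
    have h1 := (hvB _).1 (hKB hc)
    rw [map_smul, smul_eq_mul] at h1
    exact (mul_eq_zero.1 h1).resolve_right hlam
  let Φ : (Fin p → ZMod p) → Additive A := fun c => ∑ i, c i • (D ^ (i : ℕ)) xm
  have hΦ : ∀ c, v (Φ c) ∈ K → c = 0 := by
    intro c hc
    by_contra hne
    obtain ⟨j, hj, hmin⟩ : ∃ j : Fin p, c j ≠ 0 ∧ ∀ i, i < j → c i = 0 := by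
      have hs : (Finset.univ.filter fun i => c i ≠ 0).Nonempty := by
        obtain ⟨i, hi⟩ := Function.ne_iff.1 hne
        exact ⟨i, by simpa using hi⟩
      refine ⟨_, (Finset.mem_filter.1 (Finset.min'_mem _ hs)).2, fun i hi => ?_⟩
      by_contra hci
      exact absurd (Finset.min'_le _ i (by simpa using hci)) (not_le.2 hi)
    refine hj (hKz _ ?_)
    have h1 := hKD (p - 1 - (j : ℕ)) _ hc
    have h2 : (D ^ (p - 1 - (j : ℕ))) (Φ c) = c j • z := by
      show (D ^ (p - 1 - (j : ℕ))) (∑ i, c i • (D ^ (i : ℕ)) xm) = _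
      rw [map_sum, Finset.sum_eq_single j]
      · rw [map_smul, ← Module.End.mul_apply, ← pow_add,
          Nat.sub_add_cancel (by have := j.2; omega)]
      · intro i _ hij
        rcases lt_or_gt_of_ne hij with h | h
        · rw [hmin i h, zero_smul, map_zero]
        · rw [map_smul, ← Module.End.mul_apply, ← pow_add,
            show p - 1 - (j : ℕ) + (i : ℕ) = p + ((i : ℕ) - (j : ℕ) - 1) by
              have := j.2; have : (j : ℕ) < i := h; omega,
            pow_add, hDp, zero_mul, LinearMap.zero_apply, smul_zero]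
      · simp
    rwa [h2] at h1
  have hPK : p ^ (p + 1) ≤ K.index := by
    let g : (Fin p → ZMod p) × Fin p → P ⧸ K := fun ck =>
      QuotientGroup.mk' K (v (Φ ck.1) * y ^ (ck.2 : ℕ))
    have hg : Function.Injective g := by
      rintro ⟨c, k⟩ ⟨c', k'⟩ h
      have hKA : K ≤ A := hKB.trans hBA
      have hmem : (v (Φ c) * y ^ (k : ℕ))⁻¹ * (v (Φ c') * y ^ (k' : ℕ)) ∈ K :=
        QuotientGroup.eq.1 h
      have hyk : QuotientGroup.mk' A (y ^ (k : ℕ)) = QuotientGroup.mk' A (y ^ (k' : ℕ)) := by
        have h3 : QuotientGroup.mk' A ((v (Φ c) * y ^ (k : ℕ))⁻¹ * (v (Φ c') * y ^ (k' : ℕ))) = 1 :=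
          (QuotientGroup.eq_one_iff _).2 (hKA hmem)
        rw [map_mul, map_inv, map_mul, map_mul,
          show QuotientGroup.mk' A (v (Φ c)) = 1 from (QuotientGroup.eq_one_iff _).2 (Subtype.prop _),
          show QuotientGroup.mk' A (v (Φ c')) = 1 from (QuotientGroup.eq_one_iff _).2 (Subtype.prop _),
          one_mul, one_mul, inv_mul_eq_one] at h3
        exact h3
      have hord : orderOf (QuotientGroup.mk' A y) = p := by
        refine orderOf_eq_prime ((QuotientGroup.eq_one_iff _).2 (hidx ▸ A.pow_index_mem y)) ?_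
        exact fun h => hy ((QuotientGroup.eq_one_iff _).1 h)
      rw [map_pow, map_pow] at hyk
      have hkk : (k : ℕ) = k' :=
        pow_injOn_Iio_orderOf (by rw [Set.mem_Iio, hord]; exact k.2) (by rw [Set.mem_Iio, hord]; exact k'.2) hyk
      obtain rfl : k = k' := Fin.ext hkk
      have h4 := (inferInstance : K.Normal).conj_mem _ hmem (y ^ (k : ℕ))
      rw [show y ^ (k : ℕ) * ((v (Φ c) * y ^ (k : ℕ))⁻¹ * (v (Φ c') * y ^ (k : ℕ))) * (y ^ (k : ℕ))⁻¹ =
        (v (Φ c))⁻¹ * v (Φ c') by group] at h4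
      have h5 : Φ (c' - c) = -Φ c + Φ c' := by
        simp only [Φ, Pi.sub_apply, sub_smul, Finset.sum_sub_distrib]
        abel
      have h6 := hΦ (c' - c) (by rw [h5]; exact h4)
      rw [sub_eq_zero.1 h6]
    have h7 := Nat.card_le_card_of_injective g hg
    rw [Nat.card_prod, Nat.card_fun, Nat.card_fin, Nat.card_zmod, ← pow_succ, ← index_eq_card] at h7
    exact h7
  -- the action on the cosets of `B`
  have hcard : Nat.card (P ⧸ B) = p ^ 2 := by rw [← index_eq_card, hBindex]
  let e := (Finite.equivFinOfCardEq hcard).permCongrHom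
  set f : P →* Equiv.Perm (Fin (p ^ 2)) := e.toMonoidHom.comp (MulAction.toPermHom P (P ⧸ B))
  have hker : f.ker = K := by
    show (e.toMonoidHom.comp (MulAction.toPermHom P (P ⧸ B))).ker = B.normalCore
    rw [normalCore_eq_ker]
    exact MonoidHom.ker_mulEquiv_comp _ e
  have hfp : IsPGroup p f.range := hP.of_surjective f.rangeRestrict f.rangeRestrict_surjective
  obtain ⟨Q, hQ⟩ := hfp.exists_le_sylow
  have heq : f.range = (Q : Subgroup (Equiv.Perm (Fin (p ^ 2)))) :=
    eq_of_le_of_card_ge hQ (by rw [card_sylow_perm, ← index_ker, hker]; exact hPK)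
  exact ⟨Q, (inclusion hQ).comp f.rangeRestrict,
    fun q => by
      obtain ⟨a, ha⟩ := heq.ge q.2
      exact ⟨a, Subtype.ext ha⟩⟩

end CfsgLib.WreathImage
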