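import Cfsg.Agent.Functor.Relative
import Cfsg.Agent.Transfer.Basic
import Cfsg.Agent.Transfer.PResidual

/-!
A normalizer acting as a `p`-group on a self-centralizing `p`-subgroup.
-/

set_option autoImplicit false
set_option linter.unusedSectionVars false

namespace CfsgLib.Kinf

open Subgroup CfsgLib.Functor
open scoped CfsgLib.Functor

variable {G : Type*} [Group G] [Finite G] {p : ℕ} [Fact p.Prime]

theorem hasNormalPComplement_normalizer (S : Sylow p G) (T : Subgroup G)
    (hTn : (S : Subgroup G) ≤ normalizer (T : Set G))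
    (hC : (S : Subgroup G) ⊓ centralizer (T : Set G) ≤ T)
    (hN : ∀ g ∈ normalizer (T : Set G), (orderOf g).Coprime p → g ∈ centralizer (T : Set G)) :
    Cfsg.HasNormalPComplement p ↥(normalizer (T : Set G)) := by
  set N := normalizer (T : Set G) with hNdef
  set C := centralizer (T : Set G) with hCdef
  have hCN : C ≤ N := centralizer_le_normalizer _
  have hNC : N ≤ normalizer (C : Set G) := fun n hn => mem_normalizer_iff_cj.2 (by
    rw [hCdef, cj_centralizer, mem_normalizer_iff_cj.1 hn])
  obtain ⟨R, hR⟩ := (((isSylowIn_top S).of_le hTn le_top).inf_normal hCN hNC).exists_sylow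
  have hRc : normalizer ((R : Subgroup C) : Set C) ≤ centralizer ((R : Subgroup C) : Set C) :=
    fun x _ => mem_centralizer_iff.2 fun r hr => Subtype.ext (by
      have hrm : (r : G) ∈ (S : Subgroup G) ⊓ C := hR ▸ mem_map_of_mem C.subtype hr
      exact mem_centralizer_iff.1 x.2 _ (hC hrm))
  have hcop := PResidual.hasNormalPComplement_iff.1
    (TransferBasic.hasNormalPComplement_of_le_centralizer R hRc)
  rw [PResidual.hasNormalPComplement_iff]
  have hle : (Cfsg.pResidual p N).map N.subtype ≤ (Cfsg.pResidual p C).map C.subtype := by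
    rw [Cfsg.pResidual, MonoidHom.map_closure, closure_le]
    rintro _ ⟨x, hx, rfl⟩
    have hx' : (orderOf (x : G)).Coprime p := by rw [Subgroup.orderOf_coe]; exact hx
    refine ⟨⟨x, hN x x.2 hx'⟩, PResidual.mem_pResidual p ?_, rfl⟩
    rw [← Subgroup.orderOf_coe]
    exact hx'
  have h1 := card_dvd_of_le hle
  rw [card_map_of_injective N.subtype_injective, card_map_of_injective C.subtype_injective] at h1
  exact hcop.coprime_dvd_left h1

end CfsgLib.Kinf
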