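import Cfsg.Agent.Kinf.BBalanceBasic

/-!
`Quasi` subgroups subnormal in the fixed points of a `p`-group on the layer are quasisimple,
under the B-property for sections with quasisimple generalized Fitting subgroup.
-/

set_option autoImplicit false
set_option linter.unusedSectionVars false
set_option linter.style.haveILetI false

namespace CfsgLib.BBalance

open Subgroup LocalBalance LBalance CfsgLib.Kinf
open scoped commutatorElement

universe u

/-! ### The hypothesis on sections -/

/-- The B-property and the Schreier property for sections with quasisimple generalized Fitting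
subgroup and trivial `p'`-core. -/
def Hyp (p : ℕ) (X : Type u) [Group X] : Prop :=
  ∀ (Γ : Type u) [Group Γ] [Finite Γ], IsSectionOf X Γ → Cfsg.HasQuasisimpleGeneralizedFitting Γ →
    Cfsg.pPrimeCore p Γ = ⊥ → Cfsg.HasBpProperty p Γ ∧
      Group.IsSolvable (Cfsg.Out (↥(Cfsg.generalizedFittingSubgroup Γ) ⧸
        center ↥(Cfsg.generalizedFittingSubgroup Γ)))

variable {p : ℕ} [Fact p.Prime]

theorem Hyp.section {X : Type u} [Group X] (h : Hyp p X) {Δ : Type u} [Group Δ]
    (hΔ : IsSectionOf X Δ) : Hyp p Δ := by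
  intro Γ _ _ hΓ hq hO
  obtain ⟨K, R, hn, ⟨e⟩⟩ := hΓ
  exact h Γ (hΔ.subgroup_quotient K (e.toMonoidHom.comp (QuotientGroup.mk' (R.subgroupOf K)))
    (e.surjective.comp (QuotientGroup.mk'_surjective _))) hq hO

/-- The Schreier property of a component of a group with trivial `p'`-core. -/
theorem Hyp.schreier {X W : Type u} [Group X] [Group W] [Finite W] (h : Hyp p X)
    (hW : IsSectionOf X W) (hO : Cfsg.pPrimeCore p W = ⊥) {K : Subgroup W}
    (hK : Cfsg.IsComponent K) : Group.IsSolvable (Cfsg.Out (↥K ⧸ center ↥K)) := by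
  have htop : Cfsg.generalizedFittingSubgroup ↥K = ⊤ := by
    refine top_le_iff.1 (le_trans (Comp.component_le_layer ?_) Comp.layer_le_Fstar)
    exact ⟨IsSubnormal.top, Comp.isQuasisimple_of_equiv topEquiv.symm hK.2⟩
  have h1 := (h ↥K (hW.subgroup K) (by
    rw [Cfsg.HasQuasisimpleGeneralizedFitting, htop]
    exact Comp.isQuasisimple_of_equiv topEquiv.symm hK.2)
    (PComp.component_pPrimeCore_eq_bot p hK.1 hO)).2
  set F := Cfsg.generalizedFittingSubgroup ↥K
  let e₁ : ↥F ≃* ↥K := (MulEquiv.subgroupCongr htop).trans topEquiv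
  let e₂ : (↥F ⧸ center ↥F) ≃* (↥K ⧸ center ↥K) :=
    QuotientGroup.congr _ _ e₁ (map_center_eq_of_equiv e₁)
  let φ : MulAut (↥F ⧸ center ↥F) →* Cfsg.Out (↥K ⧸ center ↥K) :=
    (QuotientGroup.mk' _).comp (MulAut.congr e₂).toMonoidHom
  have hφ : Cfsg.Inn (↥F ⧸ center ↥F) ≤ φ.ker := by
    rintro _ ⟨g, rfl⟩
    refine MonoidHom.mem_ker.2 ((QuotientGroup.eq_one_iff _).2 ⟨e₂ g, ?_⟩)
    ext x
    simp [MulAut.congr]
  haveI := h1
  refine Group.isSolvable_of_surjective (f := QuotientGroup.lift _ φ hφ) fun q => ?_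
  obtain ⟨a, rfl⟩ := QuotientGroup.mk'_surjective _ q
  exact ⟨QuotientGroup.mk' _ ((MulAut.congr e₂).symm a), congrArg (QuotientGroup.mk' _) ((MulAut.congr e₂).apply_symm_apply a)⟩
where
  map_center_eq_of_equiv {A B : Type u} [Group A] [Group B] (e : A ≃* B) :
      (center A).map (e : A →* B) = center B := by
    ext x
    constructor
    · rintro ⟨a, ha, rfl⟩
      refine mem_center_iff.2 fun b => ?_
      obtain ⟨c, rfl⟩ := e.surjective b
      show e c * e a = e a * e c
      rw [← map_mul, ← map_mul, mem_center_iff.1 ha c]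
    · intro hx
      refine ⟨e.symm x, mem_center_iff.2 fun c => e.injective ?_, e.apply_symm_apply x⟩
      rw [map_mul, map_mul, e.apply_symm_apply, mem_center_iff.1 hx (e c)]

/-! ### The core statement -/

/-- The statement for groups of order smaller than `n`. -/
def CoreBelow (p : ℕ) (n : ℕ) : Prop :=
  ∀ (X : Type u) [Group X] [Finite X], Nat.card X < n → Hyp p X →
    ∀ R M : Subgroup X, IsPGroup p R → Quasi p M →
      M ≤ Cfsg.layer X ⊓ centralizer (R : Set X) →
      (M.subgroupOf (Cfsg.layer X ⊓ centralizer (R : Set X))).IsSubnormal → Cfsg.IsQuasisimple M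

variable {X : Type u} [Group X] [Finite X]

theorem layer_inf_normalized (R : Subgroup X) :
    centralizer (R : Set X) ≤ normalizer ((Cfsg.layer X ⊓ centralizer (R : Set X) : Subgroup X) : Set X) :=
  (le_inf le_normalizer_of_normal le_normalizer).trans inf_normalizer_le_normalizer_inf

/-- Passing to a smaller section. -/
theorem image_step (ih : CoreBelow.{u} p (Nat.card X)) (h : Hyp p X) {R R₁ M P : Subgroup X}
    (hM : Quasi p M) (hMD : M ≤ Cfsg.layer X ⊓ centralizer (R : Set X))
    (hsub : (M.subgroupOf (Cfsg.layer X ⊓ centralizer (R : Set X))).IsSubnormal)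
    (hP : Cfsg.layer X ≤ P) (hR₁ : R₁ ≤ R) (hR : IsPGroup p R)
    {Δ : Type u} [Group Δ] [Finite Δ] (g : ↥P →* Δ) (hg : Function.Surjective g)
    (hcard : Nat.card Δ < Nat.card X)
    (hcov : ∀ e : ↥P, (e : X) ∈ Cfsg.layer X → (∀ r : ↥P, (r : X) ∈ R₁ → g r * g e = g e * g r) →
      ∃ e' : ↥P, (e' : X) ∈ Cfsg.layer X ∧ g e' = g e ∧
        (e' : X) ∈ normalizer ((Cfsg.layer X ⊓ centralizer (R : Set X) : Subgroup X) : Set X)) :
    (M.subgroupOf P).map g = ⊥ ∨ Cfsg.IsQuasisimple ↥((M.subgroupOf P).map g) := by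
  set E := Cfsg.layer X
  set D := E ⊓ centralizer (R : Set X)
  have hDP : D ≤ P := inf_le_left.trans hP
  have hMP : M ≤ P := hMD.trans hDP
  set Mb := (M.subgroupOf P).map g
  by_cases hb : Mb = ⊥
  · exact Or.inl hb
  refine Or.inr ?_
  set Eb := (E.subgroupOf P).map g
  set Rb := (R₁.subgroupOf P).map g
  have hEb : Eb ≤ Cfsg.layer Δ := by
    refine le_trans (map_mono ?_) (map_layer_le_layer g hg)
    rw [← map_le_map_iff_of_injective P.subtype_injective, map_subgroupOf_eq_of_le hP]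
    refine Comp.layer_le fun K hK => ?_
    have hKP : K ≤ P := (Comp.component_le_layer hK).trans hP
    rw [← map_subgroupOf_eq_of_le hKP]
    exact map_mono (Comp.component_le_layer (Comp.component_subgroupOf hK hKP))
  set Db := Eb ⊓ centralizer (Rb : Set Δ)
  have hDb : (D.subgroupOf P).map g ≤ Db := by
    refine le_inf (map_mono fun x hx => hx.1) ?_
    rintro _ ⟨x, hx, rfl⟩
    refine mem_centralizer_iff.2 ?_
    rintro _ ⟨r, hr, rfl⟩
    rw [← map_mul, ← map_mul]
    exact congrArg g (Subtype.ext (mem_centralizer_iff.1 hx.2 r (hR₁ hr)))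
  have hMb : Mb ≤ (D.subgroupOf P).map g := map_mono fun x hx => hMD hx
  have hsub1 : (Mb.subgroupOf ((D.subgroupOf P).map g)).IsSubnormal :=
    subnormal_map (M := M.subgroupOf P) (A := D.subgroupOf P) (fun x hx => hMD hx) g
      (hsub.comap (subgroupOfEquivOfLe hDP).toMonoidHom)
  have hsub2 : (Mb.subgroupOf Db).IsSubnormal := by
    refine subnormal_mono hMb hDb hsub1 fun y hy => ?_
    obtain ⟨e, he, rfl⟩ := hy.1
    obtain ⟨e', he'E, he', hn⟩ := hcov e he fun r hr =>
      mem_centralizer_iff.1 hy.2 (g r) (mem_map_of_mem g hr)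
    rw [← he']
    exact le_normalizer_map g (mem_map_of_mem g (show e' ∈ normalizer
      ((D.subgroupOf P : Subgroup P) : Set P) from mem_normalizer_iff.2 fun z => by
        simpa [mem_subgroupOf] using mem_normalizer_iff.1 hn (z : X)))
  have hEn : Cfsg.layer Δ ≤ normalizer (Eb : Set Δ) := by
    refine le_trans le_top (le_of_eq ?_)
    symm
    haveI : Eb.Normal := Normal.map ((inferInstance : E.Normal).subgroupOf P) g hg
    exact normalizer_eq_top (H := Eb)
  have hsub3 : (Mb.subgroupOf (Cfsg.layer Δ ⊓ centralizer (Rb : Set Δ))).IsSubnormal := by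
    refine subnormal_mono (hMb.trans hDb) (inf_le_inf_right _ hEb) hsub2 ?_
    exact (inf_le_inf hEn le_normalizer).trans inf_normalizer_le_normalizer_inf
  have hsecP : IsSectionOf X Δ := isSectionOf_quotient_of_surjective g hg
  exact ih Δ hcard (h.section hsecP) Rb Mb ((hR.to_le hR₁).comap_subtype.map g)
    (quasi_map (quasi_subgroupOf hM hMP) g hb)
    ((hMb.trans hDb).trans (inf_le_inf_right _ hEb)) hsub3

/-- Passing to a proper quotient. -/
theorem quotient_step (ih : CoreBelow.{u} p (Nat.card X)) (h : Hyp p X) {R M N : Subgroup X}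
    [N.Normal] (hN : N ≠ ⊥) (hR : IsPGroup p R)
    (hM : Quasi p M) (hMD : M ≤ Cfsg.layer X ⊓ centralizer (R : Set X))
    (hsub : (M.subgroupOf (Cfsg.layer X ⊓ centralizer (R : Set X))).IsSubnormal)
    (hcov : ∀ e ∈ Cfsg.layer X, (∀ r ∈ R, r⁻¹ * (e * r * e⁻¹) ∈ N) →
      ∃ e' ∈ Cfsg.layer X, e⁻¹ * e' ∈ N ∧
        e' ∈ normalizer ((Cfsg.layer X ⊓ centralizer (R : Set X) : Subgroup X) : Set X)) :
    M.map (QuotientGroup.mk' N) = ⊥ ∨ Cfsg.IsQuasisimple ↥(M.map (QuotientGroup.mk' N)) := by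
  set π := QuotientGroup.mk' N
  have heq : (M.subgroupOf (⊤ : Subgroup X)).map (π.comp (⊤ : Subgroup X).subtype) = M.map π := by
    rw [← map_map, map_subgroupOf_eq_of_le le_top]
  rw [← heq]
  refine image_step ih h hM hMD hsub le_top le_rfl hR (π.comp (⊤ : Subgroup X).subtype)
    (fun q => ?_) (Solvable.card_quotient_lt hN) ?_
  · obtain ⟨x, rfl⟩ := QuotientGroup.mk'_surjective N q
    exact ⟨⟨x, mem_top x⟩, rfl⟩
  rintro ⟨e, he0⟩ he hc
  obtain ⟨e', he', hee', hn⟩ := hcov e he fun r hr => by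
    refine (QuotientGroup.eq_one_iff _).1 ?_
    have h1 : π r * π e = π e * π r := hc ⟨r, mem_top r⟩ hr
    show π (r⁻¹ * (e * r * e⁻¹)) = 1
    rw [map_mul, map_mul, map_mul, map_inv, map_inv, ← h1]
    group
  refine ⟨⟨e', mem_top e'⟩, he', ?_, hn⟩
  have h1 : π (e⁻¹ * e') = 1 := (QuotientGroup.eq_one_iff _).2 hee'
  rw [map_mul, map_inv, inv_mul_eq_one] at h1
  exact h1.symm

/-- Reduction to `X = E(X) R`. -/
theorem core_of_proper (ih : CoreBelow.{u} p (Nat.card X)) (h : Hyp p X) {R M : Subgroup X}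
    (hR : IsPGroup p R) (hM : Quasi p M) (hMD : M ≤ Cfsg.layer X ⊓ centralizer (R : Set X))
    (hsub : (M.subgroupOf (Cfsg.layer X ⊓ centralizer (R : Set X))).IsSubnormal)
    (hP : Cfsg.layer X ⊔ R ≠ ⊤) : Cfsg.IsQuasisimple M := by
  set P := Cfsg.layer X ⊔ R
  have hcard : Nat.card P < Nat.card X := Solvable.card_lt_of_ne_top hP
  have hMP : M ≤ P := (hMD.trans inf_le_left).trans le_sup_left
  rcases image_step ih h hM hMD hsub (le_sup_left : Cfsg.layer X ≤ P) le_rfl
      hR (MonoidHom.id P) Function.surjective_id hcard (fun e he hc => ⟨e, he, rfl,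
        layer_inf_normalized R (mem_centralizer_iff.2 fun r hr =>
          congrArg Subtype.val (hc ⟨r, mem_sup_right hr⟩ hr))⟩) with h' | h'
  · rw [Subgroup.map_id, subgroupOf_eq_bot, disjoint_iff, inf_eq_left.2 hMP] at h'
    exact absurd h' (quasi_ne_bot hM)
  · rw [Subgroup.map_id] at h'
    exact Comp.isQuasisimple_of_equiv (subgroupOfEquivOfLe hMP) h'

end CfsgLib.BBalance
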