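import Cfsg.Agent.Kinf.LocalBalance
import Cfsg.Agent.Comp.ExtTwoLayer
import Cfsg.Agent.Functor.Relative
import Cfsg.Agent.Solvable.Glauberman

/-!
The normalizer of a Sylow subgroup of `O_{p',p}(G)`: fusion in it, and the weakly closed part of `Z(S)`.
-/

set_option autoImplicit false
set_option linter.unusedSectionVars false

namespace CfsgLib.PPCore

open Subgroup
open CfsgLib.Functor (IsSylowIn isSylowIn_top)
open CfsgLib.LocalBalance (eq_one_of_coprime)
open scoped commutatorElement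

variable {G : Type*} [Group G] [Finite G] {p : ℕ} [Fact p.Prime]

/-- `P ∩ O_{p',p}(G)`. -/
abbrev hsub (p : ℕ) (P : Subgroup G) : Subgroup G := P ⊓ Cfsg.pPrimePCore p G

theorem exists_factor (P : Sylow p G) (g : G) :
    ∃ d ∈ Cfsg.pPrimeCore p G, ∃ n ∈ normalizer (hsub p (P : Subgroup G) : Set G), g = d * n := by
  obtain ⟨c, hc, n, hn, rfl⟩ := IsSylowIn.frattini (isSylowIn_top P)
    (le_top : Cfsg.pPrimePCore p G ≤ ⊤)
    (by rw [Cfsg.pPrimePCore]; exact le_normalizer_of_normal) (mem_top g)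
  have hi : ((hsub p (P : Subgroup G)).relIndex (Cfsg.pPrimePCore p G)).Coprime p := by
    have := (isSylowIn_top P).inf_normal (le_top : Cfsg.pPrimePCore p G ≤ ⊤)
      (by rw [Cfsg.pPrimePCore]; exact le_normalizer_of_normal)
    exact ((Fact.out : p.Prime).coprime_iff_not_dvd.2 this.2.2).symm
  have hc' : c ∈ ((Cfsg.pPrimeCore p G ⊔ hsub p (P : Subgroup G) : Subgroup G) : Set G) := by
    rw [sup_comm]
    exact ExtTwoLayer.pPrimePCore_le_sup inf_le_right hi hc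
  rw [normal_mul] at hc'
  obtain ⟨d, hd, h, hh, rfl⟩ := hc'
  exact ⟨d, hd, h * n, mul_mem (le_normalizer hh) hn.2, mul_assoc d h n⟩

theorem inf_core_eq_bot (P : Sylow p G) {x : G} (hx : x ∈ (P : Subgroup G))
    (hx' : x ∈ Cfsg.pPrimeCore p G) : x = 1 := by
  obtain ⟨k, hk⟩ := P.2 ⟨x, hx⟩
  exact eq_one_of_coprime (Solvable.coprime_card_pPrimeCore p) hx' (congrArg Subtype.val hk)

theorem core_inf_normalizer (P : Sylow p G) :
    Cfsg.pPrimeCore p G ⊓ normalizer (hsub p (P : Subgroup G) : Set G) =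
      Cfsg.pPrimeCore p G ⊓ centralizer (hsub p (P : Subgroup G) : Set G) := by
  refine le_antisymm (fun c hc => mem_inf.2 ⟨hc.1, mem_centralizer_iff.2 fun h hh => ?_⟩)
    (inf_le_inf_left _ (centralizer_le_normalizer _))
  have h1 : c * h * c⁻¹ * h⁻¹ = 1 := inf_core_eq_bot P
    (mul_mem ((mem_normalizer_iff.1 hc.2 h).1 hh).1 (inv_mem hh.1)) (by
      rw [mul_assoc, mul_assoc]
      refine mul_mem hc.1 ?_
      rw [← mul_assoc]
      exact (inferInstance : (Cfsg.pPrimeCore p G).Normal).conj_mem _ (inv_mem hc.1) h)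
  rw [mul_inv_eq_one, mul_inv_eq_iff_eq_mul] at h1
  exact h1.symm

theorem exists_split (P : Sylow p G) {y : G}
    (hy : y ∈ normalizer (hsub p (P : Subgroup G) : Set G)) (hyp : ∃ k : ℕ, orderOf y = p ^ k)
    {d : G} (hd : d ∈ Cfsg.pPrimeCore p G)
    (hdy : d⁻¹ * y * d ∈ normalizer (hsub p (P : Subgroup G) : Set G)) :
    ∃ d₁ ∈ Cfsg.pPrimeCore p G ⊓ centralizer ({y} : Set G),
      ∃ d₂ ∈ Cfsg.pPrimeCore p G ⊓ centralizer (hsub p (P : Subgroup G) : Set G), d = d₁ * d₂ := by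
  set D := Cfsg.pPrimeCore p G
  set N := normalizer (hsub p (P : Subgroup G) : Set G)
  set y' := d⁻¹ * y * d
  have hnorm : N ≤ normalizer ((D ⊓ N : Subgroup G) : Set G) :=
    ((le_inf le_normalizer_of_normal le_normalizer).trans inf_normalizer_le_normalizer_inf)
  have hcong : y⁻¹ * y' ∈ D ⊓ N := by
    refine mem_inf.2 ⟨?_, mul_mem (inv_mem hy) hdy⟩
    rw [show y⁻¹ * y' = y⁻¹ * d⁻¹ * (y⁻¹)⁻¹ * d by simp only [y']; group]
    exact mul_mem ((inferInstance : D.Normal).conj_mem _ (inv_mem hd) y⁻¹) hd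
  obtain ⟨k, hk⟩ := hyp
  have hcop : (Nat.card (zpowers y)).Coprime (Nat.card ↥(D ⊓ N)) := by
    rw [Nat.card_zpowers, hk]
    exact (((Solvable.coprime_card_pPrimeCore p).coprime_dvd_left (card_dvd_of_le inf_le_left)).pow_right
      k).symm
  have hoy' : orderOf y' = orderOf y := by
    have : y' = MulAut.conj d⁻¹ y := by simp [y']
    rw [this]
    exact orderOf_injective (MulAut.conj d⁻¹).toMonoidHom (MulAut.conj d⁻¹).injective y
  have hy'm : y' ∈ zpowers y ⊔ (D ⊓ N) := by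
    rw [← mul_inv_cancel_left y y']
    exact mul_mem (mem_sup_left (mem_zpowers y)) (mem_sup_right hcong)
  obtain ⟨c, hc, hceq⟩ := SZ.conj_rel (zpowers_le.2 (hnorm hy)) hcop (Or.inl inferInstance)
    (zpowers_le.2 hy'm) (by rw [Nat.card_zpowers, Nat.card_zpowers, hoy'])
  have h1 : c * y * c⁻¹ ∈ zpowers y' := by
    rw [← hceq]
    exact ⟨y, mem_zpowers y, rfl⟩
  have h2 : (c * y * c⁻¹)⁻¹ * y' ∈ D ⊓ N := by
    rw [show (c * y * c⁻¹)⁻¹ * y' = c * (y⁻¹ * c⁻¹ * y) * (y⁻¹ * y') by group]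
    refine mul_mem (mul_mem hc ?_) hcong
    have := (mem_normalizer_iff.1 (inv_mem (hnorm hy)) c⁻¹).1 (inv_mem hc)
    rwa [inv_inv] at this
  have h3 : c * y * c⁻¹ = y' := by
    refine inv_mul_eq_one.1 (eq_one_of_coprime (k := k) (Solvable.coprime_card_pPrimeCore p) h2.1 ?_)
    refine orderOf_dvd_iff_pow_eq_one.1 ?_
    rw [← hk, ← hoy', ← Nat.card_zpowers y']
    exact orderOf_dvd_natCard _ (mul_mem (inv_mem h1) (mem_zpowers y'))
  refine ⟨d * c, mem_inf.2 ⟨mul_mem hd hc.1, mem_centralizer_singleton_iff.2 ?_⟩, c⁻¹, ?_,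
    (mul_inv_cancel_right d c).symm⟩
  · rw [← mul_inv_eq_iff_eq_mul]
    rw [show d * c * y * (d * c)⁻¹ = d * (c * y * c⁻¹) * d⁻¹ by group, h3]
    simp only [y']
    group
  · rw [← core_inf_normalizer P]
    exact inv_mem hc

theorem fusion_normalizer (P : Sylow p G) {x y : G} (hx : x ∈ (P : Subgroup G))
    (hy : y ∈ (P : Subgroup G)) (h : IsConj x y) :
    ∃ n ∈ normalizer (hsub p (P : Subgroup G) : Set G), n * x * n⁻¹ = y := by
  obtain ⟨g, rfl⟩ := isConj_iff.1 h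
  obtain ⟨d, hd, n, hn, rfl⟩ := exists_factor P g
  have hPN : (P : Subgroup G) ≤ normalizer (hsub p (P : Subgroup G) : Set G) :=
    (le_inf le_normalizer (by rw [Cfsg.pPrimePCore]; exact le_normalizer_of_normal)).trans
      inf_normalizer_le_normalizer_inf
  have hz : d⁻¹ * (d * n * x * (d * n)⁻¹) * d = n * x * n⁻¹ := by group
  obtain ⟨k, hk⟩ := IsPGroup.iff_orderOf.1 P.2 ⟨_, hy⟩
  obtain ⟨d₁, hd₁, d₂, hd₂, e⟩ := exists_split P (hPN hy) ⟨k, by rwa [← orderOf_coe] at hk⟩ hd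
    (hz ▸ mul_mem (mul_mem hn (hPN hx)) (inv_mem hn))
  refine ⟨d₂ * n, mul_mem (centralizer_le_normalizer _ hd₂.2) hn, ?_⟩
  have h1 := mem_centralizer_singleton_iff.1 (inv_mem hd₁.2)
  rw [← mul_inv_eq_iff_eq_mul, inv_inv] at h1
  calc d₂ * n * x * (d₂ * n)⁻¹ = d₁⁻¹ * (d * n * x * (d * n)⁻¹) * d₁ := by rw [e]; group
    _ = d * n * x * (d * n)⁻¹ := h1

theorem weakly_closed_direct_factor (S : Sylow p G)
    (hZ : ((S : Subgroup G) ⊓ centralizer ((S : Subgroup G) : Set G)) ≤ Cfsg.pPrimePCore p G) :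
    ∃ W K : Subgroup G, (∀ x : G, x ∈ W ↔ (x ∈ (S : Subgroup G) ∧
        ∀ g : G, g * x * g⁻¹ ∈ (S : Subgroup G) → g * x * g⁻¹ = x)) ∧
      K ≤ ((S : Subgroup G) ⊓ centralizer ((S : Subgroup G) : Set G)) ∧ W ⊓ K = ⊥ ∧
      W ⊔ K = ((S : Subgroup G) ⊓ centralizer ((S : Subgroup G) : Set G)) := by
  classical
  set H := hsub p (S : Subgroup G)
  set N := normalizer (H : Set G)
  set Z := (S : Subgroup G) ⊓ centralizer ((S : Subgroup G) : Set G)
  have hZH : Z ≤ H := le_inf inf_le_left hZ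
  have hSN : (S : Subgroup G) ≤ N :=
    (le_inf le_normalizer (by rw [Cfsg.pPrimePCore]; exact le_normalizer_of_normal)).trans
      inf_normalizer_le_normalizer_inf
  set A := H ⊓ centralizer (H : Set G)
  letI : CommGroup A :=
    { (inferInstance : Group A) with
      mul_comm := fun a b => Subtype.ext (mem_centralizer_iff.1 b.2.2 a a.2.1) }
  have hAN : ∀ n ∈ N, ∀ a ∈ A, n * a * n⁻¹ ∈ A := fun n hn a ha => by
    refine mem_inf.2 ⟨(mem_normalizer_iff.1 hn a).1 ha.1, mem_centralizer_iff.2 fun h hh => ?_⟩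
    have hh' : n⁻¹ * h * n ∈ H := (mem_normalizer_iff.1 hn _).2 (by simpa [mul_assoc] using hh)
    have := mem_centralizer_iff.1 ha.2 _ hh'
    calc h * (n * a * n⁻¹) = n * (n⁻¹ * h * n * a) * n⁻¹ := by group
      _ = n * (a * (n⁻¹ * h * n)) * n⁻¹ := by rw [this]
      _ = n * a * n⁻¹ * h := by group
  have hZA : Z ≤ A := fun z hz => mem_inf.2 ⟨hZH hz, centralizer_le inf_le_left hz.2⟩
  set W := Z ⊓ centralizer (N : Set G)
  set R := N ⧸ ((S : Subgroup G).subgroupOf N)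
  haveI : Fintype R := Fintype.ofFinite R
  -- the trace
  let ψ : ↥Z → R → ↥A := fun z q =>
    ⟨(q.out : G) * z * (q.out : G)⁻¹, hAN _ q.out.2 _ (hZA z.2)⟩
  have hψ : ∀ (z : Z) (n : N), ψ z (QuotientGroup.mk n) =
      ⟨(n : G) * z * (n : G)⁻¹, hAN _ n.2 _ (hZA z.2)⟩ := by
    intro z n
    obtain ⟨s, hs⟩ := QuotientGroup.mk_out_eq_mul ((S : Subgroup G).subgroupOf N) n
    refine Subtype.ext ?_
    show ((QuotientGroup.mk n : R).out : G) * z * ((QuotientGroup.mk n : R).out : G)⁻¹ = _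
    rw [hs, coe_mul, show (n : G) * ((s : N) : G) * z * ((n : G) * ((s : N) : G))⁻¹ =
      (n : G) * (((s : N) : G) * z * ((s : N) : G)⁻¹) * (n : G)⁻¹ by group,
      mem_centralizer_iff.1 z.2.2 _ (mem_subgroupOf.1 s.2), mul_inv_cancel_right]
  let T : ↥Z →* ↥A :=
    { toFun := fun z => ∏ q, ψ z q
      map_one' := Finset.prod_eq_one fun q _ => Subtype.ext (by simp [ψ])
      map_mul' := fun a b => by
        rw [← Finset.prod_mul_distrib]
        refine Finset.prod_congr rfl fun q _ => Subtype.ext ?_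
        simp only [ψ, coe_mul]
        group }
  have hTN : ∀ z : Z, ((T z : A) : G) ∈ centralizer (N : Set G) := by
    refine fun z => mem_centralizer_iff.2 fun n hn => ?_
    let c : A →* A :=
      { toFun := fun a => ⟨n * a * n⁻¹, hAN n hn a a.2⟩
        map_one' := Subtype.ext (by simp)
        map_mul' := fun a b => Subtype.ext (by simp [mul_assoc]) }
    have h1 : c (T z) = T z := by
      show c (∏ q, ψ z q) = ∏ q, ψ z q
      rw [map_prod, ← Equiv.prod_comp (MulAction.toPerm (⟨n, hn⟩ : N) : Equiv.Perm R) (ψ z)]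
      refine Finset.prod_congr rfl fun q _ => ?_
      obtain ⟨u, rfl⟩ := QuotientGroup.mk_surjective q
      rw [hψ, MulAction.toPerm_apply, MulAction.Quotient.smul_mk, hψ]
      refine Subtype.ext ?_
      simp only [c, MonoidHom.coe_mk, OneHom.coe_mk, smul_eq_mul, coe_mul]
      group
    have h2 : n * ((T z : A) : G) * n⁻¹ = ((T z : A) : G) := congrArg Subtype.val h1
    exact mul_inv_eq_iff_eq_mul.1 h2
  have hTW : ∀ z : Z, ((T z : A) : G) ∈ W := fun z =>
    mem_inf.2 ⟨mem_inf.2 ⟨(T z).2.1.1, centralizer_le hSN (hTN z)⟩, hTN z⟩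
  set m := Fintype.card R
  have hWp : IsPGroup p W := S.2.to_le (inf_le_left.trans inf_le_left)
  have hTpow : ∀ z : Z, (z : G) ∈ W → ((T z : A) : G) = (z : G) ^ m := by
    intro z hz
    show ((∏ q, ψ z q : A) : G) = _
    rw [Finset.prod_eq_pow_card (b := (⟨(z : G), hZA z.2⟩ : A)) fun q _ => Subtype.ext (by
      show (q.out : G) * z * (q.out : G)⁻¹ = z
      rw [mem_centralizer_iff.1 hz.2 _ q.out.2, mul_inv_cancel_right])]
    rw [SubmonoidClass.coe_pow, Finset.card_univ]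
  have hm : ¬ p ∣ m := by
    rw [show m = Nat.card R from Nat.card_eq_fintype_card.symm, ← index_eq_card]
    exact ((isSylowIn_top S).of_le hSN le_top).2.2
  obtain ⟨k, hk⟩ := IsPGroup.iff_card.1 hWp
  have hmcop : (Nat.card W).Coprime m := hk ▸ ((Fact.out : p.Prime).coprime_iff_not_dvd.2 hm).pow_left k
  refine ⟨W, T.ker.map Z.subtype, fun x => ?_, map_subtype_le _, ?_, ?_⟩
  · constructor
    · intro hx
      refine ⟨hx.1.1, fun g hg => ?_⟩
      obtain ⟨d, hd, n, hn, rfl⟩ := exists_factor S g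
      have hnx : n * x * n⁻¹ = x := by rw [mem_centralizer_iff.1 hx.2 n hn, mul_inv_cancel_right]
      rw [show d * n * x * (d * n)⁻¹ = d * (n * x * n⁻¹) * d⁻¹ by group, hnx] at hg ⊢
      refine (inv_mul_eq_one.1 (inf_core_eq_bot S (mul_mem (inv_mem hx.1.1) hg) ?_)).symm
      rw [show x⁻¹ * (d * x * d⁻¹) = x⁻¹ * d * (x⁻¹)⁻¹ * d⁻¹ by group]
      exact mul_mem ((inferInstance : (Cfsg.pPrimeCore p G).Normal).conj_mem _ hd x⁻¹) (inv_mem hd)
    · rintro ⟨hxS, hx⟩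
      have hxZ : x ∈ Z := mem_inf.2 ⟨hxS, mem_centralizer_iff.2 fun s hs =>
        mul_inv_eq_iff_eq_mul.1 (hx s (mul_mem (mul_mem hs hxS) (inv_mem hs)))⟩
      refine mem_inf.2 ⟨hxZ, mem_centralizer_iff.2 fun n hn => mul_inv_eq_iff_eq_mul.1 (hx n ?_)⟩
      exact ((mem_normalizer_iff.1 hn x).1 (hZH hxZ)).1
  · refine le_bot_iff.1 fun x hx => ?_
    obtain ⟨hxW, ⟨z, hz, rfl⟩⟩ := hx
    have h1 : (z : G) ^ m = 1 := by
      rw [← hTpow z hxW, MonoidHom.mem_ker.1 hz]; rfl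
    exact mem_bot.2 (orderOf_eq_one_iff.1 (Nat.eq_one_of_dvd_coprimes hmcop
      (orderOf_dvd_natCard W hxW) (orderOf_dvd_of_pow_eq_one h1)))
  · refine le_antisymm (sup_le inf_le_left (map_subtype_le _)) fun z hz => ?_
    obtain ⟨r, -, hr⟩ := Nat.exists_mul_mod_eq_of_coprime (k := Nat.card W) (n := m) 1
      hmcop.symm Nat.card_pos.ne'
    set w := ((T ⟨z, hz⟩ : A) : G) ^ r
    have hw : w ∈ W := pow_mem (hTW _) r
    have hwm : w ^ m = ((T ⟨z, hz⟩ : A) : G) := by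
      show (((T ⟨z, hz⟩ : A) : G) ^ r) ^ m = _
      rw [← pow_mul, mul_comm]
      conv_rhs => rw [← pow_one ((T ⟨z, hz⟩ : A) : G)]
      exact pow_eq_pow_iff_modEq.2 (Nat.ModEq.of_dvd (orderOf_dvd_natCard W (hTW _)) hr)
    have hk : (⟨w, hw.1⟩ : Z)⁻¹ * ⟨z, hz⟩ ∈ T.ker := by
      rw [MonoidHom.mem_ker, map_mul, map_inv, inv_mul_eq_one]
      exact Subtype.ext (by rw [hTpow ⟨w, hw.1⟩ hw, hwm])
    have := mul_mem (mem_sup_left hw) (mem_sup_right (mem_map_of_mem Z.subtype hk) :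
      _ ∈ W ⊔ T.ker.map Z.subtype)
    simpa using this

end CfsgLib.PPCore
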