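import Mathlib
import Cfsg.Agent.Functor.Relative
import Cfsg.Agent.ZJ.WeakClosure
import Cfsg.Agent.Solvable.Fitting
import Cfsg.Agent.Kinf.PPCore

/-!
The elements of a Sylow subgroup isolated in fusion form a direct factor of its centre.
-/

set_option autoImplicit false
set_option linter.unusedSectionVars false
set_option linter.style.haveILetI false

namespace CfsgLib.CenterSplit

open Subgroup
open CfsgLib.Functor (IsSylowIn isSylowIn_top)

variable {G : Type*} [Group G] [Finite G] {p : ℕ} [Fact p.Prime]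

theorem direct_factor_of_control (S : Sylow p G) (N A : Subgroup G) (hSN : (S : Subgroup G) ≤ N)
    (hAS : A ≤ (S : Subgroup G)) (hAc : A ≤ centralizer (A : Set G))
    (hAN : ∀ n ∈ N, ∀ a ∈ A, n * a * n⁻¹ ∈ A)
    (hZA : ((S : Subgroup G) ⊓ centralizer ((S : Subgroup G) : Set G)) ≤ A)
    (hwc : ∀ x ∈ (S : Subgroup G), (∀ n ∈ N, n * x = x * n) →
      ∀ g : G, g * x * g⁻¹ ∈ (S : Subgroup G) → g * x * g⁻¹ = x) :
    ∃ W K : Subgroup G, (∀ x : G, x ∈ W ↔ (x ∈ (S : Subgroup G) ∧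
        ∀ g : G, g * x * g⁻¹ ∈ (S : Subgroup G) → g * x * g⁻¹ = x)) ∧
      K ≤ ((S : Subgroup G) ⊓ centralizer ((S : Subgroup G) : Set G)) ∧ W ⊓ K = ⊥ ∧
      W ⊔ K = ((S : Subgroup G) ⊓ centralizer ((S : Subgroup G) : Set G)) := by
  classical
  set Z := (S : Subgroup G) ⊓ centralizer ((S : Subgroup G) : Set G)
  letI : CommGroup A :=
    { (inferInstance : Group A) with
      mul_comm := fun a b => Subtype.ext (mem_centralizer_iff.1 (hAc b.2) a a.2) }
  set W := Z ⊓ centralizer (N : Set G)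
  set R := N ⧸ ((S : Subgroup G).subgroupOf N)
  haveI : Fintype R := Fintype.ofFinite R
  -- the trace
  let ψ : ↥Z → R → ↥A := fun z q =>
    ⟨(q.out : G) * z * (q.out : G)⁻¹, hAN _ q.out.2 _ (hZA z.2)⟩
  have hψ : ∀ (z : Z) (n : N), ψ z (QuotientGroup.mk n) =
      ⟨(n : G) * z * (n : G)⁻¹, hAN _ n.2 _ (hZA z.2)⟩ := by
    intro z n
    obtain ⟨s, hs⟩ := QuotientGroup.mk_out_eq_mul ((S : Subgroup G).subgroupOf N) n
    refine Subtype.ext ?_
    show ((QuotientGroup.mk n : R).out : G) * z * ((QuotientGroup.mk n : R).out : G)⁻¹ = _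
    rw [hs, coe_mul, show (n : G) * ((s : N) : G) * z * ((n : G) * ((s : N) : G))⁻¹ =
      (n : G) * (((s : N) : G) * z * ((s : N) : G)⁻¹) * (n : G)⁻¹ by group,
      mem_centralizer_iff.1 z.2.2 _ (mem_subgroupOf.1 s.2), mul_inv_cancel_right]
  let T : ↥Z →* ↥A :=
    { toFun := fun z => ∏ q, ψ z q
      map_one' := Finset.prod_eq_one fun q _ => Subtype.ext (by simp [ψ])
      map_mul' := fun a b => by
        rw [← Finset.prod_mul_distrib]
        refine Finset.prod_congr rfl fun q _ => Subtype.ext ?_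
        simp only [ψ, coe_mul]
        group }
  have hTN : ∀ z : Z, ((T z : A) : G) ∈ centralizer (N : Set G) := by
    refine fun z => mem_centralizer_iff.2 fun n hn => ?_
    let c : A →* A :=
      { toFun := fun a => ⟨n * a * n⁻¹, hAN n hn a a.2⟩
        map_one' := Subtype.ext (by simp)
        map_mul' := fun a b => Subtype.ext (by simp [mul_assoc]) }
    have h1 : c (T z) = T z := by
      show c (∏ q, ψ z q) = ∏ q, ψ z q
      rw [map_prod, ← Equiv.prod_comp (MulAction.toPerm (⟨n, hn⟩ : N) : Equiv.Perm R) (ψ z)]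
      refine Finset.prod_congr rfl fun q _ => ?_
      obtain ⟨u, rfl⟩ := QuotientGroup.mk_surjective q
      rw [hψ, MulAction.toPerm_apply, MulAction.Quotient.smul_mk, hψ]
      refine Subtype.ext ?_
      simp only [c, MonoidHom.coe_mk, OneHom.coe_mk, smul_eq_mul, coe_mul]
      group
    have h2 : n * ((T z : A) : G) * n⁻¹ = ((T z : A) : G) := congrArg Subtype.val h1
    exact mul_inv_eq_iff_eq_mul.1 h2
  have hTW : ∀ z : Z, ((T z : A) : G) ∈ W := fun z =>
    mem_inf.2 ⟨mem_inf.2 ⟨hAS (T z).2, centralizer_le hSN (hTN z)⟩, hTN z⟩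
  set m := Fintype.card R
  have hWp : IsPGroup p W := S.2.to_le (inf_le_left.trans inf_le_left)
  have hTpow : ∀ z : Z, (z : G) ∈ W → ((T z : A) : G) = (z : G) ^ m := by
    intro z hz
    show ((∏ q, ψ z q : A) : G) = _
    rw [Finset.prod_eq_pow_card (b := (⟨(z : G), hZA z.2⟩ : A)) fun q _ => Subtype.ext (by
      show (q.out : G) * z * (q.out : G)⁻¹ = z
      rw [mem_centralizer_iff.1 hz.2 _ q.out.2, mul_inv_cancel_right])]
    rw [SubmonoidClass.coe_pow, Finset.card_univ]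
  have hm : ¬ p ∣ m := by
    rw [show m = Nat.card R from Nat.card_eq_fintype_card.symm, ← index_eq_card]
    exact ((isSylowIn_top S).of_le hSN le_top).2.2
  obtain ⟨k, hk⟩ := IsPGroup.iff_card.1 hWp
  have hmcop : (Nat.card W).Coprime m := hk ▸ ((Fact.out : p.Prime).coprime_iff_not_dvd.2 hm).pow_left k
  refine ⟨W, T.ker.map Z.subtype, fun x => ?_, map_subtype_le _, ?_, ?_⟩
  · constructor
    · intro hx
      exact ⟨hx.1.1, hwc x hx.1.1 fun n hn => mem_centralizer_iff.1 hx.2 n hn⟩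
    · rintro ⟨hxS, hx⟩
      have hxZ : x ∈ Z := mem_inf.2 ⟨hxS, mem_centralizer_iff.2 fun s hs =>
        mul_inv_eq_iff_eq_mul.1 (hx s (mul_mem (mul_mem hs hxS) (inv_mem hs)))⟩
      refine mem_inf.2 ⟨hxZ, mem_centralizer_iff.2 fun n hn => mul_inv_eq_iff_eq_mul.1 (hx n ?_)⟩
      exact hAS (hAN n hn x (hZA hxZ))
  · refine le_bot_iff.1 fun x hx => ?_
    obtain ⟨hxW, ⟨z, hz, rfl⟩⟩ := hx
    have h1 : (z : G) ^ m = 1 := by
      rw [← hTpow z hxW, MonoidHom.mem_ker.1 hz]; rfl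
    exact mem_bot.2 (orderOf_eq_one_iff.1 (Nat.eq_one_of_dvd_coprimes hmcop
      (orderOf_dvd_natCard W hxW) (orderOf_dvd_of_pow_eq_one h1)))
  · refine le_antisymm (sup_le inf_le_left (map_subtype_le _)) fun z hz => ?_
    obtain ⟨r, -, hr⟩ := Nat.exists_mul_mod_eq_of_coprime (k := Nat.card W) (n := m) 1
      hmcop.symm Nat.card_pos.ne'
    set w := ((T ⟨z, hz⟩ : A) : G) ^ r
    have hw : w ∈ W := pow_mem (hTW _) r
    have hwm : w ^ m = ((T ⟨z, hz⟩ : A) : G) := by
      show (((T ⟨z, hz⟩ : A) : G) ^ r) ^ m = _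
      rw [← pow_mul, mul_comm]
      conv_rhs => rw [← pow_one ((T ⟨z, hz⟩ : A) : G)]
      exact pow_eq_pow_iff_modEq.2 (Nat.ModEq.of_dvd (orderOf_dvd_natCard W (hTW _)) hr)
    have hk : (⟨w, hw.1⟩ : Z)⁻¹ * ⟨z, hz⟩ ∈ T.ker := by
      rw [MonoidHom.mem_ker, map_mul, map_inv, inv_mul_eq_one]
      exact Subtype.ext (by rw [hTpow ⟨w, hw.1⟩ hw, hwm])
    have := mul_mem (mem_sup_left hw) (mem_sup_right (mem_map_of_mem Z.subtype hk) :
      _ ∈ W ⊔ T.ker.map Z.subtype)
    simpa using this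

theorem center_le_pPrimePCore [Group.IsSolvable G] (S : Sylow p G) :
    (S : Subgroup G) ⊓ centralizer ((S : Subgroup G) : Set G) ≤ Cfsg.pPrimePCore p G := by
  intro x hx
  set π := QuotientGroup.mk' (Cfsg.pPrimeCore p G)
  have hπ : Function.Surjective π := QuotientGroup.mk'_surjective _
  haveI : Group.IsSolvable (G ⧸ Cfsg.pPrimeCore p G) := Group.isSolvable_of_surjective hπ
  rw [Cfsg.pPrimePCore, mem_comap]
  refine Fitting.centralizer_pCore_le (Fitting.pPrimeCore_quotient_eq_bot p) ?_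
  refine mem_centralizer_iff.2 fun y hy => ?_
  obtain ⟨s, hs, rfl⟩ := Fitting.pCore_le_sylow (S.mapSurjective hπ) hy
  rw [← map_mul, ← map_mul, mem_centralizer_iff.1 hx.2 s hs]

end CfsgLib.CenterSplit
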