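import Cfsg.Agent.Kinf.OddOffender
import Cfsg.Agent.ZJ.Constrained
import Cfsg.Agent.PLocal.Thompson
import Cfsg.Agent.Solvable.Fitting

/-!
Solvable groups without a section isomorphic to the symmetric group of degree 4 whose Sylow 2-subgroups
have class at most two: the factorization by the normalizer of the elementary abelian Thompson subgroup.
-/

set_option autoImplicit false
set_option linter.style.haveILetI false

namespace CfsgLib.Kinf

open Subgroup CfsgLib.ZJ

universe u

/-- An odd order element centralizing the elements of order two of an abelian 2-group centralizes it. -/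
theorem fix_of_fix_involutions {G : Type*} [Group G] {Z : Subgroup G}
    (hZc : ∀ v ∈ Z, ∀ w ∈ Z, v * w = w * v) {y : G} (hy : Odd (orderOf y))
    (hyZ : y ∈ normalizer (Z : Set G)) (hfix : ∀ w ∈ Z, w * w = 1 → y * w * y⁻¹ = w) :
    ∀ (k : ℕ), ∀ v ∈ Z, v ^ 2 ^ k = 1 → y * v * y⁻¹ = v := by
  intro k
  induction k with
  | zero =>
    intro v _ hv
    rw [pow_zero, pow_one] at hv
    rw [hv]; group
  | succ k ih =>
    intro v hv hpow
    set z := y * v * y⁻¹ * v⁻¹ with hz
    have hyv : y * v * y⁻¹ ∈ Z := (mem_normalizer_iff.mp hyZ v).mp hv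
    have hzZ : z ∈ Z := mul_mem hyv (inv_mem hv)
    have hsq : y * (v * v) * y⁻¹ = v * v :=
      ih (v * v) (mul_mem hv hv) (by rw [← pow_two, ← pow_mul, ← pow_succ']; exact hpow)
    have hz2 : z * z = 1 := by
      calc z * z = y * v * y⁻¹ * (v⁻¹ * (y * v * y⁻¹)) * v⁻¹ := by rw [hz]; group
        _ = y * v * y⁻¹ * ((y * v * y⁻¹) * v⁻¹) * v⁻¹ := by rw [hZc _ (inv_mem hv) _ hyv]
        _ = y * (v * v) * y⁻¹ * (v * v)⁻¹ := by group
        _ = 1 := by rw [hsq, mul_inv_cancel]
    have hzfix := hfix z hzZ hz2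
    have hyvz : y * v * y⁻¹ = z * v := by rw [hz, inv_mul_cancel_right]
    have key : ∀ j : ℕ, y ^ j * v * (y ^ j)⁻¹ = z ^ j * v := by
      intro j
      induction j with
      | zero => simp
      | succ j ihj =>
        calc y ^ (j + 1) * v * (y ^ (j + 1))⁻¹ = y * (y ^ j * v * (y ^ j)⁻¹) * y⁻¹ := by
              rw [pow_succ']; group
          _ = (y * z * y⁻¹) ^ j * (y * v * y⁻¹) := by rw [ihj, conj_pow]; group
          _ = z ^ (j + 1) * v := by
              rw [hzfix, pow_succ, mul_assoc (z ^ j), ← hyvz]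
    have h1 := key (orderOf y)
    rw [pow_orderOf_eq_one, one_mul, inv_one, mul_one] at h1
    obtain ⟨m, hm⟩ := hy
    rw [hm, pow_succ, pow_mul, pow_two, hz2, one_pow, one_mul] at h1
    exact mul_inv_eq_one.mp (show y * v * y⁻¹ * v⁻¹ = 1 by rw [← hz]; exact right_eq_mul.mp h1)

/-- In a solvable group without a section of type S₄, with trivial 2'-core and Sylow 2-subgroups of
class at most two, the largest elementary abelian subgroups of a Sylow 2-subgroup lie in the 2-core. -/
theorem maxIn_le_pCore {H : Type u} [Group H] [Finite H] [Group.IsSolvable H]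
    (hO : Cfsg.pPrimeCore 2 H = ⊥) (hS4 : ¬ Cfsg.Involves (Equiv.Perm (Fin 4)) H)
    (S : Sylow 2 H) (hcl : ⁅⁅(S : Subgroup H), (S : Subgroup H)⁆, (S : Subgroup H)⁆ = ⊥)
    {A : Subgroup H} (hA : A ∈ Thompson.maxIn 2 (S : Subgroup H)) : A ≤ Cfsg.pCore 2 H := by
  classical
  haveI : Fact (Nat.Prime 2) := ⟨Nat.prime_two⟩
  by_contra hAU
  set U := Cfsg.pCore 2 H with hU
  have hUp : IsPGroup 2 U := Solvable.isPGroup_pCore 2
  have hUS : U ≤ S := Fitting.pCore_le_sylow S
  have hCU : centralizer (U : Set H) ≤ U := Fitting.centralizer_pCore_le hO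
  have hAS := hA.1
  have hA2 : ∀ a ∈ A, a * a = 1 := fun a ha => by rw [← pow_two]; exact hA.2.1.2 a ha
  haveI hUn : U.Normal := Solvable.pCore_normal 2
  set Z := U ⊓ centralizer (U : Set H) with hZ
  haveI hZn : Z.Normal := Subgroup.normal_inf_normal _ _
  have hZc : ∀ v ∈ Z, ∀ w ∈ Z, v * w = w * v := fun v hv w hw => mem_centralizer_iff.mp hw.2 v hv.1
  -- the elements of order at most two
  let W : Subgroup H :=
    { carrier := {z | z ∈ Z ∧ z * z = 1}
      one_mem' := ⟨Z.one_mem, one_mul 1⟩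
      mul_mem' := fun {v w} hv hw => ⟨Z.mul_mem hv.1 hw.1, by
        rw [show v * w * (v * w) = v * (w * v) * w by group, hZc w hw.1 v hv.1,
          show v * (v * w) * w = (v * v) * (w * w) by group, hv.2, hw.2, one_mul]⟩
      inv_mem' := fun {v} hv => ⟨Z.inv_mem hv.1, by rw [← mul_inv_rev, hv.2, inv_one]⟩ }
  have hWZ : W ≤ Z := fun x hx => hx.1
  haveI hWn : W.Normal := ⟨fun n hn g => ⟨hZn.conj_mem n hn.1 g, by
    rw [show g * n * g⁻¹ * (g * n * g⁻¹) = g * (n * n) * g⁻¹ by group, hn.2, mul_one, mul_inv_cancel]⟩⟩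
  have hWc : ∀ v ∈ W, ∀ w ∈ W, v * w = w * v := fun v hv w hw => hZc v (hWZ hv) w (hWZ hw)
  have hWel : Cfsg.IsElementaryAbelian 2 W :=
    ⟨⟨⟨fun x y => Subtype.ext (hWc x x.2 y y.2)⟩⟩, fun w hw => by rw [pow_two]; exact hw.2⟩
  set C := centralizer (W : Set H) with hC
  have hUC : U ≤ C := fun x hx => mem_centralizer_iff.mpr fun w hw =>
    (mem_centralizer_iff.mp (hWZ hw).2 x hx).symm
  letI : CommGroup W :=
    { (inferInstance : Group W) with mul_comm := fun a b => Subtype.ext (hWc a a.2 b b.2) }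
  set φ : H →* MulAut W := MulAut.conjNormal with hφ
  have hker : ∀ x : H, φ x = 1 ↔ x ∈ C := by
    intro x
    refine ⟨fun h => mem_centralizer_iff.mpr fun v hv => ?_, fun hx => MulEquiv.ext fun v => ?_⟩
    · have h1 := congrArg Subtype.val (DFunLike.congr_fun h (⟨v, hv⟩ : W))
      rw [hφ, MulAut.conjNormal_apply] at h1
      exact (mul_inv_eq_iff_eq_mul.mp h1).symm
    · refine Subtype.ext ?_
      rw [hφ, MulAut.conjNormal_apply, MulAut.one_apply, mul_inv_eq_iff_eq_mul]
      exact (mem_centralizer_iff.mp hx v v.2).symm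
  -- the Fitting subgroup modulo the core
  set π := QuotientGroup.mk' U with hπ
  set F := Cfsg.fittingSubgroup (H ⧸ U) with hF
  have hFodd : Odd (Nat.card F) := by
    rw [Nat.odd_iff, ← Nat.two_dvd_ne_zero]
    intro hdvd
    obtain ⟨x, hx⟩ := exists_prime_orderOf_dvd_card' 2 hdvd
    haveI : Group.IsNilpotent F := Solvable.isNilpotent_fittingSubgroup
    obtain ⟨Q, hQ⟩ := (IsPGroup.of_card (n := 1) (by rw [Nat.card_zpowers, hx, pow_one]) :
      IsPGroup 2 (zpowers x)).exists_le_sylow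
    haveI hQn : (Q : Subgroup F).Normal := inferInstance
    haveI : (Q : Subgroup F).Characteristic := Q.characteristic_of_normal hQn
    haveI : F.Normal := inferInstance
    have h1 : (Q : Subgroup F).map F.subtype ≤ Cfsg.pCore 2 (H ⧸ U) :=
      Solvable.le_pCore 2 inferInstance (Q.2.map F.subtype)
    have h2 : (x : H ⧸ U) ∈ Cfsg.pCore 2 (H ⧸ U) := h1 ⟨x, hQ (mem_zpowers x), rfl⟩
    have h3 : Cfsg.pCore 2 (H ⧸ U) = ⊥ := by
      set X := Cfsg.pCore 2 (H ⧸ U) with hX
      haveI : X.Normal := Solvable.pCore_normal 2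
      have hXp : IsPGroup 2 (X.comap π) := (Solvable.isPGroup_pCore 2).comap_of_ker_isPGroup π
        (by rw [QuotientGroup.ker_mk']; exact hUp)
      have hle : X.comap π ≤ U := Solvable.le_pCore 2 inferInstance hXp
      rw [← map_comap_eq_self_of_surjective (QuotientGroup.mk'_surjective U) X, ← hπ,
        Subgroup.map_eq_bot_iff, QuotientGroup.ker_mk']
      exact hle
    rw [h3, mem_bot] at h2
    exact absurd hx (by rw [show x = 1 from Subtype.ext h2, orderOf_one]; decide)
  set K := F.comap π with hK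
  haveI hKn : K.Normal := inferInstance
  have hKφ : Odd (Nat.card (K.map φ)) := by
    rw [Nat.odd_iff, ← Nat.two_dvd_ne_zero]
    intro hdvd
    obtain ⟨⟨_, x, hx, rfl⟩, hxo⟩ := exists_prime_orderOf_dvd_card' 2 hdvd
    have hm : x ^ Nat.card F ∈ U := by
      refine (QuotientGroup.eq_one_iff _).mp ?_
      show π (x ^ Nat.card F) = 1
      rw [map_pow]
      exact congrArg Subtype.val (pow_card_eq_one' (x := (⟨π x, hx⟩ : F)))
    have h1 : φ x ^ Nat.card F = 1 := by rw [← map_pow]; exact (hker _).mpr (hUC hm)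
    rw [← orderOf_coe] at hxo
    have h2 := orderOf_dvd_of_pow_eq_one h1
    rw [hxo] at h2
    exact absurd h2 (Nat.two_dvd_ne_zero.mpr (Nat.odd_iff.mp hFodd))
  -- faithfulness
  let D : Subgroup H :=
    { carrier := {x | ∀ v ∈ U, x * v * x⁻¹ * v⁻¹ ∈ Z}
      one_mem' := fun v _ => by simp
      mul_mem' := fun {x y} hx hy v hv => by
        rw [show x * y * v * (x * y)⁻¹ * v⁻¹ =
          (x * (y * v * y⁻¹ * v⁻¹) * x⁻¹) * (x * v * x⁻¹ * v⁻¹) by group]
        exact mul_mem (hZn.conj_mem _ (hy v hv) x) (hx v hv)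
      inv_mem' := fun {x} hx v hv => by
        rw [show x⁻¹ * v * x⁻¹⁻¹ * v⁻¹ = x⁻¹ * (x * v * x⁻¹ * v⁻¹)⁻¹ * x⁻¹⁻¹ by group]
        exact hZn.conj_mem _ (inv_mem (hx v hv)) x⁻¹ }
  haveI hDn : D.Normal := ⟨fun x hx g v hv => by
    have h := hx (g⁻¹ * v * g) (by simpa using hUn.conj_mem v hv g⁻¹)
    have := hZn.conj_mem _ h g
    rwa [show g * (x * (g⁻¹ * v * g) * x⁻¹ * (g⁻¹ * v * g)⁻¹) * g⁻¹ =
      g * x * g⁻¹ * v * (g * x * g⁻¹)⁻¹ * v⁻¹ by group] at this⟩
  have hSC : ∀ x ∈ S, ∀ v ∈ U, x * v * x⁻¹ * v⁻¹ ∈ Z := by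
    intro x hx v hv
    have h1 : x * v * x⁻¹ * v⁻¹ ∈ ⁅(S : Subgroup H), (S : Subgroup H)⁆ :=
      commutator_mem_commutator hx (hUS hv)
    have hcS : ⁅(S : Subgroup H), (S : Subgroup H)⁆ ≤ centralizer ((S : Subgroup H) : Set H) :=
      commutator_eq_bot_iff_le_centralizer.mp hcl
    exact mem_inf.mpr ⟨mul_mem (hUn.conj_mem v hv x) (inv_mem hv), centralizer_le (show (U : Set H) ⊆ (S : Subgroup H) from hUS) (hcS h1)⟩
  have hFC : centralizer (F : Set (H ⧸ U)) ≤ F := by
    haveI : Group.IsSolvable (H ⧸ U) := Group.isSolvable_of_surjective (QuotientGroup.mk'_surjective U)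
    exact Fitting.centralizer_fittingSubgroup_le_of_solvable
  have hfaith : ∀ a ∈ A, (∀ k ∈ K, φ (a * k * a⁻¹ * k⁻¹) = 1) → a ∈ U := by
    intro a ha hcomm
    have haD : a ∈ D := hSC a (hAS ha)
    have hπF : ∀ f ∈ F, π a * f = f * π a := by
      intro f hf
      obtain ⟨k, rfl⟩ := QuotientGroup.mk'_surjective U f
      set y := a * k * a⁻¹ * k⁻¹ with hy
      have hyC : y ∈ C := (hker _).mp (hcomm k hf)
      have hyD : y ∈ D := by
        rw [hy, show a * k * a⁻¹ * k⁻¹ = a * (k * a⁻¹ * k⁻¹) by group]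
        exact mul_mem haD (hDn.conj_mem _ (inv_mem haD) k)
      have hyK : y ∈ K := mul_mem (hKn.conj_mem k hf a) (inv_mem hf)
      obtain ⟨e, m, hm2, hord⟩ := Nat.exists_eq_pow_mul_and_not_dvd (orderOf_pos y).ne' 2 (by norm_num)
      set y1 := y ^ 2 ^ e with hy1
      have hmodd : Odd m := Nat.odd_iff.mpr (Nat.two_dvd_ne_zero.mp hm2)
      have hy1odd : Odd (orderOf y1) := by
        rw [hy1, orderOf_pow_of_dvd (by positivity) (hord ▸ dvd_mul_right _ _), hord,
          Nat.mul_div_cancel_left _ (by positivity)]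
        exact hmodd
      have hy1Z : ∀ v ∈ Z, y1 * v * y1⁻¹ = v := fun v hv => by
        obtain ⟨j, hj⟩ := hUp ⟨v, hv.1⟩
        refine fix_of_fix_involutions hZc hy1odd (le_normalizer_of_normal (mem_top y1)) (fun w hw hw2 => ?_) j v hv
          (congrArg Subtype.val hj)
        exact mul_inv_eq_iff_eq_mul.mpr
          (mem_centralizer_iff.mp (pow_mem hyC _) w (show w ∈ W from ⟨hw, hw2⟩)).symm
      have hy1U : y1 ∈ U := hCU (mem_centralizer_iff.mpr fun v hv => by
        set z := y1 * v * y1⁻¹ * v⁻¹ with hz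
        have hzZ : z ∈ Z := (pow_mem hyD _) v hv
        have hyvz : y1 * v * y1⁻¹ = z * v := by rw [hz, inv_mul_cancel_right]
        have key : ∀ j : ℕ, y1 ^ j * v * (y1 ^ j)⁻¹ = z ^ j * v := by
          intro j
          induction j with
          | zero => simp
          | succ j ihj =>
            calc y1 ^ (j + 1) * v * (y1 ^ (j + 1))⁻¹ = y1 * (y1 ^ j * v * (y1 ^ j)⁻¹) * y1⁻¹ := by
                  rw [pow_succ']; group
              _ = (y1 * z * y1⁻¹) ^ j * (y1 * v * y1⁻¹) := by rw [ihj, conj_pow]; group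
              _ = z ^ (j + 1) * v := by
                  rw [hy1Z z hzZ, pow_succ, mul_assoc (z ^ j), ← hyvz]
        have h1 := key (orderOf y1)
        rw [pow_orderOf_eq_one, one_mul, inv_one, mul_one] at h1
        have h2 : z ^ orderOf y1 = 1 := right_eq_mul.mp h1
        obtain ⟨j, hj⟩ := hUp ⟨z, hzZ.1⟩
        have hz1 : z = 1 := orderOf_eq_one_iff.mp (Nat.eq_one_of_dvd_coprimes
          ((Nat.coprime_two_left.mpr hy1odd).pow_left j)
          (orderOf_dvd_of_pow_eq_one (congrArg Subtype.val hj)) (orderOf_dvd_of_pow_eq_one h2))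
        exact (mul_inv_eq_iff_eq_mul.mp (mul_inv_eq_one.mp hz1)).symm)
      have hπy : π y = 1 := by
        have h1 : π y ^ 2 ^ e = 1 := by rw [← map_pow]; exact (QuotientGroup.eq_one_iff _).mpr hy1U
        exact orderOf_eq_one_iff.mp (Nat.eq_one_of_dvd_coprimes
          ((Nat.coprime_two_left.mpr hFodd).pow_left e) (orderOf_dvd_of_pow_eq_one h1)
          (F.orderOf_dvd_natCard hyK))
      rw [hy, map_mul, map_mul, map_mul, map_inv, map_inv, mul_inv_eq_one, mul_inv_eq_iff_eq_mul] at hπy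
      exact hπy
    have haF : π a ∈ F := hFC (mem_centralizer_iff.mpr fun f hf => (hπF f hf).symm)
    refine (QuotientGroup.eq_one_iff a).mp (eq_one_of_sq_eq_one
      (hFodd.of_dvd_nat (F.orderOf_dvd_natCard haF)) ?_)
    show π a * π a = 1
    rw [← map_mul, hA2 a ha, map_one]
  -- the counting
  have hact : OddAct (A.map φ) (K.map φ) (⊤ : Subgroup W) := by
    refine ⟨fun w _ => Subtype.ext w.2.2, fun _ _ w _ => mem_top _, fun _ _ w _ => mem_top _, hKφ, ?_, ?_,
      fun k _ h => MulEquiv.ext fun w => h w (mem_top w), ?_⟩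
    · rintro _ ⟨a, ha, rfl⟩
      rw [← map_mul, hA2 a ha, map_one]
    · rintro _ ⟨a, -, rfl⟩
      exact le_normalizer_map φ ⟨a, le_normalizer_of_normal (mem_top a), rfl⟩
    · rintro _ ⟨a, ha, rfl⟩ hfix
      refine (hker a).mpr (hUC (hfaith a ha fun k hk => ?_))
      have h := hfix _ (mem_map_of_mem φ hk)
      rw [map_mul, map_mul, map_mul, map_inv, map_inv, h, mul_inv_cancel]
  have hAb : A.map φ ≠ ⊥ := fun h => hAU fun a ha => hfaith a ha fun k _ => by
    have ha1 : φ a = 1 := mem_bot.mp (h ▸ mem_map_of_mem φ ha)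
    rw [map_mul, map_mul, map_mul, map_inv, map_inv, ha1]
    simp
  obtain ⟨_, ⟨a0, ha0, rfl⟩, _, ⟨k0, hk0, rfl⟩, hk1, hinv, hle⟩ := hact.exists_inverting hAb
  rw [top_inf_eq, top_inf_eq] at hle
  set Fa := fixSub ({φ a0} : Set (MulAut W)) with hFa
  have hcard : Nat.card W ≤ 2 * Nat.card Fa := by
    set B := (A ⊓ C) ⊔ W with hB
    have hBel : Cfsg.IsElementaryAbelian 2 B :=
      Thompson.elab_sup (Thompson.elab_mono hA.2.1 inf_le_left) hWel inf_le_right
    have h1 : Nat.card B ≤ Nat.card A :=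
      hA.2.2 B (sup_le (inf_le_left.trans hAS) ((hWZ.trans inf_le_left).trans hUS)) hBel
    have h2 := Solvable.card_sup_mul_card_inf (A := A ⊓ C) (K := W) le_normalizer_of_normal
    set f := φ.comp A.subtype with hf
    have h3 : Nat.card A = Nat.card ↥(A.map φ) * Nat.card ↥(A ⊓ C) := by
      rw [← f.ker.card_mul_index, index_ker, mul_comm]
      congr 1
      · rw [show f.range = A.map φ by rw [hf, MonoidHom.range_comp, range_subtype]]
      · rw [show f.ker = C.subgroupOf A from Subgroup.ext fun x => hker x]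
        rw [← card_map_of_injective A.subtype_injective, subgroupOf_map_subtype, inf_comm]
    have h4 : Nat.card ↥(A ⊓ C ⊓ W) ≤
        Nat.card ↥(fixSub ((A.map φ : Subgroup _) : Set (MulAut W))) := by
      rw [← card_map_of_injective W.subtype_injective
        (K := fixSub ((A.map φ : Subgroup _) : Set (MulAut W)))]
      refine Subgroup.card_le_of_le fun x hx => ⟨⟨x, hx.2⟩, mem_fixSub.mpr ?_, rfl⟩
      rintro _ ⟨a, ha, rfl⟩
      refine Subtype.ext ?_
      rw [hφ, MulAut.conjNormal_apply]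
      show a * x * a⁻¹ = x
      rw [Thompson.elab_commute hA.2.1 ha hx.1.1, mul_inv_cancel_right]
    have h5 : Nat.card ↥(A ⊓ C) * Nat.card W ≤ Nat.card ↥(A ⊓ C) * (2 * Nat.card Fa) := by
      rw [← h2]
      refine (Nat.mul_le_mul h1 h4).trans ?_
      rw [h3, mul_comm (Nat.card ↥(A.map φ)), mul_assoc]
      exact Nat.mul_le_mul_left _ hle
    exact Nat.le_of_mul_le_mul_left h5 Nat.card_pos
  have hk0C : k0 ∉ C := fun h => hk1 ((hker k0).mpr h)
  have ha0C : a0 ∉ C := by
    intro h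
    rw [(hker a0).mpr h] at hinv
    simp only [one_mul, inv_one, mul_one] at hinv
    exact hk1 (eq_one_of_sq_eq_one (hact.oddOrder (mem_map_of_mem φ hk0))
      (by conv_lhs => lhs; rw [hinv]
          rw [inv_mul_cancel]))
  have hidx : Fa.index = 2 := by
    have h1 := Fa.card_mul_index
    have h2 : Fa.index ≠ 1 := fun h => ha0C ((hker a0).mp (MulEquiv.ext fun w =>
      mem_fixSub.mp (show w ∈ Fa by rw [index_eq_one.mp h]; exact mem_top w) _ rfl))
    have h3 : Fa.index ≤ 2 := by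
      by_contra hcon
      have : 3 * Nat.card Fa ≤ Nat.card W := by
        rw [← h1, mul_comm]; exact Nat.mul_le_mul_left _ (by omega)
      have : 0 < Nat.card Fa := Nat.card_pos
      omega
    have h4 : Fa.index ≠ 0 := Subgroup.index_ne_zero_of_finite
    omega
  obtain ⟨w, hw⟩ : ∃ w : W, w ∉ Fa := by
    by_contra hcon
    push Not at hcon
    rw [(Subgroup.eq_top_iff' Fa).mpr hcon, index_top] at hidx
    omega
  set w0 : W := φ a0 w * w⁻¹ with hw0
  have hw0sq : w0 * w0 = 1 := Subtype.ext w0.2.2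
  have hfixw0 : φ a0 w0 = w0 := by
    have : φ a0 (φ a0 w) = w := by
      rw [← MulAut.mul_apply, ← map_mul, hA2 a0 ha0, map_one, MulAut.one_apply]
    calc φ a0 w0 = w * (φ a0 w)⁻¹ := by rw [hw0, map_mul, map_inv, this]
      _ = w0⁻¹ := by rw [hw0, mul_inv_rev, inv_inv]
      _ = w0 := inv_eq_of_mul_eq_one_right hw0sq
  refine hS4 (involves_s4_of_inverted W hWc (a := a0) (k := k0) (w0 := (w0 : H)) ha0C hk0C ?_ ?_ w0.2
    (congrArg Subtype.val hw0sq) ?_ ?_)
  · refine (hact.oddOrder (mem_map_of_mem φ hk0)).of_dvd_nat (orderOf_dvd_of_pow_eq_one ?_)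
    rw [← map_pow]
    refine (QuotientGroup.eq_one_iff _).mpr ((hker _).mp ?_)
    rw [map_pow, pow_orderOf_eq_one]
  · refine (hker _).mp ?_
    rw [map_mul, map_mul, map_mul, map_inv, hinv, inv_mul_cancel]
  · have := congrArg Subtype.val hfixw0
    rwa [hφ, MulAut.conjNormal_apply] at this
  · intro v hv
    by_cases hvF : (⟨v, hv⟩ : W) ∈ Fa
    · left
      have := congrArg Subtype.val (mem_fixSub.mp hvF (φ a0) rfl)
      rwa [hφ, MulAut.conjNormal_apply] at this
    · right
      have h1 : (⟨v, hv⟩ : W) * w⁻¹ ∈ Fa :=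
        (Subgroup.mul_mem_iff_of_index_two hidx).mpr (iff_of_false hvF (fun h => hw (by simpa using h)))
      have h2 := mem_fixSub.mp h1 (φ a0) rfl
      rw [map_mul, map_inv] at h2
      have h3 : φ a0 ⟨v, hv⟩ = ⟨v, hv⟩ * w0 := by
        rw [mul_inv_eq_iff_eq_mul.mp h2, hw0, mul_assoc, mul_comm w⁻¹]
      have := congrArg Subtype.val h3
      rwa [hφ, MulAut.conjNormal_apply] at this

/-- The factorization by the normalizer of the elementary abelian Thompson subgroup in solvable groups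
without a section of type S₄ with Sylow 2-subgroups of class at most two. -/
theorem thompson_factor_classTwo {G : Type u} [Group G] [Finite G] [Group.IsSolvable G]
    (hS4 : ¬ Cfsg.Involves (Equiv.Perm (Fin 4)) G) (S : Sylow 2 G)
    (hcl : ⁅⁅(S : Subgroup G), (S : Subgroup G)⁆, (S : Subgroup G)⁆ = ⊥) :
    normalizer ((Cfsg.thompsonSubgroupOf 2 (S : Subgroup G)) : Set G) ⊔ Cfsg.pPrimeCore 2 G = ⊤ := by
  haveI : Fact (Nat.Prime 2) := ⟨Nat.prime_two⟩
  set O := Cfsg.pPrimeCore 2 G with hO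
  set π := QuotientGroup.mk' O with hπ
  have hcop : (Nat.card O).Coprime 2 := Solvable.coprime_card_pPrimeCore 2
  haveI : Group.IsSolvable (G ⧸ O) := Group.isSolvable_of_surjective (QuotientGroup.mk'_surjective O)
  set S' := S.mapSurjective (QuotientGroup.mk'_surjective O) with hS'
  have hS'eq : (S' : Subgroup (G ⧸ O)) = (S : Subgroup G).map π := Sylow.coe_mapSurjective _ S
  have hcl' : ⁅⁅(S' : Subgroup (G ⧸ O)), (S' : Subgroup (G ⧸ O))⁆, (S' : Subgroup (G ⧸ O))⁆ = ⊥ := by
    rw [hS'eq, ← map_commutator, ← map_commutator, hcl, Subgroup.map_bot]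
  have hle : ∀ B ∈ Thompson.maxIn 2 (S' : Subgroup (G ⧸ O)), B ≤ Cfsg.pCore 2 (G ⧸ O) := fun B hB =>
    maxIn_le_pCore (Fitting.pPrimeCore_quotient_eq_bot 2)
      (fun h => hS4 (involves_of_quotient O h)) S' hcl' hB
  -- the image of the Thompson subgroup
  have hinj : Function.Injective (π.comp (S : Subgroup G).subtype) := by
    rw [injective_iff_map_eq_one]
    intro x hx
    have : (x : G) ∈ (S : Subgroup G) ⊓ O := ⟨x.2, (QuotientGroup.eq_one_iff _).mp hx⟩
    rw [isPGroup_inf_coprime S.2 hcop, mem_bot] at this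
    exact Subtype.ext this
  set e : (S : Subgroup G) ≃* (π.comp (S : Subgroup G).subtype).range := MonoidHom.ofInjective hinj
  have hrange : (π.comp (S : Subgroup G).subtype).range = (S' : Subgroup (G ⧸ O)) := by
    rw [hS'eq, MonoidHom.range_comp, range_subtype]
  have hmap : (Cfsg.thompsonSubgroupOf 2 (S : Subgroup G)).map π =
      Cfsg.thompsonSubgroupOf 2 (S' : Subgroup (G ⧸ O)) := by
    rw [← hrange]
    show _ = (Cfsg.thompsonSubgroup 2 _).map _
    rw [← Thompson.map_thompsonSubgroup e, Cfsg.thompsonSubgroupOf, map_map, map_map]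
    rfl
  -- normality of the image
  have heq : Cfsg.thompsonSubgroupOf 2 (S' : Subgroup (G ⧸ O)) =
      Cfsg.thompsonSubgroupOf 2 (Cfsg.pCore 2 (G ⧸ O)) := by
    rw [Thompson.thompsonSubgroupOf_eq, Thompson.thompsonSubgroupOf_eq]
    refine congrArg sSup (Set.ext fun B => ⟨fun hB => ⟨hle B hB, hB.2.1, fun X hX hX' =>
      hB.2.2 X (hX.trans (Fitting.pCore_le_sylow S')) hX'⟩, fun hB => ?_⟩)
    obtain ⟨B0, hB0⟩ := Thompson.exists_maxIn (p := 2) (S' : Subgroup (G ⧸ O))
    exact ⟨hB.1.trans (Fitting.pCore_le_sylow S'), hB.2.1, fun X hX hX' =>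
      (hB0.2.2 X hX hX').trans (hB.2.2 B0 (hle B0 hB0) hB0.2.1)⟩
  have hn : ((Cfsg.thompsonSubgroupOf 2 (S : Subgroup G)).map π).Normal := by
    rw [hmap, heq, ← normalizer_eq_top_iff, eq_top_iff]
    refine le_trans ?_ (Thompson.normalizer_le_normalizer_thompsonSubgroupOf _)
    haveI := Solvable.pCore_normal (G := G ⧸ O) 2
    exact le_normalizer_of_normal
  refine eq_top_iff.mpr fun g _ => ?_
  have hg : g ∈ normalizer ((Cfsg.thompsonSubgroupOf 2 (S : Subgroup G) ⊔ O : Subgroup G) : Set G) := by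
    have h1 := hn.comap π
    rw [comap_map_eq, QuotientGroup.ker_mk'] at h1
    haveI := h1
    exact le_normalizer_of_normal (mem_top g)
  obtain ⟨n, hn', hng⟩ := exists_mul_mem_normalizer (p := 2)
    (S.2.to_le (Thompson.thompsonSubgroupOf_le _)) hcop hg
  rw [show g = n⁻¹ * (n * g) by group]
  exact mul_mem (mem_sup_right (inv_mem hn')) (mem_sup_left hng)

end CfsgLib.Kinf
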