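import Cfsg.Agent.Kinf.SpreadOffender
import Cfsg.Agent.Kinf.ClassTwoFactor
import Cfsg.Agent.ZJ.SymFourSection

/-!
Groups with self-centralizing 2-core, no section isomorphic to the symmetric group of degree 4 and
2-subgroups of class at most two: the largest elementary abelian 2-subgroups lie in the 2-core, and
the factorization by the normalizer of the elementary abelian Thompson subgroup.
-/

set_option autoImplicit false
set_option linter.style.haveILetI false

namespace CfsgLib.Kinf.ClassTwoCon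

open Subgroup CfsgLib.ZJ

universe u

variable {H : Type u} [Group H]

/-- An element of odd order moving an element by a central element of 2-power order fixes it. -/
theorem fix_of_comm_central {d x : H} (hd : Odd (orderOf d))
    (hz : d * x * d⁻¹ * x⁻¹ ∈ center H) (hz2 : ∃ k, (d * x * d⁻¹ * x⁻¹) ^ 2 ^ k = 1) :
    d * x * d⁻¹ = x := by
  set z := d * x * d⁻¹ * x⁻¹ with hzdef
  have hdz : d * z * d⁻¹ = z := by rw [mem_center_iff.mp hz d, mul_inv_cancel_right]
  have hdx : d * x * d⁻¹ = z * x := by rw [hzdef, inv_mul_cancel_right]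
  have key : ∀ j : ℕ, d ^ j * x * (d ^ j)⁻¹ = z ^ j * x := by
    intro j
    induction j with
    | zero => simp
    | succ j ih =>
      calc d ^ (j + 1) * x * (d ^ (j + 1))⁻¹ = d * (d ^ j * x * (d ^ j)⁻¹) * d⁻¹ := by
            rw [pow_succ']; group
        _ = (d * z * d⁻¹) ^ j * (d * x * d⁻¹) := by rw [ih, conj_pow]; group
        _ = z ^ (j + 1) * x := by rw [hdz, pow_succ, mul_assoc (z ^ j), ← hdx]
  have h1 := key (orderOf d)
  rw [pow_orderOf_eq_one, one_mul, inv_one, mul_one] at h1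
  obtain ⟨k, hk⟩ := hz2
  have hz1 : z = 1 := orderOf_eq_one_iff.mp (Nat.eq_one_of_dvd_coprimes
    ((Nat.coprime_two_left.mpr hd).pow_left k)
    (orderOf_dvd_of_pow_eq_one hk) (orderOf_dvd_of_pow_eq_one (right_eq_mul.mp h1)))
  rw [hdx, hz1, one_mul]

/-- The elements moving each element of `T` by an element of the central subgroup `Z`. -/
def actMod (T : Set H) (Z : Subgroup H) (hZ : Z ≤ center H) : Subgroup H where
  carrier := {g | ∀ x ∈ T, g * x * g⁻¹ * x⁻¹ ∈ Z}
  one_mem' := fun x _ => by simp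
  mul_mem' := fun {g h} hg hh x hx => by
    have hc : g * (h * x * h⁻¹ * x⁻¹) * g⁻¹ = h * x * h⁻¹ * x⁻¹ := by
      rw [mem_center_iff.mp (hZ (hh x hx)) g, mul_inv_cancel_right]
    rw [show g * h * x * (g * h)⁻¹ * x⁻¹ =
      (g * (h * x * h⁻¹ * x⁻¹) * g⁻¹) * (g * x * g⁻¹ * x⁻¹) by group, hc]
    exact mul_mem (hh x hx) (hg x hx)
  inv_mem' := fun {g} hg x hx => by
    have hc := inv_mem (hg x hx)
    rw [show g⁻¹ * x * g⁻¹⁻¹ * x⁻¹ = g⁻¹ * (g * x * g⁻¹ * x⁻¹)⁻¹ * g by group,
      mem_center_iff.mp (hZ hc) g⁻¹, mul_assoc, inv_mul_cancel, mul_one]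
    exact hc

theorem actMod_normal {T : Set H} {Z : Subgroup H} (hZ : Z ≤ center H)
    (hT : ∀ g : H, ∀ x ∈ T, g * x * g⁻¹ ∈ T) : (actMod T Z hZ).Normal := by
  refine ⟨fun n hn g x hx => ?_⟩
  have h := hn (g⁻¹ * x * g⁻¹⁻¹) (hT g⁻¹ x hx)
  have hc : g * (n * (g⁻¹ * x * g⁻¹⁻¹) * n⁻¹ * (g⁻¹ * x * g⁻¹⁻¹)⁻¹) * g⁻¹ ∈ Z := by
    rw [mem_center_iff.mp (hZ h) g, mul_inv_cancel_right]; exact h
  convert hc using 1
  group

/-- A subgroup containing a Sylow 2-subgroup and all elements of odd order is everything. -/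
theorem eq_top_of_odd_mem [Finite H] (S : Sylow 2 H) {K : Subgroup H} (hS : (S : Subgroup H) ≤ K)
    (hodd : ∀ d : H, Odd (orderOf d) → d ∈ K) : K = ⊤ := by
  haveI : Fact (Nat.Prime 2) := ⟨Nat.prime_two⟩
  rw [← Subgroup.index_eq_one]
  by_contra hne
  obtain ⟨q, hq, hqd⟩ := Nat.exists_prime_and_dvd hne
  haveI : Fact q.Prime := ⟨hq⟩
  rcases hq.eq_two_or_odd' with rfl | hqodd
  · exact S.not_dvd_index (hqd.trans (index_dvd_of_le hS))
  · obtain ⟨P⟩ : Nonempty (Sylow q H) := inferInstance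
    refine P.not_dvd_index (hqd.trans (index_dvd_of_le fun x hx => hodd x ?_))
    obtain ⟨k, hk⟩ := P.2 ⟨x, hx⟩
    exact (hqodd.pow).of_dvd_nat (orderOf_dvd_of_pow_eq_one (congrArg Subtype.val hk : x ^ q ^ k = 1))

/-- The order of a subgroup in terms of its image and its kernel part. -/
theorem card_eq_map_mul_inf {M : Type*} [Group M] (φ : H →* M) {C : Subgroup H}
    (hC : ∀ x, φ x = 1 ↔ x ∈ C) (A : Subgroup H) :
    Nat.card A = Nat.card (A.map φ) * Nat.card ↥(A ⊓ C) := by
  set f := φ.comp A.subtype with hf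
  rw [← f.ker.card_mul_index, index_ker, mul_comm]
  congr 1
  · rw [show f.range = A.map φ by rw [hf, MonoidHom.range_comp, range_subtype]]
  · rw [show f.ker = C.subgroupOf A from Subgroup.ext fun x => hC x]
    rw [← card_map_of_injective A.subtype_injective, subgroupOf_map_subtype, inf_comm]

/-- The largest elementary abelian 2-subgroups lie in the 2-core, under self-centralizing 2-core,
absence of sections of type S₄ and class at most two of the 2-subgroups. -/
theorem maxE_le_pCore : ∀ (n : ℕ) (H : Type u) [Group H] [Finite H], Nat.card H = n →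
    centralizer (Cfsg.pCore 2 H : Set H) ≤ Cfsg.pCore 2 H →
    ¬ Cfsg.Involves (Equiv.Perm (Fin 4)) H →
    (∀ P : Subgroup H, IsPGroup 2 P → ⁅⁅P, P⁆, P⁆ = ⊥) →
    ∀ A : Subgroup H, Cfsg.IsElementaryAbelian 2 A →
      (∀ B : Subgroup H, Cfsg.IsElementaryAbelian 2 B → Nat.card B ≤ Nat.card A) →
      A ≤ Cfsg.pCore 2 H := by
  intro n
  induction n using Nat.strong_induction_on with
  | _ n ih =>
  intro H _ _ hn hcon hS4 hcl A hAel hAmax
  classical
  haveI : Fact (Nat.Prime 2) := ⟨Nat.prime_two⟩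
  set Q := Cfsg.pCore 2 H with hQdef
  haveI hQn : Q.Normal := Solvable.pCore_normal 2
  have hQp : IsPGroup 2 Q := Solvable.isPGroup_pCore 2
  have hsub : ∀ K : Subgroup H, K.Normal → K ≠ ⊤ → A ≤ K → Q ≤ K → A ≤ Q := by
    intro K hKn hKtop hAK hQK
    haveI := hKn
    haveI : (Cfsg.pCore 2 K).Characteristic := characteristic_iff_map_le.mpr fun φ =>
      Solvable.le_pCore 2 ((Solvable.pCore_normal 2).map _ φ.surjective)
        ((Solvable.isPGroup_pCore 2).map _)
    have hQK' : Q.subgroupOf K ≤ Cfsg.pCore 2 K :=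
      Solvable.le_pCore 2 inferInstance (hQp.comap_of_injective K.subtype K.subtype_injective)
    have h := ih _ (hn ▸ Solvable.card_lt_of_ne_top hKtop) K rfl ?_ (fun h => hS4 (involves_of_subgroup K h))
      ?_ (A.subgroupOf K) (Thompson.elab_subgroupOf hAel K) ?_
    · intro a ha
      refine Solvable.le_pCore 2 ConjAct.normal_of_characteristic_of_normal
        ((Solvable.isPGroup_pCore 2).map K.subtype) ⟨⟨a, hAK ha⟩, h ha, rfl⟩
    · intro x hx
      refine hQK' (hcon (mem_centralizer_iff.mpr fun q hq => ?_))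
      exact congrArg Subtype.val (mem_centralizer_iff.mp hx ⟨q, hQK hq⟩ (hQK' hq))
    · intro P hP
      refine Subgroup.map_injective K.subtype_injective ?_
      rw [map_commutator, map_commutator, Subgroup.map_bot]
      exact hcl _ (hP.map _)
    · intro B hB
      rw [Nat.card_congr (subgroupOfEquivOfLe hAK).toEquiv, ← card_map_of_injective K.subtype_injective]
      exact hAmax _ (Thompson.elab_map K.subtype hB)
  have hAp : IsPGroup 2 A := Thompson.elab_isPGroup hAel
  obtain ⟨S, hAS⟩ := hAp.exists_le_sylow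
  have hQS : Q ≤ S := Fitting.pCore_le_sylow S
  have hclS : ⁅(S : Subgroup H), (S : Subgroup H)⁆ ≤ centralizer ((S : Subgroup H) : Set H) :=
    commutator_eq_bot_iff_le_centralizer.mp (hcl _ S.2)
  have hcomm : ∀ s ∈ S, ∀ t ∈ S, ∀ w ∈ S, w * (s * t * s⁻¹ * t⁻¹) = (s * t * s⁻¹ * t⁻¹) * w :=
    fun s hs t ht w hw => mem_centralizer_iff.mp (hclS (commutator_mem_commutator hs ht)) w hw
  set U := Q ⊓ centralizer (Q : Set H) with hU
  haveI hUn : U.Normal := Subgroup.normal_inf_normal _ _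
  have hUc : ∀ v ∈ U, ∀ w ∈ U, v * w = w * v := fun v hv w hw => mem_centralizer_iff.mp hw.2 v hv.1
  -- the central involutions of the Sylow subgroup
  set Z0 : Set H := {z | z ∈ S ∧ z * z = 1 ∧ ∀ s ∈ S, s * z = z * s} with hZ0
  have hcentU : ∀ z : H, (∀ s ∈ S, s * z = z * s) → z ∈ U := fun z hz => by
    have h1 : z ∈ centralizer (Q : Set H) := mem_centralizer_iff.mpr fun q hq => hz q (hQS hq)
    exact ⟨hcon h1, h1⟩
  let U0 : Subgroup H :=
    { carrier := {z | z ∈ U ∧ z * z = 1}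
      one_mem' := ⟨U.one_mem, one_mul 1⟩
      mul_mem' := fun {v w} hv hw => ⟨U.mul_mem hv.1 hw.1, by
        rw [show v * w * (v * w) = v * (w * v) * w by group, hUc w hw.1 v hv.1,
          show v * (v * w) * w = (v * v) * (w * w) by group, hv.2, hw.2, one_mul]⟩
      inv_mem' := fun {v} hv => ⟨U.inv_mem hv.1, by rw [← mul_inv_rev, hv.2, inv_one]⟩ }
  haveI : U0.Normal := ⟨fun n hn g => ⟨hUn.conj_mem n hn.1 g, by
    rw [conj_mul, hn.2, mul_one, mul_inv_cancel]⟩⟩
  set V := normalClosure Z0 with hV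
  have hVU : V ≤ U0 := normalClosure_le_normal fun z hz => ⟨hcentU z hz.2.2, hz.2.1⟩
  set C := centralizer (V : Set H) with hC
  have hQC : Q ≤ C := fun x hx => mem_centralizer_iff.mpr fun v hv =>
    (mem_centralizer_iff.mp (hVU hv).1.2 x hx).symm
  have hVS : V ≤ S := fun v hv => hQS (hVU hv).1.1
  have hVc : ∀ v ∈ V, ∀ w ∈ V, v * w = w * v := fun v hv w hw => hUc v (hVU hv).1 w (hVU hw).1
  letI : CommGroup V :=
    { (inferInstance : Group V) with mul_comm := fun a b => Subtype.ext (hVc a a.2 b b.2) }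
  set φ : H →* MulAut V := MulAut.conjNormal with hφ
  have hker : ∀ x : H, φ x = 1 ↔ x ∈ C := by
    intro x
    refine ⟨fun h => mem_centralizer_iff.mpr fun v hv => ?_, fun hx => MulEquiv.ext fun v => ?_⟩
    · have h1 := congrArg Subtype.val (DFunLike.congr_fun h (⟨v, hv⟩ : V))
      rw [hφ, MulAut.conjNormal_apply] at h1
      exact (mul_inv_eq_iff_eq_mul.mp h1).symm
    · refine Subtype.ext ?_
      rw [hφ, MulAut.conjNormal_apply, MulAut.one_apply, mul_inv_eq_iff_eq_mul]
      exact (mem_centralizer_iff.mp hx v v.2).symm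
  have hA2 : ∀ a ∈ A, a * a = 1 := fun a ha => by rw [← pow_two]; exact hAel.2 a ha
  have hsylow : ∀ P ≤ φ.range, IsPGroup 2 P → ∃ g : H, ∀ x ∈ P, ∃ s ∈ S, x = φ (g * s * g⁻¹) := by
    intro P hP hPp
    set S1 := S.mapSurjective φ.rangeRestrict_surjective with hS1
    obtain ⟨R, hR⟩ := (hPp.comap_of_injective φ.range.subtype φ.range.subtype_injective :
      IsPGroup 2 (P.subgroupOf φ.range)).exists_le_sylow
    obtain ⟨g, rfl⟩ := MulAction.exists_smul_eq φ.range S1 R
    obtain ⟨g0, hg0⟩ := φ.rangeRestrict_surjective g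
    refine ⟨g0, fun x hx => ?_⟩
    have hxR := hR (show (⟨x, hP hx⟩ : φ.range) ∈ P.subgroupOf φ.range from hx)
    rw [Sylow.coe_subgroup_smul, Subgroup.mem_pointwise_smul_iff_inv_smul_mem, hS1,
      Sylow.coe_mapSurjective] at hxR
    obtain ⟨s, hs, hsx⟩ := hxR
    refine ⟨s, hs, ?_⟩
    have h1 := congrArg Subtype.val hsx
    simp only [MulAut.smul_def, MulAut.conj_inv_apply, Subgroup.coe_mul, InvMemClass.coe_inv,
      MonoidHom.coe_rangeRestrict] at h1
    rw [← hg0, MonoidHom.coe_rangeRestrict] at h1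
    rw [map_mul, map_mul, map_inv, h1]
    group
  have hgood : Spread.Good φ.range := by
    refine ⟨fun v => Subtype.ext (hVU v.2).2, fun P hP hPp => ?_, ?_⟩
    · obtain ⟨g, hg⟩ := hsylow P hP hPp
      intro x hx y hy
      obtain ⟨s, hs, rfl⟩ := hg x hx
      obtain ⟨t, ht, rfl⟩ := hg y hy
      have h1 : φ s * φ t = φ t * φ s := by
        have h2 : φ (s * t * s⁻¹ * t⁻¹) = 1 :=
          (hker _).mpr (mem_centralizer_iff.mpr fun v hv => hcomm s hs t ht v (hVS hv))
        rw [map_mul, map_mul, map_mul, map_inv, map_inv, mul_inv_eq_one, mul_inv_eq_iff_eq_mul] at h2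
        exact h2
      simp only [map_mul, map_inv]
      rw [conj_mul, conj_mul, h1]
    · rintro _ ⟨g, rfl⟩ _ ⟨h, rfl⟩ ha hb h3
      by_contra hne
      refine hS4 (involves_s4_of_action V (hQp.to_le fun v hv => (hVU hv).1.1) ?_)
      have hmk : ∀ x : H, (QuotientGroup.mk' C x = 1) ↔ φ x = 1 :=
        fun x => (QuotientGroup.eq_one_iff x).trans (hker x).symm
      refine ⟨QuotientGroup.mk' C g, QuotientGroup.mk' C (g * h), fun h0 => hne ?_, ⟨1, ?_⟩, ?_⟩
      · rw [← map_mul]; exact (hmk _).mp h0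
      · rw [pow_one, ← map_pow]
        exact (hmk _).mpr (by rw [map_pow, map_mul]; exact h3)
      · rw [← mul_eq_one_iff_eq_inv, ← map_inv, ← map_mul, ← map_mul, ← map_mul]
        refine (hmk _).mpr ?_
        simp only [map_mul, map_inv]
        rw [inv_eq_of_mul_eq_one_right ha]
        simp only [← mul_assoc, ha, one_mul]
        rw [mul_assoc (φ h), ha, mul_one, hb]
  set A' := A.map φ with hA'
  have hoff : Spread.Off φ.range A' := by
    refine ⟨φ.range_eq_map ▸ Subgroup.map_mono le_top, ?_, ?_, ?_⟩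
    · rintro _ ⟨a, ha, rfl⟩
      rw [← map_mul, hA2 a ha, map_one]
    · rintro _ ⟨a, ha, rfl⟩ _ ⟨b, hb, rfl⟩ v
      refine Subtype.ext ?_
      simp only [hφ, MulAut.conjNormal_apply, Subgroup.coe_mul, InvMemClass.coe_inv]
      rw [hcomm a (hAS ha) v (hVS v.2) b (hAS hb), mul_inv_cancel_right]
    · intro A0 hA0
      set A1 := A ⊓ A0.comap φ with hA1
      have h1 : A1.map φ = A0 := by
        refine le_antisymm (map_le_iff_le_comap.mpr inf_le_right) fun x hx => ?_
        obtain ⟨a, ha, rfl⟩ := hA0 hx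
        exact ⟨a, ⟨ha, hx⟩, rfl⟩
      have h2 : A1 ⊓ C = A ⊓ C := by
        refine le_antisymm (inf_le_inf_right _ inf_le_left) fun x hx => ⟨⟨hx.1, ?_⟩, hx.2⟩
        show φ x ∈ A0
        rw [(hker x).mpr hx.2]
        exact one_mem A0
      set W0 := (Spread.fx A0).map V.subtype with hW0
      have hW0el : Cfsg.IsElementaryAbelian 2 W0 :=
        ⟨⟨⟨fun x y => by
          obtain ⟨⟨_, x', hx', rfl⟩, ⟨_, y', hy', rfl⟩⟩ := x, y
          exact Subtype.ext (hVc x' x'.2 y' y'.2)⟩⟩, by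
          rintro _ ⟨x', -, rfl⟩
          rw [pow_two]
          exact (hVU x'.2).2⟩
      have hcen : A1 ≤ centralizer (W0 : Set H) := by
        intro a ha
        refine mem_centralizer_iff.mpr ?_
        rintro _ ⟨w, hw, rfl⟩
        have h := congrArg Subtype.val (hw (φ a) ha.2)
        rw [hφ, MulAut.conjNormal_apply, mul_inv_eq_iff_eq_mul] at h
        exact h.symm
      have hBel := Thompson.elab_sup (Thompson.elab_mono hAel inf_le_left) hW0el hcen
      have h3 := Solvable.card_sup_mul_card_inf (A := A1) (K := W0)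
        (hcen.trans (centralizer_le_normalizer _))
      have h4 : Nat.card ↥(A1 ⊓ W0) ≤ Nat.card (Spread.fx A') := by
        rw [← card_map_of_injective V.subtype_injective (K := Spread.fx A')]
        refine Subgroup.card_le_of_le ?_
        rintro x ⟨hx1, w, -, rfl⟩
        refine ⟨w, ?_, rfl⟩
        rintro _ ⟨a, ha, rfl⟩
        refine Subtype.ext ?_
        rw [hφ, MulAut.conjNormal_apply]
        show a * (w : H) * a⁻¹ = w
        exact mul_inv_eq_iff_eq_mul.mpr (Thompson.elab_commute hAel ha hx1.1)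
      have h5 := Nat.mul_le_mul (hAmax _ hBel) h4
      rw [h3, card_eq_map_mul_inf φ hker A1, h1, h2, card_eq_map_mul_inf φ hker A,
        hW0, card_map_of_injective V.subtype_injective, mul_right_comm,
        mul_right_comm (Nat.card A')] at h5
      exact Nat.le_of_mul_le_mul_right h5 Nat.card_pos
  have hN2 := Spread.isPGroup_nclIn φ.range hgood A' hoff
  set N := Spread.nclIn φ.range A' with hN
  have hNX : N ≤ φ.range := Spread.nclIn_le hoff.le
  haveI hNn : (N.subgroupOf φ.range).Normal :=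
    (normal_subgroupOf_iff_le_normalizer hNX).mpr (Spread.le_normalizer_nclIn _ _)
  have hNS : ∀ y : H, φ y ∈ N → ∃ s ∈ S, φ y = φ s := by
    intro y hy
    have h1 : N.subgroupOf φ.range ≤
        ((S.mapSurjective φ.rangeRestrict_surjective : Sylow 2 φ.range) : Subgroup φ.range) :=
      (Solvable.le_pCore 2 hNn (hN2.comap_of_injective φ.range.subtype φ.range.subtype_injective)).trans
        (Fitting.pCore_le_sylow _)
    obtain ⟨s, hs, hsy⟩ := h1 (show (⟨φ y, y, rfl⟩ : φ.range) ∈ N.subgroupOf φ.range from hy)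
    exact ⟨s, hs, (congrArg Subtype.val hsy).symm⟩
  have hAC : A ≤ C := by
    intro a ha
    haveI hYn : (N.comap φ).Normal := ⟨fun n hn g => by
      show φ (g * n * g⁻¹) ∈ N
      rw [map_mul, map_mul, map_inv]
      exact (mem_normalizer_iff.mp (Spread.le_normalizer_nclIn φ.range A' (MonoidHom.mem_range.mpr ⟨g, rfl⟩)) _).mp hn⟩
    have h1 : V ≤ centralizer ((N.comap φ : Subgroup H) : Set H) := by
      refine normalClosure_le_normal fun z hz => mem_centralizer_iff.mpr fun y hy => ?_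
      obtain ⟨s, hs, hsy⟩ := hNS y hy
      have h := congrArg Subtype.val (DFunLike.congr_fun hsy (⟨z, subset_normalClosure hz⟩ : V))
      rw [hφ, MulAut.conjNormal_apply, MulAut.conjNormal_apply] at h
      have h2 : s * z * s⁻¹ = z := by rw [hz.2.2 s hs, mul_inv_cancel_right]
      exact mul_inv_eq_iff_eq_mul.mp (h.trans h2)
    exact mem_centralizer_iff.mpr fun v hv =>
      (mem_centralizer_iff.mp (h1 hv) a (Spread.le_nclIn _ _ (mem_map_of_mem φ ha))).symm
  by_cases hCtop : C = ⊤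
  swap
  · exact hsub C inferInstance hCtop hAC hQC
  have hZ0c : ∀ z ∈ Z0, z ∈ center H := fun z hz => mem_center_iff.mpr fun g =>
    (mem_centralizer_iff.mp (hCtop ▸ mem_top g : g ∈ C) z (subset_normalClosure hz)).symm
  -- the involutions of the centre of the core
  set K0 := actMod (U0 : Set H) (center H) le_rfl with hK0
  have hSK0 : (S : Subgroup H) ≤ K0 := by
    intro s hs x hx
    have hxS : x ∈ S := hQS hx.1.1
    have hc : s * x * s⁻¹ * x⁻¹ ∈ U0 :=
      mul_mem (show s * x * s⁻¹ ∈ U0 from ‹U0.Normal›.conj_mem x hx s) (inv_mem hx)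
    exact hZ0c _ ⟨hQS hc.1.1, hc.2, fun t ht => hcomm s hs x hxS t ht⟩
  haveI hK0n : K0.Normal := actMod_normal le_rfl fun g x hx => ‹U0.Normal›.conj_mem x hx g
  by_cases hK0top : K0 = ⊤
  swap
  · exact hsub K0 hK0n hK0top (hAS.trans hSK0) (hQS.trans hSK0)
  have hoddU : ∀ d : H, Odd (orderOf d) → ∀ v ∈ U, d * v * d⁻¹ = v := by
    intro d hd v hv
    obtain ⟨j, hj⟩ := hQp ⟨v, hv.1⟩
    refine fix_of_fix_involutions hUc hd (le_normalizer_of_normal (mem_top d)) (fun w hw hw2 => ?_) j v hv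
      (congrArg Subtype.val hj)
    have hmem : w ∈ U0 := ⟨hw, hw2⟩
    refine fix_of_comm_central hd ((hK0top ▸ mem_top d : d ∈ K0) w hmem) ⟨1, ?_⟩
    rw [pow_one, pow_two]
    exact (mul_mem (‹U0.Normal›.conj_mem w hmem d) (inv_mem hmem) : d * w * d⁻¹ * w⁻¹ ∈ U0).2
  set ZS := (S : Subgroup H) ⊓ centralizer ((S : Subgroup H) : Set H) with hZS
  have hZSU : ZS ≤ U := fun z hz => hcentU z fun s hs => mem_centralizer_iff.mp hz.2 s hs
  have hZSc : ZS ≤ center H := by
    have h : centralizer (ZS : Set H) = ⊤ := eq_top_of_odd_mem S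
      (fun s hs => mem_centralizer_iff.mpr fun z hz => (mem_centralizer_iff.mp hz.2 s hs).symm)
      (fun d hd => mem_centralizer_iff.mpr fun z hz =>
        (mul_inv_eq_iff_eq_mul.mp (hoddU d hd z (hZSU hz))).symm)
    exact fun z hz => mem_center_iff.mpr fun g =>
      (mem_centralizer_iff.mp (h ▸ mem_top g : g ∈ centralizer (ZS : Set H)) z hz).symm
  set K1 := actMod (Q : Set H) ZS hZSc with hK1
  have hSK1 : (S : Subgroup H) ≤ K1 := fun s hs x hx =>
    mem_inf.mpr ⟨mul_mem (mul_mem (mul_mem hs (hQS hx)) (inv_mem hs)) (inv_mem (hQS hx)),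
      mem_centralizer_iff.mpr fun t ht => hcomm s hs x (hQS hx) t ht⟩
  haveI hK1n : K1.Normal := actMod_normal hZSc fun g x hx => hQn.conj_mem x hx g
  by_cases hK1top : K1 = ⊤
  swap
  · exact hsub K1 hK1n hK1top (hAS.trans hSK1) (hQS.trans hSK1)
  have hodd1 : ∀ d : H, Odd (orderOf d) → d = 1 := by
    intro d hd
    have hdQ : d ∈ Q := hcon (mem_centralizer_iff.mpr fun x hx => by
      have hz : d * x * d⁻¹ * x⁻¹ ∈ ZS := (hK1top ▸ mem_top d : d ∈ K1) x hx
      obtain ⟨k, hk⟩ := S.2 ⟨_, hz.1⟩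
      exact (mul_inv_eq_iff_eq_mul.mp
        (fix_of_comm_central hd (hZSc hz) ⟨k, congrArg Subtype.val hk⟩)).symm)
    obtain ⟨k, hk⟩ := hQp ⟨d, hdQ⟩
    exact orderOf_eq_one_iff.mp (Nat.eq_one_of_dvd_coprimes ((Nat.coprime_two_left.mpr hd).pow_left k)
      (orderOf_dvd_of_pow_eq_one (congrArg Subtype.val hk)) dvd_rfl)
  have hStop : (S : Subgroup H) = ⊤ :=
    eq_top_of_odd_mem S le_rfl fun d hd => by rw [hodd1 d hd]; exact one_mem _
  intro a _
  exact Solvable.le_pCore 2 (hStop ▸ inferInstance) S.2 (by rw [hStop]; exact mem_top a)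

/-- The factorization by the normalizer of the elementary abelian Thompson subgroup in 2-constrained
groups without a section of type S₄ with Sylow 2-subgroups of class at most two. -/
theorem thompson_factor {G : Type u} [Group G] [Finite G] (hcon : Cfsg.IsPConstrained 2 G)
    (hS4 : ¬ Cfsg.Involves (Equiv.Perm (Fin 4)) G) (S : Sylow 2 G)
    (hcl : ⁅⁅(S : Subgroup G), (S : Subgroup G)⁆, (S : Subgroup G)⁆ = ⊥) :
    normalizer ((Cfsg.thompsonSubgroupOf 2 (S : Subgroup G)) : Set G) ⊔ Cfsg.pPrimeCore 2 G = ⊤ := by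
  haveI : Fact (Nat.Prime 2) := ⟨Nat.prime_two⟩
  set O := Cfsg.pPrimeCore 2 G with hO
  set π := QuotientGroup.mk' O with hπ
  have hcop : (Nat.card O).Coprime 2 := Solvable.coprime_card_pPrimeCore 2
  set S' := S.mapSurjective (QuotientGroup.mk'_surjective O) with hS'
  have hS'eq : (S' : Subgroup (G ⧸ O)) = (S : Subgroup G).map π := Sylow.coe_mapSurjective _ S
  have hclP : ∀ P : Subgroup (G ⧸ O), IsPGroup 2 P → ⁅⁅P, P⁆, P⁆ = ⊥ := by
    intro P hP
    obtain ⟨R, hR⟩ := hP.exists_le_sylow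
    obtain ⟨g, rfl⟩ := MulAction.exists_smul_eq (G ⧸ O) S' R
    have h : ∀ T : Subgroup (G ⧸ O), ⁅⁅T, T⁆, T⁆ = ⊥ → ⁅⁅T.map (MulAut.conj g).toMonoidHom,
        T.map (MulAut.conj g).toMonoidHom⁆, T.map (MulAut.conj g).toMonoidHom⁆ = ⊥ := fun T hT => by
      rw [← map_commutator, ← map_commutator, hT, Subgroup.map_bot]
    refine le_bot_iff.mp ((commutator_mono (commutator_mono hR hR) hR).trans (le_of_eq ?_))
    rw [Sylow.coe_subgroup_smul]
    refine h _ ?_
    rw [hS'eq, ← map_commutator, ← map_commutator, hcl, Subgroup.map_bot]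
  have hle : ∀ B ∈ Thompson.maxIn 2 (S' : Subgroup (G ⧸ O)), B ≤ Cfsg.pCore 2 (G ⧸ O) := by
    intro B hB
    refine maxE_le_pCore _ (G ⧸ O) rfl (centralizer_pCore_quotient_le hcon)
      (fun h => hS4 (involves_of_quotient O h)) hclP B hB.2.1 fun X hX => ?_
    obtain ⟨R, hR⟩ := (Thompson.elab_isPGroup hX).exists_le_sylow
    obtain ⟨g, hg⟩ := MulAction.exists_smul_eq (G ⧸ O) R S'
    refine (card_map_of_injective (f := (MulAut.conj g).toMonoidHom) (MulAut.conj g).injective (K := X)).symm.trans_le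
      (hB.2.2 _ ?_ (Thompson.elab_map _ hX))
    rw [← hg, Sylow.coe_subgroup_smul]
    exact Subgroup.map_mono hR
  -- the image of the Thompson subgroup
  have hinj : Function.Injective (π.comp (S : Subgroup G).subtype) := by
    rw [injective_iff_map_eq_one]
    intro x hx
    have : (x : G) ∈ (S : Subgroup G) ⊓ O := ⟨x.2, (QuotientGroup.eq_one_iff _).mp hx⟩
    rw [isPGroup_inf_coprime S.2 hcop, mem_bot] at this
    exact Subtype.ext this
  set e : (S : Subgroup G) ≃* (π.comp (S : Subgroup G).subtype).range := MonoidHom.ofInjective hinj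
  have hrange : (π.comp (S : Subgroup G).subtype).range = (S' : Subgroup (G ⧸ O)) := by
    rw [hS'eq, MonoidHom.range_comp, range_subtype]
  have hmap : (Cfsg.thompsonSubgroupOf 2 (S : Subgroup G)).map π =
      Cfsg.thompsonSubgroupOf 2 (S' : Subgroup (G ⧸ O)) := by
    rw [← hrange]
    show _ = (Cfsg.thompsonSubgroup 2 _).map _
    rw [← Thompson.map_thompsonSubgroup e, Cfsg.thompsonSubgroupOf, map_map, map_map]
    rfl
  -- normality of the image
  have heq : Cfsg.thompsonSubgroupOf 2 (S' : Subgroup (G ⧸ O)) =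
      Cfsg.thompsonSubgroupOf 2 (Cfsg.pCore 2 (G ⧸ O)) := by
    rw [Thompson.thompsonSubgroupOf_eq, Thompson.thompsonSubgroupOf_eq]
    refine congrArg sSup (Set.ext fun B => ⟨fun hB => ⟨hle B hB, hB.2.1, fun X hX hX' =>
      hB.2.2 X (hX.trans (Fitting.pCore_le_sylow S')) hX'⟩, fun hB => ?_⟩)
    obtain ⟨B0, hB0⟩ := Thompson.exists_maxIn (p := 2) (S' : Subgroup (G ⧸ O))
    exact ⟨hB.1.trans (Fitting.pCore_le_sylow S'), hB.2.1, fun X hX hX' =>
      (hB0.2.2 X hX hX').trans (hB.2.2 B0 (hle B0 hB0) hB0.2.1)⟩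
  have hn : ((Cfsg.thompsonSubgroupOf 2 (S : Subgroup G)).map π).Normal := by
    rw [hmap, heq, ← normalizer_eq_top_iff, eq_top_iff]
    refine le_trans ?_ (Thompson.normalizer_le_normalizer_thompsonSubgroupOf _)
    haveI := Solvable.pCore_normal (G := G ⧸ O) 2
    exact le_normalizer_of_normal
  refine eq_top_iff.mpr fun g _ => ?_
  have hg : g ∈ normalizer ((Cfsg.thompsonSubgroupOf 2 (S : Subgroup G) ⊔ O : Subgroup G) : Set G) := by
    have h1 := hn.comap π
    rw [comap_map_eq, QuotientGroup.ker_mk'] at h1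
    haveI := h1
    exact le_normalizer_of_normal (mem_top g)
  obtain ⟨n, hn', hng⟩ := exists_mul_mem_normalizer (p := 2)
    (S.2.to_le (Thompson.thompsonSubgroupOf_le _)) hcop hg
  rw [show g = n⁻¹ * (n * g) by group]
  exact mul_mem (mem_sup_right (inv_mem hn')) (mem_sup_left hng)

end CfsgLib.Kinf.ClassTwoCon
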