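import Cfsg.Agent.Kinf.LowerCase

/-!
An element outside `O_p` acting in low degree on a critical subgroup, when a K-infinity subgroup is
not normal.
-/

set_option autoImplicit false
set_option linter.unusedSectionVars false
set_option linter.style.haveILetI false

namespace CfsgLib.Kinf

open Subgroup CfsgLib.Functor
open scoped CfsgLib.Functor commutatorElement

universe u

variable {G : Type u} [Group G] [Finite G] {p : ℕ} [Fact p.Prime]

theorem conjNormal_eq_one_iff {T : Subgroup G} [T.Normal] {x : G} :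
    (MulAut.conjNormal x : MulAut T) = 1 ↔ x ∈ centralizer (T : Set G) := by
  constructor
  · intro h
    refine mem_centralizer_iff.2 fun t ht => ?_
    have := congrArg (fun φ : MulAut T => ((φ ⟨t, ht⟩ : T) : G)) h
    simp only [MulAut.conjNormal_apply, MulAut.one_apply] at this
    calc t * x = (x * t * x⁻¹) * x := by rw [this]
      _ = x * t := by group
  · intro h
    ext t
    rw [MulAut.conjNormal_apply, MulAut.one_apply, ← mem_centralizer_iff.1 h t t.2, mul_inv_cancel_right]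

theorem mem_pCore_of_killsBelow {A : Subgroup G} [A.Normal] (hAT : A ≤ Cfsg.pCore p G)
    (hA3 : ⁅Cfsg.pCore p G, A⁆ ≤ A ⊓ centralizer (A : Set G))
    (hA4 : Cfsg.pCore p G ⊓ centralizer (A : Set G) = A ⊓ centralizer (A : Set G))
    (hC : centralizer (Cfsg.pCore p G : Set G) ≤ Cfsg.pCore p G) {g : G}
    (hg : KillsBelow g 1 A) : g ∈ Cfsg.pCore p G := by
  have hTp : IsPGroup p (Cfsg.pCore p G) := Solvable.isPGroup_pCore p
  obtain ⟨D, hDn, hD⟩ := exists_stabilizer A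
  refine Solvable.le_pCore p hDn (isPGroup_of_no_coprime fun x hx hco => ?_) ((hD g).2 hg)
  have hxA : x ∈ centralizer (A : Set G) :=
    mem_centralizer_of_killsBelow (hTp.to_le hAT) hco ((hD x).1 hx)
  have hfix : (MulAut.conjNormal x : MulAut (Cfsg.pCore p G)) = 1 := by
    refine aut_eq_one_of_critical hTp hAT hA3 hA4 _ (hco.coprime_dvd_left (orderOf_map_dvd _ x))
      fun a ha => Subtype.ext ?_
    rw [MulAut.conjNormal_apply, ← mem_centralizer_iff.1 hxA _ ha, mul_inv_cancel_right]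
  obtain ⟨k, hk⟩ := IsPGroup.iff_orderOf.1 hTp ⟨x, hC (conjNormal_eq_one_iff.1 hfix)⟩
  rw [Subgroup.orderOf_mk] at hk
  rcases k with _ | k
  · simpa using hk
  · exact absurd (hk ▸ dvd_pow_self p k.succ_ne_zero)
      ((Fact.out : p.Prime).coprime_iff_not_dvd.1 hco.symm)

/-- The element produced by failure of normality of a K-infinity subgroup. -/
theorem exists_quadratic_of_kInf (S : Sylow p G) (A : Subgroup G) [A.Normal]
    (hAT : A ≤ Cfsg.pCore p G) (hA2 : ⁅A, A⁆ ≤ centralizer (A : Set G))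
    (hA3 : ⁅Cfsg.pCore p G, A⁆ ≤ A ⊓ centralizer (A : Set G))
    (hA4 : Cfsg.pCore p G ⊓ centralizer (A : Set G) = A ⊓ centralizer (A : Set G))
    (hK : ¬ (Cfsg.inducedFunctor (G := G) Cfsg.kInfLower (S : Subgroup G)).Normal ∨
      ¬ (Cfsg.inducedFunctor (G := G) Cfsg.kInfUpper (S : Subgroup G)).Normal) :
    ∃ g : G, g ∈ (S : Subgroup G) ∧ g ∉ Cfsg.pCore p G ∧
      Cfsg.iterCommutator A (zpowers g) 3 ≤ A ⊓ centralizer (A : Set G) ∧
      ⁅⁅A ⊓ centralizer (A : Set G), zpowers g⁆, zpowers g⁆ = ⊥ ∧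
      (centralizer (Cfsg.pCore p G : Set G) ≤ Cfsg.pCore p G →
        ∃ U V : Subgroup G, Cfsg.IsChiefFactor U V ∧ U ≤ A ∧
          ⁅⁅U, zpowers g⁆, zpowers g⁆ ≤ V ∧ ¬ ⁅U, zpowers g⁆ ≤ V) := by
  classical
  by_contra hcon
  push Not at hcon
  suffices h : (Cfsg.inducedFunctor (G := G) Cfsg.kInfLower (S : Subgroup G)).Normal ∧
      (Cfsg.inducedFunctor (G := G) Cfsg.kInfUpper (S : Subgroup G)).Normal from
    hK.elim (fun hn => hn h.1) (fun hn => hn h.2)
  have hcondB : ∀ B Q : Subgroup G, B ∈ Cfsg.kLowerStarFamily Q → A ≤ Q →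
      ⁅B, A ⊓ centralizer (A : Set G)⁆ ≤ B ⊓ centralizer (B : Set G) → ∀ g ∈ B,
      Cfsg.iterCommutator A (zpowers g) 3 ≤ A ⊓ centralizer (A : Set G) ∧
      ⁅⁅A ⊓ centralizer (A : Set G), zpowers g⁆, zpowers g⁆ = ⊥ := by
    intro B Q hB hAQ hBZA g hg
    refine ⟨(classTwo_iter hB.1 (hAQ.trans hB.2.1) hg).le.trans bot_le, le_bot_iff.1 ?_⟩
    refine (commutator_mono (commutator_mono le_rfl (zpowers_le.2 hg)) (zpowers_le.2 hg)).trans ?_
    rw [commutator_comm (A ⊓ centralizer (A : Set G)) B]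
    exact (commutator_mono hBZA le_rfl).trans
      (commutator_eq_bot_iff_le_centralizer.2 inf_le_right).le
  have h3 : ∀ g : G, ⁅⁅A, zpowers g⁆, zpowers g⁆ ≤ A ⊓ centralizer (A : Set G) →
      Cfsg.iterCommutator A (zpowers g) 3 ≤ A ⊓ centralizer (A : Set G) :=
    fun g h => (iterCommutator_succ_le (U := A) (zpowers g) 2).trans h
  by_cases hC : centralizer (Cfsg.pCore p G : Set G) ≤ Cfsg.pCore p G
  · have hstab : ∀ g ∈ (S : Subgroup G), KillsBelow g 1 A → g ∈ Cfsg.pCore p G :=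
      fun g _ hg => mem_pCore_of_killsBelow hAT hA3 hA4 hC hg
    have hquad : ∀ g ∈ (S : Subgroup G),
        Cfsg.iterCommutator A (zpowers g) 3 ≤ A ⊓ centralizer (A : Set G) →
        ⁅⁅A ⊓ centralizer (A : Set G), zpowers g⁆, zpowers g⁆ = ⊥ → g ∉ Cfsg.pCore p G →
        ∀ U V : Subgroup G, Cfsg.IsChiefFactor U V → U ≤ A →
          ⁅⁅U, zpowers g⁆, zpowers g⁆ ≤ V → ⁅U, zpowers g⁆ ≤ V :=
      fun g hgS h1 h2 hgT U V hUV hU hq => (hcon g hgS hgT h1 h2).2 U V hUV hU hq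
    refine kInf_normal_of S _ A rfl hAT hA2 hA3 (fun g hgS h2 hA' => ?_) fun B Q hBS hB hAQ hZBT hBZA =>
      lower_le_of_quadratic S _ A rfl hAT hA3 hstab hquad B Q hBS hB hAQ hZBT hBZA
    by_contra hgT
    refine hgT (hstab g hgS fun U V hUV hU => hquad g hgS (h3 g hA') h2 hgT U V hUV hU ?_)
    exact killsBelow_step (n := 2) (N := A) (N₀ := A ⊓ centralizer (A : Set G)) hA'
      (fun U' V' _ hU' => ((commutator_mono (commutator_mono hU' le_rfl) le_rfl).trans h2.le).trans bot_le)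
      U V hUV hU
  · refine kInf_normal_of S _ A rfl hAT hA2 hA3 (fun g hgS h2 hA' => ?_) fun B Q hBS hB hAQ _ hBZA g hg => ?_
    · by_contra hgT
      exact hC (hcon g hgS hgT (h3 g hA') h2).1
    · by_contra hgT
      exact hC (hcon g (hBS hg) hgT (hcondB B Q hB hAQ hBZA g hg).1 (hcondB B Q hB hAQ hBZA g hg).2).1

end CfsgLib.Kinf
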