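import Cfsg.Prelude.Def_Transfer
import Cfsg.Agent.Invol.ThompsonTransfer
import Cfsg.Agent.Solvable.Basics
import Mathlib.GroupTheory.Perm.Cycle.Type
import Mathlib.GroupTheory.SpecificGroups.Dihedral

/-!
Transfer consequences: cyclic and dihedral complements to a 2-subgroup of a perfect-by-construction subgroup.
-/

set_option autoImplicit false

namespace CfsgLib.DihedralTransfer

open Subgroup

variable {G : Type*} [Group G] [Finite G]

/-- A permutation all of whose cycles have length `2 ^ (m + 1)`, an odd number of them, is odd. -/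
theorem sign_eq_neg_one {Ω : Type*} [Fintype Ω] [DecidableEq Ω] (σ : Equiv.Perm Ω) (m k : ℕ)
    (hk : Odd k) (hΩ : Fintype.card Ω = 2 ^ (m + 1) * k) (hord : σ ^ 2 ^ (m + 1) = 1)
    (hfree : ∀ x, (σ ^ 2 ^ m) x ≠ x) : Equiv.Perm.sign σ = -1 := by
  have hsupp : σ.support = Finset.univ := by
    ext x
    simp only [Equiv.Perm.mem_support, Finset.mem_univ, iff_true]
    exact fun h => hfree x (Equiv.Perm.pow_apply_eq_self_of_apply_eq_self h _)
  have hall : ∀ n ∈ σ.cycleType, n = 2 ^ (m + 1) := by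
    intro n hn
    obtain ⟨c, τ, hσ, hdisj, hc, hcn⟩ := Equiv.Perm.mem_cycleType_iff.1 hn
    obtain ⟨j, hj, rfl⟩ := (Nat.dvd_prime_pow Nat.prime_two).1
      ((Equiv.Perm.dvd_of_mem_cycleType hn).trans (orderOf_dvd_of_pow_eq_one hord))
    by_contra hne
    have hjm : j ≤ m := by
      rcases Nat.lt_or_ge j (m + 1) with h | h
      · omega
      · exact absurd (by rw [le_antisymm hj h]) hne
    obtain ⟨x, hx⟩ : c.support.Nonempty := by
      rw [← Finset.card_pos, hcn]; positivity
    refine hfree x ?_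
    have hcx : (σ ^ 2 ^ j) x = x := by
      rw [hσ, hdisj.commute.mul_pow, Equiv.Perm.mul_apply,
        Equiv.Perm.pow_apply_eq_self_of_apply_eq_self
          (Equiv.Perm.notMem_support.1 (Finset.disjoint_left.1 hdisj.disjoint_support hx)),
        ← hcn, ← hc.orderOf, pow_orderOf_eq_one, Equiv.Perm.one_apply]
    rw [← Nat.add_sub_cancel' hjm, pow_add, pow_mul]
    exact Equiv.Perm.pow_apply_eq_self_of_apply_eq_self hcx _
  have hsum : σ.cycleType.sum = 2 ^ (m + 1) * k := by
    rw [Equiv.Perm.sum_cycleType, hsupp, Finset.card_univ, hΩ]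
  have hcard : σ.cycleType.card = k := by
    rw [Multiset.eq_replicate_of_mem hall, Multiset.sum_replicate, smul_eq_mul, mul_comm] at hsum
    exact Nat.eq_of_mul_eq_mul_left (by positivity) hsum
  rw [Equiv.Perm.sign_of_cycleType, hsum, hcard]
  exact Odd.neg_one_pow (((Even.pow_of_ne_zero even_two (by omega)).mul_right k).add_odd hk)

/-- The index of a subgroup inside a normal subgroup divides its index. -/
theorem relIndex_dvd_index (S K : Subgroup G) [K.Normal] : S.relIndex K ∣ S.index := by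
  have h1 := Solvable.card_sup_mul_card_inf (A := S) (K := K) le_normalizer_of_normal
  have h2 := card_mul_index (S.subgroupOf K)
  rw [← card_map_of_injective K.subtype_injective, subgroupOf_map_subtype] at h2
  have h3 : Nat.card ↥(S ⊔ K : Subgroup G) = Nat.card S * S.relIndex K := by
    refine Nat.eq_of_mul_eq_mul_right (Nat.card_pos (α := ↥(S ⊓ K : Subgroup G))) ?_
    rw [h1, mul_assoc, mul_comm (S.relIndex K)]
    exact congrArg _ h2.symm
  have h4 : Nat.card S * S.relIndex K ∣ Nat.card S * S.index := by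
    rw [card_mul_index, ← h3]; exact card_subgroup_dvd_card _
  exact Nat.dvd_of_mul_dvd_mul_left Nat.card_pos h4

/-- A cyclic 2-subgroup complementing a 2-subgroup generated modulo by odd-order elements, its
involution not fused into that subgroup, meets the 2-residual trivially. -/
theorem cyclic_inf_residual : ∀ (m : ℕ) (Y L T : Subgroup G) (r : G), L ≤ Y → T ≤ L →
    L ≤ closure {x : G | x ∈ L ∧ Odd (orderOf x)} → r ∈ Y →
    orderOf r = 2 ^ m → (∃ k, Odd k ∧ Nat.card Y = Nat.card T * 2 ^ m * k) →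
    (∀ g : G, orderOf r ≠ 1 → g * r ^ (2 ^ (m - 1)) * g⁻¹ ∉ T) →
    zpowers r ⊓ closure {x : G | x ∈ Y ∧ Odd (orderOf x)} = ⊥ := by
  intro m
  induction m with
  | zero =>
    intro Y L T r _ _ _ _ hr _ _
    rw [pow_zero, orderOf_eq_one_iff] at hr
    rw [hr, zpowers_one_eq_bot, bot_inf_eq]
  | succ m ih =>
    intro Y L T r hLY hTL hLgen hrY hr hcard hfree
    obtain ⟨k, hk, hcard⟩ := hcard
    classical
    set T' := T.subgroupOf Y with hT'
    haveI : Fintype (Y ⧸ T') := Fintype.ofFinite _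
    set π : Y →* Equiv.Perm (Y ⧸ T') := MulAction.toPermHom Y (Y ⧸ T') with hπ
    set s : Y →* ℤˣ := Equiv.Perm.sign.comp π with hs
    have hΩ : Fintype.card (Y ⧸ T') = 2 ^ (m + 1) * k := by
      rw [← Nat.card_eq_fintype_card]
      have h := T'.card_mul_index
      rw [Nat.card_congr (subgroupOfEquivOfLe (hTL.trans hLY)).toEquiv, hcard, Subgroup.index] at h
      exact Nat.eq_of_mul_eq_mul_left Nat.card_pos (h.trans (mul_assoc _ _ _))
    have hr1 : orderOf r ≠ 1 := by rw [hr]; exact (Nat.one_lt_two_pow (by omega)).ne'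
    have hsr : s ⟨r, hrY⟩ = -1 := by
      refine sign_eq_neg_one _ m k hk hΩ ?_ ?_
      · rw [← map_pow, show (⟨r, hrY⟩ : Y) ^ 2 ^ (m + 1) = 1 from
          Subtype.ext (by rw [SubmonoidClass.coe_pow, ← hr, pow_orderOf_eq_one]; rfl), map_one]
      · intro x hx
        obtain ⟨y, rfl⟩ := QuotientGroup.mk_surjective x
        rw [← map_pow] at hx
        have hx' : QuotientGroup.mk ((⟨r, hrY⟩ : Y) ^ 2 ^ m * y) = (QuotientGroup.mk y : Y ⧸ T') := hx
        have hmem := QuotientGroup.eq.1 hx'.symm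
        rw [hT', mem_subgroupOf] at hmem
        refine hfree (y : G)⁻¹ hr1 ?_
        simpa [mul_assoc] using hmem
    set Y1 := s.ker.map Y.subtype with hY1
    have hodd1 : ∀ x ∈ Y, Odd (orderOf x) → x ∈ Y1 := by
      intro x hx hox
      refine ⟨⟨x, hx⟩, ?_, rfl⟩
      show s ⟨x, hx⟩ = 1
      rcases Int.units_eq_one_or (s ⟨x, hx⟩) with h | h
      · exact h
      · exfalso
        have h2 : orderOf (s ⟨x, hx⟩) ∣ orderOf x := by
          rw [← Subgroup.orderOf_mk x hx]; exact orderOf_map_dvd s _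
        have h3 : orderOf (-1 : ℤˣ) = 2 := orderOf_eq_prime (by decide) (by decide)
        rw [h, h3] at h2
        exact Nat.not_even_iff_odd.2 hox (even_iff_two_dvd.2 h2)
    have hLY1 : L ≤ Y1 := hLgen.trans ((closure_le _).2 fun x hx => hodd1 x (hLY hx.1) hx.2)
    have hr2 : r ^ 2 ∈ Y1 := ⟨⟨r, hrY⟩ ^ 2, by
      show s _ = 1
      rw [map_pow, hsr]; decide, rfl⟩
    have hidx : 2 * Nat.card Y1 = Nat.card Y := by
      have h2 : s.ker.index = 2 := by
        rw [index_ker]
        have : s.range = ⊤ := by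
          refine eq_top_iff.2 fun u _ => ?_
          rcases Int.units_eq_one_or u with h | h
          · exact ⟨1, by rw [map_one, h]⟩
          · exact ⟨⟨r, hrY⟩, by rw [hsr, h]⟩
        rw [this, card_top, Nat.card_eq_fintype_card, Fintype.card_units_int]
      rw [hY1, card_map_of_injective Y.subtype_injective, ← h2, mul_comm, card_mul_index]
    have hsq : orderOf (r ^ 2) = 2 ^ m := by
      rw [orderOf_pow_of_dvd (by norm_num) (hr ▸ dvd_pow_self 2 (by omega)), hr, pow_succ,
        Nat.mul_div_cancel _ (by norm_num)]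
    have hih := ih Y1 L T (r ^ 2) hLY1 hTL hLgen hr2 hsq ⟨k, hk, by
      refine Nat.eq_of_mul_eq_mul_left (show 0 < 2 by norm_num) ?_
      rw [hidx, hcard, pow_succ]; ring⟩ (fun g hg => by
        cases m with
        | zero => exact absurd (by rw [hsq, pow_zero]) hg
        | succ m =>
          rw [← pow_mul, ← pow_succ']
          exact hfree g hr1)
    refine eq_bot_iff.2 fun x hx => ?_
    rw [mem_inf] at hx
    obtain ⟨i, rfl⟩ := mem_zpowers_iff.1 hx.1
    obtain ⟨w, hw, hwe⟩ := ((closure_le Y1).2 fun z hz => hodd1 z hz.1 hz.2) hx.2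
    have hY1' : closure {z : G | z ∈ Y ∧ Odd (orderOf z)} ≤
        closure {z : G | z ∈ Y1 ∧ Odd (orderOf z)} :=
      Subgroup.closure_mono fun z hz => ⟨hodd1 z hz.1 hz.2, hz.2⟩
    have hw' : w = (⟨r, hrY⟩ : Y) ^ i := Subtype.ext (by rw [SubgroupClass.coe_zpow]; exact hwe)
    have hi : Even i := by
      by_contra hio
      have : s w = 1 := hw
      rw [hw', map_zpow, hsr, (Int.not_even_iff_odd.1 hio).neg_one_zpow] at this
      exact absurd this (by decide)
    obtain ⟨j, rfl⟩ := hi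
    refine hih.le (mem_inf.2 ⟨mem_zpowers_iff.2 ⟨j, ?_⟩, hY1' hx.2⟩)
    rw [← zpow_natCast, ← zpow_mul, Nat.cast_ofNat, two_mul]

/-- **Thompson transfer with a dihedral complement.** -/
theorem exists_normal_complement (L T S D C : Subgroup G)
    (hL : Cfsg.pResidual 2 ↥L = ⊤) (hTL : T ≤ L) (hT2 : IsPGroup 2 T) (hTsyl : ¬ 2 ∣ T.relIndex L)
    (hS2 : IsPGroup 2 S) (hSsyl : ¬ 2 ∣ S.index) (hTS : T ≤ S)
    (hDS : D ≤ S) (hDih : ∃ n : ℕ, 2 ≤ n ∧ Nonempty (↥D ≃* DihedralGroup n)) (hDT : D ⊓ T = ⊥)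
    (hTD : T ⊔ D = S) (hTDc : Nat.card T * Nat.card D = Nat.card S)
    (hCD : C ≤ D) (hC : IsCyclic ↥C) (hCi : C.relIndex D = 2)
    (h1 : ∀ x ∈ D, x ∉ C → orderOf x = 2 → ∀ g : G, g * x * g⁻¹ ∈ T ⊔ C → False)
    (h2 : ∀ c ∈ C, orderOf c = 2 → ∀ g : G, g * c * g⁻¹ ∈ T → False) :
    ∃ K : Subgroup G, K.Normal ∧ K ⊔ D = ⊤ ∧
      ∀ T' : Subgroup G, T' ≤ L → IsPGroup 2 T' → ¬ 2 ∣ T'.relIndex L → T' ≤ K ∧ ¬ 2 ∣ T'.relIndex K := by
  classical
  haveI : Fact (Nat.Prime 2) := ⟨Nat.prime_two⟩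
  set K := closure {x : G | Odd (orderOf x)} with hK
  haveI hKn : K.Normal := by
    refine ⟨fun n hn g => ?_⟩
    have h : K ≤ K.comap (MulAut.conj g).toMonoidHom := (closure_le _).2 fun x hx =>
      subset_closure (show Odd (orderOf ((MulAut.conj g) x)) by rw [MulEquiv.orderOf_eq]; exact hx)
    exact h hn
  have hLgen : L ≤ closure {x : G | x ∈ L ∧ Odd (orderOf x)} := by
    intro x hx
    have h : (⟨x, hx⟩ : L) ∈ Cfsg.pResidual 2 ↥L := hL ▸ mem_top _
    have h' : x ∈ (Cfsg.pResidual 2 ↥L).map L.subtype := ⟨_, h, rfl⟩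
    rw [Cfsg.pResidual, MonoidHom.map_closure] at h'
    refine (Subgroup.closure_mono ?_) h'
    rintro _ ⟨z, hz, rfl⟩
    exact ⟨z.2, by
      rw [show orderOf (L.subtype z) = orderOf z from orderOf_coe z]
      exact Nat.coprime_two_right.1 hz⟩
  have hLK : L ≤ K := hLgen.trans (Subgroup.closure_mono fun x hx => hx.2)
  have hSodd : Odd S.index := Nat.odd_iff.2 (Nat.two_dvd_ne_zero.1 hSsyl)
  -- the index two subgroup
  set P := T ⊔ C with hP
  have hPS : P ≤ S := sup_le hTS (hCD.trans hDS)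
  have hDnon : ∃ x ∈ D, x ∉ C ∧ orderOf x = 2 := by
    obtain ⟨n, hn, ⟨e⟩⟩ := hDih
    haveI : NeZero n := ⟨by omega⟩
    by_contra hcon
    push Not at hcon
    have hall : ∀ i : ZMod n, ((e.symm (DihedralGroup.sr i) : D) : G) ∈ C := fun i => by
      by_contra hni
      refine hcon _ (Subtype.mem _) hni ?_
      rw [Subgroup.orderOf_coe, MulEquiv.orderOf_eq, DihedralGroup.orderOf_sr]
    have hDC : D ≤ C := fun d hd => by
      obtain ⟨d0, hd0⟩ : ∃ q, e.symm q = ⟨d, hd⟩ := ⟨e ⟨d, hd⟩, e.symm_apply_apply _⟩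
      rcases d0 with i | i
      · have h := mul_mem (hall 0) (hall i)
        rw [← Subgroup.coe_mul, ← map_mul, DihedralGroup.sr_mul_sr, sub_zero, hd0] at h
        exact h
      · have h := hall i
        rw [hd0] at h
        exact h
    rw [Subgroup.relIndex_eq_one.2 hDC] at hCi
    norm_num at hCi
  obtain ⟨x0, hx0, hx0C, hx02⟩ := hDnon
  have hx0P : x0 ∉ P := fun h => h1 x0 hx0 hx0C hx02 1 (by simpa using h)
  have hcardC : 2 * Nat.card C = Nat.card D := by
    have := card_mul_index (C.subgroupOf D)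
    rw [Nat.card_congr (subgroupOfEquivOfLe hCD).toEquiv] at this
    rw [← this, mul_comm]
    congr 1
    exact hCi.symm
  have hTC : Nat.card T * Nat.card C ≤ Nat.card P := by
    rw [← Nat.card_prod]
    refine Nat.card_le_card_of_injective
      (fun q : T × C => (⟨(q.1 : G) * q.2, mul_mem (le_sup_left (b := C) q.1.2) (le_sup_right (a := T) q.2.2)⟩ : P)) ?_
    rintro ⟨t, c⟩ ⟨t', c'⟩ h
    have h' : (t : G) * c = t' * c' := congrArg Subtype.val h
    have h0 : (t' : G)⁻¹ * t ∈ D ⊓ T := by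
      refine mem_inf.2 ⟨?_, mul_mem (inv_mem t'.2) t.2⟩
      rw [show (t' : G)⁻¹ * t = c' * (c : G)⁻¹ by rw [eq_mul_inv_iff_mul_eq, mul_assoc, h', inv_mul_cancel_left]]
      exact hCD (mul_mem c'.2 (inv_mem c.2))
    rw [hDT, mem_bot, inv_mul_eq_one] at h0
    have : t = t' := Subtype.ext h0.symm
    subst this
    exact Prod.ext rfl (Subtype.ext (mul_left_cancel h'))
  have hPi : P.relIndex S = 2 := by
    have h := card_mul_index (P.subgroupOf S)
    rw [Nat.card_congr (subgroupOfEquivOfLe hPS).toEquiv] at h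
    have hne : P.relIndex S ≠ 1 := fun h' => hx0P (Subgroup.relIndex_eq_one.1 h' (hDS hx0))
    have hpos : P.relIndex S ≠ 0 := Subgroup.index_ne_zero_of_finite
    have hle : Nat.card P * P.relIndex S ≤ Nat.card P * 2 := by
      calc Nat.card P * P.relIndex S = Nat.card S := h
        _ = Nat.card T * Nat.card C * 2 := by rw [← hTDc, ← hcardC]; ring
        _ ≤ Nat.card P * 2 := Nat.mul_le_mul_right 2 hTC
    have := Nat.le_of_mul_le_mul_left hle Nat.card_pos
    omega
  -- split off the involutions outside `C`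
  have hsplit : ∀ x ∈ D, x ∉ C → ∃ M : Subgroup G, M.Normal ∧ M.index = 2 ∧ x ∉ M := by
    intro x hx hxC
    have hx2 : orderOf x = 2 := by
      obtain ⟨n, hn, ⟨e⟩⟩ := hDih
      haveI : NeZero n := ⟨by omega⟩
      -- reflections have order two; rotations outside `C` force the four-group
      rw [← Subgroup.orderOf_mk x hx, ← MulEquiv.orderOf_eq e]
      rcases hq : e ⟨x, hx⟩ with i | i
      · by_contra hne
        haveI := hC
        obtain ⟨c, hc⟩ := IsCyclic.exists_generator (α := C)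
        have hcardD : Nat.card D = 2 * n := by
          rw [Nat.card_congr e.toEquiv, DihedralGroup.nat_card]
        have hcc : orderOf (e ⟨c, hCD c.2⟩) = n := by
          rw [MulEquiv.orderOf_eq, Subgroup.orderOf_mk, Subgroup.orderOf_coe,
            orderOf_eq_card_of_forall_mem_zpowers hc]
          omega
        rcases hj : e ⟨c, hCD c.2⟩ with j | j
        · have hrc : (DihedralGroup.r i : DihedralGroup n) ∈ zpowers (e ⟨c, hCD c.2⟩) := by
            have heq : zpowers (e ⟨c, hCD c.2⟩) = zpowers (DihedralGroup.r 1) := by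
              refine Subgroup.eq_of_le_of_card_ge (zpowers_le.2 ?_) ?_
              · rw [hj]
                exact ⟨(j.val : ℤ), by simp⟩
              · rw [Nat.card_zpowers, Nat.card_zpowers, hcc, DihedralGroup.orderOf_r_one]
            rw [heq]
            exact ⟨(i.val : ℤ), by simp⟩
          obtain ⟨z, hz⟩ := mem_zpowers_iff.1 hrc
          rw [← map_zpow, ← hq] at hz
          refine hxC ?_
          have hz' : ((⟨c, hCD c.2⟩ : D) : G) ^ z = x := by
            rw [← SubgroupClass.coe_zpow, e.injective hz]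
          rw [← hz']
          exact zpow_mem c.2 z
        · have hn2 : n = 2 := by rw [← hcc, hj, DihedralGroup.orderOf_sr]
          subst hn2
          have hsq : (DihedralGroup.r i : DihedralGroup 2) * DihedralGroup.r i = 1 := by
            rw [DihedralGroup.r_mul_r, DihedralGroup.one_def]
            congr 1
            exact CharTwo.add_self_eq_zero i
          refine hne (orderOf_eq_prime (by rw [pow_two, hsq]) ?_)
          intro h0
          rw [← hq, ← map_one e] at h0
          exact hxC (by rw [show x = 1 from congrArg Subtype.val (e.injective h0)]; exact one_mem C)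
      · exact DihedralGroup.orderOf_sr i
    rcases CfsgLib.ThompsonTransfer.thompson_transfer S P hSodd hPi
      (u := x) (by rw [← pow_two, ← hx2, pow_orderOf_eq_one]) with h | ⟨g, hg⟩
    · exact h
    · exact absurd hg fun h => h1 x hx hxC hx2 g h
  choose Mx hMxn hMxi hMx using hsplit
  set N : Subgroup G := ⨅ d : {d : G // d ∈ D ∧ d ∉ C}, Mx d.1 d.2.1 d.2.2 with hN
  have hoddN : ∀ x : G, Odd (orderOf x) → x ∈ N := by
    intro x hx
    refine mem_iInf.2 fun d => ?_
    haveI := hMxn d.1 d.2.1 d.2.2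
    by_contra hxM
    have h2 : orderOf (QuotientGroup.mk' (Mx d.1 d.2.1 d.2.2) x) ∣ 2 := by
      rw [← hMxi d.1 d.2.1 d.2.2]
      exact orderOf_dvd_natCard _
    have h1 : orderOf (QuotientGroup.mk' (Mx d.1 d.2.1 d.2.2) x) = 1 :=
      Nat.eq_one_of_dvd_coprimes (Nat.coprime_two_right.2 hx) (orderOf_map_dvd _ x) h2
    exact hxM ((QuotientGroup.eq_one_iff x).1 (orderOf_eq_one_iff.1 h1))
  have hKN : K ≤ N := (closure_le _).2 hoddN
  have hDN : D ⊓ N ≤ C := by
    intro d hd
    by_contra hdC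
    exact hMx d hd.1 hdC (mem_iInf.1 hd.2 ⟨d, hd.1, hdC⟩)
  -- the residual avoids `D`
  have hDK : D ⊓ K = ⊥ := by
    haveI := hC
    haveI : IsCyclic ↥(D ⊓ N : Subgroup G) := isCyclic_of_injective (inclusion hDN) (inclusion_injective _)
    obtain ⟨r, hr⟩ := IsCyclic.exists_generator (α := ↥(D ⊓ N : Subgroup G))
    have hzr : zpowers (r : G) = D ⊓ N := le_antisymm (zpowers_le.2 r.2) fun x hx => by
      obtain ⟨i, hi⟩ := mem_zpowers_iff.1 (hr ⟨x, hx⟩)
      exact mem_zpowers_iff.2 ⟨i, by simpa using congrArg Subtype.val hi⟩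
    obtain ⟨a, ha⟩ := hS2.exists_card_eq
    obtain ⟨m, -, hm⟩ := (Nat.dvd_prime_pow Nat.prime_two).1
      (ha ▸ card_dvd_of_le (show D ⊓ N ≤ S from inf_le_left.trans hDS))
    have hSN : Nat.card ↥(S ⊓ N) = Nat.card T * 2 ^ m := by
      rw [← hm, ← Nat.card_prod]
      refine (Nat.card_congr (Equiv.ofBijective
        (fun q : T × ↥(D ⊓ N : Subgroup G) => (⟨(q.1 : G) * q.2, mem_inf.2
          ⟨mul_mem (hTS q.1.2) (hDS q.2.2.1), mul_mem (hKN (hLK (hTL q.1.2))) q.2.2.2⟩⟩ : ↥(S ⊓ N))) ?_)).symm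
      have hinj : ∀ t t' : T, ∀ c c' : G, c ∈ D → c' ∈ D → (t : G) * c = t' * c' → t = t' ∧ c = c' := by
        intro t t' c c' hc hc' h'
        have h0 : (t' : G)⁻¹ * t ∈ D ⊓ T := by
          refine mem_inf.2 ⟨?_, mul_mem (inv_mem t'.2) t.2⟩
          rw [show (t' : G)⁻¹ * t = c' * c⁻¹ by rw [eq_mul_inv_iff_mul_eq, mul_assoc, h', inv_mul_cancel_left]]
          exact mul_mem hc' (inv_mem hc)
        rw [hDT, mem_bot, inv_mul_eq_one] at h0
        have : t = t' := Subtype.ext h0.symm
        subst this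
        exact ⟨rfl, mul_left_cancel h'⟩
      refine ⟨fun q q' h => ?_, fun s => ?_⟩
      · obtain ⟨h1, h2⟩ := hinj q.1 q'.1 q.2 q'.2 q.2.2.1 q'.2.2.1 (congrArg Subtype.val h)
        exact Prod.ext h1 (Subtype.ext h2)
      · have hsurj : Function.Bijective
            (fun q : T × D => (⟨(q.1 : G) * q.2, mul_mem (hTS q.1.2) (hDS q.2.2)⟩ : S)) := by
          rw [Nat.bijective_iff_injective_and_card]
          refine ⟨fun q q' h => ?_, by rw [Nat.card_prod, hTDc]⟩
          obtain ⟨h1, h2⟩ := hinj q.1 q'.1 q.2 q'.2 q.2.2 q'.2.2 (congrArg Subtype.val h)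
          exact Prod.ext h1 (Subtype.ext h2)
        obtain ⟨⟨t, d⟩, htd⟩ := hsurj.2 ⟨s, s.2.1⟩
        have htd' : (t : G) * d = s := congrArg Subtype.val htd
        have hd : (d : G) ∈ D ⊓ N := by
          refine mem_inf.2 ⟨d.2, ?_⟩
          rw [show (d : G) = (t : G)⁻¹ * s by rw [← htd', inv_mul_cancel_left]]
          exact mul_mem (inv_mem (hKN (hLK (hTL t.2)))) s.2.2
        exact ⟨(t, ⟨d, hd⟩), Subtype.ext htd'⟩
    haveI hNn : N.Normal := normal_iInf_normal fun d => hMxn d.1 d.2.1 d.2.2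
    have hcard : ∃ k, Odd k ∧ Nat.card N = Nat.card T * 2 ^ m * k := by
      refine ⟨(S.subgroupOf N).index, hSodd.of_dvd_nat (relIndex_dvd_index S N), ?_⟩
      · rw [← hSN, ← card_mul_index (S.subgroupOf N),
          ← card_map_of_injective N.subtype_injective, subgroupOf_map_subtype]
    have hord : orderOf (r : G) = 2 ^ m := by rw [← Nat.card_zpowers, hzr, hm]
    have hbot := cyclic_inf_residual m N L T r (hLK.trans hKN) hTL hLgen r.2.2 hord hcard
      (fun g hg hmem => by
        obtain ⟨m', rfl⟩ : ∃ m', m = m' + 1 := by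
          cases m with
          | zero => exact absurd (by rw [hord, pow_zero]) hg
          | succ m' => exact ⟨m', rfl⟩
        refine h2 _ (hDN (pow_mem r.2 _)) ?_ g hmem
        rw [Nat.add_sub_cancel, orderOf_pow_of_dvd (by positivity) (hord.symm ▸ dvd_of_mul_right_eq 2 (pow_succ 2 m').symm), hord,
          pow_succ, Nat.mul_div_cancel_left _ (by positivity)])
    refine eq_bot_iff.2 fun x hx => hbot.le (mem_inf.2 ⟨?_, ?_⟩)
    · rw [hzr]; exact mem_inf.2 ⟨hx.1, hKN hx.2⟩
    · exact (Subgroup.closure_mono fun z hz => show z ∈ {x : G | x ∈ N ∧ Odd (orderOf x)} from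
        ⟨hoddN z hz, hz⟩ : K ≤ _) hx.2
  have hSK : S ⊓ K ≤ T := by
    intro s hs
    have hsurj : Function.Surjective
        (fun q : T × D => (⟨(q.1 : G) * q.2, mul_mem (hTS q.1.2) (hDS q.2.2)⟩ : S)) := by
      refine (Function.Bijective.surjective ?_)
      rw [Nat.bijective_iff_injective_and_card]
      refine ⟨?_, by rw [Nat.card_prod, hTDc]⟩
      rintro ⟨t, c⟩ ⟨t', c'⟩ h
      have h' : (t : G) * c = t' * c' := congrArg Subtype.val h
      have h0 : (t' : G)⁻¹ * t ∈ D ⊓ T := by
        refine mem_inf.2 ⟨?_, mul_mem (inv_mem t'.2) t.2⟩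
        rw [show (t' : G)⁻¹ * t = c' * (c : G)⁻¹ by rw [eq_mul_inv_iff_mul_eq, mul_assoc, h', inv_mul_cancel_left]]
        exact mul_mem c'.2 (inv_mem c.2)
      rw [hDT, mem_bot, inv_mul_eq_one] at h0
      have : t = t' := Subtype.ext h0.symm
      subst this
      exact Prod.ext rfl (Subtype.ext (mul_left_cancel h'))
    obtain ⟨⟨t, d⟩, htd⟩ := hsurj ⟨s, hs.1⟩
    have htd' : (t : G) * d = s := congrArg Subtype.val htd
    have hd : (d : G) ∈ D ⊓ K := by
      refine mem_inf.2 ⟨d.2, ?_⟩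
      rw [show (d : G) = (t : G)⁻¹ * s by rw [← htd', inv_mul_cancel_left]]
      exact mul_mem (inv_mem (hLK (hTL t.2))) hs.2
    rw [hDK, mem_bot] at hd
    rw [← htd', hd, mul_one]
    exact t.2
  refine ⟨K, hKn, ?_, fun T' hT'L hT'2 hT'i => ⟨hT'L.trans hLK, ?_⟩⟩
  · rw [← index_eq_one]
    by_contra hne
    obtain ⟨q, hq, hqd⟩ := Nat.exists_prime_and_dvd hne
    haveI : Fact q.Prime := ⟨hq⟩
    rcases hq.eq_two_or_odd' with rfl | hqodd
    · refine hSsyl (hqd.trans (index_dvd_of_le ?_))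
      rw [← hTD]
      exact sup_le_sup_right (hTL.trans hLK) D
    · obtain ⟨Q⟩ : Nonempty (Sylow q G) := inferInstance
      refine Q.not_dvd_index (hqd.trans (index_dvd_of_le fun x hx => mem_sup_left (subset_closure ?_)))
      obtain ⟨j, hj⟩ := Q.2 ⟨x, hx⟩
      exact hqodd.pow.of_dvd_nat (orderOf_dvd_of_pow_eq_one (congrArg Subtype.val hj : x ^ q ^ j = 1))
  · intro hdvd
    have hTT : Nat.card T' = Nat.card T := by
      obtain ⟨a, ha⟩ := hT2.exists_card_eq
      obtain ⟨b, hb⟩ := hT'2.exists_card_eq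
      have e : ∀ (R : Subgroup G) (c : ℕ), R ≤ L → Nat.card R = 2 ^ c → ¬ 2 ∣ R.relIndex L →
          (Nat.card L).factorization 2 = c := fun R c hR hc hi => by
        have h := card_mul_index (R.subgroupOf L)
        rw [Nat.card_congr (subgroupOfEquivOfLe hR).toEquiv, hc] at h
        rw [← h, Nat.factorization_mul (by positivity) index_ne_zero_of_finite]
        simp [show (R.subgroupOf L).index.factorization 2 = 0 from Nat.factorization_eq_zero_of_not_dvd hi,
          Nat.prime_two.factorization_self]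
      rw [ha, hb, ← e T a hTL ha hTsyl, ← e T' b hT'L hb hT'i]
    have hTK : (S ⊓ K) = T := le_antisymm hSK (le_inf hTS (hTL.trans hLK))
    have h1 : Nat.card T * S.relIndex K = Nat.card T' * T'.relIndex K := by
      have a := card_mul_index (S.subgroupOf K)
      have b := card_mul_index (T'.subgroupOf K)
      rw [← card_map_of_injective K.subtype_injective, subgroupOf_map_subtype, hTK] at a
      rw [Nat.card_congr (subgroupOfEquivOfLe (hT'L.trans hLK)).toEquiv] at b
      exact a.trans b.symm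
    rw [hTT] at h1
    rw [← Nat.eq_of_mul_eq_mul_left Nat.card_pos h1] at hdvd
    exact hSsyl (hdvd.trans (relIndex_dvd_index S K))

end CfsgLib.DihedralTransfer
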