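import Cfsg.Agent.Kinf.Normal

/-!
Members of the lower families act trivially on the chief factors of a critical subgroup, when
quadratic elements do.
-/

set_option autoImplicit false
set_option linter.unusedSectionVars false
set_option linter.style.haveILetI false

namespace CfsgLib.Kinf

open Subgroup CfsgLib.Functor
open scoped CfsgLib.Functor commutatorElement

universe u

variable {G : Type u} [Group G] [Finite G] {p : ℕ} [Fact p.Prime]

/-- The chief factor with `X` minimal, and its semisimplicity. -/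
theorem exists_setup (S : Sylow p G) {T A B : Subgroup G} (hT : T = Cfsg.pCore p G) [A.Normal]
    (hAT : A ≤ T) (hBS : B ≤ (S : Subgroup G))
    (hne : ∃ g ∈ B, ¬ KillsBelow g 1 A) :
    ∃ X Y : Subgroup G, Cfsg.IsChiefFactor X Y ∧ X ≤ A ∧ ⁅X, Y⁆ = ⊥ ∧
      (∀ g ∈ B, KillsBelow g 1 Y) ∧ (∃ g ∈ B, ¬ ⁅X, zpowers g⁆ ≤ Y) ∧
      ∃ M₀ : Subgroup G, M₀.Normal ∧ ⁅M₀, Y⁆ = ⊥ ∧
        ∀ (π : G →* G ⧸ Y.normalCore), π = QuotientGroup.mk' Y.normalCore →
          CompRed (X.map π) ((M₀ ⊔ B).map π) := by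
  classical
  have hTn : T.Normal := hT ▸ inferInstance
  have hTp : IsPGroup p T := hT ▸ Solvable.isPGroup_pCore p
  have hTS : T ≤ S := by
    obtain ⟨n, -, hle⟩ := (isSylowIn_top S).exists_cj_le hTp le_top
    rwa [mem_normalizer_iff_cj.1 (by rw [normalizer_eq_top]; exact mem_top n)] at hle
  obtain ⟨X, hXA, hX⟩ := (Set.toFinite {X : Subgroup G | X.Normal ∧ X ≤ A ∧
    ∃ g ∈ B, ¬ KillsBelow g 1 X}).exists_le_minimal (a := A) ⟨inferInstance, le_rfl, hne⟩
  obtain ⟨hXn, -, g₁, hg₁B, hg₁⟩ := hX.prop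
  haveI := hXn
  have hX1 : X ≠ ⊥ := by
    intro h
    refine hg₁ fun U V hUV hU => ?_
    exact absurd hUV.1 (by rw [le_bot_iff.1 (hU.trans h.le)]; exact not_lt_bot)
  obtain ⟨Y, -, hXY⟩ := exists_chiefFactor_below hXn inferInstance (bot_lt_iff_ne_bot.2 hX1)
  haveI hYn := hXY.2.2.1
  have htriv : ∀ X' : Subgroup G, X'.Normal → X' ≤ X → X' ≠ X → ∀ g ∈ B, KillsBelow g 1 X' := by
    intro X' hn hle hne' g hg
    by_contra h
    exact hne' (le_antisymm hle (hX.2 ⟨hn, hle.trans hXA, g, hg, h⟩ hle))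
  have hBY : ∀ g ∈ B, KillsBelow g 1 Y := htriv Y hYn hXY.1.le hXY.1.ne
  have hg₀ : ∃ g ∈ B, ¬ ⁅X, zpowers g⁆ ≤ Y := by
    by_contra h
    push Not at h
    exact hg₁ (killsBelow_step (N₀ := Y) (h g₁ hg₁B) (hBY g₁ hg₁B))
  -- the stabilizer of the series below Y
  obtain ⟨D, hDn, hD⟩ := exists_stabilizer Y
  haveI := hDn
  have hBD : B ≤ D := fun g hg => (hD g).2 (hBY g hg)
  have hYT : Y ≤ T := hXY.1.le.trans (hXA.trans hAT)
  have hXT : X ≤ T := hXA.trans hAT
  have hYp : IsPGroup p Y := hTp.to_le hYT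
  have hTD : T ≤ D := fun g hg => (hD g).2 (killsBelow_of_mem hTp hYT hg)
  set E : Set G := {x | x ∈ D ∧ (orderOf x).Coprime p} with hE
  set M₀ := closure E with hM₀
  have hM₀n : M₀.Normal := by
    refine Subgroup.normalizer_eq_top_iff.1 (top_le_iff.1 fun g _ => ?_)
    refine mem_normalizer_iff_cj.2 (eq_of_le_of_card_le' ?_ (card_cj g _).ge)
    rw [hM₀, MonoidHom.map_closure]
    refine closure_mono ?_
    rintro _ ⟨e, he, rfl⟩
    refine ⟨hDn.conj_mem e he.1 g, ?_⟩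
    rw [orderOf_injective _ (MulAut.conj g).injective e]
    exact he.2
  have hM₀Y : ⁅M₀, Y⁆ = ⊥ := commutator_eq_bot_iff_le_centralizer.2 ((closure_le _).2 fun x hx =>
    mem_centralizer_of_killsBelow hYp hx.2 ((hD x).1 hx.1))
  have hM₀D : M₀ ≤ D := (closure_le _).2 fun x hx => hx.1
  set TD := (S : Subgroup G) ⊓ D with hTD'
  have hTDs : IsSylowIn p TD D := (isSylowIn_top S).inf_normal le_top (by rw [normalizer_eq_top])
  have hBTD : B ≤ TD := le_inf hBS hBD
  -- D = M₀ TD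
  have hDeq : M₀ ⊔ TD = D := by
    refine le_antisymm (sup_le hM₀D inf_le_right) ?_
    haveI := hM₀n
    have h1 := hTDs.map (QuotientGroup.mk' M₀)
    have hp : IsPGroup p ↥(D.map (QuotientGroup.mk' M₀)) := by
      rintro ⟨_, x, hx, rfl⟩
      obtain ⟨k, m, hm, hkm⟩ := Nat.exists_eq_pow_mul_and_not_dvd (orderOf_pos x).ne' p
        (Fact.out : p.Prime).ne_one
      refine ⟨k, Subtype.ext ?_⟩
      show (QuotientGroup.mk' M₀ x) ^ p ^ k = 1
      rw [← map_pow]
      refine (QuotientGroup.eq_one_iff _).2 (subset_closure ⟨pow_mem hx _, ?_⟩)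
      rw [orderOf_pow' x (pow_ne_zero k (Fact.out : p.Prime).ne_zero), hkm, Nat.gcd_mul_right_left,
        Nat.mul_div_cancel_left _ (pow_pos (Fact.out : p.Prime).pos k)]
      exact ((Fact.out : p.Prime).coprime_iff_not_dvd.2 hm).symm
    have h2 := h1.eq_of_le hp le_rfl h1.le
    intro x hx
    have hx' : QuotientGroup.mk' M₀ x ∈ TD.map (QuotientGroup.mk' M₀) :=
      h2.ge (mem_map_of_mem _ hx)
    rw [← mem_comap, comap_map_eq, QuotientGroup.ker_mk', sup_comm] at hx'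
    exact hx'
  haveI := hM₀n
  set π := QuotientGroup.mk' Y with hπ
  have hπs : Function.Surjective π := QuotientGroup.mk'_surjective Y
  haveI hXbn : (X.map π).Normal := hXn.map π hπs
  -- D has no fixed points on X / Y
  obtain ⟨C, hCn, hC⟩ := normal_sectionCentralizer (N := X) (X := D) (W := Y)
  haveI := hCn
  have hCY : C ≤ Y := by
    rcases hXY.2.2.2 (C ⊔ Y) inferInstance le_sup_right
      (sup_le (fun x hx => ((hC x).1 hx).1) hXY.1.le) with he | he
    · exact le_sup_left.trans he.le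
    · exfalso
      obtain ⟨g, hgB, hg⟩ := hg₀
      refine hg (commutator_zpowers_le_iff.2 fun u hu => ?_)
      have hu' : u ∈ C ⊔ Y := he.ge hu
      rw [mem_sup_of_normal_right] at hu'
      obtain ⟨c, hc, y, hy, rfl⟩ := hu'
      rw [show ⁅g, c * y⁆ = ⁅c, g⁆⁻¹ * (c * ⁅g, y⁆ * c⁻¹) by simp only [commutatorElement_def]; group]
      exact mul_mem (inv_mem (((hC c).1 hc).2 g (hBD hgB)))
        (hYn.conj_mem _ (commutator_le_right (zpowers g) Y
          (commutator_mem_commutator (mem_zpowers g) hy)) c)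
  have hXM : ¬ ⁅X, M₀⁆ ≤ Y := by
    intro hle
    set TDb := TD.map π with hTDb
    have hTDbp : IsPGroup p TDb := hTDs.2.1.map π
    have hXTD : X ≤ TD := le_inf (hXT.trans hTS) (hXT.trans hTD)
    haveI : ((X.map π).subgroupOf TDb).Normal := hXbn.subgroupOf TDb
    have hne' : (X.map π).subgroupOf TDb ≠ ⊥ := fun h => by
      rw [subgroupOf_eq_bot] at h
      have h2 : X.map π = ⊥ := le_bot_iff.1 (h.le_bot.trans' (le_inf le_rfl (map_mono hXTD)))
      rw [Subgroup.map_eq_bot_iff, hπ, QuotientGroup.ker_mk'] at h2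
      exact hXY.1.not_ge h2
    haveI : Group.IsNilpotent TDb := hTDbp.isNilpotent
    obtain ⟨⟨⟨z, hzT⟩, hz⟩, hz1'⟩ := Subgroup.ne_bot_iff_exists_ne_one.1
      (PGroupBasic.inf_center_ne_bot _ hne')
    have hz1 : (⟨z, hzT⟩ : TDb) ≠ 1 := fun h => hz1' (Subtype.ext h)
    obtain ⟨x, hx, hxz⟩ := (hz.1 : z ∈ X.map π)
    have hxC : x ∈ C := by
      refine (hC x).2 ⟨hx, fun d hd => ?_⟩
      rw [← hDeq, mem_sup_of_normal_left] at hd
      obtain ⟨m, hm, t, ht, rfl⟩ := hd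
      rw [show ⁅x, m * t⁆ = ⁅x, m⁆ * (m * ⁅x, t⁆ * m⁻¹) by simp only [commutatorElement_def]; group]
      refine mul_mem (hle (commutator_mem_commutator hx hm)) (hYn.conj_mem _ ?_ m)
      rw [← QuotientGroup.eq_one_iff]
      show π ⁅x, t⁆ = 1
      rw [map_commutatorElement, commutatorElement_eq_one_iff_mul_comm, hxz]
      exact (congrArg Subtype.val (mem_center_iff.1 hz.2 ⟨π t, mem_map_of_mem π ht⟩)).symm
    apply hz1
    refine Subtype.ext ?_
    show z = 1
    have hxz2 : π x = z := hxz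
    rw [← hxz2]
    exact (QuotientGroup.eq_one_iff x).2 (hCY hxC)
  have hXM' : ⁅X, M₀⁆ = X := by
    by_contra hne'
    have hle : ⁅X, M₀⁆ ≤ X := commutator_le_left X M₀
    have hsup := le_sup_of_normal_factor hXY hle hXM
    obtain ⟨g, hgB, hg⟩ := hg₀
    refine hg ?_
    have hk := htriv _ inferInstance hle hne' g hgB
    have hnot : ¬ X ⊓ ⁅X, M₀⁆ ≤ Y := by rw [inf_eq_right.2 hle]; exact hXM
    have h1 := hk _ _ (chiefFactor_inf hXY hnot) inf_le_right
    refine (iterCommutator_le_sup (Y := zpowers g) hsup.ge 1).trans (sup_le le_rfl ?_)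
    rw [show ⁅X, M₀⁆ = X ⊓ ⁅X, M₀⁆ from (inf_eq_right.2 hle).symm]
    exact h1.trans inf_le_left
  have hXYbot : ⁅X, Y⁆ = ⊥ := by
    rw [← hXM']
    refine commutator_commutator_eq_bot_of_rotate ?_ ?_
    · rw [hM₀Y, commutator_bot_left]
    · refine le_bot_iff.1 ((commutator_mono (commutator_le_left Y X) le_rfl).trans ?_)
      rw [commutator_comm, hM₀Y]
  refine ⟨X, Y, hXY, hXA, hXYbot, hBY, hg₀, M₀, hM₀n, hM₀Y, fun π' hπ' => ?_⟩
  subst hπ'
  set ρ := QuotientGroup.mk' Y.normalCore with hρ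
  have hρs : Function.Surjective ρ := QuotientGroup.mk'_surjective _
  have hker : ρ.ker = Y := by rw [hρ, QuotientGroup.ker_mk', normalCore_eq_self]
  haveI hXρ : (X.map ρ).Normal := hXn.map ρ hρs
  have hab : X.map ρ ≤ centralizer ((X.map ρ : Subgroup _) : Set _) := by
    rw [← commutator_eq_bot_iff_le_centralizer, ← map_commutator, Subgroup.map_eq_bot_iff, hker]
    exact (chiefFactor_elementary hXY (hTp.to_le hXT)).1
  have htop : CompRed (X.map ρ) ⊤ := by
    intro W hW hWn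
    have hWnorm : W.Normal := Subgroup.normalizer_eq_top_iff.1 (top_le_iff.1 hWn)
    rcases hXY.2.2.2 (W.comap ρ) (hWnorm.comap ρ) (hker.ge.trans (ρ.ker_le_comap W))
      ((comap_mono hW).trans (by rw [comap_map_eq, hker]; exact sup_le le_rfl hXY.1.le)) with he | he
    · have hW1 : W = ⊥ := by
        rw [← map_comap_eq_self_of_surjective hρs W, he, Subgroup.map_eq_bot_iff, hker]
      exact ⟨X.map ρ, le_rfl, by rw [normalizer_eq_top], by rw [hW1, bot_inf_eq], by rw [hW1, bot_sup_eq]⟩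
    · have hW1 : W = X.map ρ := by rw [← he, map_comap_eq_self_of_surjective hρs W]
      exact ⟨⊥, bot_le, by rw [normalizer_eq_top], inf_bot_eq _, by rw [sup_bot_eq, hW1]⟩
  have hXnorm : ∀ K : Subgroup (G ⧸ Y.normalCore), K ≤ normalizer ((X.map ρ : Subgroup _) : Set _) :=
    fun K => by rw [normalizer_eq_top]; exact le_top
  have hD' : CompRed (X.map ρ) (D.map ρ) := by
    haveI := hDn.map ρ hρs
    exact htop.of_normal hab le_top (by rw [normalizer_eq_top]) (hXnorm _)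
  suffices key : ∀ R : Subgroup G, B ≤ R → R ≤ TD → CompRed (X.map ρ) ((M₀ ⊔ R).map ρ) from
    key B le_rfl hBTD
  intro R
  induction R using WellFoundedGT.induction with
  | _ R ih =>
    intro hBR hRT
    rcases eq_or_lt_of_le hRT with he | hlt
    · rw [he, hDeq]; exact hD'
    set N := TD ⊓ normalizer (R : Set G) with hN
    have hRN : R < N := lt_inf_normalizer hTDs.2.1 hlt
    refine (ih N hRN (hBR.trans hRN.le) inf_le_left).of_normal hab
      (map_mono (sup_le_sup_left hRN.le M₀)) ?_ (hXnorm _)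
    have h1 : M₀ ⊔ N ≤ normalizer ((M₀ ⊔ R : Subgroup G) : Set G) := by
      refine sup_le (le_sup_left.trans le_normalizer) fun n hn => ?_
      rw [mem_normalizer_iff_cj, Subgroup.map_sup, mem_normalizer_iff_cj.1 hn.2,
        mem_normalizer_iff_cj.1 (by rw [normalizer_eq_top]; exact mem_top n : n ∈ normalizer (M₀ : Set G))]
    exact (map_mono h1).trans (le_normalizer_map ρ)

theorem lower_le_of_quadratic (S : Sylow p G) (T A : Subgroup G) (hT : T = Cfsg.pCore p G)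
    [A.Normal] (hAT : A ≤ T) (hA3 : ⁅T, A⁆ ≤ A ⊓ centralizer (A : Set G))
    (hstab : ∀ g ∈ (S : Subgroup G), KillsBelow g 1 A → g ∈ T)
    (hquad : ∀ g ∈ (S : Subgroup G),
      Cfsg.iterCommutator A (zpowers g) 3 ≤ A ⊓ centralizer (A : Set G) →
      ⁅⁅A ⊓ centralizer (A : Set G), zpowers g⁆, zpowers g⁆ = ⊥ → g ∉ T →
      ∀ U V : Subgroup G, Cfsg.IsChiefFactor U V → U ≤ A →
        ⁅⁅U, zpowers g⁆, zpowers g⁆ ≤ V → ⁅U, zpowers g⁆ ≤ V)
    (B Q : Subgroup G) (hBS : B ≤ (S : Subgroup G)) (hB : B ∈ Cfsg.kLowerStarFamily Q) (hAQ : A ≤ Q)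
    (hZBT : B ⊓ centralizer (B : Set G) ≤ T)
    (hBZA : ⁅B, A ⊓ centralizer (A : Set G)⁆ ≤ B ⊓ centralizer (B : Set G)) : B ≤ T := by
  classical
  set ZA := A ⊓ centralizer (A : Set G) with hZA
  set ZB := B ⊓ centralizer (B : Set G) with hZB
  have hTn : T.Normal := hT ▸ inferInstance
  have hTp : IsPGroup p T := hT ▸ Solvable.isPGroup_pCore p
  have hAB : A ≤ normalizer (B : Set G) := hAQ.trans hB.2.1
  have hBA : ⁅A, B⁆ ≤ B := le_normalizer_iff_commutator_le_right.1 hAB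
  have hBB : ⁅B, B⁆ ≤ ZB := le_inf (commutator_le_self B) hB.1
  have hZBB : ⁅ZB, B⁆ = ⊥ := commutator_eq_bot_iff_le_centralizer.2 inf_le_right
  have hcond : ∀ g ∈ B, Cfsg.iterCommutator A (zpowers g) 3 ≤ ZA ∧
      ⁅⁅ZA, zpowers g⁆, zpowers g⁆ = ⊥ := fun g hg => by
    refine ⟨(classTwo_iter hB.1 hAB hg).le.trans bot_le, le_bot_iff.1 ?_⟩
    refine (commutator_mono (commutator_mono le_rfl (zpowers_le.2 hg)) (zpowers_le.2 hg)).trans ?_
    rw [commutator_comm ZA B]
    exact (commutator_mono hBZA le_rfl).trans hZBB.le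
  have hkills : ∀ g ∈ B, ∀ U V : Subgroup G, Cfsg.IsChiefFactor U V → U ≤ A →
      ⁅⁅U, zpowers g⁆, zpowers g⁆ ≤ V → ⁅U, zpowers g⁆ ≤ V := by
    intro g hg U V hUV hU h2
    by_cases hgT : g ∈ T
    · exact killsBelow_of_mem hTp hAT hgT U V hUV hU
    · exact hquad g (hBS hg) (hcond g hg).1 (hcond g hg).2 hgT U V hUV hU h2
  refine fun g₂ hg₂ => hstab g₂ (hBS hg₂) ?_
  by_contra hcon
  obtain ⟨X, Y, hXY, hXA, hXYbot, -, ⟨g, hgB, hg⟩, M₀, hM₀n, hM₀Y, hCR⟩ :=
    exists_setup S hT hAT hBS ⟨g₂, hg₂, hcon⟩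
  haveI := hXY.2.1
  haveI hYn := hXY.2.2.1
  have hXX : ⁅X, X⁆ ≤ Y := (chiefFactor_elementary hXY (hTp.to_le (hXA.trans hAT))).1
  have hYX : ∀ y ∈ Y, ∀ x ∈ X, x * y = y * x := fun y hy x hx =>
    (mem_centralizer_iff.1 (commutator_eq_bot_iff_le_centralizer.1 hXYbot hx) y hy).symm
  have hXX' : ∀ a ∈ X, ∀ b ∈ X, ⁅a, b⁆ ∈ Y := fun a ha b hb => hXX (commutator_mem_commutator ha hb)
  have hBfix : ∀ b ∈ B, ∀ y ∈ X, b * y * b⁻¹ ∈ X := fun b _ y hy => hXY.2.1.conj_mem y hy b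
  -- the subgroup R
  let R : Subgroup G :=
    { carrier := {z | z ∈ X ∧ ∀ y ∈ X, ∀ b ∈ B, Commute b ⁅z, y⁆}
      one_mem' := ⟨one_mem X, fun y _ b _ => by rw [commutatorElement_one_left]; exact Commute.one_right b⟩
      mul_mem' := fun {z w} hz hw => ⟨mul_mem hz.1 hw.1, fun y hy b hb => by
        rw [show ⁅z * w, y⁆ = z * ⁅w, y⁆ * z⁻¹ * ⁅z, y⁆ by simp only [commutatorElement_def]; group,
          hYX _ (hXX' w hw.1 y hy) z hz.1, mul_inv_cancel_right]
        exact (hw.2 y hy b hb).mul_right (hz.2 y hy b hb)⟩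
      inv_mem' := fun {z} hz => ⟨inv_mem hz.1, fun y hy b hb => by
        rw [show ⁅z⁻¹, y⁆ = z⁻¹ * ⁅z, y⁆⁻¹ * z by simp only [commutatorElement_def]; group,
          hYX _ (inv_mem (hXX' z hz.1 y hy)) z⁻¹ (inv_mem hz.1), inv_mul_cancel_right]
        exact (hz.2 y hy b hb).inv_right⟩ }
  have hRX : R ≤ X := fun z hz => hz.1
  have hYR : Y ≤ R := fun y hy => ⟨hXY.1.le hy, fun x hx b _ => by
    rw [commutatorElement_eq_one_iff_mul_comm.2 (hYX y hy x hx).symm]; exact Commute.one_right b⟩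
  have hconjR : ∀ w : G, (∀ z ∈ R, ∀ y ∈ X, w * ⁅z, y⁆ * w⁻¹ = ⁅z, y⁆) →
      ∀ z ∈ R, w * z * w⁻¹ ∈ R := by
    intro w hw z hz
    refine ⟨hXY.2.1.conj_mem z hz.1 w, fun y hy b hb => ?_⟩
    have hy' : w⁻¹ * y * w ∈ X := by simpa using hXY.2.1.conj_mem y hy w⁻¹
    have h1 : ⁅w * z * w⁻¹, y⁆ = ⁅z, w⁻¹ * y * w⁆ := by
      rw [← hw z hz _ hy']; simp only [commutatorElement_def]; group
    rw [h1]
    exact hz.2 _ hy' b hb
  have hM₀R : M₀ ≤ normalizer (R : Set G) := le_normalizer_of_cj_le fun m hm =>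
    hconjR m fun z hz y hy => by
      rw [(mem_centralizer_iff.1 (commutator_eq_bot_iff_le_centralizer.1 hM₀Y hm) _ (hXX' z hz.1 y hy)).symm,
        mul_inv_cancel_right]
  have hBR : B ≤ normalizer (R : Set G) := le_normalizer_of_cj_le fun b hb =>
    hconjR b fun z hz y hy => by rw [(hz.2 y hy b hb).eq, mul_inv_cancel_right]
  have hZBR : ∀ h ∈ ZB, h ∈ X → h ∈ R := by
    intro h hh hhX
    refine ⟨hhX, fun y hy b hb => ?_⟩
    set c := ⁅b, y⁆ with hc
    have hcB : c ∈ B := by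
      have := inv_mem (hBA (commutator_mem_commutator (hXA hy) hb))
      rwa [commutatorElement_inv] at this
    have hcX : c ∈ X := commutator_le_right B X (commutator_mem_commutator hb hy)
    have h1 : Commute b h := mem_centralizer_iff.1 hh.2 b hb
    have h2 : Commute h c := (mem_centralizer_iff.1 hh.2 c hcB).symm
    have h3 : b * ⁅h, y⁆ * b⁻¹ = ⁅h, y⁆ := by
      calc b * ⁅h, y⁆ * b⁻¹ = ⁅b * h * b⁻¹, b * y * b⁻¹⁆ := by simp only [commutatorElement_def]; group
        _ = ⁅h, c * y⁆ := by rw [h1.eq, mul_inv_cancel_right, hc, commutatorElement_def b y]; congr 1; group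
        _ = ⁅h, c⁆ * (c * ⁅h, y⁆ * c⁻¹) := by simp only [commutatorElement_def]; group
        _ = ⁅h, y⁆ := by
          rw [commutatorElement_eq_one_iff_mul_comm.2 h2.eq, one_mul, hYX _ (hXX' h hhX y hy) c hcX,
            mul_inv_cancel_right]
    calc b * ⁅h, y⁆ = (b * ⁅h, y⁆ * b⁻¹) * b := by group
      _ = ⁅h, y⁆ * b := by rw [h3]
  have hRB : ⁅B, R⁆ ≤ ZB := by
    have hRR : ⁅R, R⁆ ≤ Y := (commutator_mono hRX hRX).trans hXX
    refine hB.2.2 R ?_ ((hRX.trans hXA).trans hAQ) hBR ?_ ?_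
    · exact hRR.trans (le_centralizer_iff.1 ((hRX).trans
        (commutator_eq_bot_iff_le_centralizer.1 hXYbot)))
    · refine commutator_eq_bot_iff_le_centralizer.2 fun b hb => ?_
      have hle : ⁅R, R⁆ ≤ centralizer ({b} : Set G) := commutator_le.2 fun z hz y hy =>
        mem_centralizer_singleton_iff.2 (hz.2 y hy.1 b hb).eq.symm
      exact mem_centralizer_iff.2 fun w hw => mem_centralizer_singleton_iff.1 (hle hw)
    · refine le_bot_iff.1 ((commutator_mono ((commutator_mono hZBT (hRX.trans hXA)).trans hA3)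
        (hRX.trans hXA)).trans ?_)
      exact (commutator_eq_bot_iff_le_centralizer.2 inf_le_right).le
  -- the complement
  set π := QuotientGroup.mk' Y.normalCore with hπ
  have hker : π.ker = Y := by rw [hπ, QuotientGroup.ker_mk', normalCore_eq_self]
  obtain ⟨C, hCX, hCn, hCdisj, hCsup⟩ := hCR π rfl (R.map π) (map_mono hRX)
    ((map_mono (sup_le hM₀R hBR)).trans (le_normalizer_map π))
  have hCB : ∀ b ∈ B, π b ∈ normalizer (C : Set _) := fun b hb =>
    hCn (mem_map_of_mem π ((le_sup_right : B ≤ M₀ ⊔ B) hb))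
  have habX : X.map π ≤ centralizer ((X.map π : Subgroup _) : Set _) := by
    rw [← commutator_eq_bot_iff_le_centralizer, ← map_commutator, Subgroup.map_eq_bot_iff, hker]
    exact hXX
  have hπone : ∀ w : G, π w = 1 ↔ w ∈ Y := fun w => by rw [← MonoidHom.mem_ker, hker]
  have hquad' : ∀ x ∈ X, ∀ a ∈ B, ∀ b ∈ B, ⁅⁅x, a⁆, b⁆ ∈ Y := by
    intro x hx a ha b hb
    have hx' : π x ∈ R.map π ⊔ C := hCsup.ge (mem_map_of_mem π hx)
    rw [← SetLike.mem_coe, coe_mul_of_left_le_normalizer_right _ _ (((map_mono hRX).trans habX).trans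
      ((centralizer_le hCX).trans (centralizer_le_normalizer (C : Set (G ⧸ Y.normalCore)))))] at hx'
    obtain ⟨_, ⟨r, hr, rfl⟩, c, hc, hrc⟩ := hx'
    obtain ⟨c₀, hc₀X, rfl⟩ := hCX hc
    replace hrc : π (r * c₀) = π x := (map_mul π r c₀).trans hrc
    have hr1 : ⁅⁅r, a⁆, b⁆ = 1 := by
      rw [commutatorElement_eq_one_iff_mul_comm]
      have := hRB (commutator_mem_commutator ha hr)
      have h2 := inv_mem this
      rw [commutatorElement_inv] at h2
      exact (mem_centralizer_iff.1 h2.2 b hb).symm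
    have hc1 : π ⁅⁅c₀, a⁆, b⁆ = 1 := by
      have hca : ⁅c₀, a⁆ ∈ B := hBA (commutator_mem_commutator (hXA hc₀X) ha)
      have hcaX : ⁅c₀, a⁆ ∈ X := commutator_le_left X B (commutator_mem_commutator hc₀X ha)
      have hh : ⁅⁅c₀, a⁆, b⁆ ∈ R := hZBR _ (hBB (commutator_mem_commutator hca hb))
        (commutator_le_left X B (commutator_mem_commutator hcaX hb))
      have hconjC : ∀ w ∈ C, ∀ e ∈ B, ⁅w, π e⁆ ∈ C := by
        intro w hw e he
        rw [commutatorElement_def, show w * π e * w⁻¹ * (π e)⁻¹ = w * (π e * w⁻¹ * (π e)⁻¹) by group]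
        exact mul_mem hw ((mem_normalizer_iff.1 (hCB e he) _).1 (inv_mem hw))
      have hhC : π ⁅⁅c₀, a⁆, b⁆ ∈ C := by
        rw [map_commutatorElement, map_commutatorElement]
        exact hconjC _ (hconjC _ hc a ha) b hb
      have h' : π ⁅⁅c₀, a⁆, b⁆ ∈ R.map π ⊓ C := mem_inf.2 ⟨mem_map_of_mem π hh, hhC⟩
      rw [hCdisj, mem_bot] at h'
      exact h'
    rw [← hπone, map_commutatorElement, map_commutatorElement, ← hrc, map_mul]
    have habel : ∀ u ∈ X.map π, ∀ v ∈ X.map π, ∀ e : G ⧸ Y.normalCore, ⁅u * v, e⁆ = ⁅u, e⁆ * ⁅v, e⁆ := by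
      intro u hu v hv e
      have hvX : ⁅v, e⁆ ∈ X.map π := by
        haveI := Normal.map hXY.2.1 π (QuotientGroup.mk'_surjective _)
        exact commutator_le_left _ ⊤ (commutator_mem_commutator hv (mem_top e))
      have hcu : ⁅v, e⁆ * ⁅u, e⁆ = ⁅u, e⁆ * ⁅v, e⁆ := by
        haveI := Normal.map hXY.2.1 π (QuotientGroup.mk'_surjective _)
        exact mem_centralizer_iff.1 (habX (commutator_le_left _ ⊤ (commutator_mem_commutator hu (mem_top e))))
          _ hvX
      have huv : u * ⁅v, e⁆ = ⁅v, e⁆ * u := (mem_centralizer_iff.1 (habX hu) _ hvX).symm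
      calc ⁅u * v, e⁆ = u * ⁅v, e⁆ * u⁻¹ * ⁅u, e⁆ := by simp only [commutatorElement_def]; group
        _ = ⁅v, e⁆ * ⁅u, e⁆ := by rw [huv, mul_inv_cancel_right]
        _ = _ := hcu
    have hcomm : ∀ u ∈ X, ∀ e, ⁅π u, π e⁆ ∈ X.map π := fun u hu e => by
      rw [← map_commutatorElement]
      exact mem_map_of_mem π (commutator_le_left X ⊤ (commutator_mem_commutator hu (mem_top e)))
    rw [habel _ (mem_map_of_mem π (hRX hr)) _ (mem_map_of_mem π hc₀X),
      habel _ (hcomm r (hRX hr) a) _ (hcomm c₀ hc₀X a),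
      ← map_commutatorElement, ← map_commutatorElement, hr1, map_one, one_mul,
      ← map_commutatorElement, ← map_commutatorElement, hc1]
  refine hg (hkills g hgB X Y hXY hXA ?_)
  set ρ := QuotientGroup.mk' Y with hρ
  refine le_trans (commutator_mono (commutator_mono le_rfl (zpowers_le.2 hgB)) (zpowers_le.2 hgB)) ?_
  have h1 : ⁅X, B⁆ ≤ (centralizer ((B.map ρ : Subgroup _) : Set _)).comap ρ := by
    refine commutator_le.2 fun x hx a ha => mem_centralizer_iff.2 ?_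
    rintro _ ⟨b, hb, rfl⟩
    refine Eq.symm ?_
    rw [← commutatorElement_eq_one_iff_mul_comm, ← map_commutatorElement]
    exact (QuotientGroup.eq_one_iff _).2 (hquad' x hx a ha b hb)
  rw [← QuotientGroup.ker_mk' Y, ← Subgroup.map_eq_bot_iff, map_commutator,
    commutator_eq_bot_iff_le_centralizer]
  exact map_le_iff_le_comap.2 h1

end CfsgLib.Kinf
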