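import Cfsg.Agent.Kinf.Basic

/-!
Centralizers of the terms, transport along injective homomorphisms, invariance.
-/

set_option autoImplicit false

namespace CfsgLib.Kinf

open Subgroup Cfsg

universe u

variable {P : Type*} [Group P]

theorem normalizer_le_normalizer_centralizer' (B : Subgroup P) :
    normalizer (B : Set P) ≤ normalizer ((centralizer (B : Set P) : Subgroup P) : Set P) := by
  intro g hg
  rw [mem_normalizer_iff]
  have key : ∀ g ∈ normalizer (B : Set P), ∀ c ∈ centralizer (B : Set P),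
      g * c * g⁻¹ ∈ centralizer (B : Set P) := by
    intro g hg c hc
    refine mem_centralizer_iff.2 fun b hb => ?_
    have hb' : g⁻¹ * b * g ∈ B := by
      have := (mem_normalizer_iff.1 (inv_mem hg) b).1 hb
      rwa [inv_inv] at this
    calc b * (g * c * g⁻¹) = g * ((g⁻¹ * b * g) * c) * g⁻¹ := by group
      _ = g * (c * (g⁻¹ * b * g)) * g⁻¹ := by rw [mem_centralizer_iff.1 hc _ hb']
      _ = _ := by group
  refine fun c => ⟨key g hg c, fun h => ?_⟩
  simpa [mul_assoc] using key g⁻¹ (inv_mem hg) _ h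

theorem upper_max_centralizer_le [Group.IsNilpotent P] {Q B : Subgroup P}
    (hB : B ∈ kUpperStarFamily Q) (hmax : ∀ C ∈ kUpperStarFamily Q, B ≤ C → C = B) :
    centralizer (B : Set P) ≤ B := by
  by_contra hC
  have hQN : Q ≤ normalizer (B : Set P) := le_normalizer_iff_commutator_le_left.2 (hB.2.trans inf_le_left)
  obtain ⟨z, hz, hzB, hcomm⟩ := exists_central_mod hC (N := Q)
    (hQN.trans (normalizer_le_normalizer_centralizer' B))
  refine hzB ?_
  have hmem : B ⊔ zpowers z ∈ kUpperStarFamily Q := by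
    refine ⟨classTwo_sup hB.1 hz, le_trans ?_ (center_le_center_sup hz)⟩
    refine commutator_sup_zpowers_le (sup_le ?_ (zpowers_le.2 ?_)) (fun b hb q hq => ?_) ?_
    · exact le_centralizer_iff.1 inf_le_right
    · exact centralizer_le inf_le_left hz
    · exact hB.2 (commutator_mem_commutator hb hq)
    · exact fun q hq => ⟨(hcomm q hq).2, (hcomm q hq).1⟩
  exact hmax _ hmem le_sup_left ▸ (le_sup_right : zpowers z ≤ _) (mem_zpowers z)

theorem lower_max_centralizer_le [Group.IsNilpotent P] {Q B : Subgroup P}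
    (hB : B ∈ kLowerStarFamily Q) (hmax : ∀ C ∈ kLowerStarFamily Q, B ≤ C → C = B) :
    centralizer (B : Set P) ≤ B := by
  by_contra hC
  have hQN : Q ≤ normalizer (B : Set P) := hB.2.1
  obtain ⟨z, hz, hzB, hcomm⟩ := exists_central_mod hC (N := Q)
    (hQN.trans (normalizer_le_normalizer_centralizer' B))
  refine hzB ?_
  have hM : B ⊔ zpowers z ≤ centralizer ((B ⊓ centralizer (B : Set P) : Subgroup P) : Set P) :=
    sup_le (le_centralizer_iff.1 inf_le_right)
      (zpowers_le.2 (centralizer_le inf_le_left hz))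
  have hzQ : ∀ q ∈ Q, z * q * z⁻¹ * q⁻¹ ∈ B ⊓ centralizer (B : Set P) :=
    fun q hq => ⟨(hcomm q hq).2, (hcomm q hq).1⟩
  have hmem : B ⊔ zpowers z ∈ kLowerStarFamily Q := by
    refine ⟨classTwo_sup hB.1 hz, ?_, fun A hA hAQ hBA hA1 hA2 => ?_⟩
    · have hle : ∀ q ∈ Q, ∀ x ∈ B ⊔ zpowers z, q * x * q⁻¹ ∈ B ⊔ zpowers z := by
        intro q hq
        have : B ⊔ zpowers z ≤ (B ⊔ zpowers z).comap (MulAut.conj q).toMonoidHom := by
          refine sup_le (fun b hb => ?_) (zpowers_le.2 ?_)
          · exact (le_sup_left : B ≤ B ⊔ zpowers z) (by simpa using (mem_normalizer_iff.1 (hQN hq) b).1 hb)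
          · have h1 := inv_mem ((le_sup_left : B ≤ B ⊔ zpowers z) (hzQ q hq).1)
            have h2 := mul_mem h1 ((le_sup_right : zpowers z ≤ B ⊔ zpowers z) (mem_zpowers z))
            show q * z * q⁻¹ ∈ B ⊔ zpowers z
            simpa [mul_assoc] using h2
        exact this
      intro q hq
      refine mem_normalizer_iff.2 fun x => ⟨hle q hq x, fun h => ?_⟩
      simpa [mul_assoc] using hle q⁻¹ (inv_mem hq) _ h
    · have hBA' : ⁅B, A⁆ ≤ B ⊓ centralizer (B : Set P) := by
        refine hB.2.2 A hA hAQ (le_sup_left.trans hBA) (le_bot_iff.1 ?_) (le_bot_iff.1 ?_)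
        · exact hA1 ▸ commutator_mono le_sup_left le_rfl
        · exact hA2 ▸ commutator_mono (commutator_mono (center_le_center_sup hz) le_rfl) le_rfl
      refine le_trans ?_ (center_le_center_sup hz)
      exact commutator_sup_zpowers_le hM (fun b hb q hq => hBA' (commutator_mem_commutator hb hq))
        (fun q hq => hzQ q (hAQ hq))
  exact hmax _ hmem le_sup_left ▸ (le_sup_right : zpowers z ≤ _) (mem_zpowers z)

section Center

variable [Finite P] {p : ℕ} [Fact p.Prime] (hP : IsPGroup p P)
include hP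

theorem centralizer_kSeqEven_le (n : ℕ) :
    centralizer (kSeqEven P n : Set P) ≤ kSeqEven P n := by
  have := hP.isNilpotent
  have hbot : (⊥ : Subgroup P) ∈ kLowerStarFamily (kSeqOdd P n) :=
    abelian_mem_lower (inferInstance) _
  obtain ⟨B, hB, hmax⟩ := Set.Finite.exists_maximal
    (Set.toFinite (kLowerStarFamily (kSeqOdd P n))) ⟨⊥, hbot⟩
  have hle : B ≤ kSeqEven P n := le_sSup hB
  exact (centralizer_le hle).trans ((lower_max_centralizer_le hB
    fun C hC hBC => le_antisymm (hmax hC hBC) hBC).trans hle)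

theorem centralizer_kSeqOdd_succ_le (n : ℕ) :
    centralizer (kSeqOdd P (n + 1) : Set P) ≤ kSeqOdd P (n + 1) := by
  have := hP.isNilpotent
  have hbot : (⊥ : Subgroup P) ∈ kUpperStarFamily (kSeqEven P n) :=
    abelian_mem_upper (inferInstance) _
  obtain ⟨B, hB, hmax⟩ := Set.Finite.exists_maximal
    (Set.toFinite (kUpperStarFamily (kSeqEven P n))) ⟨⊥, hbot⟩
  have hle : B ≤ kSeqOdd P (n + 1) := le_sSup hB
  exact (centralizer_le hle).trans ((upper_max_centralizer_le hB
    fun C hC hBC => le_antisymm (hmax hC hBC) hBC).trans hle)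

end Center

theorem centralizer_kInfLower_le {P : Type u} [Group P] [Finite P] {p : ℕ} [Fact p.Prime]
    (hP : IsPGroup p P) : centralizer (kInfLower P : Set P) ≤ kInfLower P := by
  obtain ⟨n, hn⟩ := eventually_const P
  rw [← (hn n le_rfl).1]
  exact centralizer_kSeqEven_le hP n

theorem centralizer_kInfUpper_le {P : Type u} [Group P] [Finite P] {p : ℕ} [Fact p.Prime]
    (hP : IsPGroup p P) : centralizer (kInfUpper P : Set P) ≤ kInfUpper P := by
  obtain ⟨n, hn⟩ := eventually_const P
  rw [← (hn (n + 1) (Nat.le_succ n)).2]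
  exact centralizer_kSeqOdd_succ_le hP n

section Map

variable {R : Type*} [Group R] (f : R →* P) (hf : Function.Injective f)
include hf

theorem center_map (B : Subgroup R) :
    (B ⊓ centralizer (B : Set R)).map f =
      B.map f ⊓ centralizer ((B.map f : Subgroup P) : Set P) := by
  refine le_antisymm ?_ ?_
  · rintro _ ⟨x, ⟨hxB, hx⟩, rfl⟩
    refine ⟨mem_map_of_mem f hxB, mem_centralizer_iff.2 ?_⟩
    rintro _ ⟨b, hb, rfl⟩
    rw [← map_mul, ← map_mul, mem_centralizer_iff.1 hx b hb]
  · rintro _ ⟨⟨x, hx, rfl⟩, h⟩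
    refine ⟨x, ⟨hx, mem_centralizer_iff.2 fun b hb => hf ?_⟩, rfl⟩
    rw [map_mul, map_mul]
    exact mem_centralizer_iff.1 h (f b) (mem_map_of_mem f hb)

theorem map_le_normalizer_map {A B : Subgroup R} :
    A.map f ≤ normalizer ((B.map f : Subgroup P) : Set P) ↔ A ≤ normalizer (B : Set R) := by
  rw [le_normalizer_iff_commutator_le_left, ← map_commutator, map_le_map_iff_of_injective hf,
    le_normalizer_iff_commutator_le_left]

theorem classTwo_map {B : Subgroup R} :
    B.map f ∈ classTwoSubgroups P ↔ B ∈ classTwoSubgroups R := by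
  rw [mem_classTwo, mem_classTwo]
  constructor
  · intro h
    have h' : ⁅B, B⁆.map f ≤ (B ⊓ centralizer (B : Set R)).map f := by
      rw [center_map f hf, map_commutator]; exact le_inf (commutator_le_self _) h
    exact ((map_le_map_iff_of_injective hf).1 h').trans inf_le_right
  · intro h
    have h' : ⁅B, B⁆ ≤ B ⊓ centralizer (B : Set R) := le_inf (commutator_le_self _) h
    have h'' := map_mono (f := f) h'
    rw [center_map f hf, map_commutator] at h''
    exact h''.trans inf_le_right

theorem upper_map {B X : Subgroup R} :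
    B.map f ∈ kUpperStarFamily (X.map f) ↔ B ∈ kUpperStarFamily X := by
  rw [mem_upper, mem_upper, classTwo_map f hf, ← map_commutator, ← center_map f hf,
    map_le_map_iff_of_injective hf]

theorem lower_map {B X : Subgroup R} :
    B.map f ∈ kLowerStarFamily (X.map f) ↔ B ∈ kLowerStarFamily X := by
  have hbot : ∀ C : Subgroup R, C.map f = ⊥ ↔ C = ⊥ :=
    fun C => map_eq_bot_iff_of_injective C hf
  rw [mem_lower, mem_lower, classTwo_map f hf, map_le_normalizer_map f hf]
  refine and_congr_right fun _ => and_congr_right fun _ => ?_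
  constructor
  · intro h A hA hAX hBA h1 h2
    have := h (A.map f) ((classTwo_map f hf).2 hA) (map_mono hAX)
      ((map_le_normalizer_map f hf).2 hBA)
      (by rw [← map_commutator, ← map_commutator, hbot]; exact h1)
      (by rw [← center_map f hf, ← map_commutator, ← map_commutator, hbot]; exact h2)
    rwa [← map_commutator, ← center_map f hf, map_le_map_iff_of_injective hf] at this
  · intro h A hA hAX hBA h1 h2
    obtain ⟨A, rfl⟩ : ∃ A' : Subgroup R, A = A'.map f :=
      ⟨A.comap f, (map_comap_eq_self (hAX.trans (map_le_range f X))).symm⟩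
    have := h A ((classTwo_map f hf).1 hA) ((map_le_map_iff_of_injective hf).1 hAX)
      ((map_le_normalizer_map f hf).1 hBA)
      (by rw [← hbot, map_commutator, map_commutator]; exact h1)
      (by rw [← hbot, map_commutator, map_commutator, center_map f hf]; exact h2)
    rw [← map_commutator, ← center_map f hf]
    exact map_mono this

/-- The image of the join of a lower-star family is inside the join upstairs. -/
theorem map_sSup_lower_le (X : Subgroup R) :
    (sSup (kLowerStarFamily X)).map f ≤ sSup (kLowerStarFamily (X.map f)) := by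
  rw [sSup_eq_iSup, map_iSup]
  refine iSup_le fun B => ?_
  rw [map_iSup]
  exact iSup_le fun hB => le_sSup ((lower_map f hf).2 hB)

theorem map_sSup_upper_le (X : Subgroup R) :
    (sSup (kUpperStarFamily X)).map f ≤ sSup (kUpperStarFamily (X.map f)) := by
  rw [sSup_eq_iSup, map_iSup]
  refine iSup_le fun B => ?_
  rw [map_iSup]
  exact iSup_le fun hB => le_sSup ((upper_map f hf).2 hB)

/-- Members upstairs that lie in the range come from downstairs. -/
theorem le_map_sSup_lower {X : Subgroup R} {C : Subgroup P}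
    (hC : C ∈ kLowerStarFamily (X.map f)) (hr : C ≤ f.range) :
    C ≤ (sSup (kLowerStarFamily X)).map f := by
  obtain ⟨B, rfl⟩ : ∃ B : Subgroup R, C = B.map f := ⟨C.comap f, (map_comap_eq_self hr).symm⟩
  exact map_mono (le_sSup ((lower_map f hf).1 hC))

theorem le_map_sSup_upper {X : Subgroup R} {C : Subgroup P}
    (hC : C ∈ kUpperStarFamily (X.map f)) (hr : C ≤ f.range) :
    C ≤ (sSup (kUpperStarFamily X)).map f := by
  obtain ⟨B, rfl⟩ : ∃ B : Subgroup R, C = B.map f := ⟨C.comap f, (map_comap_eq_self hr).symm⟩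
  exact map_mono (le_sSup ((upper_map f hf).1 hC))

/-- The two sequences of `R` interleave with those of `P` when the terms of nonnegative index of
`P` lie in the image of `R`. -/
theorem interleave (hr : ∀ n, kSeqEven P n ≤ f.range ∧ kSeqOdd P (n + 1) ≤ f.range) (n : ℕ) :
    kSeqOdd P (n + 1) ≤ (kSeqOdd R n).map f ∧ (kSeqOdd R n).map f ≤ kSeqOdd P n ∧
      kSeqEven P n ≤ (kSeqEven R n).map f ∧ (kSeqEven R n).map f ≤ kSeqEven P (n + 1) := by
  suffices key : ∀ m, kSeqOdd P (m + 1) ≤ (kSeqOdd R m).map f ∧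
      (kSeqOdd R m).map f ≤ kSeqOdd P m by
    have e : ∀ m, kSeqEven P m ≤ (kSeqEven R m).map f ∧ (kSeqEven R m).map f ≤ kSeqEven P (m + 1) := by
      intro m
      refine ⟨sSup_le fun C hC => ?_, ?_⟩
      · exact le_map_sSup_lower f hf (lower_anti (key m).2 hC) ((le_sSup hC).trans (hr m).1)
      · exact (map_sSup_lower_le f hf _).trans (sSup_le_sSup (lower_anti (key m).1))
    exact ⟨(key n).1, (key n).2, (e n).1, (e n).2⟩
  intro m
  induction m with
  | zero =>
    refine ⟨?_, le_top⟩
    rw [kSeqOdd_zero, ← MonoidHom.range_eq_map]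
    exact (hr 0).2
  | succ m ih =>
    have e1 : kSeqEven P m ≤ (kSeqEven R m).map f := sSup_le fun C hC =>
      le_map_sSup_lower f hf (lower_anti ih.2 hC) ((le_sSup hC).trans (hr m).1)
    have e2 : (kSeqEven R m).map f ≤ kSeqEven P (m + 1) :=
      (map_sSup_lower_le f hf _).trans (sSup_le_sSup (lower_anti ih.1))
    refine ⟨sSup_le fun C hC => ?_, ?_⟩
    · exact le_map_sSup_upper f hf (upper_anti e2 hC) ((le_sSup hC).trans (hr (m + 1)).2)
    · exact (map_sSup_upper_le f hf _).trans (sSup_le_sSup (upper_anti e1))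

end Map

theorem kInf_map {P R : Type u} [Group P] [Group R] (f : R →* P) (hf : Function.Injective f)
    (hr : ∀ n, kSeqEven P n ≤ f.range ∧ kSeqOdd P (n + 1) ≤ f.range) :
    (kInfLower R).map f = kInfLower P ∧ (kInfUpper R).map f = kInfUpper P := by
  have h := interleave f hf hr
  refine ⟨?_, le_antisymm (le_iInf fun n => ?_) ?_⟩
  · rw [kInfLower, map_iSup]
    exact le_antisymm (iSup_le fun n => (h n).2.2.2.trans (le_iSup (kSeqEven P) (n + 1)))
      (iSup_mono fun n => (h n).2.2.1)
  · exact (map_mono (iInf_le (kSeqOdd R) n)).trans (h n).2.1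
  · rw [kInfUpper, kInfUpper, map_iInf f hf]
    exact le_iInf fun n => (iInf_le (kSeqOdd P) (n + 1)).trans (h n).1

theorem isCharPFunctor_kInf (p : ℕ) [Fact p.Prime] :
    Cfsg.IsCharPFunctor.{u} p (fun Q [Group Q] => kInfLower Q) ∧
      Cfsg.IsCharPFunctor.{u} p (fun Q [Group Q] => kInfUpper Q) := by
  refine ⟨⟨fun Q _ _ hQ hn hb => ?_, fun Q R _ _ _ _ φ => ?_⟩,
    ⟨fun Q _ _ hQ hn hb => ?_, fun Q R _ _ _ _ φ => ?_⟩⟩
  · have h : centralizer ((kInfLower Q : Subgroup Q) : Set Q) ≤ kInfLower Q :=
      centralizer_kInfLower_le hQ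
    have hb' : kInfLower Q = ⊥ := hb
    rw [hb'] at h
    obtain ⟨x, hx⟩ := exists_ne (1 : Q)
    exact hx (mem_bot.1 (h (mem_centralizer_iff.2 fun y hy => by simp [mem_bot.1 hy])))
  · exact (kInf_map φ.toMonoidHom φ.injective fun n => by
      simp).1
  · have h : centralizer ((kInfUpper Q : Subgroup Q) : Set Q) ≤ kInfUpper Q :=
      centralizer_kInfUpper_le hQ
    have hb' : kInfUpper Q = ⊥ := hb
    rw [hb'] at h
    obtain ⟨x, hx⟩ := exists_ne (1 : Q)
    exact hx (mem_bot.1 (h (mem_centralizer_iff.2 fun y hy => by simp [mem_bot.1 hy])))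
  · exact (kInf_map φ.toMonoidHom φ.injective fun n => by
      simp).2

end CfsgLib.Kinf
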