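import Cfsg.Agent.Kinf.Stabilizer
import Cfsg.Agent.Kinf.Terms
import Cfsg.Agent.Kinf.Critical

/-!
Normality of the K-infinity subgroups in terms of the action on a critical subgroup.
-/

set_option autoImplicit false
set_option linter.unusedSectionVars false
set_option linter.style.haveILetI false

namespace CfsgLib.Kinf

open Subgroup CfsgLib.Functor
open scoped CfsgLib.Functor commutatorElement

universe u

variable {G : Type u} [Group G] [Finite G] {p : ℕ} [Fact p.Prime]

theorem iterCommutator_three {U Y : Subgroup G} :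
    Cfsg.iterCommutator U Y 3 = ⁅⁅⁅U, Y⁆, Y⁆, Y⁆ := rfl

/-- Elements of a class-two subgroup normalized by `A` act unipotently on `A`. -/
theorem classTwo_iter {A B : Subgroup G} (hB : B ∈ Cfsg.classTwoSubgroups G)
    (hAB : A ≤ normalizer (B : Set G)) {g : G} (hg : g ∈ B) :
    Cfsg.iterCommutator A (zpowers g) 3 = ⊥ := by
  have hg' : zpowers g ≤ B := zpowers_le.2 hg
  rw [iterCommutator_three]
  refine le_bot_iff.1 ?_
  have h1 : ⁅A, zpowers g⁆ ≤ B :=
    (commutator_mono le_rfl hg').trans (le_normalizer_iff_commutator_le_right.1 hAB)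
  exact (commutator_mono (commutator_mono h1 hg') hg').trans
    (commutator_eq_bot_iff_le_centralizer.2 hB).le

/-- The two engines imply normality of both K-infinity subgroups. -/
theorem kInf_normal_of (S : Sylow p G) (T A : Subgroup G) (hT : T = Cfsg.pCore p G) [A.Normal]
    (hAT : A ≤ T) (hA2 : ⁅A, A⁆ ≤ centralizer (A : Set G))
    (hA3 : ⁅T, A⁆ ≤ A ⊓ centralizer (A : Set G))
    (E1 : ∀ g ∈ (S : Subgroup G), ⁅⁅A ⊓ centralizer (A : Set G), zpowers g⁆, zpowers g⁆ = ⊥ →
      ⁅⁅A, zpowers g⁆, zpowers g⁆ ≤ A ⊓ centralizer (A : Set G) → g ∈ T)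
    (E2 : ∀ B Q : Subgroup G, B ≤ (S : Subgroup G) → B ∈ Cfsg.kLowerStarFamily Q → A ≤ Q →
      B ⊓ centralizer (B : Set G) ≤ T →
      ⁅B, A ⊓ centralizer (A : Set G)⁆ ≤ B ⊓ centralizer (B : Set G) → B ≤ T) :
    (Cfsg.inducedFunctor (G := G) Cfsg.kInfLower (S : Subgroup G)).Normal ∧
      (Cfsg.inducedFunctor (G := G) Cfsg.kInfUpper (S : Subgroup G)).Normal := by
  set ZA := A ⊓ centralizer (A : Set G) with hZA
  have hTn : T.Normal := hT ▸ inferInstance
  have hTp : IsPGroup p T := hT ▸ Solvable.isPGroup_pCore p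
  have hTS : T ≤ S := by
    obtain ⟨n, -, hle⟩ := (isSylowIn_top S).exists_cj_le hTp le_top
    rwa [mem_normalizer_iff_cj.1 (by rw [normalizer_eq_top]; exact mem_top n)] at hle
  have hZAA : ⁅ZA, A⁆ = ⊥ := commutator_eq_bot_iff_le_centralizer.2 inf_le_right
  have hAclass : A ∈ Cfsg.classTwoSubgroups G := hA2
  set f := (S : Subgroup G).subtype with hf
  have hfi := (S : Subgroup G).subtype_injective
  set A' := A.subgroupOf (S : Subgroup G) with hA'
  have hA'map : A'.map f = A := map_subgroupOf_eq_of_le (hAT.trans hTS)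
  -- A is a test and a member
  have hAlow : ∀ Q : Subgroup G, Q ≤ (S : Subgroup G) → A ∈ Cfsg.kLowerStarFamily Q := by
    intro Q hQS
    refine ⟨hAclass, fun x _ => by rw [normalizer_eq_top]; exact mem_top x, ?_⟩
    intro X hX hXQ hAX hXX hZX
    have hXT : X ≤ T := by
      intro g hg
      have hg' : zpowers g ≤ X := zpowers_le.2 hg
      refine E1 g (hQS (hXQ hg)) (le_bot_iff.1 (hZX ▸ commutator_mono (commutator_mono le_rfl hg') hg')) ?_
      refine le_inf ?_ ?_
      · exact (commutator_mono (commutator_le_left A _) le_rfl).trans (commutator_le_left A _)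
      · refine le_trans (commutator_mono ((commutator_mono le_rfl hg').trans
          (le_normalizer_iff_commutator_le_right.1 hAX)) hg') ?_
        rw [le_centralizer_iff, ← commutator_eq_bot_iff_le_centralizer]
        exact hXX
    rw [commutator_comm]
    exact (commutator_mono hXT le_rfl).trans hA3
  have hupA : ∀ Q : Subgroup G, Q ≤ T → A ∈ Cfsg.kUpperStarFamily Q := fun Q hQ =>
    ⟨hAclass, by rw [commutator_comm]; exact (commutator_mono hQ le_rfl).trans hA3⟩
  have hupper : ∀ B Q : Subgroup G, B ≤ (S : Subgroup G) → A ≤ Q → B ∈ Cfsg.kUpperStarFamily Q →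
      B ≤ T := by
    intro B Q hBS hAQ hB g hg
    have hg' : zpowers g ≤ B := zpowers_le.2 hg
    have h2 : ⁅⁅A, zpowers g⁆, zpowers g⁆ = ⊥ := by
      refine le_bot_iff.1 ((commutator_mono (commutator_mono hAQ hg') hg').trans ?_)
      rw [commutator_comm Q B]
      exact (commutator_mono hB.2 le_rfl).trans
        (commutator_eq_bot_iff_le_centralizer.2 inf_le_right).le
    exact E1 g (hBS hg) (le_bot_iff.1 (h2 ▸ commutator_mono (commutator_mono inf_le_left le_rfl) le_rfl))
      (h2.le.trans bot_le)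
  have hlower : ∀ B Q : Subgroup G, B ≤ (S : Subgroup G) → A ≤ Q → B ∈ Cfsg.kLowerStarFamily Q →
      B ≤ T := by
    intro B Q hBS hAQ hB
    have hAB : A ≤ normalizer (B : Set G) := hAQ.trans hB.2.1
    have hBA : ⁅A, B⁆ ≤ B := le_normalizer_iff_commutator_le_right.1 hAB
    set ZB := B ⊓ centralizer (B : Set G) with hZB
    have hZBT : ZB ≤ T := by
      intro g hg
      have hg' : zpowers g ≤ ZB := zpowers_le.2 hg
      have h2 : ⁅⁅A, zpowers g⁆, zpowers g⁆ = ⊥ := by
        refine le_bot_iff.1 ((commutator_mono ((commutator_mono le_rfl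
          (hg'.trans inf_le_left)).trans hBA) hg').trans ?_)
        rw [commutator_comm]
        exact (commutator_eq_bot_iff_le_centralizer.2 inf_le_right).le
      exact E1 g (hBS hg.1) (le_bot_iff.1 (h2 ▸ commutator_mono (commutator_mono inf_le_left le_rfl) le_rfl))
        (h2.le.trans bot_le)
    refine E2 B Q hBS hB hAQ hZBT ?_
    refine hB.2.2 ZA (classTwo_of_comm (le_centralizer_iff_isMulCommutative.1
      (inf_le_right.trans (centralizer_le inf_le_left)))) (inf_le_left.trans hAQ) ?_ ?_ ?_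
    · intro x _; rw [normalizer_eq_top]; exact mem_top x
    · rw [commutator_eq_bot_iff_le_centralizer.2 (inf_le_right.trans (centralizer_le inf_le_left) :
        ZA ≤ centralizer (ZA : Set G)), commutator_bot_right]
    · refine le_bot_iff.1 (le_trans (commutator_mono ((commutator_mono hZBT inf_le_left).trans hA3)
        (inf_le_left : ZA ≤ A)) hZAA.le)
  -- the induction along the sequence
  have key : ∀ n : ℕ, A ≤ (Cfsg.kSeqOdd ↥(S : Subgroup G) n).map f ∧
      (Cfsg.kSeqEven ↥(S : Subgroup G) n).map f ≤ T ∧ A ≤ (Cfsg.kSeqEven ↥(S : Subgroup G) n).map f ∧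
      (Cfsg.kSeqOdd ↥(S : Subgroup G) (n + 1)).map f ≤ T := by
    have step : ∀ n : ℕ, A ≤ (Cfsg.kSeqOdd ↥(S : Subgroup G) n).map f →
        (Cfsg.kSeqEven ↥(S : Subgroup G) n).map f ≤ T ∧ A ≤ (Cfsg.kSeqEven ↥(S : Subgroup G) n).map f ∧
        (Cfsg.kSeqOdd ↥(S : Subgroup G) (n + 1)).map f ≤ T ∧
        A ≤ (Cfsg.kSeqOdd ↥(S : Subgroup G) (n + 1)).map f := by
      intro n hn
      have he : (Cfsg.kSeqEven ↥(S : Subgroup G) n).map f ≤ T := by
        rw [map_le_iff_le_comap]
        refine sSup_le fun B hB => ?_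
        rw [← map_le_iff_le_comap]
        exact hlower _ _ (map_subtype_le B) hn ((lower_map f hfi).2 hB)
      have hAe : A ≤ (Cfsg.kSeqEven ↥(S : Subgroup G) n).map f := by
        rw [← hA'map]
        refine map_mono (le_sSup ((lower_map f hfi).1 ?_))
        rw [hA'map]
        exact hAlow _ (map_subtype_le _)
      refine ⟨he, hAe, ?_, ?_⟩
      · rw [map_le_iff_le_comap]
        refine sSup_le fun B hB => ?_
        rw [← map_le_iff_le_comap]
        exact hupper _ _ (map_subtype_le B) hAe ((upper_map f hfi).2 hB)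
      · rw [← hA'map, kSeqOdd_succ]
        refine map_mono (le_sSup ((upper_map f hfi).1 ?_))
        rw [hA'map]
        exact hupA _ he
    intro n
    suffices h : A ≤ (Cfsg.kSeqOdd ↥(S : Subgroup G) n).map f from
      ⟨h, (step n h).1, (step n h).2.1, (step n h).2.2.1⟩
    induction n with
    | zero =>
      rw [kSeqOdd_zero, ← MonoidHom.range_eq_map, hf, range_subtype]
      exact hAT.trans hTS
    | succ n ih => exact (step n ih).2.2.2
  have hkey : ∀ n : ℕ, Cfsg.kSeqEven ↥(S : Subgroup G) n ≤ (inclusion hTS).range ∧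
      Cfsg.kSeqOdd ↥(S : Subgroup G) (n + 1) ≤ (inclusion hTS).range := by
    intro n
    rw [inclusion_range]
    exact ⟨map_le_iff_le_comap.1 (key n).2.1, map_le_iff_le_comap.1 (key n).2.2.2⟩
  have h := kInf_map (inclusion hTS) (inclusion_injective hTS) hkey
  have hconv : ∀ K : Subgroup T, (K.map (inclusion hTS)).map f = K.map T.subtype := fun K => by
    rw [map_map]; rfl
  constructor
  · haveI := functor_characteristic (isCharPFunctor_kInf.{u} p).1.2 ↥T hTp
    unfold Cfsg.inducedFunctor
    rw [← h.1, hconv]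
    exact ConjAct.normal_of_characteristic_of_normal
  · haveI := functor_characteristic (isCharPFunctor_kInf.{u} p).2.2 ↥T hTp
    unfold Cfsg.inducedFunctor
    rw [← h.2, hconv]
    exact ConjAct.normal_of_characteristic_of_normal

end CfsgLib.Kinf
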