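import Cfsg.Agent.ZJ.Transvection
import Cfsg.Agent.Coprime.Generation

/-!
Elementary abelian 2-groups acting on groups of odd order, not necessarily abelian: eigen-elements, the
counting for offenders, and transvections inverting an element of odd order.
-/

set_option autoImplicit false
set_option linter.style.haveILetI false

namespace CfsgLib.Kinf

open Subgroup CfsgLib.ZJ

/-- An elementary abelian 2-group acting nontrivially on a group of odd order has an element of that
group which it centralizes or inverts, inverted by a given element acting nontrivially. -/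
theorem exists_eigen_odd {M : Type*} [Group M] [Finite M] {A K : Subgroup M}
    (hsq : ∀ a ∈ A, a * a = 1) (hK : Odd (Nat.card K)) (hnorm : A ≤ normalizer (K : Set M))
    {b : M} (hb : b ∈ A) (hne : ∃ k ∈ K, b * k * b⁻¹ ≠ k) :
    ∃ u ∈ K, u ≠ 1 ∧ b * u * b⁻¹ = u⁻¹ ∧ ∀ a ∈ A, a * u * a⁻¹ = u ∨ a * u * a⁻¹ = u⁻¹ := by
  classical
  obtain ⟨R, ⟨hRK, hAR, hbR⟩, hmin⟩ := Set.exists_min_image
    {R : Subgroup M | R ≤ K ∧ A ≤ normalizer (R : Set M) ∧ ∃ k ∈ R, b * k * b⁻¹ ≠ k}
    (fun R => Nat.card R) (Set.toFinite _) ⟨K, le_rfl, hnorm, hne⟩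
  set ψ : A →* MulAut R := R.normalizerMonoidHom.comp (Subgroup.inclusion hAR) with hψ
  have hval : ∀ (a : A) (r : R), ((ψ a r : R) : M) = (a : M) * r * (a : M)⁻¹ := fun a r => rfl
  set Ā := ψ.range with hĀ
  have hAcomm : ∀ x ∈ A, ∀ y ∈ A, x * y = y * x := by
    intro x hx y hy
    have hi : ∀ z ∈ A, z⁻¹ = z := fun z hz => inv_eq_of_mul_eq_one_right (hsq z hz)
    calc x * y = (x * y)⁻¹ := (hi _ (A.mul_mem hx hy)).symm
      _ = y * x := by rw [mul_inv_rev, hi x hx, hi y hy]
  have hsqĀ : ∀ x : Ā, x * x = 1 := by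
    rintro ⟨_, a, rfl⟩
    refine Subtype.ext ?_
    show ψ a * ψ a = 1
    rw [← map_mul, show a * a = 1 from Subtype.ext (hsq a a.2), map_one]
  letI : CommGroup Ā :=
    { (inferInstance : Group Ā) with
      mul_comm := by
        rintro ⟨_, a, rfl⟩ ⟨_, c, rfl⟩
        refine Subtype.ext ?_
        show ψ a * ψ c = ψ c * ψ a
        rw [← map_mul, ← map_mul, show a * c = c * a from Subtype.ext (hAcomm a a.2 c c.2)] }
  have hRodd : Odd (Nat.card R) := hK.of_dvd_nat (Subgroup.card_dvd_of_le hRK)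
  have hcyc : IsCyclic Ā := by
    by_contra hnc
    have hp2 : IsPGroup 2 Ā := fun x => ⟨1, by rw [pow_one, pow_two, hsqĀ]⟩
    obtain ⟨j, hj⟩ := hp2.exists_card_eq
    have hcop : (Nat.card Ā).Coprime (Nat.card R) := by
      rw [hj]; exact (Nat.coprime_two_left.mpr hRodd).pow_left j
    have hgen := CfsgLib.Coprime.closure_fixed_eq_top (A := Ā) (G := R) hnc hcop
    have hle : Subgroup.closure {g : R | ∃ a : Ā, a ≠ 1 ∧ a • g = g} ≤
        (centralizer ({b} : Set M)).subgroupOf R := by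
      rw [closure_le]
      rintro g ⟨⟨_, a, rfl⟩, ha1, hag⟩
      have hag' : (a : M) * g * (a : M)⁻¹ = g := by
        rw [← hval]; exact congrArg Subtype.val hag
      set R' := R ⊓ centralizer ({(a : M)} : Set M) with hR'
      have hgR' : (g : M) ∈ R' :=
        ⟨g.2, mem_centralizer_singleton_iff.mpr (mul_inv_eq_iff_eq_mul.mp hag').symm⟩
      by_contra hgb
      have hgb' : b * g * b⁻¹ ≠ g := fun h => hgb
        (mem_centralizer_singleton_iff.mpr (mul_inv_eq_iff_eq_mul.mp h).symm)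
      have hAR' : A ≤ normalizer (R' : Set M) := by
        intro c hc
        refine mem_normalizer_iff.mpr fun x => ?_
        have hac : (a : M) * c = c * a := hAcomm a a.2 c hc
        simp only [hR', mem_inf, mem_centralizer_singleton_iff]
        refine and_congr (mem_normalizer_iff.mp (hAR hc) x) ⟨fun h => ?_, fun h => ?_⟩
        · calc c * x * c⁻¹ * (a : M) = c * (x * a) * c⁻¹ := by
                rw [mul_assoc (c * x), ← (show Commute (a : M) c⁻¹ from
                  (show Commute (a : M) c from hac).inv_right).eq]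
                group
            _ = c * (a * x) * c⁻¹ := by rw [h]
            _ = (a : M) * (c * x * c⁻¹) := by rw [← mul_assoc c, ← hac]; group
        · have h' := congrArg (fun y => c⁻¹ * y * c) h
          calc x * (a : M) = c⁻¹ * (c * x * c⁻¹ * a) * c := by
                rw [show c⁻¹ * (c * x * c⁻¹ * a) * c = x * (c⁻¹ * (a * c)) by group, hac]
                group
            _ = c⁻¹ * (a * (c * x * c⁻¹)) * c := h'
            _ = (a : M) * x := by
                rw [← mul_assoc (a : M), ← mul_assoc (a : M), hac]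
                group
      have hR'R : R ≤ R' := (eq_of_le_of_card_ge inf_le_left
        (hmin R' ⟨inf_le_left.trans hRK, hAR', g, hgR', hgb'⟩)).ge
      refine ha1 (Subtype.ext (MulEquiv.ext fun r => Subtype.ext ?_))
      show ((ψ a r : R) : M) = r
      rw [hval]
      exact mul_inv_eq_iff_eq_mul.mpr (mem_centralizer_singleton_iff.mp (hR'R r.2).2).symm
    rw [hgen] at hle
    obtain ⟨k, hk, hkb⟩ := hbR
    exact hkb (mul_inv_eq_iff_eq_mul.mpr
      (mem_centralizer_singleton_iff.mp (hle (mem_top (⟨k, hk⟩ : R)))).symm)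
  obtain ⟨gen, hgenr⟩ := IsCyclic.exists_generator (α := Ā)
  have htwo : ∀ x : Ā, x = 1 ∨ x = gen := by
    intro x
    obtain ⟨i, rfl⟩ := mem_zpowers_iff.mp (hgenr x)
    rcases Int.even_or_odd i with ⟨j, rfl⟩ | ⟨j, rfl⟩
    · left
      rw [zpow_add, hsqĀ]
    · right
      rw [zpow_add, zpow_one, show (2 * j : ℤ) = j + j by ring, zpow_add, hsqĀ, one_mul]
  obtain ⟨k, hk, hkb⟩ := hbR
  have hbne : (⟨ψ ⟨b, hb⟩, ⟨b, hb⟩, rfl⟩ : Ā) ≠ 1 := fun h => hkb (by
    have := congrArg (fun φ : Ā => ((φ.1 ⟨k, hk⟩ : R) : M)) h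
    simpa [hval] using this)
  have hbR' : b * k * b⁻¹ ∈ R := (mem_normalizer_iff.mp (hAR hb) k).mp hk
  set u := k⁻¹ * (b * k * b⁻¹) with hu
  have huR : u ∈ R := mul_mem (inv_mem hk) hbR'
  have hbu : b * u * b⁻¹ = u⁻¹ := by
    calc b * u * b⁻¹ = (b * k⁻¹ * b⁻¹) * ((b * b) * k * (b * b)⁻¹) := by rw [hu]; group
      _ = u⁻¹ := by rw [hsq b hb, hu]; group
  refine ⟨u, hRK huR, fun h => hkb (inv_mul_eq_one.mp h).symm, hbu, fun a ha => ?_⟩
  rcases htwo ⟨ψ ⟨a, ha⟩, ⟨a, ha⟩, rfl⟩ with h | h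
  · left
    have := congrArg (fun φ : Ā => ((φ.1 ⟨u, huR⟩ : R) : M)) h
    simpa [hval] using this
  · right
    have hbg := (htwo ⟨ψ ⟨b, hb⟩, ⟨b, hb⟩, rfl⟩).resolve_left hbne
    have := congrArg (fun φ : Ā => ((φ.1 ⟨u, huR⟩ : R) : M)) (h.trans hbg.symm)
    simpa [hval, hbu] using this

section Counting

variable {V : Type*} [CommGroup V]

/-- `A` elementary abelian acting faithfully on the group `K` of odd order, which acts faithfully on the
elementary abelian 2-group `W`. -/
structure OddAct (A K : Subgroup (MulAut V)) (W : Subgroup V) : Prop where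
  sq : ∀ w ∈ W, w * w = 1
  invA : ∀ a ∈ A, ∀ w ∈ W, a w ∈ W
  invK : ∀ k ∈ K, ∀ w ∈ W, k w ∈ W
  odd : Odd (Nat.card K)
  sqA : ∀ a ∈ A, a * a = 1
  norm : A ≤ normalizer (K : Set (MulAut V))
  faithK : ∀ k ∈ K, (∀ w ∈ W, k w = w) → k = 1
  faithA : ∀ a ∈ A, (∀ k ∈ K, a * k * a⁻¹ = k) → a = 1

theorem OddAct.oddOrder {A K : Subgroup (MulAut V)} {W : Subgroup V} (h : OddAct A K W)
    {k : MulAut V} (hk : k ∈ K) : Odd (orderOf k) :=
  h.odd.of_dvd_nat (K.orderOf_dvd_natCard hk)

theorem OddAct.commA {A K : Subgroup (MulAut V)} {W : Subgroup V} (h : OddAct A K W)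
    {a b : MulAut V} (ha : a ∈ A) (hb : b ∈ A) : a * b = b * a := by
  have hi : ∀ z ∈ A, z⁻¹ = z := fun z hz => inv_eq_of_mul_eq_one_right (h.sqA z hz)
  calc a * b = (a * b)⁻¹ := (hi _ (A.mul_mem ha hb)).symm
    _ = b * a := by rw [mul_inv_rev, hi a ha, hi b hb]

variable {A K : Subgroup (MulAut V)} {W : Subgroup V}

variable [Finite V]

/-- The counting for offenders. -/
theorem OddAct.exists_inverting (h : OddAct A K W) (hA : A ≠ ⊥) :
    ∃ a ∈ A, ∃ k ∈ K, k ≠ 1 ∧ a * k * a⁻¹ = k⁻¹ ∧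
      Nat.card A * Nat.card ↥(W ⊓ fixSub (A : Set (MulAut V))) ≤
        2 * Nat.card ↥(W ⊓ fixSub ({a} : Set (MulAut V))) := by
  classical
  haveI : Finite (MulAut V) := Finite.of_injective (fun f : MulAut V => (f : V → V)) DFunLike.coe_injective
  obtain ⟨n, hn⟩ : ∃ n, Nat.card A = n := ⟨_, rfl⟩
  induction n using Nat.strong_induction_on generalizing A K W with
  | _ n ih =>
    subst hn
    set E := {k : MulAut V | k ∈ K ∧ ∀ a ∈ A, a * k * a⁻¹ = k ∨ a * k * a⁻¹ = k⁻¹}
    obtain ⟨S, ⟨hSE, hS⟩, hSmin⟩ := Set.exists_min_image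
      {S : Set (MulAut V) | S ⊆ E ∧ ∀ a ∈ A, (∀ k ∈ S, a * k * a⁻¹ = k) → a = 1}
      (fun S => S.ncard) (Set.toFinite _) ⟨E, subset_rfl, fun b hb hbE => by
        by_contra hb1
        have hmove : ∃ k ∈ K, b * k * b⁻¹ ≠ k := by
          by_contra hcon
          push Not at hcon
          exact hb1 (h.faithA b hb hcon)
        obtain ⟨u, hu, hu1, hub, hus⟩ := exists_eigen_odd h.sqA h.odd h.norm hb hmove
        have := hbE u ⟨hu, hus⟩
        rw [hub] at this
        exact hu1 (eq_one_of_sq_eq_one (h.oddOrder hu) (by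
          conv_lhs => lhs; rw [← this]
          rw [inv_mul_cancel]))⟩
    obtain ⟨s0, hs0⟩ : S.Nonempty := by
      rcases S.eq_empty_or_nonempty with rfl | hne
      · exfalso
        exact hA ((Subgroup.eq_bot_iff_forall _).mpr fun a ha => hS a ha (by simp))
      · exact hne
    obtain ⟨a, ha, haS, ha1⟩ : ∃ a ∈ A, (∀ k ∈ S \ {s0}, a * k * a⁻¹ = k) ∧ a ≠ 1 := by
      by_contra hcon
      push Not at hcon
      have := hSmin (S \ {s0}) ⟨Set.sdiff_subset.trans hSE, fun a ha h' => hcon a ha h'⟩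
      exact absurd this (not_le.mpr (Set.ncard_diff_singleton_lt_of_mem hs0 (Set.toFinite _)))
    have has0 : a * s0 * a⁻¹ = s0⁻¹ := by
      rcases (hSE hs0).2 a ha with h' | h'
      · exact absurd (hS a ha fun k hk => if hk0 : k = s0 then hk0 ▸ h' else haS k ⟨hk, hk0⟩) ha1
      · exact h'
    have hs01 : s0 ≠ 1 := by
      rintro rfl
      refine ha1 (hS a ha fun k hk => ?_)
      by_cases hk0 : k = 1
      · rw [hk0]; group
      · exact haS k ⟨hk, hk0⟩
    -- the hyperplane centralizing `s0`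
    set A' := A ⊓ centralizer {s0} with hA'
    set K' := K ⊓ centralizer {a} with hK'
    set W' := W ⊓ fixSub ({a} : Set (MulAut V)) with hW'
    have hmemA' : ∀ x, x ∈ A' ↔ x ∈ A ∧ x * s0 * x⁻¹ = s0 := fun x => and_congr_right fun _ =>
      mem_centralizer_singleton_iff.trans mul_inv_eq_iff_eq_mul.symm
    have hcardA : Nat.card A ≤ 2 * Nat.card A' := by
      have hsub : (A : Set (MulAut V)) ⊆ (A' : Set (MulAut V)) ∪ (fun x => a * x) '' A' := by
        intro x hx
        rcases (hSE hs0).2 x hx with h' | h'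
        · exact Or.inl ((hmemA' x).mpr ⟨hx, h'⟩)
        · refine Or.inr ⟨a * x, (hmemA' _).mpr ⟨mul_mem ha hx, ?_⟩, ?_⟩
          · calc a * x * s0 * (a * x)⁻¹ = a * (x * s0 * x⁻¹) * a⁻¹ := by group
              _ = (a * s0 * a⁻¹)⁻¹ := by rw [h']; group
              _ = s0 := by rw [has0, inv_inv]
          · show a * (a * x) = x
            rw [← mul_assoc, h.sqA a ha, one_mul]
      have h1 := (Set.ncard_le_ncard hsub (Set.toFinite _)).trans (Set.ncard_union_le _ _)
      have h2 : ((fun x => a * x) '' (A' : Set (MulAut V))).ncard = (A' : Set (MulAut V)).ncard :=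
        Set.ncard_image_of_injective _ (mul_right_injective a)
      rw [h2, ← two_mul] at h1
      rw [← Nat.card_coe_set_eq, ← Nat.card_coe_set_eq] at h1
      exact h1
    have hlt : Nat.card A' < Nat.card A := Solvable.card_lt_of_lt (lt_of_le_of_ne inf_le_left
      fun he => hs01 (eq_one_of_sq_eq_one (h.oddOrder (hSE hs0).1) (by
        have := ((hmemA' a).mp (he.symm ▸ ha)).2
        rw [has0] at this
        conv_lhs => lhs; rw [← this]
        rw [inv_mul_cancel])))
    have h' : OddAct A' K' W' := by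
      refine ⟨fun w hw => h.sq w hw.1, fun x hx w hw => ⟨h.invA x hx.1 w hw.1, ?_⟩,
        fun k hk w hw => ⟨h.invK k hk.1 w hw.1, ?_⟩,
        h.odd.of_dvd_nat (Subgroup.card_dvd_of_le inf_le_left), fun x hx => h.sqA x hx.1,
        fun x hx => mem_normalizer_iff.mpr fun k => and_congr (mem_normalizer_iff.mp (h.norm hx.1) k) ?_,
        fun k hk hfix => ?_, fun x hx hxK => ?_⟩
      · refine mem_fixSub.mpr fun y hy => ?_
        rw [Set.mem_singleton_iff] at hy
        subst hy
        rw [← MulAut.mul_apply, h.commA ha hx.1, MulAut.mul_apply, mem_fixSub.mp hw.2 y rfl]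
      · refine mem_fixSub.mpr fun y hy => ?_
        rw [Set.mem_singleton_iff] at hy
        subst hy
        rw [← MulAut.mul_apply, ← mem_centralizer_singleton_iff.mp hk.2, MulAut.mul_apply,
          mem_fixSub.mp hw.2 y rfl]
      · have hax : Commute a x := h.commA ha hx.1
        show k ∈ centralizer {a} ↔ x * k * x⁻¹ ∈ centralizer {a}
        rw [mem_centralizer_singleton_iff, mem_centralizer_singleton_iff,
          show x * k * x⁻¹ * a = x * (k * a) * x⁻¹ by rw [mul_assoc (x * k), ← hax.inv_right.eq]; group,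
          show a * (x * k * x⁻¹) = x * (a * k) * x⁻¹ by rw [← mul_assoc, ← mul_assoc, hax.eq]; group]
        exact ⟨fun h2 => by rw [h2], fun h2 => mul_left_cancel (mul_right_cancel h2)⟩
      · refine eq_one_of_sq_eq_one (h.oddOrder hk.1) (h.faithK _ (mul_mem hk.1 hk.1) fun w hw => ?_)
        have haw : a w * w ∈ W' := ⟨mul_mem (h.invA a ha w hw) hw, mem_fixSub.mpr fun y hy => by
          rw [Set.mem_singleton_iff] at hy
          subst hy
          rw [map_mul, ← MulAut.mul_apply, h.sqA y ha, MulAut.one_apply, mul_comm]⟩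
        have h1 := hfix _ haw
        rw [map_mul, ← MulAut.mul_apply, mem_centralizer_singleton_iff.mp hk.2,
          MulAut.mul_apply] at h1
        have hu : w * k w ∈ W' := ⟨mul_mem hw (h.invK k hk.1 w hw), mem_fixSub.mpr fun y hy => by
          rw [Set.mem_singleton_iff] at hy
          subst hy
          calc y (w * k w) = y w * y (k w) := map_mul y w (k w)
            _ = (y w * w) * (w * k w) * (k w * y (k w)) := by
                rw [show (y w * w) * (w * k w) * (k w * y (k w)) =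
                  y w * (w * w) * (k w * k w) * y (k w) by simp only [mul_assoc]]
                rw [h.sq w hw, h.sq _ (h.invK k hk.1 w hw), mul_one, mul_one]
            _ = w * k w := by
                rw [mul_comm (k w) (y (k w)), h1, mul_comm (y w * w) (w * k w), mul_assoc,
                  h.sq _ (mul_mem (h.invA y ha w hw) hw), mul_one]⟩
        have h2 := hfix _ hu
        rw [map_mul] at h2
        rw [MulAut.mul_apply]
        have hkw := h.invK k hk.1 w hw
        calc k (k w) = (k w * k w) * k (k w) := by rw [h.sq _ hkw, one_mul]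
          _ = k w * (w * k w) := by rw [mul_assoc, h2]
          _ = w := by rw [mul_comm w, ← mul_assoc, h.sq _ hkw, one_mul]
      · refine hS x hx.1 fun k hk => ?_
        by_cases hk0 : k = s0
        · exact hk0 ▸ ((hmemA' x).mp hx).2
        · refine hxK k ⟨(hSE hk).1, mem_centralizer_singleton_iff.mpr ?_⟩
          have := haS k ⟨hk, hk0⟩
          rw [mul_inv_eq_iff_eq_mul] at this
          exact this.symm
    refine ⟨a, ha, s0, (hSE hs0).1, hs01, has0, ?_⟩
    have hfix : W ⊓ fixSub (A : Set (MulAut V)) ≤ W' ⊓ fixSub (A' : Set (MulAut V)) := fun w hw =>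
      ⟨⟨hw.1, mem_fixSub.mpr fun y hy => by
        rw [Set.mem_singleton_iff] at hy; subst hy; exact mem_fixSub.mp hw.2 y ha⟩,
        mem_fixSub.mpr fun y hy => mem_fixSub.mp hw.2 y hy.1⟩
    have hweak : Nat.card A' * Nat.card ↥(W' ⊓ fixSub (A' : Set (MulAut V))) ≤ Nat.card W' := by
      by_cases hA'1 : A' = ⊥
      · rw [hA'1, card_bot, one_mul]
        exact card_le_of_le inf_le_left
      obtain ⟨a', ha', k', hk', hk'1, hinv, hle⟩ := ih _ hlt h' hA'1 rfl
      refine hle.trans ?_
      have hne : ¬ W' ≤ fixSub ({a'} : Set (MulAut V)) := fun hall => by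
        have hfixw : ∀ w ∈ W', a' w = w := fun w hw => mem_fixSub.mp (hall hw) a' rfl
        refine hk'1 (eq_one_of_sq_eq_one (h'.oddOrder hk') (h'.faithK _ (mul_mem hk' hk') fun w hw => ?_))
        have e1 : (a' * k' * a'⁻¹) (k' w) = w := by rw [hinv]; exact MulAut.inv_apply_self V k' w
        have hainv : a'⁻¹ = a' := inv_eq_of_mul_eq_one_right (h'.sqA a' ha')
        rw [hainv, MulAut.mul_apply, MulAut.mul_apply, hfixw _ (h'.invK k' hk' w hw),
          hfixw _ (h'.invK k' hk' _ (h'.invK k' hk' w hw))] at e1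
        exact e1
      obtain ⟨c, hc⟩ := card_dvd_of_le (inf_le_left : W' ⊓ fixSub ({a'} : Set (MulAut V)) ≤ W')
      have hltc := Solvable.card_lt_of_lt (lt_of_le_of_ne
        (inf_le_left : W' ⊓ fixSub ({a'} : Set (MulAut V)) ≤ W') fun he => hne (inf_eq_left.mp he))
      rw [hc] at hltc ⊢
      rw [mul_comm 2]
      refine Nat.mul_le_mul_left _ ?_
      rcases c with _ | _ | c
      · simp at hltc
      · simp at hltc
      · omega
    calc Nat.card A * Nat.card ↥(W ⊓ fixSub (A : Set (MulAut V)))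
        ≤ (2 * Nat.card A') * Nat.card ↥(W' ⊓ fixSub (A' : Set (MulAut V))) :=
          Nat.mul_le_mul hcardA (card_le_of_le hfix)
      _ ≤ 2 * Nat.card W' := by rw [mul_assoc]; exact Nat.mul_le_mul_left 2 hweak

end Counting

/-- An element acting as a transvection on an abelian normal subgroup and inverting, modulo its
centralizer, a nontrivial element of odd order gives a section isomorphic to the symmetric group of
degree 4. -/
theorem involves_s4_of_inverted {G : Type*} [Group G] [Finite G] (V : Subgroup G) [V.Normal]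
    (hVc : ∀ v ∈ V, ∀ w ∈ V, v * w = w * v) {a k w0 : G} (ha : a ∉ centralizer (V : Set G))
    (hk : k ∉ centralizer (V : Set G))
    (hkodd : Odd (orderOf (QuotientGroup.mk' (centralizer (V : Set G)) k)))
    (hinv : a * k * a⁻¹ * k ∈ centralizer (V : Set G))
    (hw0 : w0 ∈ V) (hw2 : w0 * w0 = 1) (haw : a * w0 * a⁻¹ = w0)
    (hδ : ∀ v ∈ V, a * v * a⁻¹ = v ∨ a * v * a⁻¹ = v * w0) :
    Cfsg.Involves (Equiv.Perm (Fin 4)) G := by
  classical
  haveI : Fact (Nat.Prime 2) := ⟨Nat.prime_two⟩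
  set C := centralizer (V : Set G) with hC
  set π := QuotientGroup.mk' C with hπ
  set kb := π k with hkb
  set ab := π a with hab
  have hk1 : kb ≠ 1 := fun h => hk ((QuotientGroup.eq_one_iff k).mp h)
  have hinv' : ab * kb * ab⁻¹ = kb⁻¹ := by
    have : π (a * k * a⁻¹ * k) = 1 := (QuotientGroup.eq_one_iff _).mpr hinv
    rw [map_mul, map_mul, map_mul, map_inv] at this
    exact eq_inv_of_mul_eq_one_left this
  have hab2 : ab * ab = 1 := by
    rw [hab, ← map_mul]
    refine (QuotientGroup.eq_one_iff _).mpr (mem_centralizer_iff.mpr fun v hv => ?_)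
    have : a * a * v * (a * a)⁻¹ = v := by
      rw [show a * a * v * (a * a)⁻¹ = a * (a * v * a⁻¹) * a⁻¹ by group]
      rcases hδ v hv with h | h
      · rw [h, h]
      · rw [h, show a * (v * w0) * a⁻¹ = (a * v * a⁻¹) * (a * w0 * a⁻¹) by group, h, haw, mul_assoc,
          hw2, mul_one]
    exact (mul_inv_eq_iff_eq_mul.mp this).symm
  set Dq := zpowers ab ⊔ zpowers kb with hDq
  have hnor : zpowers ab ≤ normalizer ((zpowers kb : Subgroup (G ⧸ C)) : Set (G ⧸ C)) := by
    rw [zpowers_le, mem_normalizer_iff_map_conj_eq, MonoidHom.map_zpowers]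
    show zpowers ((MulAut.conj ab) kb) = _
    rw [MulAut.conj_apply, hinv', zpowers_inv]
  set G1 := Dq.comap π with hG1
  have hCG1 : C ≤ G1 := fun x hx => by
    rw [hG1, mem_comap, show π x = 1 from (QuotientGroup.eq_one_iff x).mpr hx]
    exact one_mem _
  have hVC : V ≤ C := fun v hv => mem_centralizer_iff.mpr fun w hw => hVc w hw v hv
  have hVG : V ≤ G1 := hVC.trans hCG1
  set V1 := V.subgroupOf G1 with hV1
  have hcent : ∀ x : G1, x ∈ centralizer (V1 : Set G1) ↔ (x : G) ∈ C := by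
    intro x
    refine ⟨fun h => mem_centralizer_iff.mpr fun v hv => ?_, fun h => ?_⟩
    · exact congrArg Subtype.val (mem_centralizer_iff.mp h ⟨v, hVG hv⟩ hv)
    · exact mem_centralizer_iff.mpr fun v hv => Subtype.ext (mem_centralizer_iff.mp h v hv)
  let a1 : G1 := ⟨a, by rw [hG1, mem_comap]; exact mem_sup_left (mem_zpowers ab)⟩
  let k1 : G1 := ⟨k, by rw [hG1, mem_comap]; exact mem_sup_right (mem_zpowers kb)⟩
  refine involves_of_subgroup G1 (involves_s4_of_transvection (G := G1) V1
    (fun v hv w hw => Subtype.ext (hVc v hv w hw)) ?_ (a := a1) (w0 := ⟨w0, hVG hw0⟩)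
    (fun h => ha ((hcent a1).mp h)) hw0 (Subtype.ext hw2) (Subtype.ext haw)
    (fun v hv => (hδ v hv).imp (fun h => Subtype.ext h) (fun h => Subtype.ext h)))
  set C1 := centralizer (V1 : Set G1) with hC1
  set N := (Cfsg.pCore 2 (G1 ⧸ C1)).comap (QuotientGroup.mk' C1) with hN
  have hpow : ∀ x ∈ N, ∃ j : ℕ, π (x : G) ^ 2 ^ j = 1 := by
    intro x hx
    obtain ⟨j, hj⟩ := Solvable.isPGroup_pCore 2 ⟨_, hx⟩
    refine ⟨j, ?_⟩
    rw [← map_pow]
    refine (QuotientGroup.eq_one_iff _).mpr ((hcent (x ^ 2 ^ j)).mp ?_)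
    refine (QuotientGroup.eq_one_iff _).mp ?_
    show (QuotientGroup.mk' C1) (x ^ 2 ^ j) = 1
    rw [map_pow]
    exact congrArg Subtype.val hj
  have hkill : ∀ y ∈ zpowers kb, ∀ j : ℕ, y ^ 2 ^ j = 1 → y = 1 := by
    intro y hy j hj
    refine orderOf_eq_one_iff.mp (Nat.eq_one_of_dvd_coprimes (a := 2 ^ j) (b := orderOf kb)
      ((Nat.coprime_two_left.mpr hkodd).pow_left j) (orderOf_dvd_of_pow_eq_one hj) ?_)
    rw [← Nat.card_zpowers kb]
    exact (zpowers kb).orderOf_dvd_natCard hy
  have htriv : ∀ x ∈ N, π (x : G) = 1 := by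
    intro x hx
    obtain ⟨y, hy, z, hz, hyz⟩ :=
      (Solvable.mem_sup_of_le_normalizer hnor).mp (mem_comap.mp x.2 : π (x : G) ∈ Dq)
    have hxn : π (x : G) ∈ normalizer ((zpowers kb : Subgroup (G ⧸ C)) : Set (G ⧸ C)) :=
      hyz ▸ mul_mem (hnor hy) (le_normalizer hz)
    have hcomm : π (x : G) * kb * (π (x : G))⁻¹ = kb := by
      have hc : x * (k1 * x⁻¹ * k1⁻¹) ∈ N :=
        mul_mem hx ((inferInstance : N.Normal).conj_mem _ (inv_mem hx) k1)
      obtain ⟨j, hj⟩ := hpow _ hc
      have e : π ((x * (k1 * x⁻¹ * k1⁻¹) : G1) : G) =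
          π (x : G) * kb * (π (x : G))⁻¹ * kb⁻¹ := by
        simp only [Subgroup.coe_mul, Subgroup.coe_inv, map_mul, map_inv, hkb, k1]
        group
      rw [e] at hj
      exact mul_inv_eq_one.mp (hkill _ (mul_mem ((mem_normalizer_iff.mp hxn kb).mp (mem_zpowers kb))
        (inv_mem (mem_zpowers kb))) j hj)
    obtain ⟨i, rfl⟩ := mem_zpowers_iff.mp hy
    have hzk : z * kb * z⁻¹ = kb := by
      obtain ⟨l, rfl⟩ := mem_zpowers_iff.mp hz
      group
    rcases Int.even_or_odd i with ⟨l, rfl⟩ | ⟨l, rfl⟩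
    · have h1 : ab ^ (l + l) = 1 := by rw [← two_mul, zpow_mul, zpow_two, hab2, one_zpow]
      rw [h1, one_mul] at hyz
      obtain ⟨j, hj⟩ := hpow x hx
      exact hkill _ (hyz ▸ hz) j hj
    · have h1 : ab ^ (2 * l + 1) = ab := by
        rw [zpow_add, zpow_mul, zpow_two, hab2, one_zpow, one_mul, zpow_one]
      rw [h1] at hyz
      rw [← hyz, show ab * z * kb * (ab * z)⁻¹ = ab * (z * kb * z⁻¹) * ab⁻¹ by group, hzk, hinv'] at hcomm
      exact absurd (eq_one_of_sq_eq_one hkodd (by
        conv_lhs => lhs; rw [← hcomm]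
        rw [inv_mul_cancel])) hk1
  refine le_bot_iff.mp fun q hq => ?_
  obtain ⟨x, rfl⟩ := QuotientGroup.mk'_surjective C1 q
  exact mem_bot.mpr ((QuotientGroup.eq_one_iff x).mpr
    ((hcent x).mpr ((QuotientGroup.eq_one_iff _).mp (htriv x hq))))

end CfsgLib.Kinf
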