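import Mathlib.Algebra.Algebra.Basic
import Mathlib.Algebra.Module.Submodule.Basic
import Mathlib.LinearAlgebra.Span.Defs
import Mathlib.GroupTheory.Index
import Mathlib.Tactic.NoncommRing
import Mathlib.Tactic.Abel

/-!
The degeneration of a space `L` of endomorphisms with `L L = 0` under conjugation by a quadratic
unipotent element `1 + β`: it is again such a space, of the same size, fixing at least as much.
-/

set_option autoImplicit false
set_option linter.unusedSectionVars false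
set_option linter.style.haveILetI false

namespace CfsgLib.Degeneration

variable {R : Type*} [Ring R]

/-- The derivation `r ↦ β r - r β`. -/
def der (β : R) : R →+ R := AddMonoidHom.mulLeft β - AddMonoidHom.mulRight β

@[simp] theorem der_apply (β r : R) : der β r = β * r - r * β := rfl

/-- `(x, y) ↦ x - 2 [β, y]`. -/
def twist (β : R) : R × R →+ R :=
  AddMonoidHom.fst R R - ((der β).comp (AddMonoidHom.snd R R) + (der β).comp (AddMonoidHom.snd R R))

@[simp] theorem twist_apply (β : R) (z : R × R) :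
    twist β z = z.1 - (der β z.2 + der β z.2) := rfl

/-- The largest subgroup of `L` stable under the derivation. -/
def stab (L : AddSubgroup R) (β : R) : AddSubgroup R :=
  L ⊓ L.comap (der β) ⊓ L.comap ((der β).comp (der β))

/-- The image of `L` under the square of the derivation, with the stable part. -/
def top2 (L : AddSubgroup R) (β : R) : AddSubgroup R :=
  L.map ((der β).comp (der β)) ⊔ stab L β

/-- The pairs `(x, y)` of elements of `L` with `[β, x] ≡ [β, β, y]`. -/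
def pairs (L : AddSubgroup R) (β : R) : AddSubgroup (R × R) :=
  L.prod L ⊓ (stab L β).comap
    ((der β).comp (AddMonoidHom.fst R R) - ((der β).comp (der β)).comp (AddMonoidHom.snd R R))

/-- The degeneration. -/
def limit (L : AddSubgroup R) (β : R) : AddSubgroup R :=
  top2 L β ⊔ (pairs L β).map (twist β)

variable {L : AddSubgroup R} {β : R}

theorem mem_stab {x : R} :
    x ∈ stab L β ↔ x ∈ L ∧ der β x ∈ L ∧ der β (der β x) ∈ L := by
  simp [stab, AddSubgroup.mem_inf, and_assoc]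

theorem mem_pairs {z : R × R} : z ∈ pairs L β ↔
    (z.1 ∈ L ∧ z.2 ∈ L) ∧ der β z.1 - der β (der β z.2) ∈ stab L β := by
  simp [pairs, AddSubgroup.mem_inf, AddSubgroup.mem_prod]

theorem stab_le_limit : stab L β ≤ limit L β := le_sup_of_le_left le_sup_right

theorem card_map_mul_card_ker {A B : Type*} [AddCommGroup A] [AddCommGroup B] (f : A →+ B)
    (X : AddSubgroup A) : Nat.card ↥(X.map f) * Nat.card ↥(X ⊓ f.ker) = Nat.card X := by
  rw [← AddSubgroup.relIndex_ker (K := X) f, ← AddSubgroup.inf_relIndex_right,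
    ← AddSubgroup.relIndex_bot_left, ← AddSubgroup.relIndex_bot_left, mul_comm, inf_comm]
  exact AddSubgroup.relIndex_mul_relIndex ⊥ (f.ker ⊓ X) X bot_le inf_le_right

theorem card_prod {A B : Type*} [AddCommGroup A] [AddCommGroup B] (X : AddSubgroup A)
    (Y : AddSubgroup B) : Nat.card ↥(X.prod Y) = Nat.card X * Nat.card Y := by
  rw [← Nat.card_prod]
  exact Nat.card_congr (AddSubgroup.prodEquiv X Y).toEquiv

section Main

variable (hLL : ∀ a ∈ L, ∀ b ∈ L, a * b = 0) (hβ : β * β = 0)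
  (hhalf : ∃ n : ℤ, ∀ r : R, n • (r + r) = r)

include hβ in
theorem der_cube (r : R) : der β (der β (der β r)) = 0 := by
  simp only [der_apply, mul_sub, sub_mul, mul_assoc, hβ, ← mul_assoc β β, mul_zero, zero_mul]
  abel

include hhalf in
theorem mem_of_add_self_mem (S : AddSubgroup R) {r : R} (h : r + r ∈ S) : r ∈ S := by
  obtain ⟨n, hn⟩ := hhalf
  rw [← hn r]
  exact S.zsmul_mem h n

include hβ in
theorem der_stab {x : R} (h : x ∈ stab L β) : der β x ∈ stab L β := by
  obtain ⟨-, h2, h3⟩ := mem_stab.1 h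
  exact mem_stab.2 ⟨h2, h3, by rw [der_cube hβ]; exact L.zero_mem⟩

include hβ in
theorem mem_stab_of_der {x : R} (hx : x ∈ L) (h : der β x ∈ stab L β) : x ∈ stab L β :=
  mem_stab.2 ⟨hx, (mem_stab.1 h).1, (mem_stab.1 h).2.1⟩

include hβ in
theorem der_top2 {t : R} (ht : t ∈ top2 L β) : der β t ∈ stab L β := by
  obtain ⟨_, ⟨w, hw, rfl⟩, c, hc, rfl⟩ := AddSubgroup.mem_sup.1 ht
  rw [map_add]
  refine add_mem ?_ (der_stab hβ hc)
  rw [AddMonoidHom.comp_apply, der_cube hβ]
  exact zero_mem _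

include hLL hβ in
/-- The degeneration multiplies to zero. -/
theorem limit_mul : ∀ u ∈ limit L β, ∀ v ∈ limit L β, u * v = 0 := by
  have hform : ∀ u ∈ limit L β, ∃ w ∈ L, ∃ c ∈ stab L β, ∃ z ∈ pairs L β,
      u = der β (der β w) + c + twist β z := by
    intro u hu
    obtain ⟨t, ht, _, ⟨z, hz, rfl⟩, rfl⟩ := AddSubgroup.mem_sup.1 hu
    obtain ⟨_, ⟨w, hw, rfl⟩, c, hc, rfl⟩ := AddSubgroup.mem_sup.1 ht
    exact ⟨w, hw, c, hc, z, hz, rfl⟩
  have hbb : ∀ r : R, β * (β * r) = 0 := fun r => by rw [← mul_assoc, hβ, zero_mul]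
  have hL0 : ∀ a ∈ L, ∀ b ∈ L, ∀ r : R, a * (b * r) = 0 := fun a ha b hb r => by
    rw [← mul_assoc, hLL a ha b hb, zero_mul]
  -- through an element of the stable part
  have hcl : ∀ c ∈ stab L β, ∀ a ∈ L, c * (β * a) = 0 := fun c hc a ha => by
    have h := hLL _ (mem_stab.1 hc).2.1 a ha
    rw [der_apply, sub_mul, mul_assoc, mul_assoc, hLL c (mem_stab.1 hc).1 a ha, mul_zero,
      zero_sub, neg_eq_zero] at h
    exact h
  have hcr : ∀ c ∈ stab L β, ∀ a ∈ L, a * (β * c) = 0 := fun c hc a ha => by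
    have h := hLL a ha _ (mem_stab.1 hc).2.1
    rw [der_apply, mul_sub, ← mul_assoc a c, hLL a ha c (mem_stab.1 hc).1, zero_mul,
      sub_zero] at h
    exact h
  -- through a pair
  have hpl : ∀ z ∈ pairs L β, ∀ a ∈ L,
      z.1 * (β * a) = β * (z.2 * (β * a)) + β * (z.2 * (β * a)) := fun z hz a ha => by
    have h := hLL _ (mem_stab.1 (mem_pairs.1 hz).2).1 a ha
    simp only [der_apply, sub_mul, mul_sub, mul_assoc, hbb, hβ, hLL z.1 (mem_pairs.1 hz).1.1 a ha,
      hLL z.2 (mem_pairs.1 hz).1.2 a ha, mul_zero, zero_mul] at h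
    rw [← sub_eq_zero, ← neg_eq_zero, ← h]
    abel
  have hpr : ∀ z ∈ pairs L β, ∀ a ∈ L,
      a * (β * z.1) = -(a * (β * (z.2 * β)) + a * (β * (z.2 * β))) := fun z hz a ha => by
    have h := hLL a ha _ (mem_stab.1 (mem_pairs.1 hz).2).1
    simp only [der_apply, sub_mul, mul_sub, mul_assoc, hbb, hβ, hLL a ha z.1 (mem_pairs.1 hz).1.1,
      hL0 a ha z.1 (mem_pairs.1 hz).1.1, hL0 a ha z.2 (mem_pairs.1 hz).1.2, mul_zero,
      zero_mul] at h
    rw [eq_neg_iff_add_eq_zero, ← h]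
    abel
  intro u hu v hv
  obtain ⟨w, hw, c, hc, z, hz, rfl⟩ := hform u hu
  obtain ⟨w', hw', c', hc', z', hz', rfl⟩ := hform v hv
  have hcL := (mem_stab.1 hc).1
  have hcL' := (mem_stab.1 hc').1
  obtain ⟨⟨hx, hy⟩, -⟩ := mem_pairs.1 hz
  obtain ⟨⟨hx', hy'⟩, -⟩ := mem_pairs.1 hz'
  have hcl' : ∀ c ∈ stab L β, ∀ a ∈ L, ∀ r : R, c * (β * (a * r)) = 0 := fun c hc a ha r => by
    rw [← mul_assoc β, ← mul_assoc, hcl c hc a ha, zero_mul]
  have hcr' : ∀ c ∈ stab L β, ∀ a ∈ L, ∀ r : R, a * (β * (c * r)) = 0 := fun c hc a ha r => by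
    rw [← mul_assoc β, ← mul_assoc, hcr c hc a ha, zero_mul]
  have hpl' : ∀ z ∈ pairs L β, ∀ a ∈ L, ∀ r : R,
      z.1 * (β * (a * r)) = β * (z.2 * (β * (a * r))) + β * (z.2 * (β * (a * r))) :=
    fun z hz a ha r => by
      have h := congrArg (· * r) (hpl z hz a ha)
      simpa only [add_mul, mul_assoc] using h
  have hpr' : ∀ z ∈ pairs L β, ∀ a ∈ L, ∀ r : R,
      a * (β * (z.1 * r)) = -(a * (β * (z.2 * (β * r))) + a * (β * (z.2 * (β * r)))) :=
    fun z hz a ha r => by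
      have h := congrArg (· * r) (hpr z hz a ha)
      simpa only [add_mul, neg_mul, mul_assoc] using h
  simp only [twist_apply, der_apply, add_mul, mul_add, sub_mul, mul_sub, mul_assoc, hbb, hβ,
    mul_zero, zero_mul, add_zero, zero_add, sub_zero, zero_sub, mul_neg, neg_mul, neg_zero,
    hLL c hcL c' hcL', hLL c hcL z'.1 hx', hLL c hcL z'.2 hy', hLL c hcL w' hw',
    hLL z.1 hx c' hcL', hLL z.2 hy c' hcL', hLL w hw c' hcL',
    hL0 c hcL z'.2 hy', hL0 c hcL w' hw', hL0 z.1 hx z'.2 hy', hLL z.1 hx z'.1 hx',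
    hLL z.2 hy z'.1 hx', hL0 z.2 hy z'.2 hy', hLL z.1 hx z'.2 hy', hLL z.2 hy z'.2 hy',
    hL0 z.1 hx w' hw', hL0 z.2 hy w' hw', hL0 w hw z'.2 hy', hLL w hw z'.1 hx',
    hL0 w hw w' hw', hLL w hw z'.2 hy', hLL z.2 hy w' hw', hLL z.1 hx w' hw',
    hcl c hc z'.2 hy', hcl' c hc z'.2 hy', hcl' c hc w' hw', hcl c hc w' hw',
    hcr c' hc' z.2 hy, hcr c' hc' w hw,
    hpl z hz z'.2 hy', hpl' z hz z'.2 hy', hpl' z hz w' hw', hpl z hz w' hw',
    hpr z' hz' z.2 hy, hpr z' hz' w hw]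
  abel

variable [Finite R]

include hβ hhalf in
/-- The degeneration has the same order. -/
theorem card_limit : Nat.card ↥(limit L β) = Nat.card L := by
  classical
  set C := stab L β with hC
  set T := top2 L β with hT
  set Q := (der β).comp (der β) with hQ
  set q := (QuotientAddGroup.mk' C).comp Q with hq
  set L0 := L ⊓ q.ker with hL0
  set S := L ⊓ T.comap (der β) with hS
  have hkq : ∀ x : R, x ∈ q.ker ↔ Q x ∈ C := fun x => QuotientAddGroup.eq_zero_iff _
  have h1 : Nat.card ↥(L.map q) * Nat.card L0 = Nat.card L := card_map_mul_card_ker q L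
  have h2 : Nat.card ↥(L.map q) * Nat.card C = Nat.card T := by
    have h := card_map_mul_card_ker (QuotientAddGroup.mk' C) T
    rwa [QuotientAddGroup.ker_mk', inf_eq_right.2 (show C ≤ T from le_sup_right),
      show T.map (QuotientAddGroup.mk' C) = L.map q by
        rw [hT, top2, AddSubgroup.map_sup, AddSubgroup.map_map, ← hC,
          (AddSubgroup.map_eq_bot_iff _).2 (QuotientAddGroup.ker_mk' C).ge, sup_bot_eq]] at h
  set mT := QuotientAddGroup.mk' T with hmT
  set ψ := mT.comp (twist β) with hψ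
  have h3 : Nat.card ↥((pairs L β).map ψ) * Nat.card T = Nat.card ↥(limit L β) := by
    have h := card_map_mul_card_ker mT (limit L β)
    rwa [QuotientAddGroup.ker_mk', inf_eq_right.2 (show T ≤ limit L β from le_sup_left),
      show (limit L β).map mT = (pairs L β).map ψ by
        rw [limit, AddSubgroup.map_sup, AddSubgroup.map_map, ← hT,
          (AddSubgroup.map_eq_bot_iff _).2 (QuotientAddGroup.ker_mk' T).ge, bot_sup_eq]] at h
  have hkψ : ∀ z : R × R, z ∈ ψ.ker ↔ twist β z ∈ T := fun z => QuotientAddGroup.eq_zero_iff _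
  have h4 : Nat.card ↥((pairs L β).map (AddMonoidHom.fst R R)) *
      (Nat.card (⊥ : AddSubgroup R) * Nat.card L0) = Nat.card ↥(pairs L β) := by
    rw [← card_prod, show (⊥ : AddSubgroup R).prod L0 = pairs L β ⊓ (AddMonoidHom.fst R R).ker by
      ext ⟨x, y⟩
      simp only [AddSubgroup.mem_prod, AddSubgroup.mem_bot, AddSubgroup.mem_inf, mem_pairs,
        AddMonoidHom.mem_ker, AddMonoidHom.coe_fst, hL0, ← hC]
      constructor
      · rintro ⟨rfl, hy, hy'⟩
        refine ⟨⟨⟨L.zero_mem, hy⟩, ?_⟩, rfl⟩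
        rw [map_zero, zero_sub]
        exact C.neg_mem ((hkq y).1 hy')
      · rintro ⟨⟨⟨-, hy⟩, h⟩, rfl⟩
        rw [map_zero, zero_sub, AddSubgroup.neg_mem_iff] at h
        exact ⟨rfl, hy, (hkq y).2 h⟩]
    exact card_map_mul_card_ker _ _
  have hfst : (pairs L β).map (AddMonoidHom.fst R R) = S := by
    ext x
    constructor
    · rintro ⟨⟨x', y⟩, hz, rfl⟩
      obtain ⟨⟨hx, hy⟩, h⟩ := mem_pairs.1 hz
      refine ⟨hx, ?_⟩
      show der β x' ∈ T
      rw [show der β x' = Q y + (der β x' - der β (der β y)) by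
        rw [hQ, AddMonoidHom.comp_apply]; abel]
      exact add_mem (AddSubgroup.mem_sup_left ⟨y, hy, rfl⟩) (AddSubgroup.mem_sup_right h)
    · rintro ⟨hx, hx'⟩
      obtain ⟨_, ⟨y, hy, rfl⟩, c, hc, hyc⟩ := AddSubgroup.mem_sup.1 (show der β x ∈ T from hx')
      refine ⟨(x, y), mem_pairs.2 ⟨⟨hx, hy⟩, ?_⟩, rfl⟩
      rw [← hyc, AddMonoidHom.comp_apply, add_sub_cancel_left]
      exact hc
  have h5 : Nat.card ↥((pairs L β).map ψ) * (Nat.card C * Nat.card S) =
      Nat.card ↥(pairs L β) := by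
    rw [← card_prod, show C.prod S = pairs L β ⊓ ψ.ker by
      ext ⟨x, y⟩
      simp only [AddSubgroup.mem_prod, AddSubgroup.mem_inf, hkψ, mem_pairs, hS,
        AddSubgroup.mem_comap, ← hC, twist_apply]
      constructor
      · rintro ⟨hx, hy, hy'⟩
        refine ⟨⟨⟨(mem_stab.1 hx).1, hy⟩, sub_mem (der_stab hβ hx) (der_top2 hβ hy')⟩, ?_⟩
        exact sub_mem (AddSubgroup.mem_sup_right hx) (add_mem hy' hy')
      · rintro ⟨⟨⟨hx, hy⟩, h⟩, hz⟩
        have hd := der_top2 hβ hz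
        rw [map_sub, map_add, ← hC] at hd
        have hQy : der β (der β y) ∈ C := by
          have := sub_mem h hd
          rwa [show der β x - der β (der β y) -
            (der β x - (der β (der β y) + der β (der β y))) = der β (der β y) by abel] at this
        have hxC : x ∈ C := mem_stab_of_der hβ hx (by
          have := add_mem h hQy
          rwa [sub_add_cancel] at this)
        refine ⟨hxC, hy, mem_of_add_self_mem hhalf T ?_⟩
        have := sub_mem (AddSubgroup.mem_sup_right hxC : x ∈ T) hz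
        rwa [sub_sub_cancel] at this]
    exact card_map_mul_card_ker _ _
  rw [hfst, Nat.card_unique (α := (⊥ : AddSubgroup R)), one_mul, ← h5] at h4
  have hSpos : 0 < Nat.card S := Nat.card_pos
  have h6 : Nat.card ↥((pairs L β).map ψ) * Nat.card C = Nat.card L0 := by
    refine Nat.eq_of_mul_eq_mul_right hSpos ?_
    rw [mul_assoc, ← h4, mul_comm]
  rw [← h3, ← h2, ← h1, ← h6]
  simp only [mul_assoc, mul_comm, mul_left_comm]

include hLL hhalf hβ in
/-- The degeneration annihilates at least as much. -/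
theorem card_annihilated_le {M : Type*} [AddCommGroup M] [Module R M] [Finite M]
    (K : AddSubgroup M) (hK : ∀ a ∈ L, ∀ v ∈ K, a • v = 0) :
    ∃ K' : AddSubgroup M, (∀ u ∈ limit L β, ∀ v ∈ K', u • v = 0) ∧ Nat.card K ≤ Nat.card K' := by
  set f : M →+ M := DistribSMul.toAddMonoidHom M β with hf
  set C₀ := K ⊓ K.comap f with hC₀
  refine ⟨C₀ ⊔ K.map f, ?_, le_of_eq ?_⟩
  · intro u hu v hv
    obtain ⟨t, ht, _, ⟨z, hz, rfl⟩, rfl⟩ := AddSubgroup.mem_sup.1 hu
    obtain ⟨_, ⟨w, hw, rfl⟩, c, hc, rfl⟩ := AddSubgroup.mem_sup.1 ht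
    obtain ⟨v₀, hv₀, _, ⟨v₁, hv₁, rfl⟩, rfl⟩ := AddSubgroup.mem_sup.1 hv
    obtain ⟨⟨hx, hy⟩, hzc⟩ := mem_pairs.1 hz
    obtain ⟨hcL, hdc, -⟩ := mem_stab.1 hc
    have hbb : ∀ m : M, β • β • m = 0 := fun m => by rw [smul_smul, hβ, zero_smul]
    have hf' : ∀ m : M, f m = β • m := fun m => rfl
    have hv₀K : v₀ ∈ K := hv₀.1
    have hv₀' : β • v₀ ∈ K := hv₀.2
    have e1 : c • β • v₁ = 0 := by
      have h := hK _ hdc v₁ hv₁
      rw [der_apply, sub_smul, mul_smul, mul_smul, hK c hcL v₁ hv₁, smul_zero, zero_sub,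
        neg_eq_zero] at h
      exact h
    have e2 : z.1 • β • v₁ = β • z.2 • β • v₁ + β • z.2 • β • v₁ := by
      have h := hK _ (mem_stab.1 hzc).1 v₁ hv₁
      simp only [der_apply, sub_smul, mul_smul, mul_sub, sub_mul, smul_sub, hbb,
        hK z.1 hx v₁ hv₁, hK z.2 hy v₁ hv₁, smul_zero] at h
      rw [← sub_eq_zero, ← neg_eq_zero, ← h]
      abel
    simp only [twist_apply, AddMonoidHom.comp_apply, der_apply, add_smul, sub_smul, mul_smul,
      mul_sub, sub_mul, smul_add, smul_sub, hf', hbb, hK c hcL v₀ hv₀K, hK z.1 hx v₀ hv₀K,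
      hK z.2 hy v₀ hv₀K, hK z.2 hy _ hv₀', hK w hw v₀ hv₀K, hK w hw _ hv₀', hK z.2 hy v₁ hv₁,
      hK w hw v₁ hv₁, e1, e2, smul_zero]
    abel
  · have hker : K ⊓ ((QuotientAddGroup.mk' C₀).comp f).ker = C₀ := by
      ext v
      simp only [AddSubgroup.mem_inf, AddMonoidHom.mem_ker, AddMonoidHom.comp_apply,
        QuotientAddGroup.mk'_apply, QuotientAddGroup.eq_zero_iff, hC₀, AddSubgroup.mem_comap]
      refine ⟨fun h => ⟨h.1, h.2.1⟩, fun h => ⟨h.1, h.2, ?_⟩⟩
      show β • β • v ∈ K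
      rw [smul_smul, hβ, zero_smul]
      exact K.zero_mem
    have h1 := card_map_mul_card_ker ((QuotientAddGroup.mk' C₀).comp f) K
    have h2 := card_map_mul_card_ker (QuotientAddGroup.mk' C₀) (C₀ ⊔ K.map f)
    rw [hker] at h1
    rw [QuotientAddGroup.ker_mk', inf_eq_right.2 le_sup_left, AddSubgroup.map_sup,
      (AddSubgroup.map_eq_bot_iff _).2 (QuotientAddGroup.ker_mk' C₀).ge, bot_sup_eq,
      AddSubgroup.map_map, h1] at h2
    exact h2

include hβ hhalf in
/-- The degeneration lies in the span of `L` and two of its conjugates. -/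
theorem limit_le_span : ∀ u ∈ limit L β, u ∈ Submodule.span ℤ
    ((L : Set R) ∪ ((fun x => (1 + β) * x * (1 - β)) '' L) ∪
      ((fun x => (1 - β) * x * (1 + β)) '' L)) := by
  set U := Submodule.span ℤ ((L : Set R) ∪ ((fun x => (1 + β) * x * (1 - β)) '' L) ∪
      ((fun x => (1 - β) * x * (1 + β)) '' L))
  have h0 : ∀ x ∈ L, x ∈ U := fun x hx => Submodule.subset_span (Or.inl (Or.inl hx))
  have hp : ∀ x ∈ L, (1 + β) * x * (1 - β) ∈ U :=
    fun x hx => Submodule.subset_span (Or.inl (Or.inr ⟨x, hx, rfl⟩))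
  have hm : ∀ x ∈ L, (1 - β) * x * (1 + β) ∈ U :=
    fun x hx => Submodule.subset_span (Or.inr ⟨x, hx, rfl⟩)
  have hQ : ∀ x ∈ L, der β (der β x) ∈ U := fun x hx => by
    have h := U.sub_mem (U.add_mem (hp x hx) (hm x hx)) (U.add_mem (h0 x hx) (h0 x hx))
    have e : der β (der β x) = (1 + β) * x * (1 - β) + (1 - β) * x * (1 + β) - (x + x) := by
      simp only [der_apply, mul_sub, sub_mul, mul_add, add_mul, one_mul, mul_one, mul_assoc,
        ← mul_assoc β β, hβ, zero_mul, mul_zero]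
      abel
    rwa [e]
  have hD : ∀ x ∈ L, der β x ∈ U := fun x hx => by
    refine mem_of_add_self_mem hhalf U.toAddSubgroup ?_
    have h := U.sub_mem (hp x hx) (hm x hx)
    have e : der β x + der β x = (1 + β) * x * (1 - β) - (1 - β) * x * (1 + β) := by
      simp only [der_apply, mul_sub, sub_mul, mul_add, add_mul, one_mul, mul_one, mul_assoc]
      abel
    rw [e]
    exact h
  intro u hu
  obtain ⟨t, ht, _, ⟨z, hz, rfl⟩, rfl⟩ := AddSubgroup.mem_sup.1 hu
  obtain ⟨_, ⟨w, hw, rfl⟩, c, hc, rfl⟩ := AddSubgroup.mem_sup.1 ht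
  obtain ⟨⟨hx, hy⟩, -⟩ := mem_pairs.1 hz
  exact U.add_mem (U.add_mem (hQ w hw) (h0 c (mem_stab.1 hc).1))
    (U.sub_mem (h0 _ hx) (U.add_mem (hD _ hy) (hD _ hy)))

include hβ hhalf in
/-- Something new appears one step deeper. -/
theorem exists_deeper {M : AddSubgroup R} (hM : L ⊓ M ≤ stab L β) {x : R} (hx : x ∈ L)
    (hxC : x ∉ stab L β) (h1 : der β x ∈ M) (h2 : der β (der β x) ∈ M) :
    ∃ u ∈ limit L β, u ∈ M ∧ u ∉ L := by
  by_cases hQ : der β (der β x) ∈ L
  · refine ⟨twist β (0, x), AddSubgroup.mem_sup_right ⟨(0, x), mem_pairs.2 ⟨⟨L.zero_mem, hx⟩, ?_⟩,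
      rfl⟩, ?_, ?_⟩
    · rw [map_zero, zero_sub]
      exact neg_mem (hM ⟨hQ, h2⟩)
    · rw [twist_apply, zero_sub]
      exact M.neg_mem (add_mem h1 h1)
    · rw [twist_apply, zero_sub, AddSubgroup.neg_mem_iff]
      intro h
      exact hxC (mem_stab.2 ⟨hx, mem_of_add_self_mem hhalf L h, hQ⟩)
  · exact ⟨_, AddSubgroup.mem_sup_left (AddSubgroup.mem_sup_left ⟨x, hx, rfl⟩), h2, hQ⟩

end Main

end CfsgLib.Degeneration
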