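import Cfsg.Agent.Kinf.OffenderNormalClosure
import Cfsg.Agent.ZJ.ConjModule

/-!
Inside a group: a quadratic offender on an elementary abelian subgroup normal in its normal closure
in the acting `p`-group.
-/

set_option autoImplicit false
set_option linter.unusedSectionVars false
set_option linter.style.haveILetI false

namespace CfsgLib.OffenderClosure

open Subgroup
open scoped commutatorElement
open CfsgLib.ZJ (ofVec toVec conjEnd ElabMod)

variable {Ω : Type*} [Group Ω] [Finite Ω] {p : ℕ} [Fact p.Prime]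

theorem exists_offender_normal_closure (hp : 5 ≤ p) (V G : Subgroup Ω)
    (hV : Cfsg.IsElementaryAbelian p V) (hG : IsPGroup p ↥G) (hGV : G ≤ normalizer (V : Set Ω))
    (hfaith : G ⊓ centralizer (V : Set Ω) = ⊥)
    (hF : ∃ B : Subgroup Ω, B ≤ G ∧ B ≠ ⊥ ∧ Cfsg.IsElementaryAbelian p B ∧
      Nat.card ↥V ≤ Nat.card ↥B * Nat.card ↥(V ⊓ centralizer (B : Set Ω))) :
    ∃ A : Subgroup Ω, A ≤ G ∧ A ≠ ⊥ ∧ Cfsg.IsElementaryAbelian p A ∧
      Nat.card ↥V ≤ Nat.card ↥A * Nat.card ↥(V ⊓ centralizer (A : Set Ω)) ∧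
      ⁅⁅V, A⁆, A⁆ = ⊥ ∧
      ∀ g ∈ closure {x : Ω | ∃ h ∈ G, ∃ a ∈ A, x = h * a * h⁻¹}, ∀ a ∈ A, g * a * g⁻¹ ∈ A := by
  classical
  haveI : Finite (ElabMod V hV) := CfsgLib.ZJ.elabModFinite hV
  let ρ : Representation (ZMod p) ↥G (ElabMod V hV) :=
    (conjEnd hV).comp (Subgroup.inclusion hGV)
  have hval : ∀ (g : G) (x : ElabMod V hV),
      ((ofVec hV (ρ g x) : V) : Ω) = (g : Ω) * (ofVec hV x : Ω) * (g : Ω)⁻¹ := fun g x => rfl
  have hinj : Function.Injective ρ := by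
    intro g h e
    have e1 : ρ (g⁻¹ * h) = 1 := by rw [map_mul, ← e, ← map_mul, inv_mul_cancel, map_one]
    have h1 := (CfsgLib.ZJ.conjEnd_eq_one_iff hV _).1 e1
    have h2 : ((g⁻¹ * h : G) : Ω) ∈ G ⊓ centralizer (V : Set Ω) := ⟨(g⁻¹ * h).2, h1⟩
    rw [hfaith, Subgroup.mem_bot] at h2
    exact inv_mul_eq_one.1 (Subtype.ext h2)
  have hfix : ∀ A : Subgroup G, Nat.card (fixed ρ A) =
      Nat.card ↥(V ⊓ centralizer ((A.map G.subtype : Subgroup Ω) : Set Ω)) := by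
    intro A
    refine Nat.card_congr
      { toFun := fun x => ⟨(ofVec hV x.1 : Ω), (ofVec hV x.1).2, mem_centralizer_iff.2 ?_⟩
        invFun := fun v => ⟨toVec hV ⟨v.1, v.2.1⟩, mem_fixed.2 fun a ha => ?_⟩
        left_inv := fun x => rfl
        right_inv := fun v => rfl }
    · rintro _ ⟨a, ha, rfl⟩
      have := hval a x.1
      rw [mem_fixed.1 x.2 a ha] at this
      exact (mul_inv_eq_iff_eq_mul.1 this.symm)
    · apply CfsgLib.ZJ.ofVec_injective
      apply Subtype.ext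
      rw [hval]
      exact mul_inv_eq_iff_eq_mul.2 (mem_centralizer_iff.1 v.2.2 a ⟨a, ha, rfl⟩)
  have hcardV : Nat.card (ElabMod V hV) = Nat.card V := rfl
  obtain ⟨B, hBG, hB1, hBe, hBoff⟩ := hF
  have hgood : ∃ A, Good ρ A := by
    refine exists_good (ρ := ρ) (B := B.subgroupOf G) hinj ?_ ?_ ?_ ?_
    · intro e
      refine hB1 ?_
      rw [← map_subgroupOf_eq_of_le hBG, e, Subgroup.map_bot]
    · intro a ha b hb
      exact Subtype.ext
        (congrArg Subtype.val (hBe.1.is_comm.comm (⟨(a : Ω), ha⟩ : B) (⟨(b : Ω), hb⟩ : B)) :)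
    · intro a ha
      exact Subtype.ext (hBe.2 a ha)
    · rw [hfix, map_subgroupOf_eq_of_le hBG, hcardV, Nat.card_congr (subgroupOfEquivOfLe hBG).toEquiv]
      exact hBoff
  obtain ⟨A, hA, hnorm⟩ := exists_normal_in_closure hinj hp hG hgood
  set A₀ := A.map G.subtype with hA₀
  have hq : ∀ a ∈ A, ∀ b ∈ A, ∀ x, ρ b (ρ a x - x) = ρ a x - x := fun a ha b hb x => by
    have := congrArg (fun f => f x) (hA.quad b hb a ha)
    simp only [Module.End.mul_apply, LinearMap.sub_apply, Module.End.one_apply,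
      LinearMap.zero_apply] at this
    exact sub_eq_zero.1 this
  refine ⟨A₀, map_subtype_le _, fun e => hA.ne_bot
    ((map_eq_bot_iff_of_injective _ G.subtype_injective).1 e), ⟨?_, ?_⟩, ?_, ?_, ?_⟩
  · refine ⟨⟨?_⟩⟩
    rintro ⟨_, a, ha, rfl⟩ ⟨_, b, hb, rfl⟩
    suffices e : ρ (a * b) = ρ (b * a) from Subtype.ext (congrArg Subtype.val (hinj e) :)
    have h1 := hA.quad a ha b hb
    have h2 := hA.quad b hb a ha
    rw [map_mul, map_mul, ← sub_left_inj (a := (1 : Module.End (ZMod p) (ElabMod V hV))),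
      sub_one_add h1, sub_one_add h2, add_comm]
  · rintro _ ⟨a, ha, rfl⟩
    refine congrArg Subtype.val (hinj ?_ : a ^ p = 1)
    have hpow : ∀ n : ℕ, ρ (a ^ n) - 1 = n • (ρ a - 1) := by
      intro n
      induction n with
      | zero => simp
      | succ n ih =>
        rw [pow_succ, map_mul, sub_one_add (by rw [ih, smul_mul_assoc, hA.quad a ha a ha, smul_zero]),
          ih, succ_nsmul]
    have := hpow p
    rw [← natCast_zsmul, char_zero_end, sub_eq_zero] at this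
    rw [this, map_one]
  · rw [← hfix, card_map_of_injective G.subtype_injective, ← hcardV]
    exact hA.off
  · have hle : ⁅V, A₀⁆ ≤ centralizer (A₀ : Set Ω) := by
      refine commutator_le.2 ?_
      rintro v hv _ ⟨a, ha, rfl⟩
      refine mem_centralizer_iff.2 ?_
      rintro _ ⟨b, hb, rfl⟩
      have h := congrArg (fun y => ((ofVec hV y : V) : Ω)) (hq a ha b hb (toVec hV ⟨v, hv⟩))
      simp only [CfsgLib.ZJ.ofVec_sub, Subgroup.coe_mul, Subgroup.coe_inv, hval,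
        CfsgLib.ZJ.ofVec_toVec] at h
      have h2 : (b : Ω) * ⁅(a : Ω), v⁆ * (b : Ω)⁻¹ = ⁅(a : Ω), v⁆ := by
        simpa only [commutatorElement_def] using h
      show (b : Ω) * ⁅v, (a : Ω)⁆ = ⁅v, (a : Ω)⁆ * b
      rw [← commutatorElement_inv (a : Ω) v]
      exact ((show Commute (b : Ω) ⁅(a : Ω), v⁆ from mul_inv_eq_iff_eq_mul.1 h2).inv_right).eq
    exact commutator_eq_bot_iff_le_centralizer.2 hle
  · intro g hg
    have hle : closure {x : Ω | ∃ h ∈ G, ∃ a ∈ A₀, x = h * a * h⁻¹} ≤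
        (Subgroup.normalizer (A : Set G)).map G.subtype := by
      rw [closure_le]
      rintro _ ⟨h, hh, _, ⟨a, ha, rfl⟩, rfl⟩
      exact ⟨⟨h, hh⟩ * a * ⟨h, hh⟩⁻¹, hnorm ⟨h, hh⟩ ⟨a, ha, rfl⟩, rfl⟩
    obtain ⟨n, hn, rfl⟩ := hle hg
    rintro _ ⟨a, ha, rfl⟩
    exact ⟨n * a * n⁻¹, (Subgroup.mem_normalizer_iff.1 hn a).1 ha, rfl⟩

end CfsgLib.OffenderClosure
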