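import Cfsg.Agent.Kinf.TruncExp
import Cfsg.Agent.Kinf.OffenderDegeneration
import Cfsg.Agent.Offender.Replacement
import Mathlib.GroupTheory.PGroup
import Mathlib.GroupTheory.Nilpotent

/-!
For a faithful `p`-group of automorphisms, `p ≥ 5`, of an elementary abelian group, with an offender:
some quadratic offender is normal in its normal closure.
-/

set_option autoImplicit false
set_option linter.unusedSectionVars false
set_option linter.style.haveILetI false

namespace CfsgLib.OffenderClosure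

open CfsgLib.Degeneration
open scoped Pointwise

theorem sub_one_add {R : Type*} [Ring R] {x y : R} (h : (x - 1) * (y - 1) = 0) :
    x * y - 1 = (x - 1) + (y - 1) := by
  have e : x * y - 1 = (x - 1) + (y - 1) + (x - 1) * (y - 1) := by noncomm_ring
  rw [e, h, add_zero]

theorem inv_of_sq {R : Type*} [Ring R] {x x' : R} (h : (x - 1) * (x - 1) = 0) (h' : x * x' = 1) :
    x' = 1 - (x - 1) := by
  have e : (1 - (x - 1)) * x = 1 - (x - 1) * (x - 1) := by noncomm_ring
  rw [h, sub_zero] at e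
  calc x' = (1 - (x - 1)) * x * x' := by rw [e, one_mul]
    _ = 1 - (x - 1) := by rw [mul_assoc, h', mul_one]

theorem comm_double {R : Type*} [Ring R] (x y : R) :
    y * x - x * y - y * x * y - (-(y * x) - -(x * y) - y * x * y) =
      y * x - x * y + (y * x - x * y) := by abel

theorem neg_sub_one {R : Type*} [Ring R] (u : R) : 1 - u - 1 = -u := by abel

variable {p : ℕ} [Fact p.Prime] {G V : Type*} [Group G] [Finite G] [AddCommGroup V] [Finite V]
  [Module (ZMod p) V] (ρ : Representation (ZMod p) G V)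

local notation "E" => Module.End (ZMod p) V

instance finite_end : Finite E := Finite.of_injective _ DFunLike.coe_injective

theorem char_zero_end (r : E) : (p : ℤ) • r = 0 := by
  refine LinearMap.ext fun v => ?_
  rw [LinearMap.smul_apply, LinearMap.zero_apply, ← Int.cast_smul_eq_zsmul (ZMod p)]
  simp

theorem half_end (hp : p ≠ 2) : ∃ n : ℤ, ∀ r : E, n • (r + r) = r := by
  obtain ⟨m, hm⟩ := (Fact.out : p.Prime).odd_of_ne_two hp
  refine ⟨(m + 1 : ℕ), fun r => ?_⟩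
  have hm' : ((m + 1 : ℕ) : ℤ) * 2 = (p : ℤ) + 1 := by rw [hm]; push_cast; ring
  rw [← two_zsmul, smul_smul, hm', add_smul, char_zero_end, one_smul, zero_add]

/-- Conjugation on endomorphisms. -/
def conjE (g : G) : E →+ E :=
  (AddMonoidHom.mulRight (ρ g⁻¹)).comp (AddMonoidHom.mulLeft (ρ g))

theorem conjE_apply (g : G) (r : E) : conjE ρ g r = ρ g * r * ρ g⁻¹ := rfl

theorem conjE_mul (g h : G) (r : E) : conjE ρ (g * h) r = conjE ρ g (conjE ρ h r) := by
  simp only [conjE_apply, mul_inv_rev, map_mul, mul_assoc]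

theorem conjE_one (r : E) : conjE ρ 1 r = r := by
  simp only [conjE_apply, inv_one, map_one, one_mul, mul_one]

/-- The ascending filtration by fixed points of conjugation. -/
def filt : ℕ → AddSubgroup E
  | 0 => ⊥
  | i + 1 => ⨅ g : G, (filt i).comap (conjE ρ g - AddMonoidHom.id E)

theorem mem_filt_succ {i : ℕ} {r : E} :
    r ∈ filt ρ (i + 1) ↔ ∀ g : G, conjE ρ g r - r ∈ filt ρ i := by
  simp [filt, AddSubgroup.mem_iInf]

theorem filt_le_succ : ∀ i, filt ρ i ≤ filt ρ (i + 1)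
  | 0 => by simp [filt]
  | i + 1 => fun r hr => (mem_filt_succ ρ).2 fun g =>
      filt_le_succ i ((mem_filt_succ ρ).1 hr g)

theorem filt_mono {i j : ℕ} (h : i ≤ j) : filt ρ i ≤ filt ρ j :=
  monotone_nat_of_le_succ (filt_le_succ ρ) h

theorem conjE_mem_filt {i : ℕ} {r : E} (hr : r ∈ filt ρ i) (g : G) :
    conjE ρ g r ∈ filt ρ i := by
  have := add_mem ((mem_filt_succ ρ).1 (filt_le_succ ρ i hr) g) hr
  rwa [sub_add_cancel] at this

theorem filt_lt_succ (hG : IsPGroup p G) {i : ℕ} (h : filt ρ i ≠ ⊤) :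
    filt ρ i < filt ρ (i + 1) := by
  refine lt_of_le_of_ne (filt_le_succ ρ i) fun he => ?_
  set M := filt ρ i with hM
  letI : MulAction G (E ⧸ M) :=
    { smul := fun g => QuotientAddGroup.map M M (conjE ρ g) fun r hr => conjE_mem_filt ρ hr g
      mul_smul := fun g h z => by
        obtain ⟨r, rfl⟩ := QuotientAddGroup.mk'_surjective M z
        exact congrArg (QuotientAddGroup.mk' M) (conjE_mul ρ g h r)
      one_smul := fun z => by
        obtain ⟨r, rfl⟩ := QuotientAddGroup.mk'_surjective M z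
        exact congrArg (QuotientAddGroup.mk' M) (conjE_one ρ r) }
  obtain ⟨w, -, hw⟩ := SetLike.exists_of_lt (lt_top_iff_ne_top.2 h)
  haveI : Nontrivial (E ⧸ M) := ⟨⟨(w : E ⧸ M), 0, fun e => hw ((QuotientAddGroup.eq_zero_iff w).1 e)⟩⟩
  obtain ⟨q, hq, hqd⟩ := Nat.exists_prime_and_dvd (Finite.one_lt_card (α := E ⧸ M)).ne'
  haveI := Fact.mk hq
  obtain ⟨z, hz⟩ := exists_prime_addOrderOf_dvd_card' q hqd
  have hzp : p • z = 0 := by
    obtain ⟨r, rfl⟩ := QuotientAddGroup.mk'_surjective M z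
    rw [← map_nsmul, ← natCast_zsmul, char_zero_end, map_zero]
  have hqp : q = p := (Nat.prime_dvd_prime_iff_eq hq Fact.out).1 (hz ▸ addOrderOf_dvd_of_nsmul_eq_zero hzp)
  obtain ⟨u, hu, hu0⟩ := hG.exists_fixed_point_of_prime_dvd_card_of_fixed_point (E ⧸ M)
    (hqp ▸ hqd) (a := 0) (fun g => map_zero (QuotientAddGroup.map M M (conjE ρ g)
      fun r hr => conjE_mem_filt ρ hr g))
  obtain ⟨r, rfl⟩ := QuotientAddGroup.mk'_surjective M u
  refine hu0 ?_
  have hr : r ∈ filt ρ (i + 1) := (mem_filt_succ ρ).2 fun g => by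
    refine (QuotientAddGroup.eq_zero_iff _).1 ?_
    show QuotientAddGroup.mk' M (conjE ρ g r - r) = 0
    rw [map_sub, sub_eq_zero]
    exact hu g
  rw [← he] at hr
  exact ((QuotientAddGroup.eq_zero_iff r).2 hr).symm

theorem filt_top (hG : IsPGroup p G) : filt ρ (Nat.card E) = ⊤ := by
  suffices ∀ i, filt ρ i = ⊤ ∨ i < Nat.card (filt ρ i) by
    refine (this (Nat.card E)).resolve_right fun h => ?_
    have : Nat.card (filt ρ (Nat.card E)) ≤ Nat.card E := AddSubgroup.card_le_card_addGroup _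
    omega
  intro i
  induction i with
  | zero => exact Or.inr Nat.card_pos
  | succ i ih =>
    rcases eq_or_ne (filt ρ i) ⊤ with h | h
    · exact Or.inl (top_le_iff.1 (h.ge.trans (filt_le_succ ρ i)))
    · have hlt := filt_lt_succ ρ hG h
      have h2 : Nat.card (filt ρ i) < Nat.card (filt ρ (i + 1)) :=
        Set.Finite.card_lt_card (Set.toFinite _) (SetLike.coe_ssubset_coe.2 hlt)
      have h3 := ih.resolve_left h
      exact Or.inr (by omega)

/-- The logarithms of a quadratically acting subgroup. -/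
def logs (A : Subgroup G) (hA : ∀ a ∈ A, ∀ b ∈ A, (ρ a - 1) * (ρ b - 1) = 0) : AddSubgroup E where
  carrier := (fun a => ρ a - 1) '' A
  zero_mem' := ⟨1, A.one_mem, by simp⟩
  add_mem' := by
    rintro _ _ ⟨a, ha, rfl⟩ ⟨b, hb, rfl⟩
    refine ⟨a * b, A.mul_mem ha hb, ?_⟩
    show ρ (a * b) - 1 = ρ a - 1 + (ρ b - 1)
    rw [map_mul]
    exact sub_one_add (hA a ha b hb)
  neg_mem' := by
    rintro _ ⟨a, ha, rfl⟩
    refine ⟨a⁻¹, A.inv_mem ha, ?_⟩
    show ρ a⁻¹ - 1 = -(ρ a - 1)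
    rw [inv_of_sq (hA a ha a ha) (show ρ a * ρ a⁻¹ = 1 by rw [← map_mul, mul_inv_cancel, map_one])]
    exact neg_sub_one _

variable {ρ}

theorem mem_logs {A : Subgroup G} {hA : ∀ a ∈ A, ∀ b ∈ A, (ρ a - 1) * (ρ b - 1) = 0} {r : E} :
    r ∈ logs ρ A hA ↔ ∃ a ∈ A, ρ a - 1 = r := Iff.rfl

theorem logs_mul {A : Subgroup G} {hA : ∀ a ∈ A, ∀ b ∈ A, (ρ a - 1) * (ρ b - 1) = 0} {x y : E}
    (hx : x ∈ logs ρ A hA) (hy : y ∈ logs ρ A hA) : x * y = 0 := by
  obtain ⟨a, ha, rfl⟩ := hx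
  obtain ⟨b, hb, rfl⟩ := hy
  exact hA a ha b hb

theorem card_logs (hinj : Function.Injective ρ) (A : Subgroup G)
    (hA : ∀ a ∈ A, ∀ b ∈ A, (ρ a - 1) * (ρ b - 1) = 0) :
    Nat.card (logs ρ A hA) = Nat.card A := by
  refine (Nat.card_congr (Equiv.ofBijective
    (fun a : A => (⟨ρ a - 1, ⟨a, a.2, rfl⟩⟩ : logs ρ A hA)) ⟨fun a b h => ?_, ?_⟩)).symm
  · exact Subtype.ext (hinj (sub_left_injective (congrArg Subtype.val h)))
  · rintro ⟨_, a, ha, rfl⟩
    exact ⟨⟨a, ha⟩, rfl⟩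

theorem inv_sub_one {g : G} (h : (ρ g - 1) * (ρ g - 1) = 0) : ρ g⁻¹ = 1 - (ρ g - 1) :=
  inv_of_sq h (by rw [← map_mul, mul_inv_cancel, map_one])

theorem conjE_sub_one (g a : G) : conjE ρ g (ρ a - 1) = ρ (g * a * g⁻¹) - 1 := by
  rw [conjE_apply, mul_sub, sub_mul, mul_one, ← map_mul, ← map_mul, ← map_mul, mul_inv_cancel,
    map_one]

theorem conjE_quad {g : G} (h : (ρ g - 1) * (ρ g - 1) = 0) (r : E) :
    conjE ρ g r - r = der (ρ g - 1) r - (ρ g - 1) * r * (ρ g - 1) := by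
  rw [conjE_apply, inv_sub_one h]
  nth_rewrite 1 [show ρ g = 1 + (ρ g - 1) by abel]
  generalize ρ g - 1 = β
  rw [der_apply]
  noncomm_ring

/-- `[β, r]` and `[β, β, r]` drop one step in the filtration. -/
theorem der_mem_filt (hp : p ≠ 2) {b : G} (hb : (ρ b - 1) * (ρ b - 1) = 0) {i : ℕ} {r : E}
    (hr : r ∈ filt ρ (i + 1)) :
    der (ρ b - 1) r ∈ filt ρ i ∧ der (ρ b - 1) (der (ρ b - 1) r) ∈ filt ρ i := by
  have hb' : ρ b⁻¹ - 1 = -(ρ b - 1) := by rw [inv_sub_one hb]; exact neg_sub_one _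
  set β := ρ b - 1 with hβ
  have h1 := (mem_filt_succ ρ).1 hr b
  have h2 := (mem_filt_succ ρ).1 hr b⁻¹
  rw [conjE_quad hb, ← hβ] at h1
  rw [conjE_quad (by rw [hb', neg_mul_neg]; exact hb), hb'] at h2
  constructor
  · refine mem_of_add_self_mem (half_end hp) _ ?_
    have e : der β r + der β r =
        (der β r - β * r * β) - (der (-β) r - -β * r * -β) := by
      simp only [der_apply, neg_mul, mul_neg, neg_neg]
      abel
    rw [e]
    exact sub_mem h1 h2
  · have e : der β (der β r) = (der β r - β * r * β) + (der (-β) r - -β * r * -β) := by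
      have hbb : ∀ x : E, β * (β * x) = 0 := fun x => by rw [← mul_assoc, hb, zero_mul]
      simp only [der_apply, neg_mul, mul_neg, neg_neg, mul_sub, sub_mul, mul_assoc, hbb, hb,
        mul_zero, zero_mul]
      abel
    rw [e]
    exact add_mem h1 h2

variable (ρ) in
/-- The conjugate of a subgroup. -/
abbrev cj (g : G) (A : Subgroup G) : Subgroup G := A.map (MulAut.conj g).toMonoidHom

variable (ρ) in
/-- The fixed points of a subgroup. -/
abbrev fixed (A : Subgroup G) : AddSubgroup V :=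
  (CfsgLib.Offender.fixSpace ρ (A : Set G)).toAddSubgroup

theorem mem_fixed {A : Subgroup G} {v : V} : v ∈ fixed ρ A ↔ ∀ a ∈ A, ρ a v = v :=
  CfsgLib.Offender.mem_fixSpace

variable (ρ) in
/-- A nontrivial quadratic offender. -/
structure Good (A : Subgroup G) : Prop where
  ne_bot : A ≠ ⊥
  quad : ∀ a ∈ A, ∀ b ∈ A, (ρ a - 1) * (ρ b - 1) = 0
  off : Nat.card V ≤ Nat.card A * Nat.card (fixed ρ A)

theorem Good.conj {A : Subgroup G} (h : Good ρ A) (g : G) : Good ρ (cj g A) := by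
  refine ⟨fun e => h.ne_bot ((Subgroup.map_eq_bot_iff_of_injective _ (MulAut.conj g).injective).1 e),
    ?_, ?_⟩
  · rintro _ ⟨a, ha, rfl⟩ _ ⟨b, hb, rfl⟩
    show (ρ (g * a * g⁻¹) - 1) * (ρ (g * b * g⁻¹) - 1) = 0
    rw [← conjE_sub_one, ← conjE_sub_one, conjE_apply, conjE_apply,
      show ∀ u x w y z : E, u * x * w * (y * z * w) = u * (x * (w * y) * z) * w by
        intros; simp only [mul_assoc], ← map_mul, inv_mul_cancel, map_one, mul_one,
      h.quad a ha b hb, mul_zero, zero_mul]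
  · have e1 : Nat.card (cj g A) = Nat.card A :=
      Subgroup.card_map_of_injective (MulAut.conj g).injective
    have e2 : Nat.card (fixed ρ A) ≤ Nat.card (fixed ρ (cj g A)) := by
      refine Nat.card_le_card_of_injective (fun v => ⟨ρ g v.1, mem_fixed.2 ?_⟩) fun v w hvw => ?_
      · rintro _ ⟨a, ha, rfl⟩
        show ρ (g * a * g⁻¹) (ρ g v.1) = ρ g v.1
        rw [← Module.End.mul_apply, ← map_mul, inv_mul_cancel_right, map_mul, Module.End.mul_apply,
          mem_fixed.1 v.2 a ha]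
      · have h' := congrArg (fun z => ρ g⁻¹ z) (congrArg Subtype.val hvw)
        simp only [← Module.End.mul_apply, ← map_mul, inv_mul_cancel, map_one,
          Module.End.one_apply] at h'
        exact Subtype.ext h'
    rw [e1]
    exact h.off.trans (Nat.mul_le_mul_left _ e2)

variable (ρ) in
/-- The profile of a quadratic offender along the filtration. -/
noncomputable def prof (A : Subgroup G) (i : ℕ) : ℕ :=
  Nat.card {a : G // a ∈ A ∧ ρ a - 1 ∈ filt ρ i}

theorem prof_conj (A : Subgroup G) (g : G) (i : ℕ) : prof ρ (cj g A) i = prof ρ A i := by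
  refine (Nat.card_congr ((MulAut.conj g).toEquiv.subtypeEquiv fun a => ?_)).symm
  show a ∈ A ∧ _ ↔ g * a * g⁻¹ ∈ cj g A ∧ ρ (g * a * g⁻¹) - 1 ∈ filt ρ i
  rw [← conjE_sub_one]
  refine and_congr ⟨fun h => ⟨a, h, rfl⟩, ?_⟩ ⟨fun h => conjE_mem_filt ρ h g, fun h => ?_⟩
  · rintro ⟨a', ha', e⟩
    rwa [show a = a' from ((MulAut.conj g).injective e).symm]
  · have := conjE_mem_filt ρ h g⁻¹
    rwa [← conjE_mul, inv_mul_cancel, conjE_one] at this

/-- A lexicographically maximal quadratic offender. -/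
theorem exists_lex_max (h : ∃ A, Good ρ A) (n : ℕ) :
    ∃ A, Good ρ A ∧ ∀ A', Good ρ A' → ∀ i < n, (∀ j < i, prof ρ A j ≤ prof ρ A' j) →
      prof ρ A' i ≤ prof ρ A i := by
  classical
  induction n with
  | zero => obtain ⟨A, hA⟩ := h; exact ⟨A, hA, fun A' _ i hi => absurd hi (Nat.not_lt_zero i)⟩
  | succ n ih =>
    obtain ⟨A, hA, hmax⟩ := ih
    obtain ⟨B, ⟨hB, hBge⟩, hBmax⟩ := Set.exists_max_image
      {B : Subgroup G | Good ρ B ∧ ∀ j < n, prof ρ A j ≤ prof ρ B j} (fun B => prof ρ B n)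
      (Set.toFinite _) ⟨A, hA, fun _ _ => le_rfl⟩
    refine ⟨B, hB, fun A' hA' i hi hge => ?_⟩
    rcases Nat.lt_succ_iff_lt_or_eq.1 hi with hi' | rfl
    · exact (hmax A' hA' i hi' fun j hj => (hBge j (by omega)).trans (hge j hj)).trans (hBge i hi')
    · exact hBmax A' ⟨hA', fun j hj => (hBge j hj).trans (hge j hj)⟩

/-- Monomials of length four in three mutually normalizing quadratic families vanish. -/
theorem pow_four_eq_bot (hp : p ≠ 2) (F : Fin 3 → Subgroup G)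
    (hq : ∀ i, ∀ a ∈ F i, ∀ b ∈ F i, (ρ a - 1) * (ρ b - 1) = 0)
    (hn : ∀ i j, F i ≤ Subgroup.normalizer (F j : Set G)) :
    Submodule.span ℤ {r : E | ∃ i, ∃ a ∈ F i, ρ a - 1 = r} ^ 4 = ⊥ := by
  set L : Fin 3 → AddSubgroup E := fun i => logs ρ (F i) (hq i)
  have hcm : ∀ i j, ∀ x ∈ L j, ∀ y ∈ L i, y * x - x * y ∈ L j := by
    rintro i j _ ⟨a, ha, rfl⟩ _ ⟨c, hc, rfl⟩
    have hm : ∀ c ∈ F i, der (ρ c - 1) (ρ a - 1) - (ρ c - 1) * (ρ a - 1) * (ρ c - 1) ∈ L j := by
      intro c hc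
      rw [← conjE_quad (hq i c hc c hc), conjE_sub_one]
      exact (L j).sub_mem ⟨_, (Subgroup.mem_normalizer_iff.1 (hn i j hc) a).1 ha, rfl⟩ ⟨a, ha, rfl⟩
    have h1 := hm c hc
    have h2 := hm c⁻¹ ((F i).inv_mem hc)
    rw [show ρ c⁻¹ - 1 = -(ρ c - 1) by
      rw [inv_sub_one (hq i c hc c hc)]; exact neg_sub_one _] at h2
    refine mem_of_add_self_mem (half_end hp) _ ?_
    have := (L j).sub_mem h1 h2
    simp only [der_apply, neg_mul, mul_neg, neg_neg] at this
    beta_reduce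
    rw [comm_double] at this
    exact this
  have h0 : ∀ i, ∀ x ∈ L i, ∀ x' ∈ L i, x * x' = 0 := fun i x hx x' hx' => logs_mul hx hx'
  have h1 : ∀ i j, ∀ x ∈ L i, ∀ y ∈ L j, ∀ x' ∈ L i, x * y * x' = 0 := by
    intro i j x hx y hy x' hx'
    have h := h0 i x hx _ (hcm j i x' hx' y hy)
    rwa [mul_sub, ← mul_assoc x x', h0 i x hx x' hx', zero_mul, sub_zero, ← mul_assoc] at h
  have h2 : ∀ i j k, ∀ x ∈ L i, ∀ y ∈ L j, ∀ z ∈ L k, ∀ x' ∈ L i, x * y * z * x' = 0 := by
    intro i j k x hx y hy z hz x' hx'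
    rw [show x * y * z * x' = x * y * x' * z + x * y * (z * x' - x' * z) by noncomm_ring,
      h1 i j x hx y hy x' hx', h1 i j x hx y hy _ (hcm k i x' hx' z hz), zero_mul, add_zero]
  set U := {r : E | ∃ i, ∃ a ∈ F i, ρ a - 1 = r}
  have hU4 : ∀ u ∈ U * U * U * U, u = 0 := by
    rintro _ ⟨_, ⟨_, ⟨x, hx, y, hy, rfl⟩, z, hz, rfl⟩, w, hw, rfl⟩
    obtain ⟨i, hx⟩ := hx
    obtain ⟨j, hy⟩ := hy
    obtain ⟨k, hz⟩ := hz
    obtain ⟨l, hw⟩ := hw
    show x * y * z * w = 0
    rcases (by decide : ∀ i j k l : Fin 3, i = j ∨ i = k ∨ i = l ∨ j = k ∨ j = l ∨ k = l) i j k l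
      with h | h | h | h | h | h <;> subst h
    · rw [h0 i x hx y hy, zero_mul, zero_mul]
    · rw [h1 i j x hx y hy z hz, zero_mul]
    · exact h2 i j k x hx y hy z hz w hw
    · rw [mul_assoc x y z, h0 j y hy z hz, mul_zero, zero_mul]
    · rw [mul_assoc x y z, mul_assoc x, h1 j k y hy z hz w hw, mul_zero]
    · rw [mul_assoc, h0 k z hz w hw, mul_zero]
  rw [show Submodule.span ℤ U ^ 4 = Submodule.span ℤ U * Submodule.span ℤ U * Submodule.span ℤ U *
      Submodule.span ℤ U by rw [Submodule.pow_succ, Submodule.pow_succ, Submodule.pow_succ,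
        Submodule.pow_one],
    Submodule.span_mul_span, Submodule.span_mul_span, Submodule.span_mul_span,
    Submodule.span_eq_bot]
  exact hU4

/-- **The step.** -/
theorem mem_normalizer_of_max (hinj : Function.Injective ρ) (hp5 : 5 ≤ p) (hG : IsPGroup p G)
    {A : Subgroup G} (hA : Good ρ A)
    (hmax : ∀ A', Good ρ A' → ∀ i < Nat.card E + 1, (∀ j < i, prof ρ A j ≤ prof ρ A' j) →
      prof ρ A' i ≤ prof ρ A i)
    {b : G} (hb : (ρ b - 1) * (ρ b - 1) = 0)
    (h01 : cj b A ≤ Subgroup.normalizer (A : Set G)) (h10 : A ≤ Subgroup.normalizer (cj b A : Set G))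
    (h02 : cj b⁻¹ A ≤ Subgroup.normalizer (A : Set G))
    (h20 : A ≤ Subgroup.normalizer (cj b⁻¹ A : Set G))
    (h12 : cj b A ≤ Subgroup.normalizer (cj b⁻¹ A : Set G))
    (h21 : cj b⁻¹ A ≤ Subgroup.normalizer (cj b A : Set G)) :
    b ∈ Subgroup.normalizer (A : Set G) := by
  classical
  have hp : p ≠ 2 := by omega
  set β := ρ b - 1 with hβ
  set L := logs ρ A hA.quad with hL
  have hLL : ∀ x ∈ L, ∀ y ∈ L, x * y = 0 := fun x hx y hy => logs_mul hx hy
  by_contra hbN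
  have hne : ¬ L ≤ stab L β := by
    intro hle
    refine hbN (Subgroup.mem_normalizer_fintype fun a ha => ?_)
    have hx : ρ a - 1 ∈ L := ⟨a, ha, rfl⟩
    obtain ⟨-, hD, hQ⟩ := mem_stab.1 (hle hx)
    have hQ' : β * (ρ a - 1) * β ∈ L := by
      refine mem_of_add_self_mem (half_end hp) _ ?_
      have e : β * (ρ a - 1) * β + β * (ρ a - 1) * β = -der β (der β (ρ a - 1)) := by
        have hbb : ∀ x : E, β * (β * x) = 0 := fun x => by rw [← mul_assoc, hb, zero_mul]
        simp only [der_apply, mul_sub, sub_mul, mul_assoc, hbb, hb, mul_zero, zero_mul]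
        abel
      rw [e]
      exact L.neg_mem hQ
    have h := L.add_mem (L.sub_mem hD hQ') hx
    rw [← conjE_quad hb, sub_add_cancel, conjE_sub_one] at h
    obtain ⟨a', ha', e⟩ := h
    rwa [← hinj (sub_left_injective e)]
  have htop := filt_top ρ hG
  have hex : ∃ i, ¬ L ⊓ filt ρ i ≤ stab L β := ⟨Nat.card E, by rwa [htop, inf_top_eq]⟩
  obtain ⟨i, hi⟩ : ∃ i, i + 1 = Nat.find hex := by
    have h0 : Nat.find hex ≠ 0 := fun h0 => by
      have := Nat.find_spec hex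
      rw [h0] at this
      exact this (by simp [filt])
    exact ⟨Nat.find hex - 1, by omega⟩
  have hi1 : ¬ L ⊓ filt ρ (i + 1) ≤ stab L β := hi ▸ Nat.find_spec hex
  have hi0 : L ⊓ filt ρ i ≤ stab L β := not_not.1 (Nat.find_min hex (by omega))
  have hiN : i < Nat.card E + 1 := by
    have := Nat.find_min' hex (show ¬ L ⊓ filt ρ (Nat.card E) ≤ stab L β by rwa [htop, inf_top_eq])
    omega
  obtain ⟨x, hx, hxC⟩ := SetLike.not_le_iff_exists.1 hi1
  obtain ⟨hd1, hd2⟩ := der_mem_filt hp hb hx.2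
  obtain ⟨u, hu, huM, huL⟩ := exists_deeper hb (half_end hp) hi0 hx.1 hxC hd1 hd2
  set L' := limit L β with hL'
  have hL'L' := limit_mul hLL hb
  -- the group of the degeneration
  let F : Fin 3 → Subgroup G := ![A, cj b A, cj b⁻¹ A]
  have hFq : ∀ k, ∀ a ∈ F k, ∀ c ∈ F k, (ρ a - 1) * (ρ c - 1) = 0 := by
    intro k; fin_cases k
    exacts [hA.quad, (hA.conj b).quad, (hA.conj b⁻¹).quad]
  have hFn : ∀ k l, F k ≤ Subgroup.normalizer (F l : Set G) := by
    intro k l; fin_cases k <;> fin_cases l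
    exacts [Subgroup.le_normalizer, h10, h20, h01, Subgroup.le_normalizer, h12, h02, h21,
      Subgroup.le_normalizer]
  set S := MonoidHom.mrange (ρ : G →* E) with hS
  have hspan : ∀ z ∈ L', ρ 1 + z ∈ S := by
    intro z hz
    rw [map_one]
    refine CfsgLib.TruncExp.one_add_mem (pow_four_eq_bot hp F hFq hFn) S ?_ (Fact.out : p.Prime)
      hp5 char_zero_end ?_ ?_ (hL'L' z hz z hz)
    · rintro _ ⟨g, rfl⟩
      exact ⟨ρ g⁻¹, ⟨g⁻¹, rfl⟩, by rw [← map_mul, mul_inv_cancel, map_one]⟩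
    · rintro _ ⟨k, a, ha, rfl⟩
      exact ⟨hFq k a ha a ha, a, by abel⟩
    · refine Submodule.span_mono ?_ (limit_le_span hb (half_end hp) z hz)
      rintro r ((⟨a, ha, rfl⟩ | ⟨_, ⟨a, ha, rfl⟩, rfl⟩) | ⟨_, ⟨a, ha, rfl⟩, rfl⟩)
      · exact ⟨0, a, ha, rfl⟩
      · refine ⟨1, b * a * b⁻¹, ⟨a, ha, rfl⟩, ?_⟩
        rw [← conjE_sub_one, conjE_apply, inv_sub_one hb, ← hβ]
        show _ = (1 + β) * (ρ a - 1) * (1 - β)
        rw [show (1 : E) + β = ρ b by rw [hβ]; abel]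
      · refine ⟨2, b⁻¹ * a * b⁻¹⁻¹, ⟨a, ha, rfl⟩, ?_⟩
        rw [← conjE_sub_one, conjE_apply, inv_inv, inv_sub_one hb, ← hβ]
        show _ = (1 - β) * (ρ a - 1) * (1 + β)
        rw [show (1 : E) + β = ρ b by rw [hβ]; abel]
  let A' : Subgroup G :=
    { carrier := {g | ρ g - 1 ∈ L'}
      one_mem' := by simp [L'.zero_mem]
      mul_mem' := fun {g h} hg hh => by
        have e : ρ (g * h) - 1 = (ρ g - 1) + (ρ h - 1) + (ρ g - 1) * (ρ h - 1) := by
          rw [map_mul]; noncomm_ring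
        show ρ (g * h) - 1 ∈ L'
        rw [e, hL'L' _ hg _ hh, add_zero]
        exact L'.add_mem hg hh
      inv_mem' := fun {g} hg => by
        show ρ g⁻¹ - 1 ∈ L'
        rw [inv_sub_one (hL'L' _ hg _ hg), show (1 : E) - (ρ g - 1) - 1 = -(ρ g - 1) by abel]
        exact L'.neg_mem hg }
  have hA'q : ∀ a ∈ A', ∀ c ∈ A', (ρ a - 1) * (ρ c - 1) = 0 := fun a ha c hc => hL'L' _ ha _ hc
  have hsurj : ∀ z ∈ L', ∃ g ∈ A', ρ g - 1 = z := fun z hz => by
    obtain ⟨g, hg⟩ := hspan z hz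
    have e : ρ g - 1 = z := by rw [hg, map_one]; abel
    exact ⟨g, show ρ g - 1 ∈ L' by rwa [e], e⟩
  have hlogs : logs ρ A' hA'q = L' := by
    ext z
    exact ⟨fun ⟨g, hg, e⟩ => e ▸ hg, fun hz => hsurj z hz⟩
  have hcard : Nat.card A' = Nat.card A := by
    rw [← card_logs hinj A' hA'q, hlogs, ← card_logs hinj A hA.quad, hL', card_limit hb (half_end hp)]
  obtain ⟨K', hK', hKcard⟩ := card_annihilated_le hLL hb (half_end hp) (fixed ρ A) (by
    rintro _ ⟨a, ha, rfl⟩ v hv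
    show (ρ a - 1 : E) v = 0
    rw [LinearMap.sub_apply, Module.End.one_apply, mem_fixed.1 hv a ha, sub_self])
  have hgood : Good ρ A' := by
    refine ⟨fun e => hA.ne_bot (Subgroup.eq_bot_of_card_eq A ?_), hA'q, ?_⟩
    · rw [← hcard, e, Nat.card_unique]
    · have hle : K' ≤ fixed ρ A' := fun v hv => mem_fixed.2 fun g hg => by
        have h : (ρ g - 1 : E) v = 0 := hK' _ hg v hv
        rwa [LinearMap.sub_apply, Module.End.one_apply, sub_eq_zero] at h
      rw [hcard]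
      exact hA.off.trans (Nat.mul_le_mul_left _
        (hKcard.trans (Nat.card_mono (Set.toFinite _) hle)))
  have hsub : ∀ j ≤ i, ∀ a, a ∈ A ∧ ρ a - 1 ∈ filt ρ j → a ∈ A' ∧ ρ a - 1 ∈ filt ρ j :=
    fun j hj a ha => ⟨stab_le_limit (hi0 ⟨⟨a, ha.1, rfl⟩, filt_mono ρ hj ha.2⟩), ha.2⟩
  have hle := hmax A' hgood i hiN fun j hj =>
    Nat.card_mono (Set.toFinite {a | a ∈ A' ∧ ρ a - 1 ∈ filt ρ j}) (hsub j hj.le)
  obtain ⟨g, hg, rfl⟩ := hsurj u hu
  have hlt : prof ρ A i < prof ρ A' i :=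
    Set.Finite.card_lt_card (Set.toFinite {a | a ∈ A' ∧ ρ a - 1 ∈ filt ρ i})
      ((Set.ssubset_iff_of_subset (hsub i le_rfl)).2
        ⟨g, ⟨hg, huM⟩, fun h => huL ⟨g, h.1, rfl⟩⟩)
  omega

theorem cj_cj (g h : G) (A : Subgroup G) : cj g (cj h A) = cj (g * h) A := by
  rw [cj, cj, cj, Subgroup.map_map]
  congr 1
  ext x
  simp [mul_assoc]

theorem cj_one' (A : Subgroup G) : cj 1 A = A := by
  rw [cj, show (MulAut.conj (1 : G)).toMonoidHom = MonoidHom.id G from by ext; simp, Subgroup.map_id]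

/-- **A quadratic offender normal in its normal closure.** -/
theorem exists_normal_in_closure (hinj : Function.Injective ρ) (hp5 : 5 ≤ p) (hG : IsPGroup p G)
    (h : ∃ A, Good ρ A) :
    ∃ A, Good ρ A ∧ ∀ k : G, cj k A ≤ Subgroup.normalizer (A : Set G) := by
  classical
  obtain ⟨A, hA, hmax⟩ := exists_lex_max h (Nat.card E + 1)
  refine ⟨A, hA, ?_⟩
  suffices ∀ n, ∀ k : G, Nat.card ↥(A ⊔ cj k A) ≤ n → cj k A ≤ Subgroup.normalizer (A : Set G) from
    fun k => this _ k le_rfl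
  intro n
  induction n using Nat.strong_induction_on with
  | _ n ih =>
    intro k hk
    set X := A ⊔ cj k A with hX
    by_cases hAX : A = X
    · exact (le_sup_right.trans hAX.ge).trans Subgroup.le_normalizer
    have hne : A.subgroupOf X ≠ ⊤ := fun e =>
      hAX (le_antisymm le_sup_left (Subgroup.subgroupOf_eq_top.1 e))
    obtain ⟨M, hM, hAM⟩ := (eq_top_or_exists_le_coatom (A.subgroupOf X)).resolve_left hne
    haveI : Group.IsNilpotent X := (hG.to_subgroup X).isNilpotent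
    haveI hMn : M.Normal := Subgroup.NormalizerCondition.normal_of_coatom M
      Group.normalizerCondition_of_isNilpotent hM
    have hin : ∀ x ∈ X, cj x A ≤ M.map X.subtype := by
      rintro x hx _ ⟨a, ha, rfl⟩
      exact ⟨⟨x, hx⟩ * ⟨a, le_sup_left (a := A) ha⟩ * ⟨x, hx⟩⁻¹,
        hMn.conj_mem _ (hAM (Subgroup.mem_subgroupOf.2 ha)) _, rfl⟩
    have hlt : Nat.card (M.map X.subtype) < Nat.card X := by
      rw [Subgroup.card_map_of_injective X.subtype_injective]
      exact lt_of_le_of_ne (Subgroup.card_le_card_group M) fun e => hM.1 (Subgroup.eq_top_of_card_eq M e)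
    -- smaller pairs are normalizing
    have hsmall : ∀ g l : G, g ∈ X → l ∈ X →
        cj l A ≤ Subgroup.normalizer (cj g A : Set G) := by
      intro g l hg hl
      have h1 : cj (g⁻¹ * l) A ≤ Subgroup.normalizer (A : Set G) := by
        refine ih (Nat.card (M.map X.subtype)) (by omega) _ ?_
        refine (Subgroup.card_le_of_le (sup_le ?_ (hin _ (mul_mem (inv_mem hg) hl))))
        have := hin 1 X.one_mem
        rwa [cj_one'] at this
      have h2 : cj g (cj (g⁻¹ * l) A) ≤ cj g (Subgroup.normalizer (A : Set G)) := Subgroup.map_mono h1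
      rw [cj_cj, mul_inv_cancel_left] at h2
      exact h2.trans (Subgroup.le_normalizer_map _)
    rintro _ ⟨a, ha, rfl⟩
    show k * a * k⁻¹ ∈ Subgroup.normalizer (A : Set G)
    have hbX : k * a * k⁻¹ ∈ X := le_sup_right (a := A) ⟨a, ha, rfl⟩
    refine mem_normalizer_of_max hinj hp5 hG hA hmax ((hA.conj k).quad _ ⟨a, ha, rfl⟩ _ ⟨a, ha, rfl⟩)
      ?_ ?_ ?_ ?_ (hsmall _ _ (inv_mem hbX) hbX) (hsmall _ _ hbX (inv_mem hbX))
    · simpa only [cj_one'] using hsmall 1 _ X.one_mem hbX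
    · simpa only [cj_one'] using hsmall _ 1 hbX X.one_mem
    · simpa only [cj_one'] using hsmall 1 _ X.one_mem (inv_mem hbX)
    · simpa only [cj_one'] using hsmall _ 1 (inv_mem hbX) X.one_mem

/-- Offenders give quadratic offenders. -/
theorem exists_good (hinj : Function.Injective ρ) {B : Subgroup G} (hne : B ≠ ⊥)
    (hc : ∀ a ∈ B, ∀ b ∈ B, a * b = b * a) (hexp : ∀ a ∈ B, a ^ p = 1)
    (hoff : Nat.card V ≤ Nat.card B * Nat.card (fixed ρ B)) : ∃ A, Good ρ A := by
  classical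
  let m : Subgroup G → ℕ := fun C => Nat.card C * Nat.card (fixed ρ C)
  obtain ⟨C, hCB, hCmax⟩ := Set.exists_max_image {C : Subgroup G | C ≤ B} m (Set.toFinite _)
    ⟨B, le_refl B⟩
  have hBC : m B ≤ m C := hCmax B (le_refl B)
  obtain ⟨C, hCB, hCmax, hC1, hCoff⟩ : ∃ C, C ≤ B ∧ (∀ D ≤ B, m D ≤ m C) ∧ C ≠ ⊥ ∧
      Nat.card V ≤ m C := by
    by_cases hCbot : C = ⊥
    · refine ⟨B, le_rfl, fun D hD => ?_, hne, hoff⟩
      have hV : m C = Nat.card V := by
        show Nat.card C * Nat.card (fixed ρ C) = Nat.card V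
        rw [hCbot, Nat.card_unique, one_mul, fixed, CfsgLib.Offender.fixSpace_bot]
        exact AddSubgroup.card_top
      exact (hCmax D hD).trans (hV.le.trans hoff)
    · exact ⟨C, hCB, hCmax, hCbot, hoff.trans hBC⟩
  obtain ⟨T, hT, hTm, hTq, b, hb, hb1⟩ := CfsgLib.Offender.exists_quadratic_offender (ρ := ρ)
    (A := C) (fun D hD => hCmax D (hD.trans hCB)) (fun a ha b hb => hc a (hCB ha) b (hCB hb))
    (fun a ha => ⟨1, by rw [pow_one]; exact hexp a (hCB ha)⟩) (by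
      obtain ⟨a, ha, ha1⟩ := SetLike.exists_of_lt (bot_lt_iff_ne_bot.2 hC1)
      exact ⟨a, ha, fun e => ha1 (Subgroup.mem_bot.2 (hinj (e.trans ρ.map_one.symm)))⟩)
  refine ⟨T, fun e => hb1 ?_, fun a ha c hc' => hTq c hc' a (hT ha), hCoff.trans hTm⟩
  rw [e, Subgroup.mem_bot] at hb
  rw [hb, map_one]

end CfsgLib.OffenderClosure
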