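import Mathlib.Algebra.Module.ZMod
import Mathlib.Algebra.Field.ZMod
import Mathlib.Algebra.Polynomial.Degree.Domain
import Mathlib.GroupTheory.Nilpotent
import Mathlib.Algebra.Module.LinearMap.End
import Mathlib.Algebra.Polynomial.AlgebraMap
import Mathlib.GroupTheory.GroupAction.Quotient
import Mathlib.GroupTheory.Sylow
import Mathlib.Dynamics.PeriodicPts.Lemmas
import Mathlib.Algebra.CharP.Lemmas
import Mathlib.Algebra.GroupWithZero.Action.Defs

/-!
The orbit-sum theorem: a vector fixed by a subgroup `M` of index prime to `p` is fixed by the whole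
group, when a subgroup with a unique fixed coset on `G/M` is generated by elements acting
unipotently of degree `< p`.
-/

set_option autoImplicit false

namespace CfsgLib.Kinf

open Polynomial in
theorem geom_sum_eq_sub_one_pow (p k : ℕ) [Fact p.Prime] :
    ∑ i ∈ Finset.range (p ^ k), (X : (ZMod p)[X]) ^ i = (X - 1) ^ (p ^ k - 1) := by
  have hpos : 0 < p ^ k := pow_pos (Fact.out : p.Prime).pos k
  apply mul_right_cancel₀ (show (X : (ZMod p)[X]) - 1 ≠ 0 by
    simpa using X_sub_C_ne_zero (1 : ZMod p))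
  rw [geom_sum_mul, ← pow_succ, Nat.sub_add_cancel hpos, sub_pow_char_pow, one_pow]

section Sum

variable {B : Type*} [AddCommGroup B] {p : ℕ} [Fact p.Prime]

theorem sum_pow_eq_zero {A : Type*} [AddCommGroup A] [Module (ZMod p) A]
    (φ : Module.End (ZMod p) A) (hz : (φ - 1) ^ (p - 1) = 0) {k : ℕ} (hk : k ≠ 0) :
    ∑ i ∈ Finset.range (p ^ k), φ ^ i = 0 := by
  have h := congrArg (Polynomial.aeval φ) (geom_sum_eq_sub_one_pow p k)
  simp only [map_sum, map_pow, Polynomial.aeval_X, map_sub, map_one] at h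
  rw [h, pow_eq_zero_of_le (Nat.sub_le_sub_right (Nat.le_self_pow hk p) 1) hz]

theorem coe_pow_apply {A : Type*} [AddCommGroup A] [Module (ZMod p) A]
    (φ : Module.End (ZMod p) A) (ι : A →+ B) (f : B → B) (h : ∀ a, ι (φ a) = f (ι a)) :
    ∀ (i : ℕ) (a : A), ι ((φ ^ i) a) = f^[i] (ι a) := by
  intro i
  induction i with
  | zero => intro a; simp
  | succ i ih => intro a; rw [pow_succ', Module.End.mul_apply, Function.iterate_succ_apply', h, ih]

theorem sum_iterate_aux {A : Type*} [AddCommGroup A] [Module (ZMod p) A]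
    (φ : Module.End (ZMod p) A) (ι : A →+ B) (hι : Function.Injective ι) (f : B →+ B)
    (h : ∀ a, ι (φ a) = f (ι a)) (hu : ∀ a, (fun w => f w - w)^[p - 1] (ι a) = 0)
    {k : ℕ} (hk : k ≠ 0) (a : A) :
    ∑ i ∈ Finset.range (p ^ k), f^[i] (ι a) = 0 := by
  have hz : (φ - 1) ^ (p - 1) = 0 := by
    ext x
    apply hι
    rw [coe_pow_apply (φ - 1) ι (fun w => f w - w)
      (fun a => by rw [LinearMap.sub_apply, Module.End.one_apply, map_sub, h]), hu x]
    simp
  have h2 := congrArg ι (LinearMap.congr_fun (sum_pow_eq_zero φ hz hk) a)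
  simpa [LinearMap.sum_apply, map_sum, coe_pow_apply φ ι f h] using h2

/-- An additive endomorphism which is unipotent of degree `< p` on a group of exponent `p` has
vanishing sum over `p ^ k` consecutive powers, `k > 0`. -/
theorem sum_iterate_eq_zero (V : AddSubgroup B) (hV : ∀ v ∈ V, p • v = 0) (f : B →+ B)
    (hf : ∀ v ∈ V, f v ∈ V) (hu : ∀ v ∈ V, (fun w => f w - w)^[p - 1] v = 0)
    {k : ℕ} (hk : k ≠ 0) {v : B} (hv : v ∈ V) :
    ∑ i ∈ Finset.range (p ^ k), (f ^[i]) v = 0 :=
  @sum_iterate_aux B _ p _ V _ (AddCommGroup.zmodModule fun x => Subtype.ext (by simpa using hV x x.2))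
    (@AddMonoidHom.toZModLinearMap p V V _ _
      (AddCommGroup.zmodModule fun x => Subtype.ext (by simpa using hV x x.2))
      (AddCommGroup.zmodModule fun x => Subtype.ext (by simpa using hV x x.2))
      ((f.comp V.subtype).codRestrict V fun x => hf x x.2))
    V.subtype V.subtype_injective f (fun _ => rfl) (fun a => hu a a.2) k hk ⟨v, hv⟩

end Sum

variable {G : Type*} [Group G] [Finite G] {B : Type*} [AddCommGroup B] [DistribMulAction G B]
  {p : ℕ} [Fact p.Prime]

/-- Summing an equivariant function into `V` over an invariant set only sees the fixed points. -/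
theorem sum_eq_sum_fixed {α : Type*} [MulAction G α] [DecidableEq α] (V : AddSubgroup B)
    (hV : ∀ v ∈ V, p • v = 0) (e : G) (hVe : ∀ v ∈ V, e • v ∈ V)
    (hu : ∀ v ∈ V, (fun w => e • w - w)^[p - 1] v = 0) (he : ∃ k, orderOf e = p ^ k)
    (d : α → B) (hd : ∀ a, d a ∈ V) (heq : ∀ a, d (e • a) = e • d a) (F : Finset α)
    (hF : ∀ a ∈ F, e • a ∈ F) :
    ∑ a ∈ F, d a = ∑ a ∈ F.filter (fun a => e • a = a), d a := by
  induction F using Finset.strongInduction with
  | _ F ih =>
    by_cases hall : ∀ a ∈ F, e • a = a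
    · rw [Finset.filter_true_of_mem hall]
    push Not at hall
    obtain ⟨c, hcF, hc⟩ := hall
    set n := Function.minimalPeriod (e • · : α → α) c with hn
    set O := (Finset.range n).image (fun i => e ^ i • c) with hO
    obtain ⟨k₀, hk₀⟩ := he
    have hper : n ∣ orderOf e := by
      rw [hn, ← MulAction.pow_smul_eq_iff_minimalPeriod_dvd, pow_orderOf_eq_one, one_smul]
    rw [hk₀, Nat.dvd_prime_pow (Fact.out : p.Prime)] at hper
    obtain ⟨k, -, hnk⟩ := hper
    have hk : k ≠ 0 := by
      rintro rfl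
      apply hc
      have := (MulAction.pow_smul_eq_iff_minimalPeriod_dvd (a := e) (b := c) (n := 1)).2
        (by rw [← hn, hnk]; simp)
      simpa using this
    have hnpos : 0 < n := hnk ▸ pow_pos (Fact.out : p.Prime).pos k
    have hpowmem : ∀ i : ℕ, e ^ i • c ∈ F := by
      intro i
      induction i with
      | zero => simpa using hcF
      | succ i hi => rw [pow_succ', mul_smul]; exact hF _ hi
    have hOF : O ⊆ F := by
      intro y hy
      obtain ⟨i, -, rfl⟩ := Finset.mem_image.1 hy
      exact hpowmem i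
    have hOc : ∀ i : ℕ, e ^ i • c ∈ O := fun i => by
      refine Finset.mem_image.2 ⟨i % n, Finset.mem_range.2 (Nat.mod_lt _ hnpos), ?_⟩
      have h := Nat.mod_add_div i n
      calc e ^ (i % n) • c = e ^ (i % n) • (e ^ (n * (i / n)) • c) := by
            rw [(MulAction.pow_smul_eq_iff_minimalPeriod_dvd (n := n * (i / n))).2 (hn ▸ dvd_mul_right _ _)]
        _ = e ^ i • c := by rw [smul_smul, ← pow_add, h]
    have hFO : ∀ a ∈ F \ O, e • a ∈ F \ O := by
      intro a ha
      rw [Finset.mem_sdiff] at ha ⊢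
      refine ⟨hF a ha.1, fun h => ha.2 ?_⟩
      obtain ⟨i, -, hi⟩ := Finset.mem_image.1 h
      have hh : e ^ (i + (n - 1)) • c = a := by
        apply MulAction.injective e
        show e • e ^ (i + (n - 1)) • c = e • a
        rw [smul_smul, ← pow_succ', show i + (n - 1) + 1 = i + n by omega, pow_add, mul_smul,
          (MulAction.pow_smul_eq_iff_minimalPeriod_dvd (n := n)).2 (hn ▸ dvd_rfl)]
        exact hi
      exact hh ▸ hOc _
    have hsum : ∑ a ∈ O, d a = 0 := by
      rw [hO, Finset.sum_image]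
      · have hdi : ∀ i : ℕ, d (e ^ i • c) = (DistribSMul.toAddMonoidHom B e)^[i] (d c) := by
          intro i
          induction i with
          | zero => simp
          | succ i hi => rw [pow_succ', mul_smul, heq, hi, Function.iterate_succ_apply']; rfl
        simp only [hdi, hnk]
        exact sum_iterate_eq_zero V hV (DistribSMul.toAddMonoidHom B e) hVe hu hk (hd c)
      · intro i hi j hj hij
        simp only [Finset.coe_range, Set.mem_Iio] at hi hj
        refine Function.iterate_injOn_Iio_minimalPeriod (f := (e • · : α → α)) (x := c) hi hj ?_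
        simpa [smul_iterate] using hij
    have hlt : F \ O ⊂ F := Finset.sdiff_ssubset hOF ⟨c, by simpa using hOc 0⟩
    rw [← Finset.sum_sdiff hOF, hsum, add_zero, ih _ hlt hFO]
    refine Finset.sum_congr ?_ fun _ _ => rfl
    ext a
    simp only [Finset.mem_filter, Finset.mem_sdiff]
    refine ⟨fun h => ⟨h.1.1, h.2⟩, fun h => ⟨⟨h.1, fun ho => hc ?_⟩, h.2⟩⟩
    obtain ⟨i, -, rfl⟩ := Finset.mem_image.1 ho
    have h2 := h.2
    rw [smul_smul, ← pow_succ', pow_succ, mul_smul] at h2
    exact (MulAction.injective (e ^ i)) h2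

open Subgroup in
/-- The orbit-sum theorem. -/
theorem smul_eq_of_unipotent (M : Subgroup G) (hM : ¬ p ∣ M.index) (V : AddSubgroup B)
    (hV : ∀ v ∈ V, p • v = 0) (hVG : ∀ g : G, ∀ v ∈ V, g • v ∈ V) (x : B)
    (hxV : ∀ g : G, g • x - x ∈ V) (hxM : ∀ m ∈ M, m • x = x)
    (Q : Subgroup G) (hQ : IsPGroup p Q) (hQM : Q ≤ M) (E : Set G) (hQE : closure E = Q)
    (hEconj : ∀ e ∈ E, ∀ q ∈ Q, q * e * q⁻¹ ∈ E)
    (hu : ∀ e ∈ E, ∀ v ∈ V, (fun w => e • w - w)^[p - 1] v = 0)
    (hfix : ∀ g : G, (∀ e ∈ E, g⁻¹ * e * g ∈ M) → g ∈ M) (g : G) : g • x = x := by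
  classical
  have : Fintype (G ⧸ M) := Fintype.ofFinite _
  let d : G ⧸ M → B := fun c => Quotient.liftOn' c (fun a => a • x - x) fun a b hab => by
    have h := hxM _ (QuotientGroup.leftRel_apply.1 hab)
    show a • x - x = b • x - x
    rw [show b • x = a • ((a⁻¹ * b) • x) by rw [smul_smul, mul_inv_cancel_left], h]
  have hd : ∀ c, d c ∈ V := fun c => Quotient.inductionOn' c hxV
  have hEQ : ∀ e ∈ E, e ∈ Q := fun e he => hQE ▸ subset_closure he
  have heq : ∀ e ∈ E, ∀ c, d (e • c) = e • d c := fun e he c => Quotient.inductionOn' c fun a => by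
    show (e * a) • x - x = e • (a • x - x)
    rw [smul_sub, mul_smul, hxM e (hQM (hEQ e he))]
  let Fix : Subgroup G → Finset (G ⧸ M) := fun R => Finset.univ.filter fun c => ∀ r ∈ R, r • c = c
  have hex : ∃ R, Maximal (fun R : Subgroup G => R ≤ Q ∧ closure (E ∩ R) = R ∧
      ∑ c, d c = ∑ c ∈ Fix R, d c) R := by
    refine (Set.toFinite _).exists_maximal ⟨⊥, bot_le, ?_, ?_⟩
    · exact le_bot_iff.1 ((closure_le _).2 fun e he => he.2)
    · simp [Fix]
  obtain ⟨R, ⟨hRQ, hRE, hRsum⟩, hmax⟩ := hex
  have hRtop : R = Q := by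
    by_contra hne
    obtain ⟨e, heE, heN, heR⟩ : ∃ e ∈ E, e ∈ normalizer (R : Set G) ∧ e ∉ R := by
      by_contra hcon
      push Not at hcon
      set N := Q ⊓ normalizer (R : Set G) with hN
      have hnil := hQ.isNilpotent
      by_cases hNQ : N = Q
      · refine hne (le_antisymm hRQ ?_)
        rw [← hQE, closure_le]
        exact fun e he => hcon e he (by
          have := hEQ e he
          rw [← hNQ] at this
          exact this.2)
      obtain ⟨n, hnQ, hnN, hnR⟩ : ∃ n ∈ Q, n ∈ normalizer (N : Set G) ∧ n ∉ N := by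
        have hlt : N.subgroupOf Q < normalizer (N.subgroupOf Q : Set Q) := by
          refine Group.normalizerCondition_of_isNilpotent (G := Q) _ (lt_top_iff_ne_top.2 fun h => hNQ ?_)
          exact le_antisymm inf_le_left (subgroupOf_eq_top.1 h)
        obtain ⟨⟨n, hnQ⟩, h1, h2⟩ := SetLike.exists_of_lt hlt
        refine ⟨n, hnQ, mem_normalizer_iff.2 fun y => ?_, fun h => h2 (by simpa [mem_subgroupOf] using h)⟩
        by_cases hy : y ∈ Q
        · simpa [mem_subgroupOf] using mem_normalizer_iff.1 h1 ⟨y, hy⟩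
        · constructor
          · exact fun h => absurd h.1 hy
          · intro h
            refine absurd ?_ hy
            simpa [mul_assoc] using mul_mem (mul_mem (inv_mem hnQ) h.1) hnQ
      apply hnR
      refine ⟨hnQ, ?_⟩
      have key : ∀ n ∈ Q ⊓ normalizer (N : Set G), ∀ y ∈ R, n * y * n⁻¹ ∈ R := by
        intro n hn y hy
        rw [← hRE] at hy
        induction hy using closure_induction with
        | mem e he =>
          have h1 : n * e * n⁻¹ ∈ N := (mem_normalizer_iff.1 hn.2 e).1
            ⟨hRQ he.2, le_normalizer he.2⟩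
          exact hcon _ (hEconj e he.1 n hn.1) h1.2
        | one => simp
        | mul a b _ _ ha hb => simpa [mul_assoc] using mul_mem ha hb
        | inv a _ ha => simpa [mul_assoc] using inv_mem ha
      refine mem_normalizer_iff.2 fun y => ⟨key n ⟨hnQ, hnN⟩ y, fun h => ?_⟩
      simpa [mul_assoc] using key n⁻¹ (mem_inf.2 ⟨inv_mem hnQ, inv_mem hnN⟩) _ h
    have hRQ' : R ⊔ zpowers e ≤ Q := sup_le hRQ (zpowers_le.2 (hEQ e heE))
    refine heR ((hmax ⟨hRQ', le_antisymm ?_ ?_, ?_⟩ le_sup_left :
      R ⊔ zpowers e ≤ R) ((le_sup_right : zpowers e ≤ R ⊔ zpowers e) (mem_zpowers e)))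
    · exact (closure_le _).2 fun a ha => ha.2
    · refine sup_le ?_ (zpowers_le.2 (subset_closure ⟨heE, (le_sup_right : zpowers e ≤ _) (mem_zpowers e)⟩))
      conv_lhs => rw [← hRE]
      exact closure_mono (Set.inter_subset_inter_right _ (le_sup_left : R ≤ R ⊔ zpowers e))
    · rw [hRsum, sum_eq_sum_fixed V hV e (hVG e) (hu e heE) ?_ d hd (heq e heE) (Fix R) ?_]
      · refine Finset.sum_congr ?_ fun _ _ => rfl
        ext c
        simp only [Fix, Finset.mem_filter, Finset.mem_univ, true_and]
        refine ⟨fun h => ?_, fun h => ⟨fun r hr => h r ((le_sup_left : R ≤ R ⊔ zpowers e) hr),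
          h e ((le_sup_right : zpowers e ≤ R ⊔ zpowers e) (mem_zpowers e))⟩⟩
        have hle : R ⊔ zpowers e ≤ MulAction.stabilizer G c :=
          sup_le h.1 (zpowers_le.2 h.2)
        exact fun r hr => hle hr
      · obtain ⟨j, hj⟩ := IsPGroup.iff_orderOf.1 hQ ⟨e, hEQ e heE⟩
        exact ⟨j, by rw [← hj, Subgroup.orderOf_mk]⟩
      · intro c hc
        simp only [Fix, Finset.mem_filter, Finset.mem_univ, true_and] at hc ⊢
        intro r hr
        have h1 := hc _ ((mem_normalizer_iff.1 (inv_mem heN) r).1 hr)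
        rw [inv_inv, mul_smul, mul_smul, inv_smul_eq_iff] at h1
        exact h1
  have hFixQ : Fix Q = {((1 : G) : G ⧸ M)} := by
    ext c
    simp only [Fix, Finset.mem_filter, Finset.mem_univ, true_and, Finset.mem_singleton]
    constructor
    · intro h
      induction c using Quotient.inductionOn' with
      | h a =>
        refine (QuotientGroup.eq.2 ?_).symm
        simp only [inv_one, one_mul]
        refine hfix a fun e he => ?_
        have := h e (hEQ e he)
        have h2 : ((e * a : G) : G ⧸ M) = (a : G ⧸ M) := this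
        rw [QuotientGroup.eq] at h2
        simpa [mul_assoc] using inv_mem h2
    · rintro rfl r hr
      show ((r * 1 : G) : G ⧸ M) = _
      rw [mul_one, QuotientGroup.eq]
      simpa using hQM hr
  rw [hRtop, hFixQ, Finset.sum_singleton] at hRsum
  have hd1 : d ((1 : G) : G ⧸ M) = 0 := by
    show (1 : G) • x - x = 0
    rw [one_smul, sub_self]
  rw [hd1] at hRsum
  -- translate
  have htr : ∑ c, d (g • c) = 0 := by
    rw [← hRsum]
    exact Equiv.sum_comp (MulAction.toPerm g) d
  have hg : ∀ c, d (g • c) = g • d c + (g • x - x) := fun c => Quotient.inductionOn' c fun a => by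
    show (g * a) • x - x = g • (a • x - x) + (g • x - x)
    rw [smul_sub, mul_smul]; abel
  simp only [hg, Finset.sum_add_distrib, ← Finset.smul_sum, hRsum, smul_zero, zero_add,
    Finset.sum_const, Finset.card_univ] at htr
  rw [← Nat.card_eq_fintype_card] at htr
  change M.index • (g • x - x) = 0 at htr
  have h1 : addOrderOf (g • x - x) ∣ M.index := addOrderOf_dvd_of_nsmul_eq_zero htr
  have h2 : addOrderOf (g • x - x) ∣ p :=
    addOrderOf_dvd_of_nsmul_eq_zero (hV _ (hxV g))
  rcases (Nat.dvd_prime (Fact.out : p.Prime)).1 h2 with h | h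
  · exact sub_eq_zero.1 (AddMonoid.addOrderOf_eq_one_iff.1 h)
  · exact absurd (h ▸ h1) hM

end CfsgLib.Kinf
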