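import Cfsg.Agent.Functor.Sylow
import Cfsg.Agent.Kinf.OrbitSum
import Cfsg.Prelude.Def_LocalEven
import Cfsg.Prelude.Def_PLocal
import Mathlib.GroupTheory.SpecificGroups.Cyclic

/-!
Chief factors and iterated commutators; the orbit-sum theorem applied to chief series.
-/

set_option autoImplicit false
set_option linter.style.haveILetI false

namespace CfsgLib.Kinf

open Subgroup
open scoped CfsgLib.Functor commutatorElement

variable {G : Type*} [Group G]

theorem iterCommutator_mono {U U' Y Y' : Subgroup G} (hU : U ≤ U') (hY : Y ≤ Y') :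
    ∀ n, Cfsg.iterCommutator U Y n ≤ Cfsg.iterCommutator U' Y' n
  | 0 => hU
  | n + 1 => commutator_mono (iterCommutator_mono hU hY n) hY

theorem iterCommutator_cj (g : G) (U Y : Subgroup G) :
    ∀ n, g ⋆ Cfsg.iterCommutator U Y n = Cfsg.iterCommutator (g ⋆ U) (g ⋆ Y) n
  | 0 => rfl
  | n + 1 => by
    show g ⋆ ⁅_, Y⁆ = ⁅_, _⁆
    rw [Functor.cj_commutator, iterCommutator_cj g U Y n]

theorem iterCommutator_le {U : Subgroup G} [U.Normal] (Y : Subgroup G) :
    ∀ n, Cfsg.iterCommutator U Y n ≤ U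
  | 0 => le_rfl
  | n + 1 => (commutator_mono (iterCommutator_le Y n) le_rfl).trans (commutator_le_left U Y)

theorem iterCommutator_succ_le {U : Subgroup G} [U.Normal] (Y : Subgroup G) :
    ∀ n, Cfsg.iterCommutator U Y (n + 1) ≤ Cfsg.iterCommutator U Y n
  | 0 => commutator_le_left U Y
  | n + 1 => commutator_mono (iterCommutator_succ_le Y n) le_rfl

theorem iterCommutator_antitone {U : Subgroup G} [U.Normal] (Y : Subgroup G) :
    Antitone (Cfsg.iterCommutator U Y) :=
  antitone_nat_of_succ_le (iterCommutator_succ_le Y)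

/-- The element form of an iterated commutator. -/
theorem iterate_mem_iterCommutator {U : Subgroup G} {g x : G} (hx : x ∈ U) (n : ℕ) :
    (fun y => y⁻¹ * g⁻¹ * y * g)^[n] x ∈ Cfsg.iterCommutator U (zpowers g) n := by
  induction n with
  | zero => exact hx
  | succ n ih =>
    rw [Function.iterate_succ_apply']
    have h := commutator_mem_commutator (inv_mem ih) (inv_mem (mem_zpowers g))
    show _ ∈ ⁅Cfsg.iterCommutator U (zpowers g) n, zpowers g⁆
    simpa [commutatorElement_def, mul_assoc] using h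

/-- The element form of an iterated commutator, other side. -/
theorem iterate_mem_iterCommutator' {U : Subgroup G} {g x : G} (hx : x ∈ U) (n : ℕ) :
    (fun y => g * y * g⁻¹ * y⁻¹)^[n] x ∈ Cfsg.iterCommutator U (zpowers g) n := by
  induction n with
  | zero => exact hx
  | succ n ih =>
    rw [Function.iterate_succ_apply']
    have h := inv_mem (commutator_mem_commutator ih (mem_zpowers g))
    show _ ∈ ⁅Cfsg.iterCommutator U (zpowers g) n, zpowers g⁆
    simpa [commutatorElement_def, mul_assoc] using h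

theorem le_sup_of_normal_factor {U V : Subgroup G} (h : Cfsg.IsChiefFactor U V) {N : Subgroup G}
    [N.Normal] (hN : N ≤ U) (hV : ¬ N ≤ V) : V ⊔ N = U := by
  haveI := h.2.2.1
  rcases h.2.2.2 (V ⊔ N) inferInstance le_sup_left (sup_le h.1.le hN) with he | he
  · exact absurd (he ▸ le_sup_right) hV
  · exact he

variable [Finite G]

theorem exists_chiefFactor_above {N U₀ : Subgroup G} (hN : N.Normal) (hU : U₀.Normal)
    (h : N < U₀) : ∃ U, U ≤ U₀ ∧ Cfsg.IsChiefFactor U N := by
  obtain ⟨U, hUle, hU1⟩ := Set.Finite.exists_le_minimal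
    (Set.toFinite {U : Subgroup G | U.Normal ∧ N < U ∧ U ≤ U₀}) (a := U₀) ⟨hU, h, le_rfl⟩
  refine ⟨U, hUle, hU1.1.2.1, hU1.1.1, hN, fun M hM hNM hMU => ?_⟩
  rcases eq_or_lt_of_le hNM with he | hl
  · exact Or.inl he.symm
  · exact Or.inr (le_antisymm hMU (hU1.2 ⟨hM, hl, hMU.trans hU1.1.2.2⟩ hMU))

theorem exists_chiefFactor_below {N V₀ : Subgroup G} (hN : N.Normal) (hV : V₀.Normal)
    (h : V₀ < N) : ∃ V, V₀ ≤ V ∧ Cfsg.IsChiefFactor N V := by
  obtain ⟨V, hVle, hV1⟩ := Set.Finite.exists_le_maximal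
    (Set.toFinite {V : Subgroup G | V.Normal ∧ V < N ∧ V₀ ≤ V}) (a := V₀) ⟨hV, h, le_rfl⟩
  refine ⟨V, hVle, hV1.1.2.1, hN, hV1.1.1, fun M hM hVM hMN => ?_⟩
  rcases eq_or_lt_of_le hMN with he | hl
  · exact Or.inr he
  · exact Or.inl (le_antisymm (hV1.2 ⟨hM, hl, hV1.1.2.2.trans hVM⟩ hVM) hVM)

variable {p : ℕ} [Fact p.Prime]

/-- A chief factor inside a normal `p`-subgroup is elementary abelian. -/
theorem chiefFactor_elementary {U V : Subgroup G} (h : Cfsg.IsChiefFactor U V)
    (hU : IsPGroup p U) : ⁅U, U⁆ ≤ V ∧ ∀ x ∈ U, x ^ p ∈ V := by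
  haveI := h.2.1
  haveI := h.2.2.1
  set π := QuotientGroup.mk' V with hπ
  have hπs : Function.Surjective π := QuotientGroup.mk'_surjective V
  set N := U.map π with hNdef
  haveI hNn : N.Normal := h.2.1.map π hπs
  have hNp : IsPGroup p N := hU.map π
  have hN1 : N ≠ ⊥ := fun he => h.1.not_ge (by
    rwa [hNdef, Subgroup.map_eq_bot_iff, hπ, QuotientGroup.ker_mk'] at he)
  have hmin : ∀ M : Subgroup (G ⧸ V), M.Normal → M ≤ N → M = ⊥ ∨ M = N := by
    intro M hM hMN
    have hc : V ≤ M.comap π := fun v hv => by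
      show π v ∈ M
      rw [show π v = 1 from (QuotientGroup.eq_one_iff v).2 hv]; exact one_mem M
    have hcU : M.comap π ≤ U := by
      refine (comap_mono hMN).trans ?_
      rw [hNdef, comap_map_eq, hπ, QuotientGroup.ker_mk']
      exact sup_le le_rfl h.1.le
    rcases h.2.2.2 _ (hM.comap π) hc hcU with he | he
    · left
      rw [← map_comap_eq_self_of_surjective hπs M, he, Subgroup.map_eq_bot_iff, hπ,
        QuotientGroup.ker_mk']
    · right
      rw [← map_comap_eq_self_of_surjective hπs M, he]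
  haveI : Nontrivial N := nontrivial_iff_ne_bot N |>.2 hN1
  have hzn : ((center N).map N.subtype).Normal := ConjAct.normal_of_characteristic_of_normal
  have hcomm : ∀ a ∈ N, ∀ b ∈ N, a * b = b * a := by
    rcases hmin _ hzn (map_subtype_le _) with he | he
    · have := hNp.center_nontrivial
      exact absurd ((Subgroup.map_eq_bot_iff_of_injective _ N.subtype_injective).1 he)
        ((nontrivial_iff_ne_bot _).1 this)
    · intro a ha b hb
      obtain ⟨z, hz, hza⟩ := he.ge ha
      have := congrArg (fun w : N => (w : G ⧸ V)) (mem_center_iff.1 hz ⟨b, hb⟩)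
      simp only [Subgroup.coe_mul] at this
      rw [← hza]
      exact this.symm
  set Ω : Subgroup (G ⧸ V) :=
    { carrier := {a | a ∈ N ∧ a ^ p = 1}
      one_mem' := ⟨one_mem N, one_pow p⟩
      mul_mem' := fun {a b} ha hb => ⟨mul_mem ha.1 hb.1, by
        rw [(show Commute a b from hcomm a ha.1 b hb.1).mul_pow, ha.2, hb.2, one_mul]⟩
      inv_mem' := fun {a} ha => ⟨inv_mem ha.1, by rw [inv_pow, ha.2, inv_one]⟩ } with hΩ
  have hΩn : Ω.Normal := ⟨fun a ha g => ⟨hNn.conj_mem a ha.1 g, by rw [conj_pow, ha.2]; group⟩⟩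
  have hpow : ∀ a ∈ N, a ^ p = 1 := by
    rcases hmin Ω hΩn (fun a ha => ha.1) with he | he
    · obtain ⟨n, hn⟩ := IsPGroup.iff_card.1 hNp
      have hn0 : n ≠ 0 := by
        rintro rfl
        exact hN1 (eq_bot_of_card_eq N (by simpa using hn))
      obtain ⟨a, ha⟩ := exists_prime_orderOf_dvd_card' (G := N) p (hn ▸ dvd_pow_self p hn0)
      have hmem : (a : G ⧸ V) ∈ Ω := ⟨a.2, by
        have := pow_orderOf_eq_one a
        rw [ha] at this
        exact congrArg Subtype.val this⟩
      rw [he, mem_bot] at hmem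
      have : a = 1 := Subtype.ext hmem
      rw [this, orderOf_one] at ha
      exact absurd ha (Fact.out : p.Prime).ne_one.symm
    · exact fun a ha => (he.ge ha).2
  refine ⟨commutator_le.2 fun a ha b hb => ?_, fun a ha => ?_⟩
  · rw [← QuotientGroup.eq_one_iff]
    show π ⁅a, b⁆ = 1
    rw [map_commutatorElement, commutatorElement_eq_one_iff_mul_comm]
    exact hcomm _ (mem_map_of_mem π ha) _ (mem_map_of_mem π hb)
  · rw [← QuotientGroup.eq_one_iff]
    show π (a ^ p) = 1
    rw [map_pow]
    exact hpow _ (mem_map_of_mem π ha)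

end CfsgLib.Kinf
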