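import Cfsg.Agent.Functor.Transfer
import Cfsg.Agent.Functor.Relative
import Cfsg.Agent.Kinf.Series
import Mathlib.GroupTheory.Transfer
import Mathlib.GroupTheory.QuotientGroup.Basic

/-!
Tools for control of transfer: central sections, transport, quotients.
-/

set_option autoImplicit false
set_option linter.unusedSectionVars false
set_option linter.style.haveILetI false

namespace CfsgLib.Kinf

open Subgroup CfsgLib.Functor
open scoped CfsgLib.Functor commutatorElement

universe u

variable {G : Type u} [Group G] [Finite G] {p : ℕ} [Fact p.Prime]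

theorem mem_of_pow_mem_of_coprime {K : Subgroup G} {x : G} {n : ℕ} (h : x ^ n ∈ K)
    (hc : n.Coprime (orderOf x)) : x ∈ K := by
  have hd : orderOf x = orderOf x := rfl
  obtain ⟨m, hm⟩ := exists_pow_eq_self_of_coprime hc
  rw [← hm]
  exact pow_mem h m

theorem coprime_orderOf_of_mem {P : Subgroup G} (hP : IsPGroup p P) {x : G} (hx : x ∈ P) {n : ℕ}
    (hn : ¬ p ∣ n) : n.Coprime (orderOf x) := by
  obtain ⟨k, hk⟩ := IsPGroup.iff_orderOf.1 hP ⟨x, hx⟩
  rw [Subgroup.orderOf_mk] at hk
  rw [hk]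
  exact Nat.Coprime.pow_right k (((Fact.out : p.Prime).coprime_iff_not_dvd.2 hn).symm)

/-- A `p`-section central in `G` and inside the derived group lies in `S'`. -/
theorem central_le_commutator (S : Sylow p G) {X W : Subgroup G} [W.Normal]
    (hXS : X ≤ S) (hXG : ⁅X, (⊤ : Subgroup G)⁆ ≤ W) (hX : X ≤ commutator G) :
    X ≤ W ⊔ ⁅(S : Subgroup G), (S : Subgroup G)⁆ := by
  intro x hx
  set π := QuotientGroup.mk' W with hπ
  set Sb := (S : Subgroup G).map π with hSb
  have hcent : ∀ g : G ⧸ W, Commute (π x) g := by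
    intro g
    obtain ⟨g, rfl⟩ := QuotientGroup.mk'_surjective W g
    show π x * π g = π g * π x
    rw [← commutatorElement_eq_one_iff_mul_comm, ← map_commutatorElement]
    exact (QuotientGroup.eq_one_iff _).2 (hXG (commutator_mem_commutator hx (mem_top g)))
  let φ : Sb →* Abelianization Sb := Abelianization.of
  have key : ∀ (k : ℕ) (g₀ : G ⧸ W), g₀⁻¹ * (π x) ^ k * g₀ ∈ Sb →
      g₀⁻¹ * (π x) ^ k * g₀ = (π x) ^ k := fun k g₀ _ => by
    rw [mul_assoc, ((hcent g₀).pow_left k).eq, inv_mul_cancel_left]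
  have htr := MonoidHom.transfer_eq_pow φ (π x) key
  have h1 : MonoidHom.transfer φ (π x) = 1 := by
    refine MonoidHom.mem_ker.1 (Abelianization.commutator_subset_ker _ ?_)
    have := mem_map_of_mem π (hX hx)
    rw [_root_.commutator_def, map_commutator, map_top_of_surjective _ (QuotientGroup.mk'_surjective W)]
      at this
    rwa [_root_.commutator_def]
  rw [h1] at htr
  have h2 := MonoidHom.mem_ker.2 htr.symm
  rw [Abelianization.ker_of] at h2
  have h3 : (π x) ^ Sb.index ∈ ⁅Sb, Sb⁆ := by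
    rw [← map_subtype_commutator]
    exact ⟨_, h2, rfl⟩
  have hidx : ¬ p ∣ Sb.index := fun hd => S.not_dvd_index
    (hd.trans (index_map_dvd _ (QuotientGroup.mk'_surjective W)))
  have h4 := mem_of_pow_mem_of_coprime h3
    (coprime_orderOf_of_mem (S.2.map π) (mem_map_of_mem π (hXS hx)) hidx)
  rw [hSb, ← map_commutator] at h4
  obtain ⟨c, hc, hcx⟩ := h4
  have : c⁻¹ * x ∈ W := (QuotientGroup.eq_one_iff _).1 (show π (c⁻¹ * x) = 1 by
    rw [map_mul, map_inv, hcx, inv_mul_cancel])
  rw [show x = c * (c⁻¹ * x) by group]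
  exact mul_mem ((le_sup_right : _ ≤ W ⊔ _) hc) ((le_sup_left : W ≤ _) this)

/-- A normal subgroup whose Sylow subgroup is central in it is a `p`-group, when `O_{p'} = 1`. -/
theorem le_of_sylow_central (hO : Cfsg.pPrimeCore p G = ⊥) {C P : Subgroup G} [hC : C.Normal]
    (hP : IsSylowIn p P C) (hc : C ≤ centralizer (P : Set G)) : C ≤ P := by
  obtain ⟨Q, hQ⟩ := hP.exists_sylow
  have hQc : normalizer ((Q : Subgroup C) : Set C) ≤ centralizer ((Q : Subgroup C) : Set C) := by
    intro c _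
    refine mem_centralizer_iff.2 fun q hq => Subtype.ext ?_
    exact mem_centralizer_iff.1 (hc c.2) _ (hQ.le (mem_map_of_mem _ hq))
  set φ := MonoidHom.transferSylow Q hQc
  set K := φ.ker with hK
  have hcop : (Nat.card K).Coprime p :=
    ((Fact.out : p.Prime).coprime_iff_not_dvd.2
      (MonoidHom.not_dvd_card_ker_transferSylow Q hQc)).symm
  have hmem : ∀ x : C, x ∈ K ↔ (orderOf x).Coprime p := by
    intro x
    refine ⟨fun hx => hcop.coprime_dvd_left ?_, fun hx => ?_⟩
    · rw [← Nat.card_zpowers]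
      exact card_dvd_of_le (zpowers_le.2 hx)
    · obtain ⟨k, hk⟩ := IsPGroup.iff_orderOf.1 Q.2 (φ x)
      have hd : orderOf (φ x) ∣ orderOf x := orderOf_map_dvd φ x
      rw [hk] at hd
      rcases k with _ | k
      · rw [pow_zero, orderOf_eq_one_iff] at hk; exact hk
      · exact absurd ((dvd_pow_self p k.succ_ne_zero).trans hd)
          ((Fact.out : p.Prime).coprime_iff_not_dvd.1 hx.symm)
  have hKn : (K.map C.subtype).Normal := ⟨by
    rintro _ ⟨x, hx, rfl⟩ g
    refine ⟨⟨g * (x : G) * g⁻¹, hC.conj_mem _ x.2 g⟩, (hmem _).2 ?_, rfl⟩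
    have hox : orderOf (g * (x : G) * g⁻¹) = orderOf (x : G) :=
      orderOf_injective (MulAut.conj g).toMonoidHom (MulAut.conj g).injective (x : G)
    rw [Subgroup.orderOf_mk, hox, Subgroup.orderOf_coe]
    exact (hmem x).1 hx⟩
  have hbot : K.map C.subtype = ⊥ := le_bot_iff.1 (hO ▸ Solvable.le_pPrimeCore p hKn (by
    rwa [card_map_of_injective C.subtype_injective]))
  rw [map_eq_bot_iff_of_injective _ C.subtype_injective] at hbot
  have hcompl := MonoidHom.ker_transferSylow_isComplement' Q hQc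
  rw [← hK, hbot, isComplement'_bot_left] at hcompl
  intro x hx
  exact hQ.le (mem_map_of_mem C.subtype (show (⟨x, hx⟩ : C) ∈ (Q : Subgroup C) by
    rw [hcompl]; exact mem_top _))

section Family

variable {G' : Type u} [Group G'] [Finite G']

/-- The conjugacy functors on `G` induced by a set of characteristic functors. -/
def family (G : Type u) [Group G] (𝓦 : Set (∀ (Q : Type u) [Group Q], Subgroup Q)) :
    Set (Subgroup G → Subgroup G) :=
  (fun W => Cfsg.inducedFunctor (G := G) W) '' 𝓦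

theorem family_conjugacy {𝓦 : Set (∀ (Q : Type u) [Group Q], Subgroup Q)}
    (h𝓦 : ∀ W ∈ 𝓦, Cfsg.IsCharPFunctor.{u} p W) :
    ∀ W ∈ family G 𝓦, Cfsg.IsConjugacyFunctor p W := by
  rintro _ ⟨W, hW, rfl⟩
  exact isConjugacyFunctor_induced (h𝓦 W hW)

theorem map_normalizer_of_injective {G' : Type*} [Group G'] (f : G' →* G)
    (hf : Function.Injective f) (K : Subgroup G') :
    (normalizer (K : Set G')).map f = f.range ⊓ normalizer ((K.map f : Subgroup G) : Set G) := by
  ext x
  constructor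
  · rintro ⟨y, hy, rfl⟩
    refine ⟨⟨y, rfl⟩, mem_normalizer_iff_cj.2 ?_⟩
    conv_rhs => rw [← mem_normalizer_iff_cj.1 hy]
    rw [map_map, map_map]
    congr 1
    ext z
    simp
  · rintro ⟨⟨y, rfl⟩, hy⟩
    refine ⟨y, mem_normalizer_iff_cj.2 (map_injective hf ?_), rfl⟩
    conv_rhs => rw [← mem_normalizer_iff_cj.1 hy]
    rw [map_map, map_map]
    congr 1
    ext z
    simp

/-- Control of transfer moves along injective homomorphisms. -/
theorem transfer_of_injective {𝓦 : Set (∀ (Q : Type u) [Group Q], Subgroup Q)}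
    (h𝓦 : ∀ W ∈ 𝓦, Cfsg.IsCharPFunctor.{u} p W) (f : G' →* G) (hf : Function.Injective f)
    (h : Cfsg.FamilyControlsTransferIn p (family G' 𝓦) ⊤) :
    Cfsg.FamilyControlsTransferIn p (family G 𝓦) f.range := by
  obtain ⟨T, h1, h2, h3, h4⟩ := h
  have hT : IsSylowIn p (T.map f) f.range := by
    have := (show IsSylowIn p T ⊤ from ⟨h1, h2, h3⟩).map f
    rwa [← MonoidHom.range_eq_map] at this
  refine ⟨T.map f, hT.1, hT.2.1, hT.2.2, ?_⟩
  have hr : f.range = (⊤ : Subgroup G').map f := MonoidHom.range_eq_map f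
  conv_lhs => rw [hr, ← map_commutator, ← map_inf _ _ _ hf, h4]
  unfold family
  rw [iSup_image, iSup_image, Subgroup.map_iSup]
  refine iSup_congr fun W => ?_
  rw [Subgroup.map_iSup]
  refine iSup_congr fun hW => ?_
  rw [map_inf _ _ _ hf, map_commutator, map_inf _ _ _ hf, ← hr,
    map_normalizer_of_injective f hf, ← inf_assoc, inf_idem,
    induced_map (h𝓦 W hW).2 f T h2 (fun x _ hx => hf (hx.trans f.map_one.symm))]

theorem transfer_of_equiv {𝓦 : Set (∀ (Q : Type u) [Group Q], Subgroup Q)}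
    (h𝓦 : ∀ W ∈ 𝓦, Cfsg.IsCharPFunctor.{u} p W) (e : G' ≃* G)
    (h : Cfsg.FamilyControlsTransferIn p (family G' 𝓦) ⊤) :
    Cfsg.FamilyControlsTransferIn p (family G 𝓦) ⊤ := by
  have := transfer_of_injective h𝓦 e.toMonoidHom e.injective h
  rwa [MonoidHom.range_eq_top.2 e.surjective] at this

/-- Transfer controlled in a subgroup containing `S` feeds the generators of `G`. -/
theorem inf_commutator_le_gen {𝓦 : Set (∀ (Q : Type u) [Group Q], Subgroup Q)}
    (h𝓦 : ∀ W ∈ 𝓦, Cfsg.IsCharPFunctor.{u} p W) (S : Sylow p G) {K : Subgroup G}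
    (hSK : (S : Subgroup G) ≤ K) (h : Cfsg.FamilyControlsTransferIn p (family G 𝓦) K) :
    (S : Subgroup G) ⊓ ⁅K, K⁆ ≤ transferGen (family G 𝓦) ⊤ (S : Subgroup G) := by
  refine le_trans ((familyTransfer_iff (family_conjugacy h𝓦)
    ((isSylowIn_top S).of_le hSK le_top)).1 h) ?_
  exact iSup₂_le fun W hW => le_trans (inf_le_inf_left _ (commutator_mono
    (inf_le_inf_right _ le_top) (inf_le_inf_right _ le_top))) (le_transferGen hW)

theorem transferGen_family (𝓦 : Set (∀ (Q : Type u) [Group Q], Subgroup Q)) (T : Subgroup G) :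
    transferGen (family G 𝓦) ⊤ T = ⨆ W ∈ 𝓦, T ⊓ ⁅normalizer ((Cfsg.inducedFunctor (G := G) W T
      : Subgroup G) : Set G), normalizer ((Cfsg.inducedFunctor (G := G) W T : Subgroup G) : Set G)⁆ := by
  unfold transferGen family
  rw [iSup_image]
  simp only [top_inf_eq]

/-- If every preimage of a normalizer in the quotient feeds `L`, so does `S ∩ G'`. -/
theorem inf_commutator_le_of_quotient {𝓦 : Set (∀ (Q : Type u) [Group Q], Subgroup Q)}
    (h𝓦 : ∀ W ∈ 𝓦, Cfsg.IsCharPFunctor.{u} p W) (S : Sylow p G) (N : Subgroup G) [N.Normal]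
    (hq : Cfsg.FamilyControlsTransferIn p (family (G ⧸ N) 𝓦) ⊤) (L : Subgroup G) (hNL : N ≤ L)
    (hstep : ∀ W ∈ 𝓦, ∀ K : Subgroup G,
      K = (normalizer ((Cfsg.inducedFunctor (G := G ⧸ N) W
        ((S : Subgroup G).map (QuotientGroup.mk' N)) : Subgroup (G ⧸ N)) : Set (G ⧸ N))).comap
          (QuotientGroup.mk' N) →
      (S : Subgroup G) ⊓ (⁅K, K⁆ ⊔ N) ≤ L) :
    (S : Subgroup G) ⊓ commutator G ≤ L := by
  set π := QuotientGroup.mk' N with hπ
  have hπs : Function.Surjective π := QuotientGroup.mk'_surjective N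
  have hSb : IsSylowIn p ((S : Subgroup G).map π) ⊤ := by
    have := (isSylowIn_top S).map π
    rwa [map_top_of_surjective π hπs] at this
  have h1 := (familyTransfer_iff (family_conjugacy h𝓦) hSb).1 hq
  rw [transferGen_family] at h1
  intro s hs
  have h2 : π s ∈ L.map π := by
    refine (le_trans h1 ?_) ⟨mem_map_of_mem π hs.1, ?_⟩
    · refine iSup₂_le fun W hW => ?_
      rintro _ ⟨⟨y, hy, rfl⟩, hyc⟩
      refine mem_map_of_mem π (hstep W hW _ rfl ⟨hy, ?_⟩)
      rw [← map_comap_eq_self_of_surjective hπs (normalizer _), ← map_commutator] at hyc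
      have hy' : y ∈ ((⁅(normalizer ((Cfsg.inducedFunctor (G := G ⧸ N) W ((S : Subgroup G).map π)
        : Subgroup (G ⧸ N)) : Set (G ⧸ N))).comap π, (normalizer ((Cfsg.inducedFunctor (G := G ⧸ N) W
        ((S : Subgroup G).map π) : Subgroup (G ⧸ N)) : Set (G ⧸ N))).comap π⁆ : Subgroup G).map π).comap π :=
        hyc
      rw [comap_map_eq, hπ, QuotientGroup.ker_mk'] at hy'
      exact hy'
    · rw [← map_top_of_surjective π hπs, ← map_commutator, ← _root_.commutator_def]
      exact mem_map_of_mem π hs.2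
  rw [← mem_comap, comap_map_eq, hπ, QuotientGroup.ker_mk', sup_eq_left.2 hNL] at h2
  exact h2

end Family

end CfsgLib.Kinf
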