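import Cfsg.Agent.Kinf.Fixed
import Cfsg.Agent.Kinf.TransferTools
import Cfsg.Agent.Kinf.SectionOf
import Cfsg.Agent.Kinf.GlobalSteps
import Cfsg.Agent.ZJ.Reduction

/-!
Normal p-complement criteria for functors.
-/

set_option autoImplicit false
set_option linter.unusedSectionVars false
set_option linter.style.haveILetI false

namespace CfsgLib.Kinf

open Subgroup CfsgLib.Functor CfsgLib.ZJ
open scoped CfsgLib.Functor commutatorElement

universe u

variable {p : ℕ} [Fact p.Prime]

open Classical in
/-- The functor used for the local system: `W` on `p`-groups, the identity elsewhere. -/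
noncomputable def funE (p : ℕ) (W : ∀ (Q : Type u) [Group Q], Subgroup Q) (G : Type u) [Group G]
    (U : Subgroup G) : Subgroup G :=
  if IsPGroup p U then Cfsg.inducedFunctor (G := G) W U else U

theorem funE_of_pGroup (W : ∀ (Q : Type u) [Group Q], Subgroup Q) {G : Type u} [Group G]
    {U : Subgroup G} (hU : IsPGroup p U) : funE p W G U = Cfsg.inducedFunctor (G := G) W U :=
  if_pos hU

theorem funE_map {W : ∀ (Q : Type u) [Group Q], Subgroup Q} (hW : Cfsg.IsCharPFunctor.{u} p W)
    {G H : Type u} [Group G] [Group H] [Finite G] (f : G →* H) (U : Subgroup G)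
    (hf : Function.Injective f) : funE p W H (U.map f) = (funE p W G U).map f := by
  unfold funE
  have e := U.equivMapOfInjective f hf
  by_cases hU : IsPGroup p U
  · rw [if_pos hU, if_pos (hU.of_equiv e), induced_map hW.2 f U hU
      (fun x _ hx => hf (hx.trans f.map_one.symm))]
  · rw [if_neg hU, if_neg fun h => hU (h.of_equiv e.symm)]

theorem localSystem_functor {W : ∀ (Q : Type u) [Group Q], Subgroup Q}
    (hW : Cfsg.IsCharPFunctor.{u} p W) :
    LocalSystem p (fun (_ : Unit) G _ U => funE p W G U)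
      (fun (_ : Unit) G _ U => normalizer ((funE p W G U : Subgroup G) : Set G)) where
  le _ G _ _ U := by
    unfold funE
    split
    exacts [map_subtype_le _, le_rfl]
  ne_bot _ G _ _ U hU h1 := by
    show funE p W G U ≠ ⊥
    rw [funE_of_pGroup W hU]
    exact functor_ne_bot (isConjugacyFunctor_induced hW) hU h1
  normalizer_le _ G _ _ U := by
    unfold funE
    split
    next h => exact normalizer_le_functor (isConjugacyFunctor_induced hW) h
    next => exact le_rfl
  le_normalizer _ _ _ _ _ := le_rfl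
  self_le _ G _ _ U := by
    unfold funE
    split
    next h => exact le_normalizer.trans (normalizer_le_functor (isConjugacyFunctor_induced hW) h)
    next => exact le_normalizer
  map _ G _ _ M R := by
    show _ ≤ normalizer ((funE p W G (R.map M.subtype) : Subgroup G) : Set G)
    rw [funE_map hW M.subtype R M.subtype_injective]
    exact le_normalizer_map _
  quot _ G _ _ N _ hcop U hU := by
    set π := QuotientGroup.mk' N with hπ
    have hinj : ∀ x ∈ U, π x = 1 → x = 1 := fun x hx h => mem_bot.mp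
      (isPGroup_inf_coprime hU hcop ▸ (⟨hx, (QuotientGroup.eq_one_iff x).mp h⟩ : x ∈ U ⊓ N))
    show normalizer ((funE p W (G ⧸ N) (U.map π) : Subgroup (G ⧸ N)) : Set (G ⧸ N)) ≤
      (normalizer ((funE p W G U : Subgroup G) : Set G)).map π
    rw [funE_of_pGroup W (hU.map π), funE_of_pGroup W hU, induced_map hW.2 π U hU hinj]
    set Z := Cfsg.inducedFunctor (G := G) W U with hZ
    intro y hy
    obtain ⟨g, rfl⟩ := QuotientGroup.mk'_surjective N y
    have hg' : g ∈ normalizer ((Z ⊔ N : Subgroup G) : Set G) := by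
      have e : (Z.map π).comap π = Z ⊔ N := by rw [comap_map_eq, QuotientGroup.ker_mk']
      rw [← e]
      exact le_normalizer_comap π hy
    obtain ⟨m, hm, hmg⟩ := exists_mul_mem_normalizer (hU.to_le (map_subtype_le _)) hcop hg'
    exact ⟨m * g, hmg, by rw [map_mul, show π m = 1 from (QuotientGroup.eq_one_iff m).mpr hm, one_mul]⟩

/-- The normal p-complement criterion: it is enough to treat the critical configuration. -/
theorem hasNormalPComplement_of_critical {G₀ : Type u} [Group G₀] [Finite G₀]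
    {W : ∀ (Q : Type u) [Group Q], Subgroup Q} (hW : Cfsg.IsCharPFunctor.{u} p W)
    (crit : ∀ (Γ : Type u) [Group Γ] [Finite Γ], IsSectionOf G₀ Γ → ∀ T : Sylow p Γ,
      centralizer (Cfsg.pCore p Γ : Set Γ) ≤ Cfsg.pCore p Γ →
      IsCoatom (T : Subgroup Γ) →
      ∀ L : Subgroup Γ, L.Normal → (∀ x : Γ, ∃ k, x ^ p ^ k ∈ L) →
        (∀ x ∈ L, ∀ y ∈ L, x * y * x⁻¹ * y⁻¹ ∈ Cfsg.pCore p Γ) →
        (∀ x ∈ L, ∃ m : ℕ, m.Coprime p ∧ x ^ m ∈ Cfsg.pCore p Γ) →
        (Cfsg.inducedFunctor (G := Γ) W (T : Subgroup Γ)).Normal)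
    (S : Sylow p G₀)
    (hN : Cfsg.HasNormalPComplement p
      ↥(normalizer ((Cfsg.inducedFunctor (G := G₀) W (S : Subgroup G₀) : Subgroup G₀) : Set G₀))) :
    Cfsg.HasNormalPComplement p G₀ := by
  refine (localSystem_functor hW).hasNormalPComplement (fun G _ => IsSectionOf G₀ G)
    (fun G _ _ M h => h.subgroup M) (fun G _ _ N _ h => h.quotient N)
    (fun G _ _ P hgood hN hC hmax L hL hab hLn hLm => ?_) G₀ S (isSectionOf_self G₀)
    (fun _ => ?_)
  · by_cases htop : (P : Subgroup G) = ⊤
    · refine PResidual.hasNormalPComplement_of_normal (N := ⊥) (k := (Nat.card G).factorization p) ?_ ?_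
      · simp
      · have h := P.card_eq_multiplicity
        rw [htop, card_top] at h
        rw [index_bot]
        exact h
    have hco : IsCoatom (P : Subgroup G) :=
      ⟨htop, fun M hM => (hmax M hM.le).resolve_left hM.ne'⟩
    have hWn := crit G hgood P hC hco L hLn hL hab hLm
    have h := hN ()
    rw [funE_of_pGroup W P.2,
      normalizer_eq_top (H := Cfsg.inducedFunctor (G := G) W (P : Subgroup G))] at h
    exact hnpc_of_surjective (topEquiv : (⊤ : Subgroup G) ≃* G).toMonoidHom (MulEquiv.surjective _) h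
  · show Cfsg.HasNormalPComplement p ↥(normalizer ((funE p W G₀ (S : Subgroup G₀) : Subgroup G₀) : Set G₀))
    rw [funE_of_pGroup W S.2]
    exact hN

variable {G : Type u} [Group G] [Finite G]

theorem quotient_hasNormalPComplement {U L : Subgroup G} [U.Normal] [L.Normal]
    (hL : ∀ x : G, ∃ k, x ^ p ^ k ∈ L) (hLm : ∀ x ∈ L, ∃ m : ℕ, m.Coprime p ∧ x ^ m ∈ U) :
    Cfsg.HasNormalPComplement p (G ⧸ U) := by
  set π := QuotientGroup.mk' U with hπ
  haveI hLn : (L.map π).Normal := Normal.map inferInstance π (QuotientGroup.mk'_surjective U)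
  have hp : IsPGroup p ((G ⧸ U) ⧸ L.map π) := fun y => by
    obtain ⟨y, rfl⟩ := QuotientGroup.mk'_surjective (L.map π) y
    obtain ⟨x, rfl⟩ := QuotientGroup.mk'_surjective U y
    obtain ⟨k, hk⟩ := hL x
    refine ⟨k, ?_⟩
    rw [← map_pow, ← map_pow]
    exact (QuotientGroup.eq_one_iff _).2 (mem_map_of_mem π hk)
  obtain ⟨k, hk⟩ := hp.exists_card_eq
  refine PResidual.hasNormalPComplement_of_normal (N := L.map π) (k := k) ?_
    (by rw [index_eq_card, hk])
  refine PResidual.coprime_of_not_dvd Fact.out fun hd => ?_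
  obtain ⟨⟨z, hz⟩, hord⟩ := exists_prime_orderOf_dvd_card' p hd
  obtain ⟨x, hx, rfl⟩ := hz
  obtain ⟨m, hm, hxm⟩ := hLm x hx
  rw [← Subgroup.orderOf_coe] at hord
  replace hord : orderOf (π x) = p := hord
  have h1 : orderOf (π x) ∣ m := orderOf_dvd_of_pow_eq_one (by
    rw [← map_pow]; exact (QuotientGroup.eq_one_iff _).2 hxm)
  rw [hord] at h1
  exact (Fact.out : p.Prime).coprime_iff_not_dvd.1 hm.symm h1

/-- In the critical configuration no element of `T` outside `O_p` is unipotent of degree `< p` on a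
chief factor of `O_p` on which it is not trivial. -/
theorem false_of_unipotent_factor (T : Sylow p G) (hco : IsCoatom (T : Subgroup G))
    (L : Subgroup G) [L.Normal] (hL : ∀ x : G, ∃ k, x ^ p ^ k ∈ L)
    (hLm : ∀ x ∈ L, ∃ m : ℕ, m.Coprime p ∧ x ^ m ∈ Cfsg.pCore p G) {g : G}
    (hg : g ∈ (T : Subgroup G)) (hgU : g ∉ Cfsg.pCore p G) {X W : Subgroup G}
    (hXW : Cfsg.IsChiefFactor X W) (hX : X ≤ Cfsg.pCore p G)
    (hu : Cfsg.iterCommutator X (zpowers g) (p - 1) ≤ W) (hne : ¬ ⁅X, zpowers g⁆ ≤ W) : False := by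
  set U := Cfsg.pCore p G with hU
  haveI hUn : U.Normal := Solvable.pCore_normal p
  haveI hXn : X.Normal := hXW.2.1
  haveI hWn : W.Normal := hXW.2.2.1
  have hUT : U ≤ T := ZJ.pCore_le_sylow T
  have hXp : IsPGroup p X := (Solvable.isPGroup_pCore p).to_le hX
  -- `T` does not induce an irreducible action
  have hD : ⁅X, (T : Subgroup G)⁆ ⊔ W < X := by
    refine lt_of_le_of_ne (sup_le (commutator_le_left X _) hXW.1.le) fun he => hXW.1.not_ge ?_
    set π := QuotientGroup.mk' W with hπ
    have h1 : ⁅X.map π, (T : Subgroup G).map π⁆ = X.map π := by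
      conv_rhs => rw [← he]
      rw [Subgroup.map_sup, ← map_commutator, hπ, QuotientGroup.map_mk'_self, sup_bot_eq]
    haveI : Group.IsNilpotent ↥((T : Subgroup G).map π) := (T.2.map π).isNilpotent
    obtain ⟨n, hn⟩ := (isNilpotent_iff_lowerCentralSeries ((T : Subgroup G).map π)).1 inferInstance
    have h2 : ∀ k, X.map π ≤ ((T : Subgroup G).map π).lowerCentralSeries k := by
      intro k
      induction k with
      | zero => exact map_mono (hX.trans hUT)
      | succ k ih => exact h1.ge.trans (commutator_mono ih le_rfl)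
    have h3 := h2 n
    rwa [hn, le_bot_iff, Subgroup.map_eq_bot_iff, hπ, QuotientGroup.ker_mk'] at h3
  set E : Set G := {e | ∃ t ∈ (T : Subgroup G), t * g * t⁻¹ = e} with hE
  have hET : closure E ≤ (T : Subgroup G) := (closure_le _).2 (by
    rintro _ ⟨t, ht, rfl⟩
    exact (T : Subgroup G).mul_mem ((T : Subgroup G).mul_mem ht hg) ((T : Subgroup G).inv_mem ht))
  have hgE : g ∈ closure E := subset_closure ⟨1, one_mem _, by simp⟩
  have hTQ : (T : Subgroup G) ≤ normalizer ((closure E : Subgroup G) : Set G) := by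
    intro t ht
    refine mem_normalizer_iff_cj.2 (CfsgLib.Functor.eq_of_le_of_card_le' ?_ (card_cj t _).ge)
    rw [MonoidHom.map_closure, closure_le]
    rintro _ ⟨_, ⟨t', ht', rfl⟩, rfl⟩
    exact subset_closure ⟨t * t', mul_mem ht ht', by simp [mul_assoc]⟩
  have hcent := central_of_chiefFactor hXW hXp (T : Subgroup G) T.not_dvd_index le_sup_right hD
    le_sup_left (closure E) (T.2.to_le hET) hET E rfl ?_ ?_ ?_
  · exact hne ((commutator_mono le_rfl le_top).trans hcent)
  · rintro e ⟨t, ht, rfl⟩ q hq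
    exact ⟨q * t, (T : Subgroup G).mul_mem (hET hq) ht, by simp [mul_assoc]⟩
  · rintro e ⟨t, ht, rfl⟩
    rw [show zpowers (t * g * t⁻¹) = t ⋆ zpowers g by rw [MonoidHom.map_zpowers]; rfl]
    have h1 : t ⋆ X = X := mem_normalizer_iff_cj.1 (by rw [normalizer_eq_top (H := X)]; exact mem_top t)
    have h2 : t ⋆ W = W := mem_normalizer_iff_cj.1 (by rw [normalizer_eq_top (H := W)]; exact mem_top t)
    rw [← h1, ← iterCommutator_cj, ← h2]
    exact cj_mono t hu
  · intro h hfix
    set Q := closure E with hQ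
    set M := normalizer ((Q ⊔ U : Subgroup G) : Set G) with hM
    have hTM : (T : Subgroup G) ≤ M := fun t ht => mem_normalizer_iff_cj.2 (by
      rw [Subgroup.map_sup, mem_normalizer_iff_cj.1 (hTQ ht),
        mem_normalizer_iff_cj.1 (by rw [normalizer_eq_top (H := U)]; exact mem_top t)])
    have hMtop : M ≠ ⊤ := fun htop => hgU (Solvable.le_pCore p (normalizer_eq_top_iff.1 htop)
      (T.2.to_le (sup_le hET hUT)) (mem_sup_left hgE))
    have hMT : M = T := (hco.le_iff.1 hTM).resolve_left hMtop
    have hTL : h ∈ L ⊔ (T : Subgroup G) := by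
      rcases hco.le_iff.1 (le_sup_right : (T : Subgroup G) ≤ L ⊔ T) with he | he
      · rw [he]; exact mem_top h
      · exfalso
        apply hco.1
        have hp : IsPGroup p (⊤ : Subgroup G) := fun x => by
          obtain ⟨k, hk⟩ := hL x
          obtain ⟨j, hj⟩ := T.2 ⟨_, he.le (mem_sup_left hk)⟩
          exact ⟨k + j, Subtype.ext (by simpa [pow_add, pow_mul] using congrArg Subtype.val hj)⟩
        exact (T.3 hp le_top).symm
    obtain ⟨l, hl, t, ht, rfl⟩ := mem_sup_of_normal_left.1 hTL
    refine (T : Subgroup G).mul_mem ?_ ht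
    -- `l` normalizes `Q U`
    have hlQ : ∀ e ∈ E, l⁻¹ * e * l ∈ Q ⊔ U := by
      intro e he
      have hs : l⁻¹ * e * l ∈ (T : Subgroup G) := by
        have := (T : Subgroup G).mul_mem ((T : Subgroup G).mul_mem ht (hfix e he))
          ((T : Subgroup G).inv_mem ht)
        simpa [mul_assoc] using this
      have heT : e ∈ (T : Subgroup G) := hET (subset_closure he)
      have hc : e⁻¹ * (l⁻¹ * e * l) ∈ U := by
        have h1 : e⁻¹ * (l⁻¹ * e * l) ∈ (T : Subgroup G) :=
          (T : Subgroup G).mul_mem ((T : Subgroup G).inv_mem heT) hs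
        have h2 : e⁻¹ * (l⁻¹ * e * l) ∈ L := by
          rw [show e⁻¹ * (l⁻¹ * e * l) = (e⁻¹ * l⁻¹ * e) * l by group]
          exact mul_mem (by simpa using (inferInstance : L.Normal).conj_mem _ (inv_mem hl) e⁻¹) hl
        obtain ⟨m, hm, hxm⟩ := hLm _ h2
        obtain ⟨k, hk⟩ := IsPGroup.iff_orderOf.1 T.2 ⟨_, h1⟩
        rw [Subgroup.orderOf_mk] at hk
        exact mem_of_pow_mem_of_coprime hxm (by rw [hk]; exact hm.pow_right k)
      have := mul_mem (mem_sup_left (T := U) (subset_closure he : e ∈ Q)) (mem_sup_right hc)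
      simpa [mul_assoc] using this
    have hlM : l⁻¹ ∈ M := by
      refine mem_normalizer_iff_cj.2 (CfsgLib.Functor.eq_of_le_of_card_le' ?_ (card_cj _ _).ge)
      rw [Subgroup.map_sup]
      refine sup_le ?_ ((mem_normalizer_iff_cj.1 (by rw [normalizer_eq_top (H := U)]; exact mem_top _)).le.trans
        le_sup_right)
      rw [hQ, MonoidHom.map_closure, closure_le]
      rintro _ ⟨e, he, rfl⟩
      simpa using hlQ e he
    rw [hMT] at hlM
    exact inv_mem_iff.1 hlM

end CfsgLib.Kinf
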