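import Cfsg.Agent.Kinf.PComplement
import Cfsg.Agent.Kinf.Quartic
import Cfsg.Agent.KGroup.CharP
import Cfsg.Agent.ZJ.Stable
import Cfsg.Agent.ZJ.NormalPComplement

/-!
Transport of the critical configuration to sections, and the applications.
-/

set_option autoImplicit false
set_option linter.unusedSectionVars false
set_option linter.style.haveILetI false

namespace CfsgLib.Kinf

open Subgroup CfsgLib.Functor
open scoped CfsgLib.Functor commutatorElement

universe u

variable {p : ℕ} [Fact p.Prime]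

/-- The critical configuration may be studied in the sections `K / R` themselves. -/
theorem crit_of_sections {G₀ : Type u} [Group G₀] [Finite G₀]
    {W : ∀ (Q : Type u) [Group Q], Subgroup Q} (hW : Cfsg.IsCharPFunctor.{u} p W)
    (h : ∀ (K R : Subgroup G₀) [(R.subgroupOf K).Normal],
      centralizer ((Cfsg.pCore p (↥K ⧸ R.subgroupOf K) : Subgroup (↥K ⧸ R.subgroupOf K))
        : Set (↥K ⧸ R.subgroupOf K)) ≤ Cfsg.pCore p (↥K ⧸ R.subgroupOf K) →
      ∀ T : Sylow p (↥K ⧸ R.subgroupOf K), IsCoatom (T : Subgroup (↥K ⧸ R.subgroupOf K)) →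
      ∀ L : Subgroup (↥K ⧸ R.subgroupOf K), L.Normal → (∀ x : ↥K ⧸ R.subgroupOf K, ∃ k : ℕ, x ^ p ^ k ∈ L) →
        (∀ x ∈ L, ∀ y ∈ L, x * y * x⁻¹ * y⁻¹ ∈ Cfsg.pCore p (↥K ⧸ R.subgroupOf K)) →
        (∀ x ∈ L, ∃ m : ℕ, m.Coprime p ∧ x ^ m ∈ Cfsg.pCore p (↥K ⧸ R.subgroupOf K)) →
        (Cfsg.inducedFunctor (G := ↥K ⧸ R.subgroupOf K) W
          (T : Subgroup (↥K ⧸ R.subgroupOf K))).Normal)
    (Γ : Type u) [Group Γ] [Finite Γ] (hΓ : IsSectionOf G₀ Γ) (T : Sylow p Γ)
    (hC : centralizer (Cfsg.pCore p Γ : Set Γ) ≤ Cfsg.pCore p Γ)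
    (hco : IsCoatom (T : Subgroup Γ)) (L : Subgroup Γ) (hLn : L.Normal)
    (hL : ∀ x : Γ, ∃ k, x ^ p ^ k ∈ L)
    (hab : ∀ x ∈ L, ∀ y ∈ L, x * y * x⁻¹ * y⁻¹ ∈ Cfsg.pCore p Γ)
    (hLm : ∀ x ∈ L, ∃ m : ℕ, m.Coprime p ∧ x ^ m ∈ Cfsg.pCore p Γ) :
    (Cfsg.inducedFunctor (G := Γ) W (T : Subgroup Γ)).Normal := by
  obtain ⟨K, R, hn, ⟨e⟩⟩ := hΓ
  set f : (↥K ⧸ R.subgroupOf K) →* Γ := e.toMonoidHom with hf
  have hmem : ∀ x, e x ∈ Cfsg.pCore p Γ ↔ x ∈ Cfsg.pCore p (↥K ⧸ R.subgroupOf K) := fun x =>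
    ⟨fun h => by simpa using CharP.pCore_map_le e.symm (mem_map_of_mem e.symm.toMonoidHom h),
      fun h => CharP.pCore_map_le e (mem_map_of_mem e.toMonoidHom h)⟩
  set T' := T.mapSurjective (f := e.symm.toMonoidHom) e.symm.surjective with hT'
  have hTT : (T' : Subgroup (↥K ⧸ R.subgroupOf K)).map f = (T : Subgroup Γ) := by
    show ((T : Subgroup Γ).map e.symm.toMonoidHom).map e.toMonoidHom = _
    rw [map_map]
    convert Subgroup.map_id _
    ext x
    simp
  have hres := h K R (fun x hx => (hmem x).1 (hC (mem_centralizer_iff.2 fun y hy => ?_))) T' ?_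
    (L.comap f) (hLn.comap f) (fun x => ?_) (fun x hx y hy => (hmem _).1 ?_)
    (fun x hx => ?_)
  · rw [← hTT, induced_map hW.2 f _ T'.2 (fun x _ hx => e.injective (hx.trans (map_one e).symm))]
    exact hres.map f e.surjective
  · obtain ⟨z, rfl⟩ := e.surjective y
    rw [← map_mul, ← map_mul]
    exact congrArg e (mem_centralizer_iff.1 hx z ((hmem z).1 hy))
  · exact (e.symm.mapSubgroup.isCoatom_iff (T : Subgroup Γ)).2 hco
  · obtain ⟨k, hk⟩ := hL (e x)
    exact ⟨k, by rwa [mem_comap, map_pow]⟩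
  · rw [map_mul, map_mul, map_mul, map_inv, map_inv]
    exact hab _ hx _ hy
  · obtain ⟨m, hm, hxm⟩ := hLm _ hx
    exact ⟨m, hm, (hmem _).1 (by rw [map_pow]; exact hxm)⟩

/-- A quadratic element on a chief factor, when a K-infinity subgroup is not normal. -/
theorem exists_quadratic_factor {G : Type u} [Group G] [Finite G] (S : Sylow p G)
    (hK : ¬ (Cfsg.inducedFunctor (G := G) Cfsg.kInfLower (S : Subgroup G)).Normal ∨
      ¬ (Cfsg.inducedFunctor (G := G) Cfsg.kInfUpper (S : Subgroup G)).Normal)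
    (hC : centralizer (Cfsg.pCore p G : Set G) ≤ Cfsg.pCore p G) :
    ∃ g : G, g ∈ (S : Subgroup G) ∧ g ∉ Cfsg.pCore p G ∧
      ∃ U V : Subgroup G, Cfsg.IsChiefFactor U V ∧ U ≤ Cfsg.pCore p G ∧
        ⁅⁅U, zpowers g⁆, zpowers g⁆ ≤ V ∧ ¬ ⁅U, zpowers g⁆ ≤ V := by
  set T := Cfsg.pCore p G with hT
  have hTp : IsPGroup p T := Solvable.isPGroup_pCore p
  obtain ⟨H, hHc, hH1, hH2, hH3⟩ := exists_critical hTp
  set A := H.map T.subtype with hA
  haveI hAn : A.Normal := by haveI := hHc; exact ConjAct.normal_of_characteristic_of_normal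
  have hAT : A ≤ T := map_subtype_le H
  have hZA : (H ⊓ centralizer (H : Set T)).map T.subtype = A ⊓ centralizer (A : Set G) :=
    center_map T.subtype T.subtype_injective H
  have hA2 : ⁅A, A⁆ ≤ centralizer (A : Set G) := by
    rw [hA, ← map_commutator]
    exact (map_mono ((commutator_mono le_rfl le_top).trans hH2)).trans (hZA.le.trans inf_le_right)
  have hA3 : ⁅T, A⁆ ≤ A ⊓ centralizer (A : Set G) := by
    have he : T = (⊤ : Subgroup T).map T.subtype := by
      rw [← MonoidHom.range_eq_map, range_subtype]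
    rw [← hZA, commutator_comm, hA]
    calc ⁅H.map T.subtype, T⁆ = ⁅H.map T.subtype, (⊤ : Subgroup T).map T.subtype⁆ := by rw [← he]
      _ = ⁅H, (⊤ : Subgroup T)⁆.map T.subtype := (map_commutator _ _ _).symm
      _ ≤ _ := map_mono hH2
  have hA4 : T ⊓ centralizer (A : Set G) = A ⊓ centralizer (A : Set G) := by
    refine le_antisymm (fun x hx => ⟨?_, hx.2⟩) (inf_le_inf_right _ hAT)
    refine ⟨⟨x, hx.1⟩, hH3 (mem_centralizer_iff.2 fun h hh => Subtype.ext ?_), rfl⟩
    exact mem_centralizer_iff.1 hx.2 _ (mem_map_of_mem _ hh)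
  obtain ⟨g, hgS, hgT, -, -, hfac⟩ := exists_quadratic_of_kInf S A hAT hA2 hA3 hA4 hK
  obtain ⟨U, V, h1, h2, h3, h4⟩ := hfac hC
  exact ⟨g, hgS, hgT, U, V, h1, h2.trans hAT, h3, h4⟩

/-- With a normal p-complement in the normalizer of the lower K-infinity subgroup, `p` odd. -/
theorem hasNormalPComplement_kInf (hp : p ≠ 2) {G : Type u} [Group G] [Finite G] (S : Sylow p G)
    (hW : Cfsg.IsCharPFunctor.{u} p Cfsg.kInfLower.{u})
    (hN : Cfsg.HasNormalPComplement p ↥(normalizer ((Cfsg.inducedFunctor (G := G) Cfsg.kInfLower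
      (S : Subgroup G) : Subgroup G) : Set G))) : Cfsg.HasNormalPComplement p G := by
  refine hasNormalPComplement_of_critical hW (fun Γ _ _ _ T hC hco L hLn hL _ hLm => ?_) S hN
  by_contra hn
  obtain ⟨g, hgT, hgU, U, V, hUV, hU, hq, hne⟩ := exists_quadratic_factor T (Or.inl hn) hC
  haveI := hLn
  haveI := hUV.2.1
  have hp3 : 2 ≤ p - 1 := by have := (Fact.out : p.Prime).two_le; omega
  exact false_of_unipotent_factor T hco L hL hLm hgT hgU hUV hU
    ((iterCommutator_antitone _ hp3).trans hq) hne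

/-- With all sections p-stable, a functor controlling strong fusion is normal in the critical
configuration. -/
theorem normal_of_controls {W : ∀ (Q : Type u) [Group Q], Subgroup Q}
    (hW : Cfsg.IsCharPFunctor.{u} p W) {Γ : Type u} [Group Γ] [Finite Γ] (T : Sylow p Γ)
    (hC : centralizer (Cfsg.pCore p Γ : Set Γ) ≤ Cfsg.pCore p Γ)
    (hco : IsCoatom (T : Subgroup Γ))
    (hctl : Cfsg.ControlsStrongFusion p (Cfsg.inducedFunctor (G := Γ) W (T : Subgroup Γ))) :
    (Cfsg.inducedFunctor (G := Γ) W (T : Subgroup Γ)).Normal := by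
  set U := Cfsg.pCore p Γ with hU
  set N := normalizer ((Cfsg.inducedFunctor (G := Γ) W (T : Subgroup Γ) : Subgroup Γ) : Set Γ) with hN
  have hTN : (T : Subgroup Γ) ≤ N :=
    le_normalizer.trans (normalizer_le_functor (isConjugacyFunctor_induced hW) T.2)
  rcases hco.le_iff.1 hTN with he | he
  · exact normalizer_eq_top_iff.1 he
  exfalso
  obtain ⟨T', -, hT'⟩ := hctl
  apply hco.1
  rw [eq_top_iff]
  intro x _
  obtain ⟨-, hf⟩ := hT' (U : Set Γ) (ZJ.pCore_le_sylow T')
  obtain ⟨n, hn, hne⟩ := hf x (by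
    rintro _ ⟨a, ha, rfl⟩
    exact ZJ.pCore_le_sylow T' ((Solvable.pCore_normal p).conj_mem a ha x))
  have h1 : n⁻¹ * x ∈ centralizer (U : Set Γ) := mem_centralizer_iff.2 fun a ha => by
    calc a * (n⁻¹ * x) = n⁻¹ * (n * a * n⁻¹) * x := by group
      _ = n⁻¹ * (x * a * x⁻¹) * x := by rw [hne a ha]
      _ = _ := by group
  have h2 := (T : Subgroup Γ).mul_mem (he.le hn) (ZJ.pCore_le_sylow T (hC h1))
  simpa using h2

/-- The criterion for functors controlling strong fusion in sections with p-stable sections. -/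
theorem hasNormalPComplement_of_controls (hp : p ≠ 2) {G : Type u} [Group G] [Finite G]
    (W : ∀ (Q : Type u) [Group Q], Subgroup Q) (hW : Cfsg.IsCharPFunctor.{u} p W) (S : Sylow p G)
    (hN : Cfsg.HasNormalPComplement p ↥(normalizer ((Cfsg.inducedFunctor (G := G) W
      (S : Subgroup G) : Subgroup G) : Set G)))
    (hctl : ∀ (K R : Subgroup G) [(R.subgroupOf K).Normal],
      (∀ (K' R' : Subgroup (↥K ⧸ R.subgroupOf K)) [(R'.subgroupOf K').Normal],
        Cfsg.IsNormalizerPStable p (↥K' ⧸ R'.subgroupOf K')) →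
      ∀ T : Sylow p (↥K ⧸ R.subgroupOf K), Cfsg.ControlsStrongFusion p
        (Cfsg.inducedFunctor (G := (↥K ⧸ R.subgroupOf K)) W (T : Subgroup (↥K ⧸ R.subgroupOf K)))) :
    Cfsg.HasNormalPComplement p G := by
  refine hasNormalPComplement_of_critical hW (crit_of_sections hW
    (fun K R _ hC T hco L _ hL hab _ => normal_of_controls hW T hC hco (hctl K R ?_ T))) S hN
  intro K' R' _
  exact ZJ.isNormalizerPStable_of_free hp fun h =>
    ZJ.free_of_critical hp L hL hab (ZJ.involves_of_section K' R' h)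

end CfsgLib.Kinf
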