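import Mathlib

/-!
The numerical part of the argument about pairs of elements of order `p` with a cyclic Sylow subgroup.
-/

set_option autoImplicit false

namespace CfsgLib.PairCyclic

open Finset

/-- The combined constraints on one character are contradictory. -/
theorem false_of_bounds {p q e n J W : ℝ} (hp : 3 ≤ p) (he : 2 ≤ e) (hn : 0 ≤ n)
    (hJ : e ≤ J) (hW : W = (p - 1) * n - p * J) (hsq : W ^ 2 ≤ q * e * (p - 1))
    (hq : 0 < q) (hbes : q * n ≤ n ^ 2 + e * q) (hlarge : (p - 1) * n < 2 * W) : False := by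
  have hp1 : (0 : ℝ) ≤ p - 1 := by linarith
  have h1 : 2 * p * e < (p - 1) * n := by nlinarith
  have h2 : ((p - 1) * n) ^ 2 ≤ 4 * (q * e * (p - 1)) :=
    (pow_le_pow_left₀ (mul_nonneg hp1 hn) hlarge.le 2).trans
      ((mul_pow 2 W 2).le.trans (by linarith))
  have h3 : (p - 1) * n ^ 2 ≤ 4 * (q * e) := by
    by_contra h
    push Not at h
    nlinarith [mul_lt_mul_of_pos_left h (show (0 : ℝ) < p - 1 by linarith)]
  have h4 : q * ((p - 1) * n) ≤ q * (e * (p + 3)) := by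
    nlinarith [mul_le_mul_of_nonneg_left hbes hp1]
  have h5 := le_of_mul_le_mul_left h4 hq
  nlinarith

/-- The case `p = 3`. -/
theorem false_of_bounds_three {q e : ℕ} {n J W : ℤ} (he : e = 2) (hq : q = 9 ∨ 27 ≤ q) (hn : 0 ≤ n)
    (hJ : (e : ℤ) ≤ J) (hW : W = 2 * n - 3 * J) (hsq : W ^ 2 + 4 ≤ (q : ℤ) * e * 2)
    (hbes : (q : ℤ) * n ≤ n ^ 2 + (e : ℤ) * q) (hlarge : 2 * n < 3 * W) (hW2 : (2 : ℤ) ∣ W) : False := by
  subst he
  push_cast at hJ hsq hbes
  have hn5 : 5 ≤ n := by linarith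
  have hlt : n ^ 2 < 9 * (q : ℤ) := by nlinarith
  have hn10 : n ≤ 10 := by nlinarith
  rcases hq with rfl | hq
  · push_cast at hsq hbes
    have hW5 : W ≤ 5 := by nlinarith
    interval_cases n <;> omega
  · have hq' : (27 : ℤ) ≤ q := by exact_mod_cast hq
    nlinarith

/-- Some character takes a large average. -/
theorem exists_large {ι : Type*} (s : Finset ι) (W n : ι → ℝ) (i₀ : ι) (hi₀ : i₀ ∈ s) {p q e r : ℝ}
    (hW0 : W i₀ = p - 1) (hn0 : n i₀ = 1) (hn : ∀ i ∈ s, 0 < n i)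
    (hsq : ∑ i ∈ s, W i ^ 2 = q * e * (p - 1))
    (hcube : ∑ i ∈ s, W i ^ 3 / n i = q * e * (p - 1) * (p - 2))
    (hlt : (p - 1) ^ 3 + r * (p - 1) * (q * e * (p - 1) - (p - 1) ^ 2) < q * e * (p - 1) * (p - 2)) :
    ∃ i ∈ s, i ≠ i₀ ∧ r * (p - 1) * n i < W i ∧ W i ^ 2 + (p - 1) ^ 2 ≤ q * e * (p - 1) := by
  classical
  have hrest : ∑ i ∈ s.erase i₀, W i ^ 2 = q * e * (p - 1) - (p - 1) ^ 2 := by
    rw [← add_sum_erase _ _ hi₀, hW0] at hsq
    linarith
  by_contra h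
  push Not at h
  have hall : ∀ i ∈ s.erase i₀, W i ^ 3 / n i ≤ r * (p - 1) * W i ^ 2 := by
    intro i hi
    obtain ⟨hne, his⟩ := mem_erase.1 hi
    have hle : W i ≤ r * (p - 1) * n i := by
      by_contra hh
      push Not at hh
      have := h i his hne hh
      have h2 := single_le_sum (f := fun j => W j ^ 2) (fun j _ => sq_nonneg _) hi
      linarith
    rw [div_le_iff₀ (hn i his), pow_succ]
    calc W i ^ 2 * W i ≤ W i ^ 2 * (r * (p - 1) * n i) := mul_le_mul_of_nonneg_left hle (sq_nonneg _)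
      _ = r * (p - 1) * W i ^ 2 * n i := by ring
  have h2 := sum_le_sum hall
  rw [← mul_sum, hrest] at h2
  rw [← add_sum_erase _ _ hi₀, hW0, hn0, div_one] at hcube
  linarith

end CfsgLib.PairCyclic
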