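import Cfsg.Agent.Kinf.PairSimple
import Cfsg.Agent.Transfer.Basic
import Cfsg.Agent.Transfer.PResidual
import Mathlib.GroupTheory.SpecificGroups.Cyclic

/-!
A cyclic Sylow `p`-subgroup in a group without normal `p`-complement: local facts, and pairs of elements of
order `p` generating `p`-solvable subgroups.
-/

set_option autoImplicit false
set_option linter.unusedSectionVars false
set_option linter.style.haveILetI false

namespace CfsgLib.PairCyclic

open Subgroup

universe u

variable {G : Type u} [Group G] [Finite G] {p : ℕ} [Fact p.Prime] (P : Sylow p G)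

theorem hasNormalPComplement_centralizer (hP : IsCyclic (P : Subgroup G)) {y : G}
    (hy : y ∈ (P : Subgroup G)) (hy1 : y ≠ 1) :
    Cfsg.HasNormalPComplement p ↥(centralizer ({y} : Set G)) := by
  haveI := hP
  have hPC : (P : Subgroup G) ≤ centralizer ({y} : Set G) := fun u hu =>
    mem_centralizer_singleton_iff.2 (congrArg Subtype.val
      ((inferInstance : IsMulCommutative (P : Subgroup G)).is_comm.comm ⟨u, hu⟩ ⟨y, hy⟩))
  have hc : IsCyclic ((P.subtype hPC : Sylow p (centralizer ({y} : Set G))) :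
      Subgroup (centralizer ({y} : Set G))) :=
    isCyclic_of_surjective _ (subgroupOfEquivOfLe hPC).symm.surjective
  refine (TransferBasic.cyclic_dichotomy (P := P.subtype hPC) hc).resolve_right fun h => ?_
  have hm : (⟨y, hPC hy⟩ : centralizer ({y} : Set G)) ∈
      ((P.subtype hPC : Sylow p (centralizer ({y} : Set G))) : Subgroup (centralizer ({y} : Set G))) ⊓
        centralizer ((normalizer (((P.subtype hPC : Sylow p (centralizer ({y} : Set G))) :
          Subgroup (centralizer ({y} : Set G))) : Set (centralizer ({y} : Set G))) :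
            Subgroup (centralizer ({y} : Set G))) : Set (centralizer ({y} : Set G))) :=
    ⟨hy, mem_centralizer_iff.2 fun z _ => Subtype.ext (mem_centralizer_singleton_iff.1 z.2)⟩
  rw [h.2, mem_bot] at hm
  exact hy1 (congrArg Subtype.val hm)

theorem mem_zpowers_of_orderOf (hP : IsCyclic (P : Subgroup G)) {x y : G}
    (hx : x ∈ (P : Subgroup G)) (hy : y ∈ (P : Subgroup G)) (hxo : orderOf x = p) (hyo : y ^ p = 1) :
    y ∈ zpowers x := by
  classical
  haveI := hP
  haveI := Fintype.ofFinite (P : Subgroup G)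
  have hp := (Fact.out : p.Prime)
  let s : Finset (P : Subgroup G) := Finset.univ.filter fun a => a ^ p = 1
  let t : Finset (P : Subgroup G) := (Finset.range p).image fun i => (⟨x, hx⟩ : (P : Subgroup G)) ^ i
  have hxo' : orderOf (⟨x, hx⟩ : (P : Subgroup G)) = p := by rw [← orderOf_coe]; exact hxo
  have ht : t.card = p := by
    rw [Finset.card_image_of_injOn, Finset.card_range]
    intro i hi j hj h
    simp only [Finset.coe_range, Set.mem_Iio] at hi hj
    exact pow_injOn_Iio_orderOf (by rwa [Set.mem_Iio, hxo']) (by rwa [Set.mem_Iio, hxo']) h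
  have hts : t ⊆ s := by
    intro a ha
    obtain ⟨i, -, rfl⟩ := Finset.mem_image.1 ha
    refine Finset.mem_filter.2 ⟨Finset.mem_univ _, ?_⟩
    rw [← pow_mul, mul_comm, pow_mul, orderOf_dvd_iff_pow_eq_one.1 hxo'.dvd, one_pow]
  have he : t = s := Finset.eq_of_subset_of_card_le hts (by
    rw [ht]; exact IsCyclic.card_pow_eq_one_le hp.pos)
  have : (⟨y, hy⟩ : (P : Subgroup G)) ∈ t := by
    rw [he]
    exact Finset.mem_filter.2 ⟨Finset.mem_univ _, Subtype.ext (by simpa using hyo)⟩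
  obtain ⟨i, -, hi⟩ := Finset.mem_image.1 this
  rw [← show x ^ i = y from congrArg Subtype.val hi]
  exact pow_mem (mem_zpowers x) i

theorem exists_conj_mem (Q : Subgroup G) (hQ : IsPGroup p Q) :
    ∃ c : G, ∀ u ∈ Q, c * u * c⁻¹ ∈ (P : Subgroup G) := by
  obtain ⟨R, hR⟩ := hQ.exists_le_sylow
  obtain ⟨c, hc⟩ := MulAction.exists_smul_eq G R P
  refine ⟨c, fun u hu => ?_⟩
  rw [← hc, Sylow.coe_subgroup_smul]
  exact ⟨u, hR hu, rfl⟩

theorem isMulCommutative_of_isPGroup (hP : IsCyclic (P : Subgroup G)) (Q : Subgroup G)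
    (hQ : IsPGroup p Q) : IsMulCommutative Q := by
  haveI := hP
  obtain ⟨c, hc⟩ := exists_conj_mem P Q hQ
  refine ⟨⟨fun a b => Subtype.ext ?_⟩⟩
  have h := congrArg Subtype.val ((inferInstance : IsMulCommutative (P : Subgroup G)).is_comm.comm
    ⟨_, hc a a.2⟩ ⟨_, hc b b.2⟩)
  simp only [Subgroup.coe_mul] at h ⊢
  calc (a : G) * b = c⁻¹ * ((c * a * c⁻¹) * (c * b * c⁻¹)) * c := by group
    _ = c⁻¹ * ((c * b * c⁻¹) * (c * a * c⁻¹)) * c := by rw [h]
    _ = (b : G) * a := by group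

/-- An element of order `p` is conjugate to a nontrivial power of `x`. -/
theorem exists_isConj_pow (hP : IsCyclic (P : Subgroup G)) {x g : G} (hx : x ∈ (P : Subgroup G))
    (hxo : orderOf x = p) (hgo : orderOf g = p) :
    ∃ t ∈ (Finset.range p).erase 0, IsConj (x ^ t) g := by
  have hp := (Fact.out : p.Prime)
  obtain ⟨c, hc⟩ := exists_conj_mem P (zpowers g) (IsPGroup.of_card (n := 1)
    (by rw [Nat.card_zpowers, hgo, pow_one]))
  have hcg : (c * g * c⁻¹) ^ p = 1 := by rw [conj_pow, ← hgo, pow_orderOf_eq_one]; simp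
  obtain ⟨i, hi⟩ := mem_powers_iff_mem_zpowers.2
    (mem_zpowers_of_orderOf P hP hx (hc g (mem_zpowers g)) hxo hcg)
  refine ⟨i % p, Finset.mem_erase.2 ⟨fun h => ?_, Finset.mem_range.2 (Nat.mod_lt i hp.pos)⟩, ?_⟩
  · have h1 : c * g * c⁻¹ = 1 := by
      rw [← show x ^ i = c * g * c⁻¹ from hi, ← pow_mod_orderOf, hxo, h, pow_zero]
    rw [conj_eq_one_iff] at h1
    rw [h1, orderOf_one] at hgo
    exact hp.ne_one hgo.symm
  · have e := pow_mod_orderOf x i
    rw [hxo] at e
    rw [e]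
    exact (isConj_iff.2 ⟨c, hi.symm⟩).symm

/-- An element normalizing `P` and centralizing a nontrivial element centralizes `P`. -/
theorem commute_of_normalizer (hP : IsCyclic (P : Subgroup G)) {y m : G}
    (hy : y ∈ (P : Subgroup G)) (hy1 : y ≠ 1) (hm : m ∈ normalizer ((P : Subgroup G) : Set G))
    (hmy : m * y = y * m) {u : G} (hu : u ∈ (P : Subgroup G)) : m * u = u * m := by
  classical
  haveI := hP
  have hp := (Fact.out : p.Prime)
  have hPC : (P : Subgroup G) ≤ centralizer ({y} : Set G) := fun v hv =>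
    mem_centralizer_singleton_iff.2 (congrArg Subtype.val
      ((inferInstance : IsMulCommutative (P : Subgroup G)).is_comm.comm ⟨v, hv⟩ ⟨y, hy⟩))
  obtain ⟨a, hidx, hq⟩ :=
    PairSimple.index_core (hasNormalPComplement_centralizer P hP hy hy1) P hPC
  set C := centralizer ({y} : Set G)
  haveI := Solvable.pPrimeCore_normal (G := C) p
  set O := Cfsg.pPrimeCore p C
  set PC := (P : Subgroup G).subgroupOf C
  have hcard : Nat.card PC = p ^ a := by
    rw [Nat.card_congr (subgroupOfEquivOfLe hPC).toEquiv]; exact hq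
  have hdisj : PC ⊓ O = ⊥ := inf_eq_bot_of_coprime (by
    rw [hcard]; exact (Solvable.coprime_card_pPrimeCore p).symm.pow_left a)
  let f := QuotientGroup.mk' O
  have hinj : Function.Injective (f.comp PC.subtype) := by
    rw [← MonoidHom.ker_eq_bot_iff, eq_bot_iff]
    intro z hz
    have : (z : C) ∈ PC ⊓ O := ⟨z.2, (QuotientGroup.eq_one_iff _).1 hz⟩
    rw [hdisj, mem_bot] at this
    exact Subtype.ext this
  have hsurj : Function.Surjective (f.comp PC.subtype) :=
    ((Nat.bijective_iff_injective_and_card _).2 ⟨hinj, by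
      rw [hcard, ← hidx, Subgroup.index]⟩).2
  have hcomm : ∀ s t : C ⧸ O, s * t = t * s := by
    intro s t
    obtain ⟨s, rfl⟩ := hsurj s
    obtain ⟨t, rfl⟩ := hsurj t
    rw [← map_mul, ← map_mul]
    congr 1
    have hst := congrArg Subtype.val
      ((inferInstance : IsMulCommutative (P : Subgroup G)).is_comm.comm ⟨_, s.2⟩ ⟨_, t.2⟩)
    exact Subtype.ext (Subtype.ext (by simpa using hst))
  have hmC : m ∈ C := mem_centralizer_singleton_iff.2 hmy
  set w : C := ⟨m, hmC⟩ * ⟨u, hPC hu⟩ * (⟨m, hmC⟩ : C)⁻¹ * (⟨u, hPC hu⟩ : C)⁻¹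
  have hw : w ∈ PC ⊓ O := by
    refine ⟨show m * u * m⁻¹ * u⁻¹ ∈ (P : Subgroup G) from
      mul_mem ((mem_normalizer_iff.1 hm u).1 hu) (inv_mem hu), ?_⟩
    refine (QuotientGroup.eq_one_iff w).1 ?_
    show f w = 1
    simp only [w, map_mul, map_inv]
    rw [hcomm (f ⟨m, hmC⟩) (f ⟨u, hPC hu⟩)]
    group
  rw [hdisj, mem_bot] at hw
  have h : m * u * m⁻¹ * u⁻¹ = 1 := congrArg Subtype.val hw
  exact commutatorElement_eq_one_iff_mul_comm.1 h

theorem exists_normalizer_conj (hP : IsCyclic (P : Subgroup G)) {u w : G}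
    (hu : u ∈ (P : Subgroup G)) (hw : w ∈ (P : Subgroup G)) (h : IsConj u w) :
    ∃ n ∈ normalizer ((P : Subgroup G) : Set G), n * u * n⁻¹ = w := by
  haveI := hP
  obtain ⟨g, hg⟩ := isConj_iff.1 h
  have hy : g⁻¹⁻¹ * u * g⁻¹ ∈ (P : Subgroup G) := by rw [inv_inv, hg]; exact hw
  obtain ⟨n, hn, hn'⟩ := Sylow.conj_eq_normalizer_conj_of_mem P u g⁻¹ hu hy
  refine ⟨n⁻¹, inv_mem hn, ?_⟩
  rw [inv_inv] at hn' ⊢
  rw [← hn', hg]

/-- Some element of `N(P)` moves `x`. -/
theorem exists_moving (hP : IsCyclic (P : Subgroup G)) (hn : ¬ Cfsg.HasNormalPComplement p G)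
    {x : G} (hx : x ∈ (P : Subgroup G)) (hx1 : x ≠ 1) :
    ∃ n ∈ normalizer ((P : Subgroup G) : Set G), n * x * n⁻¹ ≠ x := by
  by_contra h
  push Not at h
  have hC := ((TransferBasic.cyclic_dichotomy (P := P) hP).resolve_left hn).2
  have hm : x ∈ (P : Subgroup G) ⊓ centralizer ((normalizer ((P : Subgroup G) : Set G) : Subgroup G) : Set G) :=
    ⟨hx, mem_centralizer_iff.2 fun n hn' => mul_inv_eq_iff_eq_mul.1 (h n hn')⟩
  rw [hC, mem_bot] at hm
  exact hx1 hm

/-- In a pair generating a `p`-solvable subgroup some power of the second element gives a regular product. -/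
theorem exists_regular_pow (hP : IsCyclic (P : Subgroup G)) {u w : G} (hu : orderOf u = p)
    (hw : orderOf w = p) (hs : Cfsg.IsPSolvable p ↥(closure ({u, w} : Set G))) :
    ∃ m ∈ (Finset.range p).erase 0, ¬ p ∣ orderOf (u * w ^ m) := by
  classical
  have hp := (Fact.out : p.Prime)
  obtain ⟨Q, _, f, -, hreg, hreg', hexp⟩ :=
    PairSolvable.exists_hom hu hw hs (isMulCommutative_of_isPGroup P hP)
  let H := closure ({u, w} : Set G)
  set u' : H := ⟨u, subset_closure (by simp)⟩
  set w' : H := ⟨w, subset_closure (by simp)⟩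
  have hne : ∀ z : H, orderOf (z : G) = p → f z ≠ 1 := fun z hz h => hreg z h (hz ▸ dvd_rfl)
  -- move `w` next to `u`
  obtain ⟨S, hS⟩ := (IsPGroup.of_card (p := p) (n := 1) (G := zpowers u') (by
    rw [Nat.card_zpowers, ← orderOf_coe, pow_one]; exact hu)).exists_le_sylow
  obtain ⟨T, hT⟩ := (IsPGroup.of_card (p := p) (n := 1) (G := zpowers w') (by
    rw [Nat.card_zpowers, ← orderOf_coe, pow_one]; exact hw)).exists_le_sylow
  obtain ⟨c, hc⟩ := MulAction.exists_smul_eq H T S
  have hwS : c * w' * c⁻¹ ∈ (S : Subgroup H) := by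
    rw [← hc, Sylow.coe_subgroup_smul]; exact ⟨w', hT (mem_zpowers w'), rfl⟩
  obtain ⟨d, hd⟩ := exists_conj_mem P ((S : Subgroup H).map H.subtype) (S.2.map _)
  have h1 := hd _ ⟨u', hS (mem_zpowers u'), rfl⟩
  have h2 := hd _ ⟨c * w' * c⁻¹, hwS, rfl⟩
  have ho : ∀ a g : G, orderOf (a * g * a⁻¹) = orderOf g := fun a g =>
    orderOf_injective (MulAut.conj a).toMonoidHom (MulAut.conj a).injective g
  obtain ⟨k, hk⟩ := mem_powers_iff_mem_zpowers.2 (mem_zpowers_of_orderOf P hP h1 h2
    (by rw [ho]; exact hu) (by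
      show (d * ((c : G) * w * (c : G)⁻¹) * d⁻¹) ^ p = 1
      rw [conj_pow, conj_pow, ← hw, pow_orderOf_eq_one]; simp))
  have hfk : f u' ^ k = f w' := by
    have e : u' ^ k = c * w' * c⁻¹ := by
      apply Subtype.ext
      have hk' : d * u ^ k * d⁻¹ = d * ((c : G) * w * (c : G)⁻¹) * d⁻¹ := by
        rw [← conj_pow]; exact hk
      simpa using hk'
    rw [← map_pow, e, map_mul, map_mul, map_inv, mul_comm (f c), mul_inv_cancel_right]
  have hk0 : ¬ p ∣ k := fun h => by
    obtain ⟨j, rfl⟩ := h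
    exact hne w' hw (by rw [← hfk, pow_mul, hexp, one_pow])
  obtain ⟨m, hm, hkm⟩ : ∃ m < p, (k * m + 1) % p = 0 := by
    refine ⟨((-1 : ZMod p) / k).val, ZMod.val_lt _, ?_⟩
    rw [← Nat.dvd_iff_mod_eq_zero, ← ZMod.natCast_eq_zero_iff]
    have hk1 : (k : ZMod p) ≠ 0 := fun h => hk0 ((ZMod.natCast_eq_zero_iff k p).1 h)
    push_cast [ZMod.natCast_zmod_val]
    field_simp
    ring
  refine ⟨m, Finset.mem_erase.2 ⟨fun h => ?_, Finset.mem_range.2 hm⟩, ?_⟩
  · rw [h, mul_zero, zero_add, Nat.mod_eq_of_lt hp.one_lt] at hkm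
    exact one_ne_zero hkm
  · have hf : f (u' * w' ^ m) = 1 := by
      obtain ⟨j, hj⟩ := Nat.dvd_of_mod_eq_zero hkm
      rw [map_mul, map_pow, ← hfk, ← pow_mul, ← pow_succ', hj, pow_mul, hexp, one_pow]
    exact hreg _ hf

end CfsgLib.PairCyclic
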