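import Cfsg.Agent.Kinf.PairCyclicBasics
import Cfsg.Agent.Kinf.SectionOrth

/-!
Character values on a cyclic Sylow subgroup and the class counts for pairs of elements of order `p`.
-/

set_option autoImplicit false
set_option linter.unusedSectionVars false
set_option linter.style.haveILetI false

namespace CfsgLib.PairCyclic

open Finset
open CfsgLib.Block CfsgLib.Block.Chr CfsgLib.Char CfsgLib.SectionCount
open scoped ComplexConjugate

universe u

variable {G : Type u} [Group G] {p : ℕ}

/-- The exponents of the nontrivial powers. -/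
abbrev X (p : ℕ) : Finset ℕ := (range p).erase 0

theorem X_spec (hp : p.Prime) {t : ℕ} (ht : t ∈ X p) : t < p ∧ ¬ p ∣ t := by
  obtain ⟨h0, h⟩ := mem_erase.1 ht
  exact ⟨mem_range.1 h, Nat.not_dvd_of_pos_of_lt (Nat.pos_of_ne_zero h0) (mem_range.1 h)⟩

theorem card_X (hp : p.Prime) : (X p).card = p - 1 := by
  rw [card_erase_of_mem (mem_range.2 hp.pos), card_range]

theorem orderOf_pow_X (hp : p.Prime) {x : G} (hx : orderOf x = p) {t : ℕ} (ht : t ∈ X p) :
    orderOf (x ^ t) = p := by
  rw [Nat.Coprime.orderOf_pow, hx]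
  rw [hx]
  exact hp.coprime_iff_not_dvd.2 (X_spec hp ht).2

/-- The count of a root of unity through power sums. -/
theorem count_eq_sum (hp : p.Prime) (s : Multiset ℂ) (hs : ∀ z ∈ s, z ^ p = 1) {w : ℂ} (hw : w ^ p = 1) :
    (p : ℂ) * s.count w = ∑ k ∈ range p, w⁻¹ ^ k * (s.map fun z => z ^ k).sum := by
  induction s using Multiset.induction_on with
  | empty => simp
  | cons z s ih =>
    simp only [Multiset.map_cons, Multiset.sum_cons, mul_add, sum_add_distrib,
      ← ih fun z hz => hs z (Multiset.mem_cons_of_mem hz), Multiset.count_cons]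
    have hw0 : w ≠ 0 := fun h => by rw [h, zero_pow hp.ne_zero] at hw; exact zero_ne_one hw
    by_cases h : w = z
    · subst h
      simp only [← mul_pow, inv_mul_cancel₀ hw0, one_pow, sum_const, card_range, nsmul_one, if_pos]
      push_cast
      ring
    · have hne : w⁻¹ * z ≠ 1 := fun h' => h (by
        rw [inv_mul_eq_iff_eq_mul₀ hw0, mul_one] at h'; exact h'.symm)
      have hg : ∑ k ∈ range p, (w⁻¹ * z) ^ k = 0 := by
        rw [geom_sum_eq hne, mul_pow, inv_pow, hw, hs z (Multiset.mem_cons_self z s)]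
        simp
      simp only [← mul_pow, hg, if_neg h]
      simp

variable [Fintype G]

/-- The number of classes among the powers of `x` fused to `x`. -/
noncomputable def fuse (p : ℕ) (x : G) : ℕ := by
  classical exact ((X p).filter fun t => IsConj x (x ^ t)).card

theorem card_fused (hp : p.Prime) {x : G} (hx : orderOf x = p) {m : ℕ} (hm : m ∈ X p)
    [DecidablePred fun t : ℕ => IsConj (x ^ m) (x ^ t)] :
    ((X p).filter fun t => IsConj (x ^ m) (x ^ t)).card = fuse p x := by
  classical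
  have hmod : ∀ i : ℕ, x ^ (i % p) = x ^ i := fun i => by
    have := pow_mod_orderOf x i
    rwa [hx] at this
  have hmem : ∀ i, ¬ p ∣ i → i % p ∈ X p := fun i hi =>
    mem_erase.2 ⟨fun h => hi (Nat.dvd_of_mod_eq_zero h), mem_range.2 (Nat.mod_lt _ hp.pos)⟩
  obtain ⟨m', hm'⟩ := exists_pow_eq_self_of_coprime (x := x) (n := m)
    (by rw [hx]; exact (hp.coprime_iff_not_dvd.2 (X_spec hp hm).2).symm)
  have hm'p : ¬ p ∣ m' := fun h => by
    obtain ⟨j, rfl⟩ := h
    rw [pow_mul, ← pow_mul x, mul_comm, pow_mul x, ← hx, pow_orderOf_eq_one, one_pow, one_pow] at hm'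
    rw [← hm', orderOf_one] at hx
    exact hp.ne_one hx.symm
  have hpow : ∀ {a b : G} (k : ℕ), IsConj a b → IsConj (a ^ k) (b ^ k) := fun {a b} k h => by
    obtain ⟨c, hc⟩ := isConj_iff.1 h
    exact isConj_iff.2 ⟨c, by rw [← conj_pow, hc]⟩
  symm
  rw [fuse]
  refine card_bij (fun t _ => t * m % p) (fun t ht => ?_) (fun a ha b hb h => ?_) fun t ht => ?_
  · obtain ⟨htX, htc⟩ := mem_filter.1 ht
    refine mem_filter.2 ⟨hmem _ fun h => ((hp.dvd_mul).1 h).elim (X_spec hp htX).2 (X_spec hp hm).2, ?_⟩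
    rw [hmod, pow_mul]
    exact hpow m htc
  · have h2 : x ^ a = x ^ b := by
      have h' : x ^ (a * m) = x ^ (b * m) := by
        rw [← hmod (a * m), ← hmod (b * m)]; exact congrArg (x ^ ·) h
      calc x ^ a = ((x ^ m) ^ m') ^ a := by rw [hm']
        _ = (x ^ (a * m)) ^ m' := by simp only [← pow_mul]; ring_nf
        _ = (x ^ (b * m)) ^ m' := by rw [h']
        _ = ((x ^ m) ^ m') ^ b := by simp only [← pow_mul]; ring_nf
        _ = x ^ b := by rw [hm']
    exact pow_injOn_Iio_orderOf (by rw [Set.mem_Iio, hx]; exact (X_spec hp (mem_filter.1 ha).1).1)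
      (by rw [Set.mem_Iio, hx]; exact (X_spec hp (mem_filter.1 hb).1).1) h2
  · obtain ⟨htX, htc⟩ := mem_filter.1 ht
    have hnd : ¬ p ∣ t * m' := fun h => ((hp.dvd_mul).1 h).elim (X_spec hp htX).2 hm'p
    refine ⟨t * m' % p, mem_filter.2 ⟨hmem _ hnd, ?_⟩, ?_⟩
    · rw [hmod, pow_mul]
      have := hpow m' htc
      rwa [hm'] at this
    · have h : x ^ (t * m' % p * m % p) = x ^ t := by
        rw [hmod, pow_mul, hmod, ← pow_mul, mul_assoc, mul_comm t, pow_mul, mul_comm m', pow_mul, hm']
      exact pow_injOn_Iio_orderOf (by rw [Set.mem_Iio, hx]; exact Nat.mod_lt _ hp.pos)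
        (by rw [Set.mem_Iio, hx]; exact (X_spec hp htX).1) h

/-- The sum of the values on the nontrivial powers. -/
theorem value_facts [IsSimpleGroup G] (hp : p.Prime) {x : G} (hx : orderOf x = p)
    (χ : Cfsg.IrrCharacter G) :
    ∃ J : ℕ, (∑ m ∈ X p, (χ : G → ℂ) (x ^ m)) =
        (((p : ℤ) - 1) * (Cfsg.charDegree (χ : G → ℂ) : ℤ) - (p : ℤ) * J : ℤ) ∧
      (χ ≠ oneIrr G → fuse p x ≤ J) := by
  classical
  obtain ⟨s, hcard, hroot, hk⟩ := IsCharacter.exists_roots (isCharacter_irr χ) x
  rw [hx] at hroot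
  refine ⟨(s.filter fun z => z ≠ 1).card, ?_, fun hne => ?_⟩
  · have h1 := count_eq_sum hp s hroot (w := 1) (one_pow p)
    simp only [inv_one, one_pow, one_mul, ← hk] at h1
    rw [← add_sum_erase _ _ (mem_range.2 hp.pos), pow_zero] at h1
    have hsplit : s.count 1 + (s.filter fun z => z ≠ 1).card = Multiset.card s := by
      rw [← Multiset.card_replicate (s.count 1) (1 : ℂ), ← Multiset.filter_eq', ← Multiset.card_add,
        Multiset.filter_add_not]
    have hn : (Multiset.card s : ℂ) = (Cfsg.charDegree (χ : G → ℂ) : ℂ) := hcard.trans (irr_one χ).1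
    have hs' : (s.count (1 : ℂ) : ℂ) + ((s.filter fun z => z ≠ 1).card : ℂ) =
        (Cfsg.charDegree (χ : G → ℂ) : ℂ) := by rw [← hn, ← hsplit]; push_cast; ring
    rw [(irr_one χ).1] at h1
    push_cast
    linear_combination (p : ℂ) * hs' - h1
  · obtain ⟨z, hz, hz1⟩ : ∃ z ∈ s, z ≠ 1 := by
      by_contra h
      push Not at h
      refine hne (PairSimple.eq_oneIrr_of_apply χ
        (fun h1 : x = 1 => hp.ne_one (by rw [← hx, h1, orderOf_one])) ?_)
      rw [show x = x ^ 1 from (pow_one x).symm, hk, ← hcard,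
        Multiset.map_congr (g := fun _ => (1 : ℂ)) rfl fun z hz => by rw [h z hz, one_pow]]
      simp
    have hzo : orderOf z = p := by
      haveI := Fact.mk hp
      exact orderOf_eq_prime (hroot z hz) hz1
    rw [fuse]
    refine le_trans ?_ (Multiset.toFinset_card_le _)
    refine card_le_card_of_injOn (fun t => z ^ t) (fun t ht => ?_) fun a ha b hb h => ?_
    · obtain ⟨htX, htc⟩ := mem_filter.1 ht
      rw [mem_coe, Multiset.mem_toFinset, Multiset.mem_filter]
      refine ⟨?_, fun h => (X_spec hp htX).2 (hzo ▸ orderOf_dvd_of_pow_eq_one h)⟩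
      have hw : (z ^ t) ^ p = 1 := by rw [← pow_mul, mul_comm, pow_mul, hroot z hz, one_pow]
      have hroot' : ∀ y ∈ s.map (fun y => y ^ t), y ^ p = 1 := by
        intro y hy
        obtain ⟨u, hu, rfl⟩ := Multiset.mem_map.1 hy
        rw [← pow_mul, mul_comm, pow_mul, hroot u hu, one_pow]
      have hsum : ∀ k, (((s.map fun y => y ^ t)).map fun y => y ^ k).sum = (s.map fun y => y ^ k).sum := by
        intro k
        rw [Multiset.map_map, ← hk, show ((fun y : ℂ => y ^ k) ∘ fun y => y ^ t) = fun y => y ^ (t * k)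
          from funext fun y => (pow_mul y t k).symm, ← hk]
        refine (IsClassFunction.apply_eq_of_isConj (isClassFunction_irr χ) ?_).symm
        obtain ⟨c, hc⟩ := isConj_iff.1 htc
        exact isConj_iff.2 ⟨c, by rw [← conj_pow, hc, ← pow_mul]⟩
      have hc := count_eq_sum hp _ hroot' hw
      simp only [hsum] at hc
      rw [← count_eq_sum hp s hroot hw] at hc
      have hc' : (s.map fun y => y ^ t).count (z ^ t) = s.count (z ^ t) := by
        exact_mod_cast mul_left_cancel₀ (Nat.cast_ne_zero.2 hp.ne_zero : (p : ℂ) ≠ 0) hc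
      rw [← Multiset.count_pos, ← hc', Multiset.count_pos]
      exact Multiset.mem_map_of_mem _ hz
    · exact pow_injOn_Iio_orderOf (by rw [Set.mem_Iio, hzo]; exact (X_spec hp (mem_filter.1 ha).1).1)
        (by rw [Set.mem_Iio, hzo]; exact (X_spec hp (mem_filter.1 hb).1).1) h

/-- The norm of a character on an abelian group is at least its degree. -/
theorem re_norm_ge {H : Type u} [Group H] [Fintype H] (hH : ∀ a b : H, a * b = b * a) {φ : H → ℂ}
    (hφ : Cfsg.IsCharacter H φ) : (φ 1).re ≤ (Cfsg.classInner φ φ).re := by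
  classical
  refine (IsCharacter.induction_irr
    (P := fun φ => Cfsg.IsCharacter H φ ∧ (φ 1).re ≤ (Cfsg.classInner φ φ).re) ?_ ?_ ?_ hφ).2
  · exact ⟨isCharacter_zero, by simp⟩
  · rintro a b ⟨ha, ha'⟩ ⟨hb, hb'⟩
    refine ⟨IsCharacter.add ha hb, ?_⟩
    obtain ⟨m, hm⟩ := IsCharacter.exists_classInner_eq_natCast' ha hb
    obtain ⟨m', hm'⟩ := IsCharacter.exists_classInner_eq_natCast' hb ha
    rw [classInner_add_left, classInner_add_right, classInner_add_right, hm, hm']
    simp only [Pi.add_apply, Complex.add_re, Complex.natCast_re]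
    linarith [Nat.cast_nonneg (α := ℝ) m, Nat.cast_nonneg (α := ℝ) m']
  · intro χ hχ
    refine ⟨IsIrrCharacter.isCharacter hχ, le_of_eq ?_⟩
    rw [IsIrrCharacter.classInner_self hχ, IsIrrCharacter.apply_one_eq_one hχ hH]

end CfsgLib.PairCyclic
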