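import Cfsg.Agent.Kinf.PairCyclicMain

/-!
The contradiction for a simple group with cyclic Sylow `p`-subgroups all whose pairs of elements of order `p`
generate `p`-solvable subgroups.
-/

set_option autoImplicit false
set_option linter.unusedSectionVars false
set_option linter.style.haveILetI false

namespace CfsgLib.PairCyclic

open Finset
open CfsgLib.Block CfsgLib.Block.Chr CfsgLib.Char CfsgLib.SectionCount
open scoped ComplexConjugate

universe u

variable {G : Type u} [Group G] [Fintype G] {p : ℕ} [Fact p.Prime]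

theorem two_le_fuse (P : Sylow p G) (hP : IsCyclic (P : Subgroup G))
    (hn : ¬ Cfsg.HasNormalPComplement p G) {x : G} (hxP : x ∈ (P : Subgroup G)) (hx : orderOf x = p) :
    2 ≤ fuse p x := by
  classical
  have hp := (Fact.out : p.Prime)
  have hx1 : x ≠ 1 := fun h => hp.ne_one (by rw [← hx, h, orderOf_one])
  obtain ⟨m, hm, hmx⟩ := exists_moving P hP hn hxP hx1
  have hy : m * x * m⁻¹ ∈ (P : Subgroup G) := (Subgroup.mem_normalizer_iff.1 hm x).1 hxP
  obtain ⟨i, hi⟩ := mem_powers_iff_mem_zpowers.2 (mem_zpowers_of_orderOf P hP hxP hy hx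
    (by rw [conj_pow, ← hx, pow_orderOf_eq_one]; simp))
  change x ^ i = m * x * m⁻¹ at hi
  have hmod : x ^ (i % p) = x ^ i := by have := pow_mod_orderOf x i; rwa [hx] at this
  have h1 : (1 : ℕ) ∈ X p := mem_erase.2 ⟨one_ne_zero, mem_range.2 hp.one_lt⟩
  have hiX : i % p ∈ X p := by
    refine mem_erase.2 ⟨fun h => hx1 ((conj_eq_one_iff (a := m)).1 ?_), mem_range.2 (Nat.mod_lt _ hp.pos)⟩
    rw [← hi, ← hmod, h, pow_zero]
  rw [fuse]
  refine one_lt_card.2 ⟨1, mem_filter.2 ⟨h1, by rw [pow_one]⟩,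
    i % p, mem_filter.2 ⟨hiX, isConj_iff.2 ⟨m, by rw [hmod, hi]⟩⟩, fun h => hmx ?_⟩
  rw [← hi, ← hmod, ← h, pow_one]

variable [Fintype (Cfsg.IrrCharacter G)] {M : Ideal Cfsg.AlgInt} [M.IsPrime]
  [DecidablePred (· ∈ Cfsg.principalBlock M G)]

/-- The quadratic identity over the powers of `x`. -/
theorem sum_sq_powers (hM : Cfsg.IsPModular p M) (P : Sylow p G) (hP : IsCyclic (P : Subgroup G)) {n : ℕ}
    (hn : Nat.card (P : Subgroup G) = p ^ n) {x : G} (hxP : x ∈ (P : Subgroup G)) (hx : orderOf x = p) :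
    ∑ χ ∈ univ.filter (· ∈ Cfsg.principalBlock M G),
      (∑ m ∈ X p, (χ : G → ℂ) (x ^ m)) * conj (∑ t ∈ X p, (χ : G → ℂ) (x ^ t)) =
      ((p ^ n * (fuse p x * (p - 1)) : ℕ) : ℂ) := by
  classical
  have hp := (Fact.out : p.Prime)
  simp only [map_sum, sum_mul_sum]
  rw [sum_comm]
  have key : ∀ m ∈ X p, (∑ χ ∈ univ.filter (· ∈ Cfsg.principalBlock M G), ∑ t ∈ X p,
      (χ : G → ℂ) (x ^ m) * conj ((χ : G → ℂ) (x ^ t))) = ((p ^ n * fuse p x : ℕ) : ℂ) := by
    intro m hm
    rw [sum_comm]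
    have ho : ∀ t ∈ X p, orderOf (x ^ t) = p ^ 1 := fun t ht => by rw [pow_one, orderOf_pow_X hp hx ht]
    have hne : ∀ t ∈ X p, x ^ t ≠ 1 := fun t ht h => by
      have := ho t ht; rw [h, orderOf_one, pow_one] at this; exact hp.ne_one this.symm
    have hK : ∀ t ∈ X p, (∑ χ ∈ univ.filter (· ∈ Cfsg.principalBlock M G),
        (χ : G → ℂ) (x ^ m) * conj ((χ : G → ℂ) (x ^ t))) =
        if IsConj (x ^ m) (x ^ t) then ((p ^ n : ℕ) : ℂ) else 0 := by
      intro t ht
      have hmi := index_core_eq P hP hn (pow_mem hxP m) (hne m hm)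
      split_ifs with hc
      · rw [← sum_sq_principal hM (ho m hm) hmi]
        refine sum_congr rfl fun χ _ => ?_
        rw [IsClassFunction.apply_eq_of_isConj (isClassFunction_irr χ) hc]
      · exact sum_principal_eq_zero hM (ho m hm) (ho t ht) hmi hc
    rw [sum_congr rfl hK, ← sum_filter, sum_const, card_fused hp hx hm, nsmul_eq_mul, Nat.cast_mul]
    ring
  rw [sum_congr rfl key, sum_const, card_X hp, nsmul_eq_mul, ← Nat.cast_mul]
  congr 1
  ring

/-- The cubic identity over the powers of `x`. -/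
theorem sum_cube_powers (hM : Cfsg.IsPModular p M) (P : Sylow p G) (hP : IsCyclic (P : Subgroup G))
    {n : ℕ} (hn : Nat.card (P : Subgroup G) = p ^ n) {x : G} (hxP : x ∈ (P : Subgroup G))
    (hx : orderOf x = p)
    (hc : ∀ x y : G, orderOf x = p → orderOf y = p →
      Cfsg.IsPSolvable p ↥(Subgroup.closure ({x, y} : Set G))) :
    ∑ χ ∈ univ.filter (· ∈ Cfsg.principalBlock M G),
      conj (∑ t ∈ X p, (χ : G → ℂ) (x ^ t)) * (∑ j ∈ X p, (χ : G → ℂ) (x ^ j)) *
        (∑ m ∈ X p, (χ : G → ℂ) (x ^ m)) / (χ : G → ℂ) 1 =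
      ((p ^ n * fuse p x : ℕ) : ℂ) * (((p : ℂ) - 1) * ((p : ℂ) - 2)) := by
  classical
  have hp := (Fact.out : p.Prime)
  have hx1 : x ≠ 1 := fun h => hp.ne_one (by rw [← hx, h, orderOf_one])
  set A : ℕ → Finset G := fun m => univ.filter (IsConj (x ^ m))
  set L := (univ.filter (IsConj x)).card with hL
  have hLm : ∀ m ∈ X p, (A m).card = L := by
    intro m hm
    rw [hL, card_class, card_class]
    congr 1
    ext c
    rw [Subgroup.mem_centralizer_singleton_iff, Subgroup.mem_centralizer_singleton_iff]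
    refine ⟨fun h => ?_, fun h => ((show Commute c x from h).pow_right m).eq⟩
    obtain ⟨i, hi⟩ := exists_pow_eq_self_of_coprime (x := x) (n := m)
      (by rw [hx]; exact (hp.coprime_iff_not_dvd.2 (X_spec hp hm).2).symm)
    rw [← hi]
    exact ((show Commute c (x ^ m) from h).pow_right i).eq
  -- the count for one first class
  have key : ∀ j ∈ X p, ∑ m ∈ X p, ∑ t ∈ X p,
      (((A j ×ˢ A m).filter fun uw : G × G => uw.1 * uw.2 ∈ section' p (x ^ t)).card : ℂ) =
        (fuse p x : ℂ) * ((p : ℂ) - 2) * ((L : ℂ) * L) := by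
    intro j hj
    have hord : ∀ m ∈ X p, ∀ u ∈ A m, orderOf u = p := fun m hm u hu => by
      obtain ⟨c, hc'⟩ := isConj_iff.1 (mem_filter.1 hu).2
      rw [← hc', ← orderOf_pow_X hp hx hm]
      exact orderOf_injective (MulAut.conj c).toMonoidHom (MulAut.conj c).injective _
    have h1 : ∀ m ∈ X p, ∑ t ∈ X p,
        ((A j ×ˢ A m).filter fun uw : G × G => uw.1 * uw.2 ∈ section' p (x ^ t)).card +
        fuse p x * ((A j ×ˢ A m).filter fun uw : G × G => ¬ p ∣ orderOf (uw.1 * uw.2)).card =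
        fuse p x * (L * L) := by
      intro m hm
      rw [show L * L = (A j).card * (A m).card by rw [hLm j hj, hLm m hm]]
      rw [← card_product, card_eq_sum_ones (A j ×ˢ A m), mul_sum]
      simp only [card_filter]
      rw [sum_comm, mul_sum, ← sum_add_distrib]
      refine sum_congr rfl fun uw huw => ?_
      obtain ⟨hu, hw⟩ := mem_product.1 huw
      rw [← card_filter, card_sections P hP hxP hx hc (hord j hj _ hu) (hord m hm _ hw)]
      split_ifs <;> simp
    have h2 := sum_congr rfl h1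
    rw [sum_add_distrib, ← mul_sum, sum_const, card_X hp, smul_eq_mul,
      sum_regular P hP hx hc hj] at h2
    rw [show (univ.filter (IsConj (x ^ j))).card = L from hLm j hj, ← hL] at h2
    have h3 := congrArg (fun k : ℕ => (k : ℂ)) h2
    push_cast [Nat.cast_sub hp.one_lt.le] at h3
    linear_combination h3
  have hL0 : (L : ℂ) * L ≠ 0 := by
    have h : 0 < L := card_pos.2 ⟨x, mem_filter.2 ⟨mem_univ _, IsConj.refl x⟩⟩
    exact mul_ne_zero (Nat.cast_ne_zero.2 h.ne') (Nat.cast_ne_zero.2 h.ne')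
  refine mul_left_cancel₀ hL0 ?_
  have hterm : ∀ j ∈ X p, ∀ m ∈ X p, ∀ t ∈ X p,
      (((A j ×ˢ A m).filter fun uw : G × G => uw.1 * uw.2 ∈ section' p (x ^ t)).card : ℂ) * (p ^ n : ℕ) =
        (L : ℂ) * L * ∑ χ ∈ univ.filter (· ∈ Cfsg.principalBlock M G),
          conj ((χ : G → ℂ) (x ^ t)) * (χ : G → ℂ) (x ^ j) * (χ : G → ℂ) (x ^ m) / (χ : G → ℂ) 1 := by
    intro j hj m hm t ht
    have hto := orderOf_pow_X hp hx ht
    rw [card_pairs hM (k := 1) (by rw [pow_one, hto]) (index_core_eq P hP hn (pow_mem hxP t)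
      fun h => by rw [h, orderOf_one] at hto; exact hp.ne_one hto.symm) (x ^ j) (x ^ m)]
    rw [hLm j hj, hLm m hm]
  calc (L : ℂ) * L * _ = ∑ j ∈ X p, ∑ m ∈ X p, ∑ t ∈ X p, (L : ℂ) * L *
        ∑ χ ∈ univ.filter (· ∈ Cfsg.principalBlock M G),
          conj ((χ : G → ℂ) (x ^ t)) * (χ : G → ℂ) (x ^ j) * (χ : G → ℂ) (x ^ m) / (χ : G → ℂ) 1 := by
        simp only [map_sum, sum_mul, mul_sum, sum_div]
        rw [sum_comm]
        refine sum_congr rfl fun j _ => ?_
        rw [sum_comm]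
        refine sum_congr rfl fun m _ => ?_
        rw [sum_comm]
        exact sum_congr rfl fun t _ => sum_congr rfl fun χ _ => by ring
    _ = ∑ j ∈ X p, (∑ m ∈ X p, ∑ t ∈ X p,
          (((A j ×ˢ A m).filter fun uw : G × G => uw.1 * uw.2 ∈ section' p (x ^ t)).card : ℂ)) *
            (p ^ n : ℕ) := by
        simp only [sum_mul]
        exact sum_congr rfl fun j hj => sum_congr rfl fun m hm => sum_congr rfl fun t ht =>
          (hterm j hj m hm t ht).symm
    _ = _ := by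
        rw [sum_congr rfl fun j hj => by rw [key j hj], sum_const, card_X hp, nsmul_eq_mul,
          Nat.cast_sub hp.one_lt.le]
        push_cast
        ring

/-- The norm bound on the Sylow subgroup. -/
theorem bessel (hM : Cfsg.IsPModular p M) (P : Sylow p G) (hP : IsCyclic (P : Subgroup G)) {n : ℕ}
    (hn : Nat.card (P : Subgroup G) = p ^ n) {x : G} (hxP : x ∈ (P : Subgroup G)) (hx : orderOf x = p)
    {χ : Cfsg.IrrCharacter G} (hχ : χ ∈ Cfsg.principalBlock M G) :
    ((p ^ n : ℕ) : ℝ) * (Cfsg.charDegree (χ : G → ℂ) : ℝ) ≤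
      (Cfsg.charDegree (χ : G → ℂ) : ℝ) ^ 2 + (fuse p x : ℝ) * ((p ^ n : ℕ) : ℝ) := by
  classical
  haveI := hP
  have hp := (Fact.out : p.Prime)
  have hx1 : x ≠ 1 := fun h => hp.ne_one (by rw [← hx, h, orderOf_one])
  set PF : Finset G := univ.filter fun g => g ∈ (P : Subgroup G) ∧ g ≠ 1
  have hPF : ∀ {g}, g ∈ PF → g ∈ (P : Subgroup G) ∧ g ≠ 1 := fun h => (mem_filter.1 h).2
  set B := univ.filter (· ∈ Cfsg.principalBlock M G)
  let f : Cfsg.IrrCharacter G → ℂ := fun ψ => ∑ u ∈ PF, conj ((χ : G → ℂ) u) * (ψ : G → ℂ) u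
  set S : ℝ := ∑ u ∈ PF, Complex.normSq ((χ : G → ℂ) u) with hS
  have hK : ∀ u ∈ PF, ∀ w ∈ PF, (∑ ψ ∈ B, (ψ : G → ℂ) u * conj ((ψ : G → ℂ) w)) =
      if IsConj u w then ((p ^ n : ℕ) : ℂ) else 0 := by
    intro u hu w hw
    obtain ⟨hu', hu1⟩ := hPF hu
    obtain ⟨hw', hw1⟩ := hPF hw
    obtain ⟨k, hk⟩ := exists_orderOf_eq P hu'
    obtain ⟨l, hl⟩ := exists_orderOf_eq P hw'
    have hui := index_core_eq P hP hn hu' hu1
    split_ifs with hc
    · rw [← sum_sq_principal hM hk hui]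
      refine sum_congr rfl fun ψ _ => ?_
      rw [IsClassFunction.apply_eq_of_isConj (isClassFunction_irr ψ) hc]
    · exact sum_principal_eq_zero hM hk hl hui hc
  have hcl : ∀ u ∈ PF, (PF.filter (IsConj u)).card ≤ fuse p x := by
    intro u hu
    obtain ⟨hu', hu1⟩ := hPF hu
    rw [fuse]
    have hch : ∀ w ∈ PF.filter (IsConj u), ∃ nn ∈ Subgroup.normalizer ((P : Subgroup G) : Set G),
        nn * u * nn⁻¹ = w := fun w hw =>
      exists_normalizer_conj P hP hu' (hPF (mem_filter.1 hw).1).1 (mem_filter.1 hw).2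
    choose N hN hNu using hch
    have hpow : ∀ w (hw : w ∈ PF.filter (IsConj u)), ∃ t ∈ (X p).filter (fun t => IsConj x (x ^ t)),
        x ^ t = N w hw * x * (N w hw)⁻¹ := by
      intro w hw
      have hy : N w hw * x * (N w hw)⁻¹ ∈ (P : Subgroup G) :=
        (Subgroup.mem_normalizer_iff.1 (hN w hw) x).1 hxP
      obtain ⟨i, hi⟩ := mem_powers_iff_mem_zpowers.2 (mem_zpowers_of_orderOf P hP hxP hy hx
        (by rw [conj_pow, ← hx, pow_orderOf_eq_one]; simp))
      change x ^ i = _ at hi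
      have hmod : x ^ (i % p) = x ^ i := by have := pow_mod_orderOf x i; rwa [hx] at this
      refine ⟨i % p, mem_filter.2 ⟨mem_erase.2 ⟨fun h => ?_, mem_range.2 (Nat.mod_lt _ hp.pos)⟩,
        isConj_iff.2 ⟨N w hw, by rw [hmod, hi]⟩⟩, by rw [hmod, hi]⟩
      refine hx1 ((conj_eq_one_iff (a := N w hw)).1 ?_)
      rw [← hi, ← hmod, h, pow_zero]
    choose T hT hTx using hpow
    refine card_le_card_of_injOn (fun w => if hw : w ∈ PF.filter (IsConj u) then T w hw else 0)
      (fun w hw => by rw [mem_coe] at hw; simp only [dif_pos hw]; exact hT w hw) fun a ha b hb h => ?_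
    rw [mem_coe] at ha hb
    simp only [dif_pos ha, dif_pos hb] at h
    have h' : N a ha * x * (N a ha)⁻¹ = N b hb * x * (N b hb)⁻¹ := by rw [← hTx, ← hTx, h]
    have hm : (N b hb)⁻¹ * N a ha * x = x * ((N b hb)⁻¹ * N a ha) := by
      calc (N b hb)⁻¹ * N a ha * x = (N b hb)⁻¹ * (N a ha * x * (N a ha)⁻¹) * N a ha := by group
        _ = x * ((N b hb)⁻¹ * N a ha) := by rw [h']; group
    have hcu := commute_of_normalizer P hP hxP hx1 (mul_mem (inv_mem (hN b hb)) (hN a ha)) hm hu'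
    rw [← hNu a ha, ← hNu b hb]
    calc N a ha * u * (N a ha)⁻¹ = N b hb * ((N b hb)⁻¹ * N a ha * u) * (N a ha)⁻¹ := by group
      _ = N b hb * u * (N b hb)⁻¹ := by rw [hcu]; group
  have htot : ∑ ψ ∈ B, Complex.normSq (f ψ) ≤ ((p ^ n : ℕ) : ℝ) * fuse p x * S := by
    have h : ((∑ ψ ∈ B, Complex.normSq (f ψ) : ℝ) : ℂ) =
        ((∑ u ∈ PF, ((PF.filter (IsConj u)).card : ℝ) * ((p ^ n : ℕ) : ℝ) *
          Complex.normSq ((χ : G → ℂ) u) : ℝ) : ℂ) := by
      push_cast
      simp only [← Complex.mul_conj, f, map_sum, map_mul, Complex.conj_conj, sum_mul_sum]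
      rw [sum_comm]
      refine sum_congr rfl fun u hu => ?_
      rw [sum_comm]
      rw [sum_congr rfl fun w hw => show (∑ ψ ∈ B, conj ((χ : G → ℂ) u) * (ψ : G → ℂ) u *
          ((χ : G → ℂ) w * conj ((ψ : G → ℂ) w))) =
          conj ((χ : G → ℂ) u) * (χ : G → ℂ) w * ∑ ψ ∈ B, (ψ : G → ℂ) u * conj ((ψ : G → ℂ) w) by
        rw [mul_sum]; exact sum_congr rfl fun ψ _ => by ring]
      rw [sum_congr rfl fun w hw => by rw [hK u hu w hw, mul_ite, mul_zero], ← sum_filter,
        sum_congr rfl fun w hw => by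
          rw [← IsClassFunction.apply_eq_of_isConj (isClassFunction_irr χ) (mem_filter.1 hw).2],
        sum_const, nsmul_eq_mul]
      push_cast
      ring
    rw [Complex.ofReal_inj] at h
    rw [h, hS, mul_sum]
    refine sum_le_sum fun u hu => ?_
    rw [mul_comm ((p ^ n : ℕ) : ℝ) (fuse p x : ℝ)]
    exact mul_le_mul_of_nonneg_right (mul_le_mul_of_nonneg_right (Nat.cast_le.2 (hcl u hu))
      (Nat.cast_nonneg _)) (Complex.normSq_nonneg _)
  have hfχ : f χ = (S : ℂ) := by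
    simp only [f, hS, Complex.ofReal_sum, ← Complex.normSq_eq_conj_mul_self]
  have hSle : S ≤ ((p ^ n : ℕ) : ℝ) * fuse p x := by
    have h := (single_le_sum (f := fun ψ => Complex.normSq (f ψ)) (fun ψ _ => Complex.normSq_nonneg _)
      (mem_filter.2 ⟨mem_univ _, hχ⟩ : χ ∈ B)).trans htot
    simp only [hfχ, Complex.normSq_ofReal] at h
    rcases (show (0 : ℝ) ≤ S from sum_nonneg fun u _ => Complex.normSq_nonneg _).eq_or_lt
      with h0 | h0
    · rw [← h0]; positivity
    · exact le_of_mul_le_mul_right h h0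
  -- the lower bound
  haveI : Fintype (P : Subgroup G) := Fintype.ofFinite _
  have hlow := re_norm_ge (fun a b => (inferInstance : IsMulCommutative (P : Subgroup G)).is_comm.comm a b)
    (IsCharacter.restrict (isCharacter_irr χ) (P : Subgroup G))
  simp only [Cfsg.classInner, OneMemClass.coe_one, (irr_one χ).1, Complex.natCast_re, hn] at hlow
  have hsum : ∑ u : (P : Subgroup G), (χ : G → ℂ) u * conj ((χ : G → ℂ) u) =
      (((Cfsg.charDegree (χ : G → ℂ) : ℝ) ^ 2 + S : ℝ) : ℂ) := by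
    rw [← add_sum_erase _ _ (mem_univ (1 : (P : Subgroup G))), OneMemClass.coe_one, (irr_one χ).1,
      Complex.conj_natCast, hS]
    push_cast
    congr 1
    · ring
    · refine sum_nbij' (fun u => (u : G)) (fun g => if h : g ∈ (P : Subgroup G) then ⟨g, h⟩ else 1)
        (fun u hu => mem_filter.2 ⟨mem_univ _, u.2, fun h => (mem_erase.1 hu).1 (Subtype.ext h)⟩)
        (fun g hg => mem_erase.2 ⟨?_, mem_univ _⟩) (fun u _ => by simp [u.2])
        (fun g hg => by simp [(hPF hg).1]) fun u _ => Complex.mul_conj _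
      simp only [dif_pos (hPF hg).1]
      exact fun h => (hPF hg).2 (congrArg Subtype.val h)
  have hcast : ((Fintype.card (P : Subgroup G) : ℕ) : ℝ) = ((p ^ n : ℕ) : ℝ) := by
    rw [← hn, Nat.card_eq_fintype_card]
  rw [hsum, Complex.mul_re, show (((p ^ n : ℕ) : ℂ))⁻¹ = ((((p ^ n : ℕ) : ℝ)⁻¹ : ℝ) : ℂ) by push_cast; rfl,
    Complex.ofReal_re, Complex.ofReal_im, Complex.ofReal_im, zero_mul, sub_zero, Complex.ofReal_re] at hlow
  have hq : (0 : ℝ) < ((p ^ n : ℕ) : ℝ) := by exact_mod_cast pow_pos hp.pos n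
  rw [le_inv_mul_iff₀ hq] at hlow
  nlinarith

omit [Fintype (Cfsg.IrrCharacter G)] [M.IsPrime] [DecidablePred (· ∈ Cfsg.principalBlock M G)] in
theorem false_of_pairs [IsSimpleGroup G] (P : Sylow p G) (hP : IsCyclic (P : Subgroup G))
    (hP1 : (P : Subgroup G) ≠ ⊥) (hnc : ¬ Cfsg.HasNormalPComplement p G)
    (hc : ∀ x y : G, orderOf x = p → orderOf y = p →
      Cfsg.IsPSolvable p ↥(Subgroup.closure ({x, y} : Set G))) : False := by
  classical
  haveI := hP
  have hp := (Fact.out : p.Prime)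
  obtain ⟨M, hM⟩ := exists_isPModular hp
  haveI := hM.2.1.isPrime
  letI := irrFintype (G := G)
  haveI : Fintype (P : Subgroup G) := Fintype.ofFinite _
  obtain ⟨n, hn⟩ := IsPGroup.iff_card.1 P.2
  have hn0 : n ≠ 0 := fun h => hP1 (Subgroup.card_eq_one.1 (by rw [hn, h, pow_zero]))
  obtain ⟨x', hx'⟩ := exists_prime_orderOf_dvd_card (G := (P : Subgroup G)) p
    (by rw [← Nat.card_eq_fintype_card, hn]; exact dvd_pow_self p hn0)
  set x := (x' : G)
  have hxP : x ∈ (P : Subgroup G) := x'.2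
  have hx : orderOf x = p := by rw [Subgroup.orderOf_coe]; exact hx'
  have he2 := two_le_fuse P hP hnc hxP hx
  have hep : fuse p x ≤ p - 1 := by
    rw [← card_X hp, fuse]; exact card_filter_le _ _
  have hp3 : 3 ≤ p := by omega
  choose J hJ hJe using fun χ : Cfsg.IrrCharacter G => value_facts (p := p) hp hx χ
  let W : Cfsg.IrrCharacter G → ℤ := fun χ =>
    ((p : ℤ) - 1) * (Cfsg.charDegree (χ : G → ℂ) : ℤ) - (p : ℤ) * J χ
  have hW : ∀ χ : Cfsg.IrrCharacter G, (∑ m ∈ X p, (χ : G → ℂ) (x ^ m)) = (W χ : ℂ) := hJ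
  set B := univ.filter (· ∈ Cfsg.principalBlock M G)
  have h1B : oneIrr G ∈ B := mem_filter.2 ⟨mem_univ _, oneIrr_mem_principalBlock⟩
  have hd1 : Cfsg.charDegree (oneIrr G : G → ℂ) = 1 := by
    have := (irr_one (oneIrr G)).1
    rw [oneIrr_apply] at this
    exact_mod_cast this.symm
  have hW1 : (W (oneIrr G) : ℝ) = (p : ℝ) - 1 := by
    have h := hW (oneIrr G)
    simp only [oneIrr_apply, sum_const, card_X hp, nsmul_one, Nat.cast_sub hp.one_lt.le, Nat.cast_one] at h
    have h' : ((p : ℤ) - 1 : ℤ) = W (oneIrr G) := by exact_mod_cast h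
    rw [← h']; push_cast; ring
  have hsqC := sum_sq_powers hM P hP hn hxP hx
  simp only [hW, map_intCast] at hsqC
  have hsq : ∑ χ ∈ B, (W χ : ℝ) ^ 2 = ((p ^ n : ℕ) : ℝ) * (fuse p x : ℝ) * ((p : ℝ) - 1) := by
    have h : (∑ χ ∈ B, W χ * W χ) = ((p ^ n * (fuse p x * (p - 1)) : ℕ) : ℤ) := by exact_mod_cast hsqC
    have h' := congrArg (fun z : ℤ => (z : ℝ)) h
    push_cast [Nat.cast_sub hp.one_lt.le] at h'
    rw [sum_congr rfl fun χ _ => pow_two (W χ : ℝ), h']
    push_cast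
    ring
  have hcubeC := sum_cube_powers hM P hP hn hxP hx hc
  simp only [hW, map_intCast, fun χ : Cfsg.IrrCharacter G => (irr_one χ).1] at hcubeC
  have hcube : ∑ χ ∈ B, (W χ : ℝ) ^ 3 / (Cfsg.charDegree (χ : G → ℂ) : ℝ) =
      ((p ^ n : ℕ) : ℝ) * (fuse p x : ℝ) * ((p : ℝ) - 1) * ((p : ℝ) - 2) := by
    have h : ((∑ χ ∈ B, (W χ : ℝ) * W χ * W χ / (Cfsg.charDegree (χ : G → ℂ) : ℝ) : ℝ) : ℂ) =
        ((((p ^ n * fuse p x : ℕ) : ℝ) * (((p : ℝ) - 1) * ((p : ℝ) - 2)) : ℝ) : ℂ) := by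
      push_cast
      push_cast at hcubeC
      exact hcubeC
    rw [Complex.ofReal_inj] at h
    rw [sum_congr rfl fun χ _ => show (W χ : ℝ) ^ 3 / (Cfsg.charDegree (χ : G → ℂ) : ℝ) =
      (W χ : ℝ) * W χ * W χ / (Cfsg.charDegree (χ : G → ℂ) : ℝ) by ring, h]
    push_cast
    ring
  have hdpos : ∀ χ ∈ B, (0 : ℝ) < (Cfsg.charDegree (χ : G → ℂ) : ℝ) := fun χ _ => by
    exact_mod_cast (irr_one χ).2
  have he2' : (2 : ℝ) ≤ fuse p x := by exact_mod_cast he2
  have hqp : p ≤ p ^ n := Nat.le_self_pow hn0 p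
  have hWdef : ∀ χ : Cfsg.IrrCharacter G, (W χ : ℝ) =
      ((p : ℝ) - 1) * (Cfsg.charDegree (χ : G → ℂ) : ℝ) - (p : ℝ) * (J χ : ℝ) := fun χ => by
    simp [W]
  rcases (by omega : p = 3 ∨ 4 ≤ p) with h3 | h4
  · -- `p = 3`
    subst h3
    have he : fuse 3 x = 2 := by omega
    rcases (by omega : n = 1 ∨ 2 ≤ n) with rfl | hn2
    · have hall : ∀ t ∈ X 3, IsConj x (x ^ t) := by
        intro t ht
        have hf : (X 3).filter (fun t => IsConj x (x ^ t)) = X 3 :=
          eq_of_subset_of_card_le (filter_subset _ _) (by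
            rw [card_X hp]; exact le_of_eq (by rw [fuse] at he; rw [he]))
        exact (mem_filter.1 (hf.ge ht)).2
      have hel : ∀ a ∈ (P : Subgroup G), a ^ 3 = 1 := fun a ha => by
        have h := pow_card_eq_one' (x := (⟨a, ha⟩ : (P : Subgroup G)))
        rw [hn, pow_one] at h
        exact congrArg Subtype.val h
      have hconj : ∀ a ∈ (P : Subgroup G), a ≠ 1 → IsConj x a := fun a ha ha1 => by
        obtain ⟨t, ht, htc⟩ := exists_isConj_pow P hP hxP hx
          (orderOf_eq_prime (hel a ha) ha1)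
        exact (hall t ht).trans htc
      have := PairSimple.eq_two P hP1 ⟨inferInstance, hel⟩
        (fun a ha b hb ha1 hb1 => isConj_iff.1 ((hconj a ha ha1).symm.trans (hconj b hb hb1)))
        (fun a ha hao => hasNormalPComplement_centralizer P hP ha fun h => by
          rw [h, orderOf_one] at hao; omega) hc
      omega
    · have hq9 : 3 ^ n = 9 ∨ 27 ≤ 3 ^ n := by
        rcases (by omega : n = 2 ∨ 3 ≤ n) with rfl | h
        · left; norm_num
        · right; exact le_trans (by norm_num) (Nat.pow_le_pow_right (by norm_num) h)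
      have hq9' : (9 : ℝ) ≤ ((3 ^ n : ℕ) : ℝ) := by
        exact_mod_cast (show 9 ≤ 3 ^ n by omega)
      obtain ⟨χ, hχ, hne, hlarge, hW2⟩ := exists_large (p := ((3 : ℕ) : ℝ)) (r := 1 / 3) B
        (fun χ => (W χ : ℝ)) (fun χ => (Cfsg.charDegree (χ : G → ℂ) : ℝ)) (oneIrr G) h1B hW1
        (by simp [hd1]) hdpos hsq hcube (by rw [he]; push_cast at hq9' ⊢; linarith)
      have hbes := bessel hM P hP hn hxP hx (mem_filter.1 hχ).2
      have hb : ((3 ^ n : ℕ) : ℤ) * (Cfsg.charDegree (χ : G → ℂ) : ℤ) ≤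
          (Cfsg.charDegree (χ : G → ℂ) : ℤ) ^ 2 + (fuse 3 x : ℤ) * ((3 ^ n : ℕ) : ℤ) := by
        exact_mod_cast hbes
      have hl : 2 * (Cfsg.charDegree (χ : G → ℂ) : ℤ) < 3 * W χ := by
        have : (2 : ℝ) * (Cfsg.charDegree (χ : G → ℂ) : ℝ) < 3 * (W χ : ℝ) := by
          push_cast at hlarge; linarith
        exact_mod_cast this
      have hs : W χ ^ 2 + 4 ≤ ((3 ^ n : ℕ) : ℤ) * (fuse 3 x : ℤ) * 2 := by
        have : (W χ : ℝ) ^ 2 + 4 ≤ ((3 ^ n : ℕ) : ℝ) * (fuse 3 x : ℝ) * 2 := by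
          norm_num at hW2 ⊢; linarith
        exact_mod_cast this
      refine false_of_bounds_three he hq9 (Nat.cast_nonneg _)
        (show (fuse 3 x : ℤ) ≤ (J χ : ℤ) by exact_mod_cast hJe χ hne)
        (show W χ = 2 * (Cfsg.charDegree (χ : G → ℂ) : ℤ) - 3 * (J χ : ℤ) by simp only [W]; norm_num)
        hs hb hl ?_
      -- parity
      obtain ⟨r, hr⟩ : ∃ r : ℚ, (r : ℂ) = (χ : G → ℂ) x := by
        refine ⟨(W χ : ℚ) / 2, ?_⟩
        have h := hW χ
        have hX : X 3 = {1, 2} := by decide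
        have h12 : IsConj x (x ^ 2) := by
          have hf : (X 3).filter (fun t => IsConj x (x ^ t)) = X 3 :=
            eq_of_subset_of_card_le (filter_subset _ _) (by
              rw [card_X hp]; exact le_of_eq (by rw [fuse] at he; rw [he]))
          exact (mem_filter.1 (hf.ge (by rw [hX]; simp))).2
        rw [hX, sum_pair (by norm_num), pow_one,
          ← IsClassFunction.apply_eq_of_isConj (isClassFunction_irr χ) h12] at h
        push_cast
        rw [← h]
        ring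
      obtain ⟨d, hd⟩ := IsIntegrallyClosed.isIntegral_iff.1
        ((isIntegral_algebraMap_iff (algebraMap ℚ ℂ).injective).1
          (show IsIntegral ℤ (algebraMap ℚ ℂ r) by
            rw [eq_ratCast, hr]; exact IsCharacter.isIntegral (isCharacter_irr χ) x))
      refine ⟨d, ?_⟩
      have h := hW χ
      have hX : X 3 = {1, 2} := by decide
      have hf : (X 3).filter (fun t => IsConj x (x ^ t)) = X 3 :=
        eq_of_subset_of_card_le (filter_subset _ _) (by
          rw [card_X hp]; exact le_of_eq (by rw [fuse] at he; rw [he]))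
      rw [hX, sum_pair (by norm_num), pow_one, ← IsClassFunction.apply_eq_of_isConj
        (isClassFunction_irr χ) (mem_filter.1 (hf.ge (by rw [hX]; simp : 2 ∈ _))).2, ← hr, ← hd] at h
      have h' : ((W χ : ℤ) : ℂ) = ((2 * d : ℤ) : ℂ) := by
        rw [← h]; simp; ring
      exact_mod_cast h'
  · have hp5 : 5 ≤ p := by
      rcases (by omega : p = 4 ∨ 5 ≤ p) with rfl | h
      · exact absurd hp (by norm_num)
      · exact h
    have hp5' : (5 : ℝ) ≤ p := by exact_mod_cast hp5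
    have hqp' : (p : ℝ) ≤ ((p ^ n : ℕ) : ℝ) := by exact_mod_cast hqp
    have hqe : 2 * (p : ℝ) ≤ ((p ^ n : ℕ) : ℝ) * (fuse p x : ℝ) := by
      nlinarith [mul_le_mul hqp' he2' zero_le_two (Nat.cast_nonneg (α := ℝ) (p ^ n))]
    obtain ⟨χ, hχ, hne, hlarge, hW2⟩ := exists_large (p := (p : ℝ)) (r := 1 / 2) B
      (fun χ => (W χ : ℝ)) (fun χ => (Cfsg.charDegree (χ : G → ℂ) : ℝ)) (oneIrr G) h1B hW1
      (by simp [hd1]) hdpos hsq hcube (by
        have h1 : ((p : ℝ) - 1) ^ 2 < ((p ^ n : ℕ) : ℝ) * (fuse p x : ℝ) * ((p : ℝ) - 3) := by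
          nlinarith [mul_le_mul_of_nonneg_right hqe (show (0 : ℝ) ≤ (p : ℝ) - 3 by linarith)]
        nlinarith [mul_lt_mul_of_pos_left h1 (show (0 : ℝ) < (p : ℝ) - 1 by linarith)])
    have hbes := bessel hM P hP hn hxP hx (mem_filter.1 hχ).2
    exact false_of_bounds (by linarith) he2' (hdpos χ hχ).le (by exact_mod_cast hJe χ hne)
      (hWdef χ) (by nlinarith) (by exact_mod_cast pow_pos hp.pos n) hbes (by linarith)

end CfsgLib.PairCyclic
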