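import Cfsg.Agent.Kinf.PairCyclicChar
import Cfsg.Agent.Kinf.PairCyclicArith

/-!
A simple group with a cyclic Sylow `p`-subgroup and no normal `p`-complement has two elements of order `p`
generating a subgroup which is not `p`-solvable.
-/

set_option autoImplicit false
set_option linter.unusedSectionVars false
set_option linter.style.haveILetI false

namespace CfsgLib.PairCyclic

open Finset
open CfsgLib.Block CfsgLib.Block.Chr CfsgLib.Char CfsgLib.SectionCount
open scoped ComplexConjugate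

universe u

variable {G : Type u} [Group G] [Fintype G] {p : ℕ} [Fact p.Prime]

theorem index_core_eq (P : Sylow p G) (hP : IsCyclic (P : Subgroup G)) {n : ℕ}
    (hn : Nat.card (P : Subgroup G) = p ^ n) {u : G} (hu : u ∈ (P : Subgroup G)) (hu1 : u ≠ 1) :
    (core p u).index = p ^ n := by
  haveI := hP
  obtain ⟨a, h1, h2⟩ := PairSimple.index_core (hasNormalPComplement_centralizer P hP hu hu1) P
    fun v hv => Subgroup.mem_centralizer_singleton_iff.2 (congrArg Subtype.val
      ((inferInstance : IsMulCommutative (P : Subgroup G)).is_comm.comm ⟨v, hv⟩ ⟨u, hu⟩))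
  rw [h1, ← h2, hn]

theorem exists_orderOf_eq (P : Sylow p G) {u : G} (hu : u ∈ (P : Subgroup G)) :
    ∃ k, orderOf u = p ^ k := by
  obtain ⟨k, hk⟩ := IsPGroup.iff_orderOf.1 P.2 ⟨u, hu⟩
  exact ⟨k, by rw [← hk, ← Subgroup.orderOf_coe]⟩

/-- Membership in the section from the `p`-part. -/
theorem mem_section_of_conj (hp : p.Prime) {y u v : G} {n : ℕ} (hidx : (core p y).index = p ^ n)
    (hcomm : u * v = v * u) (hv : ¬ p ∣ orderOf v) (h : IsConj y u) : u * v ∈ section' p y := by
  obtain ⟨c, hc⟩ := isConj_iff.1 h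
  have hw : c⁻¹ * v * c ∈ Subgroup.centralizer ({y} : Set G) := by
    rw [Subgroup.mem_centralizer_singleton_iff]
    calc c⁻¹ * v * c * y = c⁻¹ * (v * (c * y * c⁻¹)) * c := by group
      _ = c⁻¹ * (c * y * c⁻¹ * v) * c := by rw [hc, hcomm]
      _ = y * (c⁻¹ * v * c) := by group
  refine ⟨c, ⟨_, hw⟩, ?_, ?_⟩
  · haveI := CfsgLib.Solvable.pPrimeCore_normal (G := Subgroup.centralizer ({y} : Set G)) p
    rw [← QuotientGroup.eq_one_iff, ← orderOf_eq_one_iff]
    refine Nat.eq_one_of_dvd_coprimes ((hp.coprime_iff_not_dvd.2 hv).pow_left n) ?_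
      ((orderOf_map_dvd (QuotientGroup.mk' (core p y)) _).trans ?_)
    · rw [← hidx, Subgroup.index]; exact orderOf_dvd_natCard _
    · rw [← Subgroup.orderOf_coe]
      show orderOf (c⁻¹ * v * c) ∣ orderOf v
      rw [show c⁻¹ * v * c = (MulAut.conj c⁻¹).toMonoidHom v by simp,
        orderOf_injective _ (MulAut.conj c⁻¹).injective]
  · show c * (y * (c⁻¹ * v * c)) * c⁻¹ = u * v
    rw [← hc]
    group

/-- Each product of two elements of order `p` is regular or lies in `fuse` many sections. -/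
theorem card_sections (P : Sylow p G) (hP : IsCyclic (P : Subgroup G)) {x : G}
    (hxP : x ∈ (P : Subgroup G)) (hx : orderOf x = p)
    (hc : ∀ x y : G, orderOf x = p → orderOf y = p →
      Cfsg.IsPSolvable p ↥(Subgroup.closure ({x, y} : Set G)))
    {u w : G} (hu : orderOf u = p) (hw : orderOf w = p)
    [DecidablePred fun t : ℕ => u * w ∈ section' p (x ^ t)] :
    ((X p).filter fun t => u * w ∈ section' p (x ^ t)).card =
      if p ∣ orderOf (u * w) then fuse p x else 0 := by
  classical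
  have hp := (Fact.out : p.Prime)
  obtain ⟨n, hn⟩ := IsPGroup.iff_card.1 P.2
  split_ifs with hd
  · obtain ⟨a, b, hab, hba, ⟨e, he⟩, hb, ha1⟩ := PairSimple.exists_decomposition hp (u * w)
    have hne : a ≠ 1 := fun h => ha1 h hd
    have hap : a ^ p = 1 := by
      have hreg := PairSolvable.not_dvd_orderOf_pow hu hw (hc u w hu hw)
        (isMulCommutative_of_isPGroup P hP) (g := u * w)
        (mul_mem (Subgroup.subset_closure (by simp)) (Subgroup.subset_closure (by simp)))
      have hcomm : Commute a b := hab.trans hba.symm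
      have hgp : (u * w) ^ p = a ^ p * b ^ p := by rw [← hab, hcomm.mul_pow]
      have hoa : orderOf (a ^ p) ∣ p ^ e := orderOf_dvd_of_pow_eq_one (by
        rw [← pow_mul, mul_comm, pow_mul, he, one_pow])
      have hob : ¬ p ∣ orderOf (b ^ p) := fun h => hb (h.trans (orderOf_pow_dvd p))
      have hco : (orderOf (a ^ p)).Coprime (orderOf (b ^ p)) :=
        Nat.Coprime.coprime_dvd_left hoa ((hp.coprime_iff_not_dvd.2 hob).pow_left e)
      rw [hgp, (hcomm.pow_pow p p).orderOf_mul_eq_mul_orderOf_of_coprime hco] at hreg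
      rw [← orderOf_eq_one_iff]
      obtain ⟨i, -, hi⟩ := (Nat.dvd_prime_pow hp).1 hoa
      rcases Nat.eq_zero_or_pos i with rfl | hi0
      · simpa using hi
      · exact absurd ((hi ▸ dvd_pow_self p hi0.ne').trans (dvd_mul_right _ _)) hreg
    obtain ⟨t₀, ht₀, hct₀⟩ := exists_isConj_pow P hP hxP hx (orderOf_eq_prime hap hne)
    rw [← card_fused hp hx ht₀]
    congr 1
    refine filter_congr fun t ht => ?_
    have hto : orderOf (x ^ t) = p := orderOf_pow_X hp hx ht
    have hti := index_core_eq P hP hn (pow_mem hxP t) (fun h => by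
      rw [h, orderOf_one] at hto; exact hp.ne_one hto.symm)
    constructor
    · intro hmem
      have ht₀' := orderOf_pow_X hp hx ht₀
      have h0i := index_core_eq P hP hn (pow_mem hxP t₀) (fun h => by
        rw [h, orderOf_one] at ht₀'; exact hp.ne_one ht₀'.symm)
      have hmem₀ : u * w ∈ section' p (x ^ t₀) := hab ▸ mem_section_of_conj hp h0i (hab.trans hba.symm) hb hct₀
      exact isConj_of_mem_sections hp (k := 1) (l := 1) (by rw [pow_one, ht₀']) (by rw [pow_one, hto])
        hmem₀ hmem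
    · intro hcj
      exact hab ▸ mem_section_of_conj hp hti (hab.trans hba.symm) hb (hcj.symm.trans hct₀)
  · rw [card_eq_zero, filter_eq_empty_iff]
    exact fun t ht hmem => hd (dvd_orderOf_of_mem_section hp (orderOf_pow_X hp hx ht) hmem)

/-- The number of regular products, summed over the fused classes. -/
theorem sum_regular (P : Sylow p G) (hP : IsCyclic (P : Subgroup G)) {x : G} (hx : orderOf x = p)
    (hc : ∀ x y : G, orderOf x = p → orderOf y = p →
      Cfsg.IsPSolvable p ↥(Subgroup.closure ({x, y} : Set G)))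
    {j : ℕ} (hj : j ∈ X p) [DecidableEq G] [∀ g : G, DecidablePred (IsConj g)] :
    ∑ m ∈ X p, ((univ.filter (IsConj (x ^ j)) ×ˢ univ.filter (IsConj (x ^ m))).filter
      fun uw : G × G => ¬ p ∣ orderOf (uw.1 * uw.2)).card =
      (univ.filter (IsConj (x ^ j))).card * (univ.filter (IsConj x)).card := by
  classical
  have hp := (Fact.out : p.Prime)
  set A := univ.filter (IsConj (x ^ j))
  set B := univ.filter (IsConj x)
  have hord : ∀ {a g : G}, IsConj a g → orderOf g = orderOf a := fun {a g} h => by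
    obtain ⟨c, hc'⟩ := isConj_iff.1 h
    rw [← hc']
    exact orderOf_injective (MulAut.conj c).toMonoidHom (MulAut.conj c).injective a
  have hA : ∀ u ∈ A, orderOf u = p := fun u hu => by
    rw [hord (mem_filter.1 hu).2, orderOf_pow_X hp hx hj]
  have hB : ∀ w ∈ B, orderOf w = p := fun w hw => by rw [hord (mem_filter.1 hw).2, hx]
  have h1 : ∀ m ∈ X p, ((A ×ˢ univ.filter (IsConj (x ^ m))).filter
      fun uw : G × G => ¬ p ∣ orderOf (uw.1 * uw.2)).card =
      ((A ×ˢ B).filter fun uw : G × G => ¬ p ∣ orderOf (uw.1 * uw.2 ^ m)).card := by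
    intro m hm
    symm
    refine card_bij (fun uw _ => (uw.1, uw.2 ^ m)) (fun uw h => ?_) (fun a ha b hb h => ?_) fun uw h => ?_
    · obtain ⟨h', hr⟩ := mem_filter.1 h
      obtain ⟨hu, hw⟩ := mem_product.1 h'
      obtain ⟨c, hc'⟩ := isConj_iff.1 (mem_filter.1 hw).2
      exact mem_filter.2 ⟨mem_product.2 ⟨hu, mem_filter.2 ⟨mem_univ _,
        isConj_iff.2 ⟨c, by rw [← conj_pow, hc']⟩⟩⟩, hr⟩
    · have ha' := (mem_product.1 (mem_filter.1 ha).1).2
      have hb' := (mem_product.1 (mem_filter.1 hb).1).2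
      obtain ⟨h1, h2⟩ := Prod.mk.injEq .. ▸ h
      refine Prod.ext h1 ?_
      obtain ⟨i, hi⟩ := exists_pow_eq_self_of_coprime (x := x) (n := m)
        (by rw [hx]; exact (hp.coprime_iff_not_dvd.2 (X_spec hp hm).2).symm)
      have hmi : m * i ≡ 1 [MOD p] := by
        rw [← hx, ← pow_eq_pow_iff_modEq, pow_mul, hi, pow_one]
      have hinv : ∀ g : G, orderOf g = p → (g ^ m) ^ i = g := fun g hg => by
        rw [← pow_mul]
        conv_rhs => rw [← pow_one g]
        rw [pow_eq_pow_iff_modEq, hg]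
        exact hmi
      rw [← hinv _ (hB _ ha'), ← hinv _ (hB _ hb'), h2]
    · obtain ⟨h', hr⟩ := mem_filter.1 h
      obtain ⟨hu, hz⟩ := mem_product.1 h'
      obtain ⟨c, hc'⟩ := isConj_iff.1 (mem_filter.1 hz).2
      refine ⟨(uw.1, c * x * c⁻¹), mem_filter.2 ⟨mem_product.2 ⟨hu, mem_filter.2 ⟨mem_univ _,
        isConj_iff.2 ⟨c, rfl⟩⟩⟩, ?_⟩, ?_⟩
      · rw [conj_pow, hc']; exact hr
      · show (uw.1, (c * x * c⁻¹) ^ m) = uw
        rw [conj_pow, hc']
  rw [sum_congr rfl h1, ← card_product, card_eq_sum_ones (A ×ˢ B)]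
  simp only [card_filter]
  rw [sum_comm]
  refine sum_congr rfl fun uw huw => ?_
  obtain ⟨hu, hw⟩ := mem_product.1 huw
  rw [← card_filter]
  obtain ⟨m₀, hm₀, hreg⟩ := exists_regular_pow P hP (hA _ hu) (hB _ hw) (hc _ _ (hA _ hu) (hB _ hw))
  refine card_eq_one.2 ⟨m₀, eq_singleton_iff_unique_mem.2 ⟨mem_filter.2 ⟨hm₀, hreg⟩, fun m hm => ?_⟩⟩
  have := PairSolvable.pow_unique (hA _ hu) (hB _ hw) (hc _ _ (hA _ hu) (hB _ hw))
    (isMulCommutative_of_isPGroup P hP) (mem_filter.1 hm).2 hreg
  rwa [Nat.mod_eq_of_lt (X_spec hp (mem_filter.1 hm).1).1, Nat.mod_eq_of_lt (X_spec hp hm₀).1] at this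

end CfsgLib.PairCyclic
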