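import Cfsg.Agent.Kinf.StrongSections
import Cfsg.Agent.ZJ.PStable

/-!
Control of strong fusion by the K-infinity subgroups when all sections are p-stable.
-/

set_option autoImplicit false
set_option linter.unusedSectionVars false
set_option linter.style.haveILetI false

namespace CfsgLib.Kinf

open Subgroup CfsgLib.Functor
open scoped CfsgLib.Functor commutatorElement

universe u

variable {p : ℕ} [Fact p.Prime]

theorem isNormalizerPStable_of_equiv {A B : Type*} [Group A] [Group B] [Finite A] [Finite B]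
    (e : A ≃* B) (h : Cfsg.IsNormalizerPStable p A) : Cfsg.IsNormalizerPStable p B := by
  intro P hP g hg hq
  set P' := P.comap e.toMonoidHom with hP'
  have hPP : P'.map e.toMonoidHom = P := map_comap_eq_self_of_surjective e.surjective P
  have hN : ∀ x : A, x ∈ normalizer (P' : Set A) ↔ e x ∈ normalizer (P : Set B) := by
    intro x
    rw [hP', mem_normalizer_iff, mem_normalizer_iff, e.surjective.forall]
    simp only [mem_comap, MulEquiv.coe_toMonoidHom, map_mul, map_inv]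
  obtain ⟨g', rfl⟩ := e.surjective g
  have hq' : ⁅⁅P', zpowers g'⁆, zpowers g'⁆ = ⊥ := by
    refine (map_eq_bot_iff_of_injective _ (f := e.toMonoidHom) e.injective).1 ?_
    rw [map_commutator, map_commutator, hPP, MonoidHom.map_zpowers]
    exact hq
  have hP'p : IsPGroup p P' := hP.comap_of_injective e.toMonoidHom e.injective
  obtain ⟨D, hD, hgD, hDp⟩ := (CfsgLib.ZJ.pcoreMod_iff _ _).mpr (h P' hP'p g' ((hN g').2 hg) hq')
  let φ : ↥(normalizer (P' : Set A)) →* ↥(normalizer (P : Set B)) :=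
    (e.toMonoidHom.comp (normalizer (P' : Set A)).subtype).codRestrict _ fun x => (hN _).1 x.2
  have hφ : Function.Surjective φ := fun y => by
    obtain ⟨x, hx⟩ := e.surjective (y : B)
    exact ⟨⟨x, (hN x).2 (hx ▸ y.2)⟩, Subtype.ext hx⟩
  refine (CfsgLib.ZJ.pcoreMod_iff _ _).mp ⟨D.map φ, hD.map φ hφ, ⟨_, hgD, rfl⟩, ?_⟩
  rintro _ ⟨x, hx, rfl⟩
  obtain ⟨k, hk⟩ := hDp x hx
  refine ⟨k, ?_⟩
  rw [← map_pow, mem_subgroupOf, mem_centralizer_iff]
  intro y hy
  obtain ⟨z, rfl⟩ := e.surjective y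
  show e z * e _ = e _ * e z
  rw [← map_mul, ← map_mul]
  exact congrArg e (mem_centralizer_iff.1 (mem_subgroupOf.1 hk) z hy)

variable {G : Type u} [Group G] [Finite G]

theorem isNormalizerPStable_of_section
    (hst : ∀ (K R : Subgroup G) [(R.subgroupOf K).Normal],
      Cfsg.IsNormalizerPStable p (↥K ⧸ R.subgroupOf K))
    {Γ : Type u} [Group Γ] [Finite Γ] (h : IsSectionOf G Γ) : Cfsg.IsNormalizerPStable p Γ := by
  obtain ⟨K, R, hn, ⟨e⟩⟩ := h
  exact isNormalizerPStable_of_equiv e (hst K R)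

/-- K-infinity controls strong fusion in every section, when all sections are p-stable. -/
theorem ctl_kInf (W : ∀ (Q : Type u) [Group Q], Subgroup Q) (hW : Cfsg.IsCharPFunctor.{u} p W)
    (hor : ∀ (Γ : Type u) [Group Γ] [Finite Γ] (S : Sylow p Γ),
      ¬ (Cfsg.inducedFunctor (G := Γ) W (S : Subgroup Γ)).Normal →
      ¬ (Cfsg.inducedFunctor (G := Γ) Cfsg.kInfLower (S : Subgroup Γ)).Normal ∨
      ¬ (Cfsg.inducedFunctor (G := Γ) Cfsg.kInfUpper (S : Subgroup Γ)).Normal)
    (hst : ∀ (K R : Subgroup G) [(R.subgroupOf K).Normal],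
      Cfsg.IsNormalizerPStable p (↥K ⧸ R.subgroupOf K))
    (Γ : Type u) [Group Γ] [Finite Γ] (hΓ : IsSectionOf G Γ) : Ctl p {W} Γ := by
  have h𝓦 : ∀ V ∈ ({W} : Set (∀ (Q : Type u) [Group Q], Subgroup Q)), Cfsg.IsCharPFunctor.{u} p V :=
    fun V hV => by rw [Set.mem_singleton_iff] at hV; exact hV ▸ hW
  refine ctl_of_sections h𝓦 (fun K R _ hC => ?_) Γ hΓ
  obtain ⟨S⟩ := (inferInstance : Nonempty (Sylow p (↥K ⧸ R.subgroupOf K)))
  refine ctl_singleton_of_normal S (by_contra fun hn => ?_)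
  obtain ⟨g, -, -, -, -, hq⟩ := exists_quartic S (hor _ S hn)
  obtain ⟨N, hN, hns⟩ := hq hC
  have hsec : IsSectionOf G (↥K ⧸ R.subgroupOf K) := ⟨K, R, inferInstance, ⟨MulEquiv.refl _⟩⟩
  exact hns (isNormalizerPStable_of_section hst (hsec.quotient N))

theorem controlsStrongFusion_kInf (W : ∀ (Q : Type u) [Group Q], Subgroup Q)
    (hW : Cfsg.IsCharPFunctor.{u} p W)
    (hor : ∀ (Γ : Type u) [Group Γ] [Finite Γ] (S : Sylow p Γ),
      ¬ (Cfsg.inducedFunctor (G := Γ) W (S : Subgroup Γ)).Normal →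
      ¬ (Cfsg.inducedFunctor (G := Γ) Cfsg.kInfLower (S : Subgroup Γ)).Normal ∨
      ¬ (Cfsg.inducedFunctor (G := Γ) Cfsg.kInfUpper (S : Subgroup Γ)).Normal)
    (hst : ∀ (K R : Subgroup G) [(R.subgroupOf K).Normal],
      Cfsg.IsNormalizerPStable p (↥K ⧸ R.subgroupOf K)) (S : Sylow p G) :
    Cfsg.ControlsStrongFusion p (Cfsg.inducedFunctor (G := G) W (S : Subgroup G)) :=
  controlsStrongFusion_of_ctl hW (ctl_kInf W hW hor hst G (isSectionOf_self G)) S

end CfsgLib.Kinf
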