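import Cfsg.Agent.ZJ.QdFusion
import Cfsg.Agent.Kinf.StableControl

/-!
No isomorphism-invariant functor controls strong fusion in `Qd(p)`.
-/

set_option autoImplicit false
set_option linter.unusedSectionVars false
set_option linter.style.haveILetI false

namespace CfsgLib.Kinf

open Subgroup CfsgLib.ZJ CfsgLib.Functor
open scoped CfsgLib.Functor

universe u

variable {p : ℕ} [Fact p.Prime]

theorem not_controls_qd_functor {X : Type u} [Group X] [Finite X]
    (e : X ≃* ↥(Cfsg.qd p)) (W : ∀ (Q : Type u) [Group Q], Subgroup Q)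
    (hW : Cfsg.IsCharPFunctor.{u} p W) :
    ∃ T : Sylow p X, ¬ Cfsg.ControlsStrongFusion p
      (Cfsg.inducedFunctor (G := X) W (T : Subgroup X)) := by
  let el : ZMod p → ZMod p → SL2 (ZMod p) → X := fun c d A =>
    e.symm ⟨affMat c d A, affMat_mem_qd c d A⟩
  have hmul : ∀ c d A c' d' A', el c d A * el c' d' A' =
      el (c + (A 0 0 * c' + A 0 1 * d')) (d + (A 1 0 * c' + A 1 1 * d')) (A * A') := by
    intro c d A c' d' A'
    simp only [el, ← map_mul]
    congr 1
    exact Subtype.ext (by rw [Subgroup.coe_mul, affMat_mul])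
  have hel : ∀ {c d A c' d' A'}, el c d A = el c' d' A' → c = c' ∧ d = d' ∧ A = A' :=
    fun h => affMat_inj (congrArg Subtype.val (e.symm.injective h))
  have hdec : ∀ x : X, ∃ c d A, x = el c d A := by
    intro x
    obtain ⟨c, d, A, h⟩ := exists_affMat_of_mem_qd (e x).2
    exact ⟨c, d, A, e.injective (by simp only [el, MulEquiv.apply_symm_apply]; exact Subtype.ext h)⟩
  have h1 : el 0 0 1 = 1 := by
    refine e.injective ?_
    simp only [el, MulEquiv.apply_symm_apply, map_one]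
    exact Subtype.ext affMat_one
  have hum : ∀ c d a c' d' a' : ZMod p, el c d (upper a) * el c' d' (upper a') =
      el (c + c' + a * d') (d + d') (upper (a + a')) := by
    intro c d a c' d' a'
    rw [hmul, upper_mul, upper_00, upper_01, upper_10, upper_11]
    congr 1 <;> ring
  have hu1 : ∀ c d : ZMod p, el c d (upper 0) = el c d 1 := fun c d => by rw [upper_zero]
  -- the Sylow subgroup
  let U : Subgroup X :=
    { carrier := {x | ∃ c d a, x = el c d (upper a)}
      one_mem' := ⟨0, 0, 0, by rw [upper_zero, h1]⟩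
      mul_mem' := by
        rintro _ _ ⟨c, d, a, rfl⟩ ⟨c', d', a', rfl⟩
        exact ⟨_, _, _, hum c d a c' d' a'⟩
      inv_mem' := by
        rintro _ ⟨c, d, a, rfl⟩
        refine ⟨-c + a * d, -d, -a, inv_eq_of_mul_eq_one_left ?_⟩
        rw [hum, neg_add_cancel a, upper_zero, ← h1]
        congr 1 <;> ring }
  have hUp : IsPGroup p U := by
    refine IsPGroup.of_card (n := 3) ?_
    rw [Nat.card_congr (Equiv.ofBijective (fun z : ZMod p × ZMod p × ZMod p =>
      (⟨el z.1 z.2.1 (upper z.2.2), _, _, _, rfl⟩ : U)) ⟨?_, ?_⟩).symm]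
    · simp only [Nat.card_prod, Nat.card_zmod]
      ring
    · rintro ⟨c, d, a⟩ ⟨c', d', a'⟩ h
      obtain ⟨rfl, rfl, hA⟩ := hel (congrArg Subtype.val h)
      have : a = a' := by simpa using congrArg (fun M : SL2 (ZMod p) => M 0 1) hA
      rw [this]
    · rintro ⟨_, c, d, a, rfl⟩
      exact ⟨(c, d, a), rfl⟩
  let P : Subgroup X :=
    { carrier := {x | ∃ c d, x = el c d 1}
      one_mem' := ⟨0, 0, h1.symm⟩
      mul_mem' := by
        rintro _ _ ⟨c, d, rfl⟩ ⟨c', d', rfl⟩
        exact ⟨_, _, by rw [hmul, one_mul]⟩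
      inv_mem' := by
        rintro _ ⟨c, d, rfl⟩
        refine ⟨-c, -d, inv_eq_of_mul_eq_one_left ?_⟩
        rw [hmul, one_mul, ← h1]
        simp }
  have hPconj : ∀ x y : X, y ∈ P → x * y * x⁻¹ ∈ P := by
    rintro x _ ⟨c, d, rfl⟩
    obtain ⟨c', d', A, rfl⟩ := hdec x
    refine ⟨A 0 0 * c + A 0 1 * d, A 1 0 * c + A 1 1 * d, ?_⟩
    rw [mul_inv_eq_iff_eq_mul, hmul, hmul, mul_one, one_mul]
    simp [add_comm]
  haveI hPn : P.Normal := ⟨fun y hy x => hPconj x y hy⟩
  have hPU : P ≤ U := fun x ⟨c, d, h⟩ => ⟨c, d, 0, h.trans (hu1 c d).symm⟩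
  have hPall : ∀ T' : Sylow p X, P ≤ T' := fun T' => by
    obtain ⟨m, -, hm⟩ := (isSylowIn_top T').exists_cj_le (hUp.to_le hPU) le_top
    rwa [mem_normalizer_iff_cj.1 (by rw [normalizer_eq_top (H := P)]; exact mem_top m)] at hm
  obtain ⟨T, hT⟩ := hUp.exists_le_sylow
  have hTU : (T : Subgroup X) = U := by
    refine le_antisymm ?_ hT
    haveI := T.2.isNilpotent
    have hP1 : P.subgroupOf (T : Subgroup X) ≠ ⊥ := by
      intro h
      have hmem : (⟨el 1 0 1, hT (hPU ⟨1, 0, rfl⟩)⟩ : (T : Subgroup X)) ∈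
          P.subgroupOf (T : Subgroup X) := mem_subgroupOf.mpr ⟨1, 0, rfl⟩
      rw [h, mem_bot] at hmem
      exact one_ne_zero (hel ((congrArg Subtype.val hmem).trans h1.symm)).1
    haveI : (P.subgroupOf (T : Subgroup X)).Normal := hPn.subgroupOf _
    obtain ⟨z, hz, hz1⟩ := (bot_or_exists_ne_one _).resolve_left
      (PGroupBasic.inf_center_ne_bot _ hP1)
    obtain ⟨c0, d0, hz0⟩ := mem_subgroupOf.mp hz.1
    intro x hx
    obtain ⟨c, d, A, rfl⟩ := hdec x
    have hcomm : ∀ y ∈ (T : Subgroup X), y * (z : X) = (z : X) * y := fun y hy =>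
      congrArg Subtype.val (mem_center_iff.mp hz.2 ⟨y, hy⟩)
    have hu := hcomm _ (hT ⟨0, 0, 1, rfl⟩)
    rw [hz0, hmul, hmul] at hu
    obtain ⟨hu1', -, -⟩ := hel hu
    have hd0 : d0 = 0 := by simpa using hu1'
    subst hd0
    have hc0 : c0 ≠ 0 := by
      rintro rfl
      exact hz1 (Subtype.ext (hz0.trans h1))
    have hA := hcomm _ hx
    rw [hz0, hmul, hmul] at hA
    obtain ⟨hA1, hA2, -⟩ := hel hA
    simp at hA1 hA2
    have h00 : A 0 0 = 1 := by
      have : (A 0 0 - 1) * c0 = 0 := by linear_combination hA1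
      exact sub_eq_zero.mp ((mul_eq_zero.mp this).resolve_right hc0)
    have h10 : A 1 0 = 0 := hA2.resolve_right hc0
    have h11 : A 1 1 = 1 := by
      have := sl2_det A
      rw [h00, h10] at this
      simpa using this
    exact ⟨c, d, A 0 1, congrArg (el c d) (sl2_ext h00 rfl h10 h11)⟩
  refine ⟨T, fun hctl => ?_⟩
  set V := Cfsg.inducedFunctor (G := X) W (T : Subgroup X) with hV
  have hWc := isConjugacyFunctor_induced (G := X) hW
  have hVT : V ≤ T := functor_le hWc T.2
  have hmemT : ∀ c d a : ZMod p, el c d (upper a) ∈ (T : Subgroup X) := fun c d a =>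
    hTU.ge ⟨c, d, a, rfl⟩
  have hTV : (T : Subgroup X) ≤ normalizer (V : Set X) :=
    le_normalizer.trans (normalizer_le_functor hWc T.2)
  have hV1 : V ≠ ⊥ := functor_ne_bot hWc T.2 fun h => by
    have := hmemT 1 0 0
    rw [h, mem_bot, ← h1] at this
    exact one_ne_zero (hel this).1
  haveI := T.2.isNilpotent
  haveI : (V.subgroupOf (T : Subgroup X)).Normal := normal_subgroupOf_of_le hTV
  obtain ⟨z, hz, hz1⟩ := (bot_or_exists_ne_one _).resolve_left
    (PGroupBasic.inf_center_ne_bot (V.subgroupOf (T : Subgroup X)) (fun h => hV1 (by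
      have := congrArg (Subgroup.map (T : Subgroup X).subtype) h
      rwa [map_subgroupOf_eq_of_le hVT, Subgroup.map_bot] at this)))
  have hcomm : ∀ y ∈ (T : Subgroup X), y * (z : X) = (z : X) * y := fun y hy =>
    congrArg Subtype.val (mem_center_iff.mp hz.2 ⟨y, hy⟩)
  obtain ⟨c0, d0, a0, hz0⟩ := hTU.le z.2
  have ha0 : a0 = 0 := by
    have h := hcomm _ (hmemT 0 1 0)
    rw [hz0, hum, hum] at h
    simpa using (hel h).1
  have hd0 : d0 = 0 := by
    have h := hcomm _ (hmemT 0 0 1)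
    rw [hz0, hum, hum] at h
    simpa using (hel h).1
  subst ha0; subst hd0
  rw [hu1] at hz0
  have hc0 : c0 ≠ 0 := by
    rintro rfl
    exact hz1 (Subtype.ext (hz0.trans h1))
  have hpowP : ∀ (c d : ZMod p) (j : ℕ), el c d 1 ^ j = el (j * c) (j * d) 1 := by
    intro c d j
    induction j with
    | zero => simp [h1]
    | succ j ih => rw [pow_succ, ih, hmul, one_mul]; congr 1 <;> simp <;> ring
  have hline : ∀ c : ZMod p, el c 0 1 ∈ V := fun c => by
    have := pow_mem (mem_subgroupOf.mp hz.1) (c / c0).val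
    rwa [hz0, hpowP, ZMod.natCast_zmod_val, div_mul_cancel₀ _ hc0, mul_zero] at this
  -- an element fusing the line with another one
  obtain ⟨M, hM00, hM01, hM10, hM11⟩ : ∃ M : SL2 (ZMod p),
      M 0 0 = 0 ∧ M 0 1 = -1 ∧ M 1 0 = 1 ∧ M 1 1 = 0 :=
    ⟨⟨!![0, -1; 1, 0], by simp [Matrix.det_fin_two]⟩, rfl, rfl, rfl, rfl⟩
  have hconj : el 0 0 M * el 1 0 1 * (el 0 0 M)⁻¹ = el 0 1 1 := by
    rw [mul_inv_eq_iff_eq_mul, hmul, hmul, mul_one, one_mul, hM00, hM01, hM10, hM11]
    simp
  obtain ⟨T', hVT', hT'⟩ := hctl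
  obtain ⟨-, hf⟩ := hT' ({el 1 0 1} : Set X) (Set.singleton_subset_iff.mpr (hPall T' ⟨1, 0, rfl⟩))
  obtain ⟨n, hn, hne⟩ := hf (el 0 0 M) (by
    rw [Set.image_singleton, Set.singleton_subset_iff, hconj]
    exact hPall T' ⟨0, 1, rfl⟩)
  have hnx : n * el 1 0 1 * n⁻¹ = el 0 1 1 := by rw [← hconj]; exact (hne _ rfl).symm
  have hy : el 0 1 1 ∈ V := hnx ▸ (mem_normalizer_iff.mp hn _).mp (hline 1)
  have hPV : ∀ c d : ZMod p, el c d 1 ∈ V := fun c d => by
    have h2 := mul_mem (hline c) (pow_mem hy d.val)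
    rwa [hpowP, hmul, one_mul, ZMod.natCast_zmod_val, mul_zero, mul_one,
      show c + ((1 : SL2 (ZMod p)) 0 0 * 0 + (1 : SL2 (ZMod p)) 0 1 * d) = c by simp,
      show (0 : ZMod p) + ((1 : SL2 (ZMod p)) 1 0 * 0 + (1 : SL2 (ZMod p)) 1 1 * d) = d by simp] at h2
  -- the automorphism of `T` interchanging the two elementary abelian subgroups
  choose cf df af hcf using fun x : (T : Subgroup X) => hTU.le x.2
  let θ : (T : Subgroup X) →* (T : Subgroup X) := MonoidHom.mk'
    (fun x => ⟨el (-cf x + af x * df x) (af x) (upper (df x)), hmemT _ _ _⟩) fun x y => by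
      have h := (hcf (x * y)).symm
      rw [Subgroup.coe_mul, hcf x, hcf y, hum] at h
      obtain ⟨hc, hd, ha⟩ := hel h
      have ha' : af (x * y) = af x + af y := by
        simpa using congrArg (fun M : SL2 (ZMod p) => M 0 1) ha
      refine Subtype.ext ?_
      rw [Subgroup.coe_mul, hum, hc, hd, ha']
      congr 1
      ring
  have hθi : Function.Injective θ := fun x y h => by
    obtain ⟨hc, ha, hd⟩ := hel (congrArg Subtype.val h)
    have hd' : df x = df y := by simpa using congrArg (fun M : SL2 (ZMod p) => M 0 1) hd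
    rw [ha, hd', add_left_inj, neg_inj] at hc
    exact Subtype.ext (by rw [hcf x, hcf y, hc, hd', ha])
  have hθinv := hW.2 _ _ T.2 (MulEquiv.ofBijective θ (Finite.injective_iff_bijective.mp hθi))
  have hupper : el 0 0 (upper 1) ∈ V := by
    obtain ⟨y, hy', hye⟩ := hy
    have h2 : θ y ∈ W (T : Subgroup X) := hθinv.le ⟨y, hy', rfl⟩
    refine ⟨θ y, h2, ?_⟩
    have h3 := (hcf y).symm.trans hye
    rw [← hu1] at h3
    obtain ⟨hc, hd, ha⟩ := hel h3
    have ha' : af y = 0 := by simpa using congrArg (fun M : SL2 (ZMod p) => M 0 1) ha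
    show el (-cf y + af y * df y) (af y) (upper (df y)) = el 0 0 (upper 1)
    rw [hc, hd, ha', zero_mul, neg_zero, add_zero]
  have hpowU : ∀ j : ℕ, el 0 0 (upper 1) ^ j = el 0 0 (upper (j : ZMod p)) := by
    intro j
    induction j with
    | zero => rw [pow_zero, Nat.cast_zero, upper_zero, h1]
    | succ j ih => rw [pow_succ, ih, hum]; simp
  have hVeq : V = (T : Subgroup X) := by
    refine le_antisymm hVT fun x hx => ?_
    obtain ⟨c, d, a, rfl⟩ := hTU.le hx
    have h2 := mul_mem (hPV c d) (pow_mem hupper a.val)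
    rwa [hpowU, ZMod.natCast_zmod_val, ← hu1, hum, zero_add, mul_zero, add_zero, add_zero,
      add_zero] at h2
  rw [hVeq] at hn
  have hc2 : el 0 1 1 * el 0 0 (upper 1) = el 0 0 (upper 1) * el 0 1 1 := by
    have hmem := (mem_normalizer_iff.mp (inv_mem hn) _).mp (hmemT 0 0 1)
    rw [inv_inv] at hmem
    obtain ⟨c, d, a, ha⟩ := hTU.le hmem
    have h2 : el 1 0 1 * (n⁻¹ * el 0 0 (upper 1) * n) = n⁻¹ * el 0 0 (upper 1) * n * el 1 0 1 := by
      rw [ha, ← hu1, hum, hum]
      congr 1 <;> ring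
    rw [← hnx]
    calc n * el 1 0 1 * n⁻¹ * el 0 0 (upper 1)
        = n * (el 1 0 1 * (n⁻¹ * el 0 0 (upper 1) * n)) * n⁻¹ := by group
      _ = n * (n⁻¹ * el 0 0 (upper 1) * n * el 1 0 1) * n⁻¹ := by rw [h2]
      _ = _ := by group
  rw [← hu1, hum, hum] at hc2
  exact one_ne_zero (α := ZMod p) (by simpa using (hel hc2).1)

end CfsgLib.Kinf
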