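import Cfsg.Agent.FGSA.BaerTrick
import Cfsg.Agent.FGSB.OrderPFix
import Cfsg.Agent.LocalB.CharP
import Cfsg.Agent.ZJ.Constrained
import Cfsg.Agent.Blocks.PSolvablePrincipal
import Cfsg.Agent.Solvable.Fitting

/-!
In `p`-solvable groups, the `p'`-subgroups invariant under a subgroup of order `p²` which carries the
elements of order `p` of a Sylow subgroup of the centralizer of one of its elements lie in the `p'`-core.
-/

set_option autoImplicit false
set_option linter.style.haveILetI false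

namespace CfsgLib.RankTwoSig

open Subgroup
open scoped commutatorElement

universe u

variable {G : Type u} [Group G] [Finite G] {p : ℕ} [Fact p.Prime]

/-- The reduced case. -/
theorem invariant_eq_bot (hp : p ≠ 2) (hC : centralizer (Cfsg.pCore p G : Set G) ≤ Cfsg.pCore p G)
    (B : Subgroup G) {b : G} (hbB : b ∈ B) (hb : orderOf b = p)
    (h1 : ∀ x ∈ Cfsg.pCore p G, x ^ p = 1 → x * b = b * x → x ∈ B)
    (Q : Subgroup G) (hQ : (Nat.card Q).Coprime p) (hinv : ∀ c ∈ B, ∀ x ∈ Q, c * x * c⁻¹ ∈ Q) :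
    Q = ⊥ := by
  classical
  set R := Cfsg.pCore p G with hR
  haveI hRn : R.Normal := Solvable.pCore_normal p
  have hRp : IsPGroup p R := Solvable.isPGroup_pCore p
  have hnormR : ∀ g : G, g ∈ normalizer (R : Set G) := fun g => le_normalizer_of_normal (mem_top g)
  have hRQ : ∀ x, x ∈ R → x ∈ Q → x = 1 := by
    intro x hxR hxQ
    obtain ⟨k, hk⟩ := hRp ⟨x, hxR⟩
    exact orderOf_eq_one_iff.1 (Nat.eq_one_of_dvd_coprimes (hQ.pow_right k) (Q.orderOf_dvd_natCard hxQ)
      (orderOf_dvd_of_pow_eq_one (congrArg Subtype.val hk)))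
  have hordQ : ∀ q ∈ Q, (orderOf q).Coprime p := fun q hq =>
    hQ.coprime_dvd_left (Q.orderOf_dvd_natCard hq)
  have hBR : ∀ c ∈ B, c ∈ R → ∀ q ∈ Q, Commute q c := by
    intro c hcB hcR q hq
    have hc : c * q * c⁻¹ * q⁻¹ = 1 := hRQ _ (by
      rw [show c * q * c⁻¹ * q⁻¹ = c * (q * c⁻¹ * q⁻¹) by group]
      exact mul_mem hcR (hRn.conj_mem _ (inv_mem hcR) q)) (mul_mem (hinv c hcB q hq) (inv_mem hq))
    exact (mul_inv_eq_iff_eq_mul.1 (mul_inv_eq_one.1 hc)).symm
  -- the chosen element fixes nothing in `Q`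
  have hfpf : ∀ q ∈ Q, q * b = b * q → q = 1 := by
    intro q hq hqb
    set W := R ⊓ centralizer ({b} : Set G) with hW
    have hqW : q ∈ normalizer (W : Set G) := by
      refine mem_normalizer_fintype fun x hx => ⟨hRn.conj_mem x hx.1 q, ?_⟩
      refine mem_centralizer_singleton_iff.2 ?_
      have hcx := mem_centralizer_singleton_iff.1 hx.2
      have hqi : Commute q⁻¹ b := (show Commute q b from hqb).inv_left
      exact (((show Commute q b from hqb).mul_left hcx).mul_left hqi).eq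
    have hfixW := CfsgLib.OrderPFix.commute_of_commute_small (hRp.to_le inf_le_left : IsPGroup p W)
      (hordQ q hq) hqW (fun t ht hts => by
        rcases hts with h | ⟨h, -⟩
        · exact hBR t (h1 t ht.1 (by rw [← h, pow_orderOf_eq_one])
            (mem_centralizer_singleton_iff.1 ht.2)) ht.1 q hq
        · exact absurd h hp)
    have hcen := CfsgLib.LocalB.commute_of_pxq (P := zpowers b) (R := R)
      (IsPGroup.of_card (n := 1) (by rw [Nat.card_zpowers, hb, pow_one])) hRp
      (fun x _ => hnormR x) (hordQ q hq) (hnormR q)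
      (fun π hπ => by
        obtain ⟨i, rfl⟩ := mem_zpowers_iff.1 hπ
        exact (show Commute b q from hqb.symm).zpow_left i)
      (fun r hr hπ => hfixW r ⟨hr, mem_centralizer_singleton_iff.2 (hπ b (mem_zpowers b)).symm⟩)
    exact hRQ q (hC (mem_centralizer_iff.2 fun r hr => (hcen r hr).symm.eq)) hq
  -- the subgroup of elements of order `p` of a critical subgroup
  obtain ⟨C, hCR, hCinv, hCcl, hCpow, hCcrit⟩ := CfsgLib.OrderPFix.exists_critical_subgroup (p := p) hRp
  let D : Subgroup G :=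
    { carrier := {x | x ∈ C ∧ x ^ p = 1}
      one_mem' := ⟨C.one_mem, one_pow p⟩
      mul_mem' := fun {x y} hx hy => ⟨C.mul_mem hx.1 hy.1, by
        have h := CfsgLib.OrderPFix.small_pow_mul (p := p) hCcl hCpow ⟨x, hx.1⟩ ⟨y, hy.1⟩
        rw [CfsgLib.OrderPFix.small, if_neg hp] at h
        have h' := congrArg Subtype.val h
        simp only [SubmonoidClass.coe_pow, Subgroup.coe_mul] at h'
        rw [h', hx.2, hy.2, one_mul]⟩
      inv_mem' := fun {x} hx => ⟨C.inv_mem hx.1, by rw [inv_pow, hx.2, inv_one]⟩ }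
  have hDconj : ∀ g : G, ∀ x ∈ D, g * x * g⁻¹ ∈ D := fun g x hx =>
    ⟨hCinv g (hnormR g) x hx.1, by rw [conj_pow, hx.2, mul_one, mul_inv_cancel]⟩
  have hclD : BaerTrick.ClassTwo D := by
    intro x y z
    have h : ⁅(⟨x, x.2.1⟩ : C), ⟨y, y.2.1⟩⁆ ∈ center C :=
      hCcl (commutator_mem_commutator (mem_top _) (mem_top _))
    exact Subtype.ext (congrArg (fun w : C => (w : G)) (mem_center_iff.1 h ⟨z, z.2.1⟩)).symm
  have hodd : Odd p := (Fact.out : p.Prime).odd_of_ne_two hp
  have hexp : ∀ x : D, x ^ p = 1 := fun x => Subtype.ext (by simpa using x.2.2)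
  letI : CommGroup (BaerTrick.Twist D) :=
    BaerTrick.twistGroup hclD ((p + 1) / 2) (BaerTrick.half hodd hexp)
  let c0 : G → D →* D := fun g => ((MulAut.conj g).toMonoidHom.comp D.subtype).codRestrict D
    fun x => hDconj g x x.2
  let cw : G → (BaerTrick.Twist D →* BaerTrick.Twist D) := fun g =>
    MonoidHom.mk' (fun w => ⟨c0 g w.val⟩) fun v w => by
      apply BaerTrick.Twist.ext
      show c0 g (v.val * w.val * BaerTrick.corr _ w.val v.val) =
        c0 g v.val * c0 g w.val * BaerTrick.corr _ (c0 g w.val) (c0 g v.val)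
      rw [map_mul, map_mul, BaerTrick.corr, BaerTrick.corr, map_pow, map_commutatorElement]
  have hcw_mul : ∀ g h w, cw (g * h) w = cw g (cw h w) := by
    intro g h w
    refine BaerTrick.Twist.ext (Subtype.ext ?_)
    show g * h * (w.val : G) * (g * h)⁻¹ = g * (h * (w.val : G) * h⁻¹) * g⁻¹
    group
  have hcw_one : ∀ w, cw 1 w = w := by
    intro w
    refine BaerTrick.Twist.ext (Subtype.ext ?_)
    show 1 * (w.val : G) * 1⁻¹ = w.val
    group
  -- fixed points of `Q`
  let F : Subgroup (BaerTrick.Twist D) :=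
    { carrier := {w | ∀ q ∈ Q, cw q w = w}
      one_mem' := fun q _ => map_one _
      mul_mem' := fun {v w} hv hw q hq => by rw [map_mul, hv q hq, hw q hq]
      inv_mem' := fun {v} hv q hq => by rw [map_inv, hv q hq] }
  have hFconj : ∀ q ∈ Q, ∀ w ∈ F, cw q w ∈ F := fun q hq w hw => by rw [hw q hq]; exact hw
  have hnorm : ∀ w, (∏ i ∈ Finset.range p, cw (b ^ i) w) ∈ F := by
    intro w q hq
    set ν := ∏ i ∈ Finset.range p, cw (b ^ i) w with hν
    have hfix : cw b ν = ν := by
      have hper : cw (b ^ p) w = cw (b ^ 0) w := by rw [← hb, pow_orderOf_eq_one, pow_zero]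
      rw [hν, map_prod]
      have hs : ∀ i, cw b (cw (b ^ i) w) = cw (b ^ (i + 1)) w := fun i => by
        rw [← hcw_mul, ← pow_succ']
      simp only [hs]
      have h1 := Finset.prod_range_succ' (fun i => cw (b ^ i) w) p
      rw [Finset.prod_range_succ, hper] at h1
      exact (mul_right_cancel h1).symm
    have hfix' : b * (ν.val : G) * b⁻¹ = ν.val := congrArg (fun w : BaerTrick.Twist D => (w.val : G)) hfix
    have hνR : (ν.val : G) ∈ R := hCR ν.val.2.1
    have hνB := h1 _ hνR ν.val.2.2 (mul_inv_eq_iff_eq_mul.1 hfix').symm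
    refine BaerTrick.Twist.ext (Subtype.ext ?_)
    show q * (ν.val : G) * q⁻¹ = ν.val
    rw [(hBR _ hνB hνR q hq).eq, mul_inv_cancel_right]
  -- `Q` acts trivially
  haveI : Fintype Q := Fintype.ofFinite Q
  have hDp : IsPGroup p D := fun x => ⟨1, by rw [pow_one]; exact hexp x⟩
  have hWp : ∀ w : BaerTrick.Twist D, w ^ p = 1 := by
    intro w
    have hpow : ∀ n : ℕ, (w ^ n).val = w.val ^ n := by
      intro n
      induction n with
      | zero => rw [pow_zero, pow_zero]; rfl
      | succ n ih =>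
        rw [pow_succ, pow_succ]
        show (w ^ n).val * w.val * BaerTrick.corr _ w.val (w ^ n).val = _
        rw [ih, BaerTrick.corr_of_commute _ ((Commute.refl _).pow_right n), mul_one]
    exact BaerTrick.Twist.ext (by rw [hpow, hexp]; rfl)
  have hfixD : ∀ q0 ∈ Q, ∀ d ∈ D, Commute q0 d := by
    intro q0 hq0 d hd
    let v : BaerTrick.Twist D := ⟨⟨d, hd⟩⟩
    set w := cw q0 v * v⁻¹ with hw
    have hT : ∀ g : G, (∀ q ∈ Q, g * q * g⁻¹ ∈ Q) → ∏ u : Q, cw (u : G) (cw g w) = 1 := by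
      intro g hg
      have hq' : g * q0 * g⁻¹ ∈ Q := hg q0 hq0
      have e : cw g w = cw (g * q0 * g⁻¹) (cw g v) * (cw g v)⁻¹ := by
        rw [hw, map_mul, map_inv, ← hcw_mul, ← hcw_mul, inv_mul_cancel_right]
      rw [e]
      simp only [map_mul, map_inv, Finset.prod_mul_distrib, Finset.prod_inv_distrib]
      rw [mul_inv_eq_one]
      refine (Equiv.prod_comp (Equiv.mulRight (⟨_, hq'⟩ : Q)) (fun u : Q => cw (u : G) (cw g v))).symm.trans ?_ |>.symm
      refine Finset.prod_congr rfl fun u _ => ?_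
      show cw ((u : G) * (g * q0 * g⁻¹)) _ = _
      rw [hcw_mul]
    have hbQ : ∀ i : ℕ, ∀ q ∈ Q, b ^ i * q * (b ^ i)⁻¹ ∈ Q := fun i q hq => hinv _ (pow_mem hbB i) q hq
    have hkey : ∀ i, 0 < i → i < p → ∏ u : Q, cw ((u : G) * b ^ i * (u : G)⁻¹) w = 1 := by
      intro i hi hip
      let e : Q → Q := fun u => ⟨(u : G) * b ^ i * (u : G)⁻¹ * (b ^ i)⁻¹, by
        rw [show (u : G) * b ^ i * (u : G)⁻¹ * (b ^ i)⁻¹ =
          (u : G) * (b ^ i * (u : G)⁻¹ * (b ^ i)⁻¹) by group]
        exact mul_mem u.2 (hbQ i _ (inv_mem u.2))⟩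
      have he : Function.Bijective e := by
        refine Finite.injective_iff_bijective.1 fun u u' h => ?_
        have h' : (u : G) * b ^ i * (u : G)⁻¹ = (u' : G) * b ^ i * (u' : G)⁻¹ :=
          mul_right_cancel (congrArg Subtype.val h)
        have hcomm : Commute ((u' : G)⁻¹ * u) (b ^ i) := by
          show (u' : G)⁻¹ * u * b ^ i = b ^ i * ((u' : G)⁻¹ * u)
          calc (u' : G)⁻¹ * u * b ^ i = (u' : G)⁻¹ * ((u : G) * b ^ i * (u : G)⁻¹) * u := by group
            _ = b ^ i * ((u' : G)⁻¹ * u) := by rw [h']; group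
        have hbz : b ∈ zpowers (b ^ i) := by
          have hco : (orderOf b).Coprime i := by
            rw [hb]
            exact (Fact.out : p.Prime).coprime_iff_not_dvd.2 fun h => absurd (Nat.le_of_dvd hi h) (by omega)
          obtain ⟨j, hj⟩ := exists_pow_eq_self_of_coprime hco.symm
          exact mem_zpowers_iff.2 ⟨j, by rw [zpow_natCast, hj]⟩
        obtain ⟨j, hj⟩ := mem_zpowers_iff.1 hbz
        have hcb := (hcomm.zpow_right j).eq
        rw [hj] at hcb
        exact Subtype.ext ((inv_mul_eq_one.1 (hfpf _ (mul_mem (inv_mem u'.2) u.2) hcb)).symm)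
      calc ∏ u : Q, cw ((u : G) * b ^ i * (u : G)⁻¹) w = ∏ u : Q, cw ((e u : G)) (cw (b ^ i) w) := by
            refine Finset.prod_congr rfl fun u _ => ?_
            rw [← hcw_mul]
            show _ = cw ((u : G) * b ^ i * (u : G)⁻¹ * (b ^ i)⁻¹ * b ^ i) w
            rw [inv_mul_cancel_right]
        _ = ∏ u : Q, cw (u : G) (cw (b ^ i) w) :=
            (Equiv.ofBijective e he).prod_comp (fun u : Q => cw (u : G) (cw (b ^ i) w))
        _ = 1 := hT _ (hbQ i)
    have hmem : w ^ Nat.card Q ∈ F := by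
      have hprod : w ^ Nat.card Q = ∏ u : Q, ∏ i ∈ Finset.range p, cw ((u : G) * b ^ i * (u : G)⁻¹) w := by
        rw [Finset.prod_comm, Finset.prod_eq_single 0]
        · simp [hcw_one, Nat.card_eq_fintype_card]
        · intro i hi hi0
          exact hkey i (Nat.pos_of_ne_zero hi0) (Finset.mem_range.1 hi)
        · intro h
          exact absurd (Finset.mem_range.2 (Fact.out : p.Prime).pos) h
      rw [hprod]
      refine prod_mem fun u _ => ?_
      have : ∏ i ∈ Finset.range p, cw ((u : G) * b ^ i * (u : G)⁻¹) w =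
          cw (u : G) (∏ i ∈ Finset.range p, cw (b ^ i) (cw (u : G)⁻¹ w)) := by
        rw [map_prod]
        exact Finset.prod_congr rfl fun i _ => by rw [hcw_mul, hcw_mul]
      rw [this]
      exact hFconj _ u.2 _ (hnorm _)
    have hwF : w ∈ F := by
      obtain ⟨j, hj⟩ := exists_pow_eq_self_of_coprime
        (show (Nat.card Q).Coprime (orderOf w) from hQ.coprime_dvd_right (orderOf_dvd_of_pow_eq_one (hWp w)))
      rw [← hj]
      exact pow_mem hmem j
    have hstep : ∀ j : ℕ, cw (q0 ^ j) v = w ^ j * v := by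
      intro j
      induction j with
      | zero => rw [pow_zero, pow_zero, hcw_one, one_mul]
      | succ j ih =>
        rw [pow_succ', hcw_mul, ih, map_mul, map_pow, hwF q0 hq0, pow_succ, mul_assoc, hw,
          inv_mul_cancel_right]
    have hw1 : w = 1 := by
      have h := hstep (orderOf q0)
      rw [pow_orderOf_eq_one, hcw_one] at h
      exact orderOf_eq_one_iff.1 (Nat.eq_one_of_dvd_coprimes (hordQ q0 hq0)
        (orderOf_dvd_of_pow_eq_one (right_eq_mul.1 h)) (orderOf_dvd_of_pow_eq_one (hWp w)))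
    have hv := congrArg (fun w : BaerTrick.Twist D => (w.val : G)) (mul_inv_eq_one.1 (hw.symm.trans hw1))
    exact mul_inv_eq_iff_eq_mul.1 (show q0 * d * q0⁻¹ = d from hv)
  rw [eq_bot_iff]
  intro q hq
  have hcomC := CfsgLib.OrderPFix.commute_of_class_two (hRp.to_le hCR) hCcl hCpow (hordQ q hq)
    (hCinv q (hnormR q)) (fun t ht hts => by
      rcases hts with h | ⟨h, -⟩
      · exact hfixD q hq t ⟨ht, by rw [← h, pow_orderOf_eq_one]⟩
      · exact absurd h hp)
  have hall := hCcrit q (hnormR q) (hordQ q hq) hcomC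
  exact mem_bot.2 (hRQ q (hC (mem_centralizer_iff.2 fun r hr => (hall r hr).symm.eq)) hq)

/-- **Invariant subgroups of order prime to `p` under the rank two subgroup lie in the core.** -/
theorem le_pPrimeCore (hp : p ≠ 2) (hG : Cfsg.IsPSolvable p G) (B : Subgroup G)
    (hB : Cfsg.IsElementaryAbelian p B) (b₀ : G) (hb₀ : b₀ ∈ B) (hb₁ : b₀ ≠ 1)
    (P : Sylow p ↥(centralizer ({b₀} : Set G)))
    (hBP : B = Subgroup.closure {x : G | x ∈ ((P : Subgroup ↥(centralizer ({b₀} : Set G))).map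
      (centralizer ({b₀} : Set G)).subtype : Subgroup G) ∧ orderOf x = p})
    (Q : Subgroup G) (hQ : ¬ p ∣ Nat.card Q) (hinv : ∀ b ∈ B, ∀ x ∈ Q, b * x * b⁻¹ ∈ Q) :
    Q ≤ Cfsg.pPrimeCore p G := by
  classical
  set O := Cfsg.pPrimeCore p G with hO
  set π := QuotientGroup.mk' O with hπ
  have hOcop : (Nat.card O).Coprime p := Solvable.coprime_card_pPrimeCore p
  have hbp : orderOf b₀ = p := orderOf_eq_prime (hB.2 b₀ hb₀) hb₁
  haveI : Fintype G := Fintype.ofFinite G
  have hself : centralizer (Cfsg.pCore p (G ⧸ O) : Set (G ⧸ O)) ≤ Cfsg.pCore p (G ⧸ O) :=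
    CfsgLib.Block.selfCent_quotient_of_pSolvable hG
  have hzp : IsPGroup p (zpowers b₀) := IsPGroup.of_card (n := 1) (by rw [Nat.card_zpowers, hbp, pow_one])
  have hπb : orderOf (π b₀) = p := by
    refine orderOf_eq_prime (by rw [← map_pow, hB.2 b₀ hb₀, map_one]) fun h => hb₁ ?_
    have : b₀ ∈ (⊥ : Subgroup G) :=
      CfsgLib.ZJ.isPGroup_inf_coprime hzp hOcop ▸ ⟨mem_zpowers b₀, (QuotientGroup.eq_one_iff _).1 h⟩
    exact mem_bot.1 this
  have h1 : ∀ x ∈ Cfsg.pCore p (G ⧸ O), x ^ p = 1 → x * π b₀ = π b₀ * x → x ∈ B.map π := by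
    intro x hx hxp hxb
    obtain ⟨g, rfl⟩ := QuotientGroup.mk'_surjective O x
    obtain ⟨n, hn, hng⟩ := CfsgLib.ZJ.exists_mul_mem_centralizer (N := O) hzp hOcop (g := g) (by
      intro y hy
      obtain ⟨i, rfl⟩ := mem_zpowers_iff.1 hy
      refine (QuotientGroup.eq_one_iff _).1 ?_
      show π (g * b₀ ^ i * g⁻¹ * (b₀ ^ i)⁻¹) = 1
      rw [map_mul, map_mul, map_mul, map_inv, map_inv, map_zpow,
        ((show Commute (π g) (π b₀) from hxb).zpow_right i).eq, mul_inv_cancel_right, mul_inv_cancel])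
    have hngC : n * g ∈ centralizer ({b₀} : Set G) :=
      mem_centralizer_singleton_iff.2 (mem_centralizer_iff.1 hng b₀ (mem_zpowers b₀)).symm
    set f := π.comp (centralizer ({b₀} : Set G)).subtype with hf
    have hπng : π (n * g) = π g := by
      rw [map_mul, (QuotientGroup.eq_one_iff n).2 hn |> (fun h => (h : π n = 1)), one_mul]
    set N := (Cfsg.pCore p (G ⧸ O)).subgroupOf f.range with hN
    haveI : (Cfsg.pCore p (G ⧸ O)).Normal := Solvable.pCore_normal p
    have hNle := (Solvable.le_pCore (p := p) (N := N) inferInstance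
      ((Solvable.isPGroup_pCore p).comap_subtype)).trans
      (Fitting.pCore_le_sylow (P.mapSurjective f.rangeRestrict_surjective))
    obtain ⟨s, hs, hse⟩ := hNle (show (⟨π g, ⟨⟨n * g, hngC⟩, hπng⟩⟩ : f.range) ∈ N from
      mem_subgroupOf.2 hx)
    have hse' : π (s : G) = π g := congrArg Subtype.val hse
    have hsp : (s : G) ^ p = 1 := by
      obtain ⟨k, hk⟩ := P.isPGroup' ⟨s, hs⟩
      have hk' : (s : G) ^ p ^ k = 1 :=
        congrArg (fun z : (P : Subgroup (centralizer ({b₀} : Set G))) => ((z : centralizer ({b₀} : Set G)) : G)) hk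
      have hmemO : (s : G) ^ p ∈ O := (QuotientGroup.eq_one_iff _).1
        (show π ((s : G) ^ p) = 1 by rw [map_pow, hse', hxp])
      exact orderOf_eq_one_iff.1 (Nat.eq_one_of_dvd_coprimes (hOcop.pow_right k)
        (O.orderOf_dvd_natCard hmemO)
        (orderOf_dvd_of_pow_eq_one (by rw [← pow_mul, mul_comm, pow_mul, hk', one_pow])))
    refine ⟨(s : G), ?_, hse'⟩
    by_cases hs1 : (s : G) = 1
    · rw [hs1]; exact B.one_mem
    · rw [hBP]
      exact Subgroup.subset_closure ⟨⟨s, hs, rfl⟩, orderOf_eq_prime hsp hs1⟩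
  have hQc : (Nat.card Q).Coprime p := ((Fact.out : p.Prime).coprime_iff_not_dvd.2 hQ).symm
  have hbot := invariant_eq_bot hp hself (B.map π) (b := π b₀) ⟨b₀, hb₀, rfl⟩ hπb h1 (Q.map π)
    (hQc.coprime_dvd_left (Subgroup.card_map_dvd Q π))
    (by
      rintro _ ⟨c, hc, rfl⟩ _ ⟨x, hx, rfl⟩
      exact ⟨c * x * c⁻¹, hinv c hc x hx, by rw [map_mul, map_mul, map_inv]⟩)
  intro x hx
  exact (QuotientGroup.eq_one_iff x).1 (mem_bot.1 (hbot ▸ mem_map_of_mem π hx))

end CfsgLib.RankTwoSig
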