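import Cfsg.Agent.FGSB.OrderPFix
import Cfsg.Agent.Transfer.Frobenius
import Cfsg.Agent.Functor.Sylow

/-!
Normal p-complements from the fusion of the elements of order p, and 4 when p is 2.
-/

set_option autoImplicit false
set_option linter.style.haveILetI false

namespace CfsgLib.Kinf

open Subgroup CfsgLib.Functor CfsgLib.OrderPFix
open scoped CfsgLib.Functor

universe u

variable {G : Type u} [Group G] [Finite G] {p : ℕ} [Fact p.Prime]

theorem pow_small_cases {a : G} (h : a ^ small p = 1) : a ^ p = 1 ∨ (p = 2 ∧ a ^ 4 = 1) := by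
  unfold small at h
  split_ifs at h with h2
  · exact Or.inr ⟨h2, h⟩
  · exact Or.inl h

/-- A normal p-complement exists as soon as the p'-elements normalizing a p-group of exponent dividing
`p` (or 4) centralize it. -/
theorem hasNormalPComplement_of_small
    (h : ∀ R : Subgroup G, IsPGroup p R → (∀ r ∈ R, r ^ small p = 1) →
      ∀ g ∈ normalizer (R : Set G), (orderOf g).Coprime p → ∀ r ∈ R, g * r = r * g) :
    Cfsg.HasNormalPComplement p G := by
  refine Fusion.hasNormalPComplement_of_localCondition fun Q hQ g hg hg' => ?_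
  obtain ⟨C, hCQ, hinv, hH, hpow, hcrit⟩ := exists_critical_subgroup (p := p) hQ
  have hwC := hinv g hg
  let R : Subgroup G :=
    { carrier := {x | x ∈ C ∧ x ^ small p = 1}
      one_mem' := ⟨C.one_mem, one_pow _⟩
      mul_mem' := fun {x y} hx hy => ⟨C.mul_mem hx.1 hy.1, by
        have h1 := congrArg Subtype.val (small_pow_mul (p := p) hH hpow ⟨x, hx.1⟩ ⟨y, hy.1⟩)
        simp only [SubgroupClass.coe_pow, Subgroup.coe_mul] at h1
        rw [h1, hx.2, hy.2, one_mul]⟩
      inv_mem' := fun {x} hx => ⟨C.inv_mem hx.1, by rw [inv_pow, hx.2, inv_one]⟩ }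
  have hRp : IsPGroup p R := (hQ.to_le hCQ).to_le fun x hx => hx.1
  have hgR : g ∈ normalizer (R : Set G) := mem_normalizer_iff_cj.2 (eq_of_le_of_card_le'
    (cj_le_iff.2 fun x hx => ⟨hwC x hx.1, by rw [conj_pow, hx.2, mul_one, mul_inv_cancel]⟩) (card_cj _ _).ge)
  have hfixR := h R hRp (fun x hx => hx.2) g hgR hg'
  refine mem_centralizer_iff.2 fun t ht => ((hcrit g hg hg' (commute_of_class_two (hQ.to_le hCQ) hH hpow hg' hwC
    fun t htC hts => hfixR t ⟨htC, ?_⟩)) t ht).eq.symm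
  rcases hts with h1 | ⟨h2, h1⟩
  · obtain ⟨m, hm⟩ := dvd_small (p := p)
    rw [hm, pow_mul, ← h1, pow_orderOf_eq_one, one_pow]
  · unfold small
    rw [if_pos h2, ← h1, pow_orderOf_eq_one]

/-- An element of order prime to `p` acting trivially on the sections cut out by an increasing family on a
p-group it normalizes centralizes it. -/
theorem commute_of_series {R : Subgroup G} (hR : IsPGroup p R) {g : G} (hg : (orderOf g).Coprime p)
    (hgR : g ∈ normalizer (R : Set G)) (Z : ℕ → Set G) (h0 : ∀ x ∈ Z 0, x = 1)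
    (hcov : ∀ x ∈ R, ∃ i, x ∈ Z i) (hstep : ∀ i, ∀ x ∈ R, x ∈ Z (i + 1) → g * x * g⁻¹ * x⁻¹ ∈ Z i) :
    ∀ r ∈ R, g * r = r * g := by
  suffices H : ∀ i, ∀ x ∈ R, x ∈ Z i → g * x * g⁻¹ = x from fun r hr => by
    obtain ⟨i, hi⟩ := hcov r hr
    exact mul_inv_eq_iff_eq_mul.1 (H i r hr hi)
  intro i
  induction i with
  | zero => intro x _ hx; rw [h0 x hx]; group
  | succ i ih =>
    intro x hxR hx
    set z := g * x * g⁻¹ * x⁻¹ with hzdef
    have hzR : z ∈ R := R.mul_mem ((mem_normalizer_iff.1 hgR x).1 hxR) (R.inv_mem hxR)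
    have hz : g * z * g⁻¹ = z := ih z hzR (hstep i x hxR hx)
    have hgx : g * x * g⁻¹ = z * x := by rw [hzdef, inv_mul_cancel_right]
    have key : ∀ j : ℕ, g ^ j * x * (g ^ j)⁻¹ = z ^ j * x := by
      intro j
      induction j with
      | zero => simp
      | succ j ihj =>
        calc g ^ (j + 1) * x * (g ^ (j + 1))⁻¹ = g * (g ^ j * x * (g ^ j)⁻¹) * g⁻¹ := by
              rw [pow_succ']; group
          _ = (g * z * g⁻¹) ^ j * (g * x * g⁻¹) := by rw [ihj, conj_pow]; group
          _ = z ^ (j + 1) * x := by rw [hz, pow_succ, mul_assoc (z ^ j), ← hgx]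
    have h1 := key (orderOf g)
    rw [pow_orderOf_eq_one, one_mul, inv_one, mul_one] at h1
    obtain ⟨k, hk⟩ := hR ⟨z, hzR⟩
    have hz1 : z = 1 := orderOf_eq_one_iff.1 (Nat.eq_one_of_dvd_coprimes (hg.pow_right k)
      (orderOf_dvd_of_pow_eq_one (right_eq_mul.1 h1)) (orderOf_dvd_of_pow_eq_one (congrArg Subtype.val hk)))
    rw [hgx, hz1, one_mul]

theorem npc_of_upperCentral (n : ℕ)
    (h : ∀ a : G, (a ^ p = 1 ∨ (p = 2 ∧ a ^ 4 = 1)) → a ∈ Subgroup.upperCentralSeries G n) :
    Cfsg.HasNormalPComplement p G := by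
  refine hasNormalPComplement_of_small fun R hR hsm g hgN hg => ?_
  refine commute_of_series hR hg hgN (fun i => (Subgroup.upperCentralSeries G i : Set G)) (fun x hx => ?_)
    (fun x hx => ⟨n, h x (pow_small_cases (hsm x hx))⟩) fun i x _ hx => ?_
  · simpa using hx
  · have h1 := Subgroup.mem_upperCentralSeries_succ_iff.1 hx g
    rw [commutatorElement_def] at h1
    have h2 := (Subgroup.upperCentralSeries G i).inv_mem h1
    rwa [show (x * g * x⁻¹ * g⁻¹)⁻¹ = g * x * g⁻¹ * x⁻¹ by group] at h2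

theorem npc_iff_fusion_small (P : Sylow p G) :
    Cfsg.HasNormalPComplement p G ↔
      ∀ a ∈ (P : Subgroup G), (a ^ p = 1 ∨ (p = 2 ∧ a ^ 4 = 1)) → ∀ g : G, g * a * g⁻¹ ∈ (P : Subgroup G) →
        ∃ x ∈ (P : Subgroup G), g * a * g⁻¹ = x * a * x⁻¹ := by
  constructor
  · intro h a ha _ g hg
    obtain ⟨y, hy, he⟩ := Fusion.fusion_of_localCondition (Fusion.localCondition_of_hasNormalPComplement h) P
      (a := a) (g := g⁻¹) ha (by rw [inv_inv]; exact hg)
    exact ⟨y⁻¹, (P : Subgroup G).inv_mem hy, by rw [inv_inv] at he; rw [inv_inv, he]⟩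
  · intro h
    refine hasNormalPComplement_of_small fun R hR hsm g hgN hg => ?_
    obtain ⟨c, -, hc⟩ := (isSylowIn_top P).exists_cj_le hR le_top
    set R' := c ⋆ R with hR'
    set g' := c * g * c⁻¹ with hg'def
    have hg'N : g' ∈ normalizer (R' : Set G) := by
      rw [hR', ← cj_normalizer]; exact conj_mem_cj hgN
    have hg' : (orderOf g').Coprime p := by
      rw [hg'def, ← MulAut.conj_apply, MulEquiv.orderOf_eq]; exact hg
    have hsm' : ∀ r ∈ R', r ^ small p = 1 := by
      rintro _ ⟨r, hr, rfl⟩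
      rw [← map_pow, hsm r hr, map_one]
    haveI : Group.IsNilpotent (P : Subgroup G) := P.2.isNilpotent
    obtain ⟨n, hn⟩ := Group.IsNilpotent.nilpotent (G := (P : Subgroup G))
    have key : ∀ r ∈ R', g' * r = r * g' := by
      refine commute_of_series (isPGroup_cj c hR) hg' hg'N
        (fun i => Subtype.val '' (Subgroup.upperCentralSeries (P : Subgroup G) i : Set (P : Subgroup G)))
        (fun x hx => ?_) (fun x hx => ⟨n, ⟨x, hc hx⟩, by simp [hn], rfl⟩) fun i x hxR hx => ?_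
      · obtain ⟨y, hy, rfl⟩ := hx
        simpa using hy
      · obtain ⟨y, hy, rfl⟩ := hx
        obtain ⟨t, ht, he⟩ := h y y.2 (pow_small_cases (hsm' y hxR)) g'
          (hc ((mem_normalizer_iff.1 hg'N _).1 hxR))
        rw [he]
        refine ⟨(⟨t, ht⟩ : (P : Subgroup G)) * y * ⟨t, ht⟩⁻¹ * y⁻¹, ?_, rfl⟩
        have h1 := Subgroup.mem_upperCentralSeries_succ_iff.1 hy ⟨t, ht⟩
        rw [commutatorElement_def] at h1
        have h2 := (Subgroup.upperCentralSeries (P : Subgroup G) i).inv_mem h1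
        rwa [show (y * (⟨t, ht⟩ : (P : Subgroup G)) * y⁻¹ * (⟨t, ht⟩)⁻¹)⁻¹ =
          (⟨t, ht⟩ : (P : Subgroup G)) * y * ⟨t, ht⟩⁻¹ * y⁻¹ by group] at h2
    intro r hr
    have h1 := key _ (conj_mem_cj hr)
    have h2 := congrArg (fun z => c⁻¹ * z * c) h1
    simpa [hg'def, mul_assoc] using h2

end CfsgLib.Kinf
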