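import Cfsg.Agent.ZJ.Stable
import Cfsg.Agent.ZJ.Involve
import Cfsg.Agent.Classical.PSLTwoSub
import Cfsg.Agent.LocalB.CharP
import Cfsg.Agent.FGSA.Nilpotent
import Cfsg.Agent.Solvable.Fitting
import Cfsg.Agent.Kinf.TechExercises
import Cfsg.Prelude.Def_OddOrderLocal

/-!
Centralizers in solvable groups of self-centralizing normal subgroups of the Fitting subgroup of a
Hall subgroup, for sets of primes containing neither 2 nor 3.
-/

set_option autoImplicit false
set_option linter.unusedSectionVars false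
set_option linter.style.haveILetI false

namespace CfsgLib.SolvableSCN

open Subgroup
open scoped commutatorElement

universe u

variable {X : Type u} [Group X]

theorem not_involves_qd [Group.IsSolvable X] {q : ℕ} [Fact q.Prime] (hq : 5 ≤ q) :
    ¬ Cfsg.Involves ↥(Cfsg.qd q) X := by
  intro h
  obtain ⟨K, f, hf⟩ := CfsgLib.ZJ.exists_surjective_of_involves (CfsgLib.ZJ.involves_sl2_of_qd h)
  haveI : Group.IsSolvable (Matrix.SpecialLinearGroup (Fin 2) (ZMod q)) :=
    Group.isSolvable_of_surjective hf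
  exact CfsgLib.Linear.PSLTwo.not_solvable (F := ZMod q) (by rw [Nat.card_zmod]; omega)
    (Group.isSolvable_of_surjective (QuotientGroup.mk'_surjective _))

variable [Finite X]

/-- A centralizing element whose order is prime to `q` centralizes a normal `q`-subgroup of `K`. -/
theorem commute_coprime {K A : Subgroup X} (hK : Group.IsNilpotent K) (hAK : A ≤ K)
    (hKA : K ⊓ centralizer (A : Set X) = A) {q : ℕ} [Fact q.Prime] {R : Subgroup X} [R.Normal]
    (hR : IsPGroup q R) (hRK : R ≤ K) {x : X} (hx : x ∈ centralizer (A : Set X))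
    (hxq : (orderOf x).Coprime q) : ∀ r ∈ R, Commute x r := by
  have hab : ∀ a ∈ A, ∀ b ∈ A, Commute a b := fun a ha b hb =>
    mem_centralizer_iff.1 (hKA.ge hb).2 a ha
  let P : Subgroup X :=
    { carrier := {a | a ∈ A ∧ ∃ k : ℕ, a ^ q ^ k = 1}
      one_mem' := ⟨A.one_mem, 0, one_pow _⟩
      mul_mem' := fun {a b} ha hb => by
        obtain ⟨i, hi⟩ := ha.2
        obtain ⟨j, hj⟩ := hb.2
        refine ⟨A.mul_mem ha.1 hb.1, i + j, ?_⟩
        rw [(hab a ha.1 b hb.1).mul_pow, pow_add, pow_mul, hi, one_pow, one_mul,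
          mul_comm, pow_mul, hj, one_pow]
      inv_mem' := fun {a} ha => ⟨A.inv_mem ha.1, by
        obtain ⟨i, hi⟩ := ha.2
        exact ⟨i, by rw [inv_pow, hi, inv_one]⟩⟩ }
  have hPp : IsPGroup q P := fun z => by
    obtain ⟨k, hk⟩ := z.2.2
    exact ⟨k, Subtype.ext (by simpa using hk)⟩
  refine CfsgLib.LocalB.commute_of_pxq hPp hR (fun a _ => le_normalizer_of_normal (mem_top a)) hxq
    (le_normalizer_of_normal (mem_top x)) (fun a ha => mem_centralizer_iff.1 hx a ha.1) ?_
  intro r hr hfix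
  have hrA : r ∈ A := hKA.le ⟨hRK hr, mem_centralizer_iff.2 fun a ha => ?_⟩
  · exact (mem_centralizer_iff.1 hx r hrA).symm
  obtain ⟨i, m, hm, hn⟩ := Nat.exists_eq_pow_mul_and_not_dvd (orderOf_pos a).ne' q
    (Fact.out : q.Prime).one_lt.ne'
  have hco : (q ^ i).Coprime m :=
    ((Fact.out : q.Prime).coprime_iff_not_dvd.2 hm).pow_left i
  have h1 : Commute (a ^ m) r :=
    hfix _ ⟨A.pow_mem ha m, i, by rw [← pow_mul, mul_comm, ← hn, pow_orderOf_eq_one]⟩
  have h2 : Commute (a ^ q ^ i) r := by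
    haveI := hK
    obtain ⟨k, hk⟩ := hR ⟨r, hr⟩
    have hrk : r ^ q ^ k = 1 := congrArg Subtype.val hk
    refine congrArg Subtype.val (CfsgLib.FGSA.commute_of_coprime_orderOf
      (⟨a ^ q ^ i, hAK (A.pow_mem ha _)⟩ : K) ⟨r, hRK hr⟩ ?_).eq
    rw [← Subgroup.orderOf_coe, ← Subgroup.orderOf_coe]
    refine Nat.Coprime.coprime_dvd_right (orderOf_dvd_of_pow_eq_one hrk) (Nat.Coprime.pow_right k ?_)
    refine Nat.Coprime.coprime_dvd_left (orderOf_dvd_of_pow_eq_one ?_)
      ((Fact.out : q.Prime).coprime_iff_not_dvd.2 hm).symm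
    rw [← pow_mul, ← hn, pow_orderOf_eq_one]
  have h3 : a = (a ^ q ^ i) ^ (Nat.gcdA (q ^ i) m) * (a ^ m) ^ (Nat.gcdB (q ^ i) m) := by
    rw [← zpow_natCast a (q ^ i), ← zpow_natCast a m, ← zpow_mul, ← zpow_mul, ← zpow_add,
      ← Nat.gcd_eq_gcd_ab, hco.gcd_eq_one, Nat.cast_one, zpow_one]
  rw [h3]
  exact ((h2.zpow_left _).mul_left (h1.zpow_left _)).eq

/-- **The core.** In a solvable group whose Fitting subgroup has no order divisible by 2 or 3 and
lies in the nilpotent group `K`, a self-centralizing normal subgroup of `K` has centralizer in the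
Fitting subgroup. -/
theorem centralizer_le_fitting [Group.IsSolvable X]
    (h5 : ∀ q : ℕ, q.Prime → q ∣ Nat.card (Cfsg.fittingSubgroup X) → 5 ≤ q)
    {K A : Subgroup X} (hK : Group.IsNilpotent K) (hFK : Cfsg.fittingSubgroup X ≤ K) (hAK : A ≤ K)
    (hKN : K ≤ normalizer (A : Set X)) (hKA : K ⊓ centralizer (A : Set X) = A) :
    centralizer (A : Set X) ≤ Cfsg.fittingSubgroup X := by
  classical
  set F := Cfsg.fittingSubgroup X with hF
  have hCF : centralizer (F : Set X) ≤ F :=
    CfsgLib.Fitting.centralizer_fittingSubgroup_le_of_solvable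
  have hpe : ∀ q : ℕ, q.Prime → ∀ y ∈ centralizer (A : Set X), ∀ k : ℕ, y ^ q ^ k = 1 → y ∈ F := by
    intro q hq y hy k hk
    haveI := Fact.mk hq
    set R := Cfsg.pCore q X with hR
    haveI : R.Normal := CfsgLib.Solvable.pCore_normal q
    set B := ⨆ r : {r : Nat.Primes // (r : ℕ) ≠ q}, Cfsg.pCore (r.1 : ℕ) X with hB
    haveI hBn : B.Normal := by
      refine ⟨fun b hb g => ?_⟩
      have : B.map (MulAut.conj g).toMonoidHom ≤ B := by
        rw [hB, Subgroup.map_iSup]
        refine iSup_mono fun r => ?_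
        rintro _ ⟨z, hz, rfl⟩
        exact (CfsgLib.Solvable.pCore_normal (r.1 : ℕ)).conj_mem z hz g
      exact this ⟨b, hb, rfl⟩
    have hFsup : F ≤ R ⊔ B := by
      rw [hF, CfsgLib.Solvable.fittingSubgroup_eq_iSup_pCore]
      refine iSup_le fun r => ?_
      by_cases hr : (r : ℕ) = q
      · rw [hr]; exact le_sup_left
      · exact le_trans (le_iSup (fun s : {r : Nat.Primes // (r : ℕ) ≠ q} =>
          Cfsg.pCore (s.1 : ℕ) X) ⟨r, hr⟩) le_sup_right
    have hpF : ∀ r : ℕ, [Fact r.Prime] → Cfsg.pCore r X ≤ F := fun r _ =>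
      CfsgLib.Solvable.pCore_le_fittingSubgroup r
    have hyB : B ≤ centralizer ({y} : Set X) := by
      refine iSup_le fun r z hz => ?_
      haveI := Fact.mk r.1.2
      refine mem_centralizer_singleton_iff.2 ?_
      exact (commute_coprime hK hAK hKA (CfsgLib.Solvable.isPGroup_pCore _)
        ((hpF (r.1 : ℕ)).trans hFK) hy
        (((Nat.coprime_primes hq r.1.2).2 r.2.symm).pow_left k |>.coprime_dvd_left
          (orderOf_dvd_of_pow_eq_one hk)) z hz).symm.eq
    by_cases hR1 : R = ⊥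
    · refine hCF (mem_centralizer_iff.2 fun z hz => ?_)
      have := hFsup hz
      rw [hR1, bot_sup_eq] at this
      exact mem_centralizer_singleton_iff.1 (hyB this)
    have hq5 : 5 ≤ q := by
      refine h5 q hq ((?_ : q ∣ Nat.card R).trans (card_dvd_of_le (hpF q)))
      obtain ⟨j, hj⟩ := IsPGroup.iff_card.1 (CfsgLib.Solvable.isPGroup_pCore (G := X) q)
      rw [← hR] at hj
      rcases j with _ | j
      · exact absurd (eq_bot_of_card_eq R (by rw [hj, pow_zero])) hR1
      · rw [hj, pow_succ]; exact dvd_mul_left _ _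
    have hquad : ⁅⁅R, zpowers y⁆, zpowers y⁆ = ⊥ := by
      have h1 : ⁅R, zpowers y⁆ ≤ A := commutator_le.2 fun r hr z hz => by
        refine hKA.le ⟨hFK (hpF q ?_), ?_⟩
        · rw [commutatorElement_def, mul_assoc, mul_assoc, ← mul_assoc z]
          exact mul_mem hr ((inferInstance : R.Normal).conj_mem _ (inv_mem hr) z)
        · have hzA : z ∈ centralizer (A : Set X) := zpowers_le.2 hy hz
          refine mul_mem ?_ (Subgroup.inv_mem _ hzA)
          refine mem_centralizer_iff.2 fun a ha => ?_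
          have h := mem_centralizer_iff.1 hzA (r⁻¹ * a * r)
            ((mem_normalizer_iff.1 (hKN (hFK (hpF q hr))) _).2 (by simpa [mul_assoc] using ha))
          calc a * (r * z * r⁻¹) = r * (r⁻¹ * a * r * z) * r⁻¹ := by group
            _ = r * (z * (r⁻¹ * a * r)) * r⁻¹ := by rw [h]
            _ = r * z * r⁻¹ * a := by group
      rw [eq_bot_iff]
      refine (commutator_mono h1 le_rfl).trans (commutator_le.2 fun a ha z hz => ?_)
      rw [mem_bot, commutatorElement_eq_one_iff_mul_comm]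
      exact mem_centralizer_iff.1 (zpowers_le.2 hy hz) a ha
    obtain ⟨D, hDn, hyD, hD⟩ := CfsgLib.ZJ.pcoreMod_of_quadratic (by omega) (not_involves_qd hq5) R
      (CfsgLib.Solvable.isPGroup_pCore q) y hquad
    haveI := hDn
    set M := D ⊓ centralizer (B : Set X) with hM
    have hyM : y ∈ M := ⟨hyD, mem_centralizer_iff.2 fun b hb =>
      mem_centralizer_singleton_iff.1 (hyB hb)⟩
    have hcenM : ∀ z : M, ∃ j : ℕ, (z : X) ^ q ^ j ∈ B := by
      intro z
      obtain ⟨i, hi⟩ := hD z z.2.1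
      have hzF : (z : X) ^ q ^ i ∈ F := hCF (mem_centralizer_iff.2 fun f hf => by
        obtain ⟨r, hr, b, hb, rfl⟩ := (CfsgLib.Solvable.mem_sup_of_le_normalizer
          le_normalizer_of_normal).1 (hFsup hf)
        have h1 : Commute r ((z : X) ^ q ^ i) := mem_centralizer_iff.1 hi r hr
        have h2 : Commute b ((z : X) ^ q ^ i) :=
          (show Commute b (z : X) from mem_centralizer_iff.1 z.2.2 b hb).pow_right _
        exact (h1.mul_left h2).eq)
      obtain ⟨r, hr, b, hb, hrb⟩ :=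
        (CfsgLib.Solvable.mem_sup_of_le_normalizer le_normalizer_of_normal).1 (hFsup hzF)
      obtain ⟨j, hj⟩ := CfsgLib.Solvable.isPGroup_pCore (G := X) q ⟨r, hr⟩
      have hrj : r ^ q ^ j = 1 := congrArg Subtype.val hj
      refine ⟨i + j, ?_⟩
      rw [pow_add, pow_mul]
      refine (QuotientGroup.eq_one_iff _).1 ?_
      show QuotientGroup.mk' B (((z : X) ^ q ^ i) ^ q ^ j) = 1
      rw [map_pow, ← hrb, map_mul,
        show QuotientGroup.mk' B b = 1 from (QuotientGroup.eq_one_iff b).2 hb, mul_one, ← map_pow,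
        hrj, map_one]
    have hMnil : Group.IsNilpotent M := by
      refine Group.of_quotient_center_nilpotent ?_
      refine IsPGroup.isNilpotent (p := q) ?_
      intro w
      obtain ⟨z, rfl⟩ := QuotientGroup.mk'_surjective (center M) w
      obtain ⟨j, hj⟩ := hcenM z
      refine ⟨j, ?_⟩
      rw [← map_pow]
      refine (QuotientGroup.eq_one_iff _).2 (mem_center_iff.2 fun g => Subtype.ext ?_)
      simpa using (mem_centralizer_iff.1 g.2.2 _ hj).symm
    exact CfsgLib.Solvable.le_fittingSubgroup inferInstance hMnil hyM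
  intro x hx
  have hsyl : ∀ q : Nat.Primes, Nonempty (Sylow (q : ℕ) (zpowers x)) := fun q => inferInstance
  have hle : (⊤ : Subgroup (zpowers x)) ≤ F.subgroupOf (zpowers x) := by
    rw [← CfsgLib.Solvable.iSup_sylow_eq_top (fun q : Nat.Primes => (hsyl q).some)]
    refine iSup_le fun q z hz => ?_
    obtain ⟨k, hk⟩ := (hsyl q).some.2 ⟨z, hz⟩
    exact mem_subgroupOf.2 (hpe q q.2 z (zpowers_le.2 hx z.2) k
      (by simpa using congrArg (fun w : ((hsyl q).some : Subgroup (zpowers x)) => ((w : zpowers x) : X)) hk))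
  exact hle (mem_top (⟨x, mem_zpowers x⟩ : zpowers x))

/-- **Centralizers of self-centralizing normal subgroups of `F(H)`, `H` a Hall subgroup.** -/
theorem exists_complement [Group.IsSolvable X] (π : Set ℕ) (h2 : 2 ∉ π) (h3 : 3 ∉ π)
    (H : Subgroup X) (hH : Cfsg.IsPiHall π H)
    (A : Subgroup X) (hA : Cfsg.IsSCN ((Cfsg.fittingSubgroup H).map H.subtype) A) :
    ∃ D : Subgroup X, D ≤ centralizer (A : Set X) ∧
      (∀ c ∈ centralizer (A : Set X), ∀ d ∈ D, c * d * c⁻¹ ∈ D) ∧
      A ⊓ D = ⊥ ∧ A ⊔ D = centralizer (A : Set X) ∧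
      ∀ q : ℕ, q.Prime → q ∣ Nat.card D → q ∉ π := by
  classical
  set O := Cfsg.piCore {q | q ∉ π} X with hO
  haveI : O.Normal := Cfsg.piCore_normal _ X
  set K := (Cfsg.fittingSubgroup H).map H.subtype with hK
  obtain ⟨hAK, hKN, hKA⟩ := hA
  have hOpi : ∀ q : ℕ, q.Prime → q ∣ Nat.card O → q ∉ π :=
    Cfsg.Agent.S3743.isPi_of_sup _ (fun N hN => hN.1) (fun N hN => hN.2)
  have hdisj : H ⊓ O = ⊥ := (disjoint_of_coprime_natCard (Nat.coprime_of_dvd fun q hq h1 h2 =>
    hOpi q hq h2 (hH.1 q hq h1))).eq_bot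
  have hKH : K ≤ H := map_subtype_le _
  set f := QuotientGroup.mk' O with hf
  have hinj : ∀ h ∈ H, f h = 1 → h = 1 := fun h hh he => by
    have : h ∈ H ⊓ O := ⟨hh, (QuotientGroup.eq_one_iff h).1 he⟩
    rwa [hdisj, mem_bot] at this
  set F := Cfsg.fittingSubgroup (X ⧸ O) with hF
  haveI hFnil : Group.IsNilpotent F := CfsgLib.Solvable.isNilpotent_fittingSubgroup
  haveI hFn : F.Normal := by rw [hF]; exact inferInstance
  have hFpi : ∀ q : ℕ, q.Prime → q ∣ Nat.card F → q ∈ π := fun q hq hd => by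
    by_contra hn
    exact ((CfsgLib.Kinf.piCore_basic (X := X ⧸ O) {q | q ∉ π}).2
      (CfsgLib.Kinf.piCore_basic (X := X) {q | q ∉ π}).1).1 q hq hn hd
  have hFH : F ≤ H.map f := by
    have h1 : (H.map f).relIndex (H.map f ⊔ F) ∣ Nat.card F := by
      refine Nat.dvd_of_mul_dvd_mul_left (Nat.card_pos (α := H.map f)) ?_
      refine (dvd_of_eq ?_).trans (CfsgLib.Solvable.card_sup_dvd le_normalizer_of_normal)
      rw [← relIndex_bot_left (H := H.map f), ← relIndex_bot_left (H := H.map f ⊔ F)]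
      exact relIndex_mul_relIndex ⊥ _ _ bot_le le_sup_left
    have h2 : (H.map f).relIndex (H.map f ⊔ F) ∣ H.index :=
      (relIndex_dvd_index_of_le le_sup_left).trans (H.index_map_dvd (QuotientGroup.mk'_surjective O))
    refine le_trans (le_sup_right : F ≤ H.map f ⊔ F) (relIndex_eq_one.1 ?_)
    by_contra hne
    obtain ⟨q, hq, hqd⟩ := Nat.exists_prime_and_dvd hne
    exact hH.2 q hq (hFpi q hq (hqd.trans h1)) (hqd.trans h2)
  set F1 := (F.comap f ⊓ H).subgroupOf H with hF1
  haveI hF1n : F1.Normal := by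
    rw [hF1, inf_subgroupOf_right]
    exact (Normal.comap hFn f).subgroupOf H
  have hF1nil : Group.IsNilpotent F1 := by
    let g : F1 →* F :=
      ((f.comp H.subtype).comp F1.subtype).codRestrict F fun z => (mem_subgroupOf.1 z.2).1
    have hg : Function.Injective g := (injective_iff_map_eq_one g).2 fun z hz =>
      Subtype.ext (Subtype.ext (hinj _ (z : H).2 (congrArg Subtype.val hz)))
    exact Group.nilpotent_of_mulEquiv (MonoidHom.ofInjective hg).symm
  have hFK : F ≤ K.map f := by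
    intro z hz
    obtain ⟨h, hh, rfl⟩ := hFH hz
    refine mem_map_of_mem f ⟨⟨h, hh⟩, ?_, rfl⟩
    exact CfsgLib.Solvable.le_fittingSubgroup hF1n hF1nil (mem_subgroupOf.2 ⟨hz, hh⟩)
  haveI hKnil : Group.IsNilpotent K := by
    haveI : Group.IsNilpotent (Cfsg.fittingSubgroup H) := CfsgLib.Solvable.isNilpotent_fittingSubgroup
    exact Group.nilpotent_of_surjective (H.subtype.subgroupMap _) (H.subtype.subgroupMap_surjective _)
  have hKnil' : Group.IsNilpotent (K.map f) :=
    Group.nilpotent_of_surjective (f.subgroupMap K) (f.subgroupMap_surjective K)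
  have hKN' : K.map f ≤ normalizer ((A.map f : Subgroup (X ⧸ O)) : Set (X ⧸ O)) :=
    (map_mono hKN).trans (le_normalizer_map f)
  have hKA' : K.map f ⊓ centralizer ((A.map f : Subgroup (X ⧸ O)) : Set (X ⧸ O)) = A.map f := by
    refine le_antisymm ?_ (fun z hz => ?_)
    · rintro z ⟨⟨k, hk, rfl⟩, hz⟩
      refine mem_map_of_mem f (hKA.le ⟨hk, mem_centralizer_iff.2 fun a ha => ?_⟩)
      have h := mem_centralizer_iff.1 hz _ (mem_map_of_mem f ha)
      refine mul_inv_eq_one.1 (hinj _ ?_ ?_)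
      · exact mul_mem (mul_mem (hKH (hAK ha)) (hKH hk))
          (inv_mem (mul_mem (hKH hk) (hKH (hAK ha))))
      · rw [map_mul, map_inv, map_mul, map_mul, h, mul_inv_cancel]
    · obtain ⟨a, ha, rfl⟩ := hz
      refine ⟨mem_map_of_mem f (hAK ha), mem_centralizer_iff.2 ?_⟩
      rintro _ ⟨b, hb, rfl⟩
      rw [← map_mul, ← map_mul, mem_centralizer_iff.1 (hKA.ge ha).2 b hb]
  have h5 : ∀ q : ℕ, q.Prime → q ∣ Nat.card F → 5 ≤ q := fun q hq hd => by
    have hqπ := hFpi q hq hd
    have := hq.two_le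
    rcases (show q = 2 ∨ q = 3 ∨ q = 4 ∨ 5 ≤ q by omega) with h | h | h | h
    · exact absurd (h ▸ hqπ) h2
    · exact absurd (h ▸ hqπ) h3
    · subst h; exact absurd hq (by norm_num)
    · exact h
  have hcore := centralizer_le_fitting h5 hKnil' hFK (map_mono hAK) hKN' hKA'
  refine ⟨O ⊓ centralizer (A : Set X), inf_le_right, fun c hc d hd => ?_, ?_, ?_,
    fun q hq hd => hOpi q hq (hd.trans (card_dvd_of_le inf_le_left))⟩
  · exact ⟨(inferInstance : O.Normal).conj_mem d hd.1 c, mul_mem (mul_mem hc hd.2) (Subgroup.inv_mem _ hc)⟩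
  · rw [eq_bot_iff]
    exact (inf_le_inf (hAK.trans hKH) inf_le_left).trans hdisj.le
  refine le_antisymm (sup_le (fun a ha => (hKA.ge ha).2) inf_le_right) fun c hc => ?_
  have hcA : f c ∈ centralizer ((A.map f : Subgroup (X ⧸ O)) : Set (X ⧸ O)) := by
    refine mem_centralizer_iff.2 ?_
    rintro _ ⟨b, hb, rfl⟩
    rw [← map_mul, ← map_mul, mem_centralizer_iff.1 hc b hb]
  obtain ⟨a, ha, hae⟩ := hKA'.le ⟨hFK (hcore hcA), hcA⟩
  rw [show c = a * (a⁻¹ * c) by group]
  refine mul_mem (mem_sup_left ha) (mem_sup_right ⟨?_, mul_mem (Subgroup.inv_mem _ (hKA.ge ha).2) hc⟩)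
  exact QuotientGroup.eq.1 hae

end CfsgLib.SolvableSCN
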