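import Cfsg.Agent.ZJ.OffenderTwo

/-!
Elementary abelian groups acting quadratically as best offenders on an elementary abelian 2-group:
if all 2-subgroups of the acting group are abelian and no two involutions have a product of order
three, the normal closure of the offender is a 2-group. The fixed point subgroups of two
noncommuting conjugates and their conjugates form a spread, which produces a dihedral group of order six.
-/

set_option autoImplicit false
set_option linter.style.haveILetI false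

namespace CfsgLib.Kinf.Spread

open Subgroup CfsgLib.ZJ

variable {V : Type*} [CommGroup V]

/-- The fixed points of a subgroup of automorphisms. -/
abbrev fx (A : Subgroup (MulAut V)) : Subgroup V := fixSub (A : Set (MulAut V))

/-- The conjugate of a subgroup. -/
abbrev cj {M : Type*} [Group M] (g : M) (A : Subgroup M) : Subgroup M :=
  A.map (MulAut.conj g).toMonoidHom

/-- The normal closure of `A` in `Y`. -/
abbrev nclIn {M : Type*} [Group M] (Y A : Subgroup M) : Subgroup M :=
  closure {z | ∃ y ∈ Y, ∃ a ∈ A, z = y * a * y⁻¹}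

/-- Two subgroups centralize each other. -/
def Com {M : Type*} [Group M] (A B : Subgroup M) : Prop := ∀ a ∈ A, ∀ b ∈ B, a * b = b * a

/-- A quadratic best offender. -/
structure Off (X A : Subgroup (MulAut V)) : Prop where
  le : A ≤ X
  sq : ∀ a ∈ A, a * a = 1
  quad : ∀ a ∈ A, ∀ b ∈ A, ∀ v, b (a v * v⁻¹) = a v * v⁻¹
  best : ∀ A0 ≤ A, Nat.card A0 * Nat.card (fx A0) ≤ Nat.card A * Nat.card (fx A)

/-- The conditions on the acting group. -/
structure Good (X : Subgroup (MulAut V)) : Prop where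
  ex : ∀ v : V, v * v = 1
  comm : ∀ P ≤ X, IsPGroup 2 P → Com P P
  noS3 : ∀ a ∈ X, ∀ b ∈ X, a * a = 1 → b * b = 1 → (a * b) ^ 3 = 1 → a * b = 1

theorem Good.mono {X Y : Subgroup (MulAut V)} (h : Good X) (hle : Y ≤ X) : Good Y :=
  ⟨h.ex, fun P hP => h.comm P (hP.trans hle), fun a ha b hb => h.noS3 a (hle ha) b (hle hb)⟩

theorem mem_cj {M : Type*} [Group M] {g x : M} {A : Subgroup M} :
    x ∈ cj g A ↔ ∃ a ∈ A, g * a * g⁻¹ = x := by
  simp [cj, Subgroup.mem_map, MulAut.conj_apply]

theorem cj_mul {M : Type*} [Group M] (g h : M) (A : Subgroup M) : cj g (cj h A) = cj (g * h) A := by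
  rw [cj, cj, cj, Subgroup.map_map]
  congr 1
  ext x
  simp [MulAut.conj_apply, mul_assoc]

theorem cj_one {M : Type*} [Group M] (A : Subgroup M) : cj 1 A = A := by
  ext x; simp [mem_cj]

theorem cj_self {M : Type*} [Group M] {g : M} {A : Subgroup M} (hg : g ∈ A) : cj g A = A := by
  ext x
  rw [mem_cj]
  exact ⟨fun ⟨a, ha, h⟩ => h ▸ mul_mem (mul_mem hg ha) (inv_mem hg),
    fun hx => ⟨g⁻¹ * x * g, mul_mem (mul_mem (inv_mem hg) hx) hg, by group⟩⟩

theorem cj_le {M : Type*} [Group M] {g : M} {A X : Subgroup M} (hA : A ≤ X) (hg : g ∈ X) :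
    cj g A ≤ X := by
  intro x hx
  obtain ⟨a, ha, rfl⟩ := mem_cj.mp hx
  exact mul_mem (mul_mem hg (hA ha)) (inv_mem hg)

theorem Com.symm {M : Type*} [Group M] {A B : Subgroup M} (h : Com A B) : Com B A :=
  fun b hb a ha => (h a ha b hb).symm

theorem Com.cj {M : Type*} [Group M] {A B : Subgroup M} (h : Com A B) (g : M) :
    Com (cj g A) (Spread.cj g B) := by
  intro x hx y hy
  obtain ⟨a, ha, rfl⟩ := mem_cj.mp hx
  obtain ⟨b, hb, rfl⟩ := mem_cj.mp hy
  rw [conj_mul, conj_mul, h a ha b hb]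

theorem Off.comm {X A : Subgroup (MulAut V)} (h : Off X A) : Com A A := by
  intro a ha b hb
  have h1 := h.sq _ (mul_mem ha hb)
  calc a * b = a * (a * b * (a * b)) * b := by rw [h1, mul_one]
    _ = (a * a) * b * a * (b * b) := by simp only [mul_assoc]
    _ = b * a := by rw [h.sq a ha, h.sq b hb, one_mul, mul_one]

theorem fx_cj (g : MulAut V) (A : Subgroup (MulAut V)) : fx (cj g A) = (fx A).map g.toMonoidHom := by
  ext v
  constructor
  · intro hv
    refine ⟨g⁻¹ v, fun a ha => ?_, ?_⟩
    · have h := hv (g * a * g⁻¹) (mem_cj.mpr ⟨a, ha, rfl⟩)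
      rw [MulAut.mul_apply, MulAut.mul_apply] at h
      apply g.injective
      rw [h]
      exact (MulEquiv.apply_symm_apply g v).symm
    · exact MulEquiv.apply_symm_apply g v
  · rintro ⟨w, hw, rfl⟩ _ hx
    obtain ⟨a, ha, rfl⟩ := mem_cj.mp hx
    show (g * a * g⁻¹) (g w) = g w
    rw [MulAut.mul_apply, MulAut.mul_apply, MulAut.inv_apply, MulEquiv.symm_apply_apply, hw a ha]

theorem card_fx_cj (g : MulAut V) (A : Subgroup (MulAut V)) :
    Nat.card (fx (cj g A)) = Nat.card (fx A) := by
  rw [fx_cj]; exact card_map_of_injective g.injective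

theorem card_cj {M : Type*} [Group M] (g : M) (A : Subgroup M) : Nat.card (cj g A) = Nat.card A :=
  card_map_of_injective (MulAut.conj g).injective

theorem Off.conj {X A : Subgroup (MulAut V)} (h : Off X A) {g : MulAut V} (hg : g ∈ X) :
    Off X (cj g A) where
  le := cj_le h.le hg
  sq := by
    intro x hx
    obtain ⟨a, ha, rfl⟩ := mem_cj.mp hx
    rw [conj_mul, h.sq a ha, mul_one, mul_inv_cancel]
  quad := by
    intro x hx y hy v
    obtain ⟨a, ha, rfl⟩ := mem_cj.mp hx
    obtain ⟨b, hb, rfl⟩ := mem_cj.mp hy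
    have h1 := congrArg g (h.quad a ha b hb (g⁻¹ v))
    simpa [MulAut.mul_apply, MulAut.inv_apply] using h1
  best := by
    intro A0 hA0
    have hle : cj g⁻¹ A0 ≤ A := by
      intro x hx
      obtain ⟨y, hy, rfl⟩ := mem_cj.mp hx
      obtain ⟨a, ha, rfl⟩ := mem_cj.mp (hA0 hy)
      simpa [mul_assoc] using ha
    have := h.best _ hle
    rwa [card_cj, card_fx_cj, ← card_cj g A, ← card_fx_cj g A] at this

theorem Off.mono {X Y A : Subgroup (MulAut V)} (h : Off X A) (hA : A ≤ Y) : Off Y A :=
  { h with le := hA }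

theorem nclIn_le {M : Type*} [Group M] {Y A : Subgroup M} (hA : A ≤ Y) : nclIn Y A ≤ Y :=
  (closure_le _).mpr fun _ ⟨_, hy, _, ha, hz⟩ => hz ▸ mul_mem (mul_mem hy (hA ha)) (inv_mem hy)

theorem le_nclIn {M : Type*} [Group M] (Y A : Subgroup M) : A ≤ nclIn Y A :=
  fun a ha => subset_closure ⟨1, one_mem Y, a, ha, by simp⟩

theorem le_normalizer_nclIn {M : Type*} [Group M] [Finite M] (Y A : Subgroup M) :
    Y ≤ normalizer (nclIn Y A : Set M) := by
  intro y hy
  refine mem_normalizer_fintype fun z hz => ?_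
  have h : nclIn Y A ≤ (nclIn Y A).comap (MulAut.conj y).toMonoidHom := (closure_le _).mpr (by
    rintro _ ⟨x, hx, a, ha, rfl⟩
    exact subset_closure ⟨y * x, mul_mem hy hx, a, ha, by simp [mul_assoc]⟩)
  exact h hz

variable [Finite V]

instance : Finite (MulAut V) := Finite.of_injective (fun e => (e : V → V)) DFunLike.coe_injective

/-- Offenders of a proper overgroup commute. -/
theorem com_of_le {X Y D E : Subgroup (MulAut V)} (hX : Good X)
    (IH : ∀ Y < X, ∀ A, Off Y A → IsPGroup 2 (nclIn Y A)) (hY : Y < X)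
    (hD : Off X D) (hE : Off X E) (hDY : D ≤ Y) (hEY : E ≤ Y) : Com D E := by
  have hM := IH Y hY D (hD.mono hDY)
  have hEp : IsPGroup 2 E := fun x => ⟨1, Subtype.ext (by rw [pow_one, pow_two]; exact hE.sq x x.2)⟩
  have hP : IsPGroup 2 (E ⊔ nclIn Y D : Subgroup (MulAut V)) :=
    hEp.to_sup_of_normal_right' hM (hEY.trans (le_normalizer_nclIn Y D))
  intro a ha b hb
  exact hX.comm _ (sup_le (hEY.trans hY.le) ((nclIn_le hDY).trans hY.le)) hP a
    (le_sup_right (a := E) (le_nclIn Y D ha)) b (le_sup_left (b := nclIn Y D) hb)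

theorem sup_eq_of_not_com {X D E : Subgroup (MulAut V)} (hX : Good X)
    (IH : ∀ Y < X, ∀ A, Off Y A → IsPGroup 2 (nclIn Y A))
    (hD : Off X D) (hE : Off X E) (h : ¬ Com D E) : D ⊔ E = X := by
  rcases (sup_le hD.le hE.le).eq_or_lt with h' | h'
  · exact h'
  · exact absurd (com_of_le hX IH h' hD hE le_sup_left le_sup_right) h

theorem com_trans {X A D E : Subgroup (MulAut V)} (hX : Good X)
    (IH : ∀ Y < X, ∀ A, Off Y A → IsPGroup 2 (nclIn Y A))
    (hD : Off X D) (hE : Off X E) (hAD : Com A D) (hAE : Com A E)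
    (hnc : ∃ a ∈ A, ∃ x ∈ X, a * x ≠ x * a) : Com D E := by
  obtain ⟨a, ha, x, hx, hne⟩ := hnc
  refine com_of_le (Y := X ⊓ centralizer (A : Set (MulAut V))) hX IH ?_ hD hE
    (le_inf hD.le fun d hd => mem_centralizer_iff.mpr fun a ha => hAD a ha d hd)
    (le_inf hE.le fun d hd => mem_centralizer_iff.mpr fun a ha => hAE a ha d hd)
  refine lt_of_le_of_ne inf_le_left fun h => hne ?_
  rw [← h] at hx
  exact mem_centralizer_iff.mp hx.2 a ha

/-- A noncentral element of an offender moves a noncommuting offender to a noncommuting one. -/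
theorem not_com_conj {X A D : Subgroup (MulAut V)} (hX : Good X)
    (IH : ∀ Y < X, ∀ A, Off Y A → IsPGroup 2 (nclIn Y A))
    (hA : Off X A) (hD : Off X D) (h : ¬ Com A D) {a : MulAut V} (ha : a ∈ A)
    (hnc : ∃ x ∈ X, a * x ≠ x * a) : ¬ Com D (cj a D) := by
  intro hc
  have hD' : Off X (cj a D) := hD.conj (hA.le ha)
  have hainv : a⁻¹ = a := inv_eq_of_mul_eq_one_right (hA.sq a ha)
  set M := D ⊔ cj a D with hM
  have hnorm : a ∈ normalizer (M : Set (MulAut V)) := by
    rw [mem_normalizer_iff_map_conj_eq, hM, Subgroup.map_sup]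
    show cj a D ⊔ cj a (cj a D) = _
    rw [cj_mul, hA.sq a ha, cj_one, sup_comm]
  have hDp : ∀ {E : Subgroup (MulAut V)}, Off X E → IsPGroup 2 E :=
    fun hE x => ⟨1, Subtype.ext (by rw [pow_one, pow_two]; exact hE.sq x x.2)⟩
  have hMp : IsPGroup 2 M := (hDp hD).to_sup_of_normal_right' (hDp hD') fun d hd => by
    refine mem_normalizer_fintype fun z hz => ?_
    rw [hc d hd z hz, mul_inv_cancel_right]
    exact hz
  have hap : IsPGroup 2 (zpowers a) :=
    (hDp hA).to_le ((zpowers_le).mpr ha)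
  have hP : IsPGroup 2 (zpowers a ⊔ M : Subgroup (MulAut V)) :=
    hap.to_sup_of_normal_right' hMp (zpowers_le.mpr hnorm)
  have hcomm := hX.comm _ (sup_le (zpowers_le.mpr (hA.le ha)) (sup_le hD.le hD'.le)) hP
  obtain ⟨x, hx, hne⟩ := hnc
  refine hne ?_
  have hle : X ≤ centralizer {a} := by
    rw [← sup_eq_of_not_com hX IH hA hD h]
    refine sup_le (fun b hb => mem_centralizer_singleton_iff.mpr (hA.comm b hb a ha)) fun d hd => ?_
    exact mem_centralizer_singleton_iff.mpr
      (hcomm d (le_sup_right (a := zpowers a) (le_sup_left (b := cj a D) hd)) a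
        (le_sup_left (b := M) (mem_zpowers a)))
  exact (mem_centralizer_singleton_iff.mp (hle hx)).symm

theorem fx_inf_eq {X D E : Subgroup (MulAut V)} (h : D ⊔ E = X) : fx D ⊓ fx E = fx X := by
  refine le_antisymm (fun v hv g hg => ?_) (le_inf (fun v hv g hg => hv g (h ▸ le_sup_left (b := E) hg))
    fun v hv g hg => hv g (h ▸ le_sup_right (a := D) hg))
  let S : Subgroup (MulAut V) :=
    { carrier := {x | x v = v}
      one_mem' := rfl
      mul_mem' := fun {x y} hx hy => by
        show (x * y) v = v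
        rw [MulAut.mul_apply, show y v = v from hy, show x v = v from hx]
      inv_mem' := fun {x} hx => by
        show x⁻¹ v = v
        conv_lhs => rw [← show x v = v from hx]
        exact MulEquiv.symm_apply_apply x v }
  exact (sup_le (fun d hd => hv.1 d hd) (fun e he => hv.2 e he) : D ⊔ E ≤ S) (h.symm ▸ hg)

/-- The join of the fixed points of two offenders generating `X` contains all commutators with `X`. -/
theorem div_mem_sup {X D E : Subgroup (MulAut V)} (hD : Off X D) (hE : Off X E) (h : D ⊔ E = X)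
    {g : MulAut V} (hg : g ∈ X) (v : V) : g v * v⁻¹ ∈ fx D ⊔ fx E := by
  let S : Subgroup (MulAut V) :=
    { carrier := {x | ∀ v, x v * v⁻¹ ∈ fx D ⊔ fx E}
      one_mem' := fun v => by simp
      mul_mem' := fun {x y} hx hy v => by
        have := mul_mem (hx (y v)) (hy v)
        rwa [mul_assoc, inv_mul_cancel_left] at this
      inv_mem' := fun {x} hx v => by
        have := inv_mem (hx (x⁻¹ v))
        rwa [MulAut.inv_apply, MulEquiv.apply_symm_apply, mul_inv_rev, inv_inv] at this }
  exact (sup_le (fun d hd v => le_sup_left (b := fx E) (fun b hb => hD.quad d hd b hb v))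
    (fun e he v => le_sup_right (a := fx D) (fun b hb => hE.quad e he b hb v)) :
      D ⊔ E ≤ S) (h.symm ▸ hg) v

theorem apply_mem_sup {X D E : Subgroup (MulAut V)} (hD : Off X D) (hE : Off X E) (h : D ⊔ E = X)
    {g : MulAut V} (hg : g ∈ X) {v : V} (hv : v ∈ fx D ⊔ fx E) : g v ∈ fx D ⊔ fx E := by
  simpa using mul_mem (div_mem_sup hD hE h hg v) hv

/-- An offender with a noncommuting conjugate fixes more than the whole group does. -/
theorem card_fx_lt {X A : Subgroup (MulAut V)} (hX : Good X)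
    (IH : ∀ Y < X, ∀ A, Off Y A → IsPGroup 2 (nclIn Y A)) (h2 : ¬ IsPGroup 2 X)
    (hA : Off X A) {g : MulAut V} (hg : g ∈ X) (hnc : ¬ Com A (cj g A)) :
    Nat.card (fx X) < Nat.card (fx A) := by
  classical
  set B := cj g A with hBdef
  have hB : Off X B := hA.conj hg
  have htop := sup_eq_of_not_com hX IH hA hB hnc
  set P := fx A ⊔ fx B with hP
  set F := fx X with hF
  set c := Nat.card (fx A) with hc
  set f := Nat.card F with hf
  set p := Nat.card P with hp
  have hinf : fx A ⊓ fx B = F := fx_inf_eq htop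
  have hpf : p * f = c * c := by
    have := Solvable.card_sup_mul_card_inf (A := fx A) (K := fx B)
      le_normalizer_of_normal
    rw [hinf, card_fx_cj] at this
    exact this
  have hFA : F ≤ fx A := hinf ▸ inf_le_left
  have hfc : f ≤ c := Subgroup.card_le_of_le hFA
  refine lt_of_le_of_ne hfc fun heq => h2 ?_
  have hFeq : F = fx A := Subgroup.eq_of_le_of_card_ge hFA heq.ge
  have hPF : P = F := by
    refine (Subgroup.eq_of_le_of_card_ge ?_ (le_of_eq ?_)).symm
    · exact hFeq ▸ le_sup_left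
    · rw [← hp]
      refine Nat.eq_of_mul_eq_mul_right (Nat.card_pos (α := F)) ?_
      rw [← hf, hpf, ← heq]
  rintro ⟨x, hx⟩
  refine ⟨1, Subtype.ext (MulEquiv.ext fun v => ?_)⟩
  have hm : x v * v⁻¹ ∈ F := hPF ▸ div_mem_sup hA hB htop hx v
  have hfix : x (x v * v⁻¹) = x v * v⁻¹ := hm x hx
  have hsq : (x v * v⁻¹) * (x v * v⁻¹) = 1 := hX.ex _
  have hxx : x (x v) = v := by
    have h1 : x v = (x v * v⁻¹) * v := by rw [inv_mul_cancel_right]
    calc x (x v) = x ((x v * v⁻¹) * v) := by rw [← h1]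
      _ = (x v * v⁻¹) * ((x v * v⁻¹) * v) := by rw [map_mul, hfix, ← h1]
      _ = v := by rw [← mul_assoc, hsq, one_mul]
  show ((x ^ 2 ^ 1 : MulAut V)) v = v
  rw [pow_one, pow_two, MulAut.mul_apply, hxx]

/-- The fixed points of the conjugates of a noncommuting partner cover the join. -/
theorem cover {X A : Subgroup (MulAut V)} (hX : Good X)
    (IH : ∀ Y < X, ∀ A, Off Y A → IsPGroup 2 (nclIn Y A)) (h2 : ¬ IsPGroup 2 X)
    (hA : Off X A) {g : MulAut V} (hg : g ∈ X) (hnc : ¬ Com A (cj g A)) :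
    ∀ v ∈ fx A ⊔ fx (cj g A), v ∈ fx A ∨ ∃ a ∈ A, v ∈ fx (cj a (cj g A)) := by
  classical
  haveI := Fintype.ofFinite V
  set B := cj g A with hBdef
  have hB : Off X B := hA.conj hg
  have htop := sup_eq_of_not_com hX IH hA hB hnc
  set P := fx A ⊔ fx B with hP
  set F := fx X with hF
  set Z := A ⊓ centralizer (X : Set (MulAut V)) with hZ
  have hZA : Z ≤ A := inf_le_left
  set N := Z.relIndex A with hN
  have hNcard : Nat.card Z * N = Nat.card A := by
    rw [hN, Subgroup.relIndex, ← Nat.card_congr (subgroupOfEquivOfLe hZA).toEquiv, card_mul_index]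
  set c := Nat.card (fx A) with hc
  set f := Nat.card F with hf
  set p := Nat.card P with hp
  have hinf : fx A ⊓ fx B = F := fx_inf_eq htop
  have hpf : p * f = c * c := by
    have := Solvable.card_sup_mul_card_inf (A := fx A) (K := fx B)
      le_normalizer_of_normal
    rw [hinf, card_fx_cj] at this
    exact this
  have hFA : F ≤ fx A := hinf ▸ inf_le_left
  have hfc : f ≤ c := Subgroup.card_le_of_le hFA
  have hlt : f < c := card_fx_lt hX IH h2 hA hg hnc
  -- the central elements of `A` fix the join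
  have hZP : P ≤ fx Z := by
    refine sup_le (fun v hv z hz => hv z hz.1) fun v hv z hz => hv z ?_
    refine mem_cj.mpr ⟨z, hz.1, ?_⟩
    rw [mem_centralizer_iff.mp hz.2 g hg, mul_inv_cancel_right]
  have hlow : c ≤ N * f := by
    have h1 := hA.best Z hZA
    rw [← hNcard, ← hc, mul_assoc] at h1
    have h2 : p ≤ N * c :=
      (Subgroup.card_le_of_le hZP).trans (Nat.le_of_mul_le_mul_left h1 Nat.card_pos)
    refine Nat.le_of_mul_le_mul_left ?_ (Nat.card_pos (α := fx A))
    calc c * c = p * f := hpf.symm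
      _ ≤ N * c * f := Nat.mul_le_mul_right _ h2
      _ = c * (N * f) := by ring
  -- the family
  set Q := A ⧸ Z.subgroupOf A
  haveI := Fintype.ofFinite Q
  let T : Option Q → Subgroup V := fun i => i.elim (fx A) fun q => fx (cj (q.out : MulAut V) B)
  have hncA : ∀ a ∈ A, ¬ Com A (cj a B) := fun a ha h => hnc (by
    have := h.cj a⁻¹
    rwa [cj_self (inv_mem ha), cj_mul, inv_mul_cancel, cj_one] at this)
  have hpair : ∀ i j, i ≠ j → T i ⊓ T j = F := by
    have hsome : ∀ q : Q, fx A ⊓ fx (cj (q.out : MulAut V) B) = F := fun q =>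
      fx_inf_eq (sup_eq_of_not_com hX IH hA (hB.conj (hA.le q.out.2)) (hncA _ q.out.2))
    rintro (_ | q) (_ | r) hne
    · exact absurd rfl hne
    · exact hsome r
    · exact inf_comm (fx A) _ ▸ hsome q
    · refine fx_inf_eq (sup_eq_of_not_com hX IH (hB.conj (hA.le q.out.2)) (hB.conj (hA.le r.out.2)) ?_)
      intro h
      have h' := h.cj (q.out : MulAut V)⁻¹
      rw [cj_mul, inv_mul_cancel, cj_one, cj_mul] at h'
      refine not_com_conj hX IH hA hB hnc (mul_mem (inv_mem q.out.2) r.out.2) ?_ h'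
      by_contra hcen
      push Not at hcen
      apply hne
      rw [← QuotientGroup.out_eq' q, ← QuotientGroup.out_eq' r, Option.some_inj, QuotientGroup.eq,
        mem_subgroupOf]
      refine mem_inf.mpr ⟨(q.out⁻¹ * r.out).2, mem_centralizer_iff.mpr fun x hx => ?_⟩
      exact (hcen x hx).symm
  have hTcard : ∀ i, Nat.card (T i) = c := by
    rintro (_ | q)
    · rfl
    · show Nat.card (fx (cj _ (cj g A))) = c
      rw [card_fx_cj, card_fx_cj]
  have hTP : ∀ i, T i ≤ P := by
    rintro (_ | q)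
    · exact le_sup_left
    · show fx (cj _ B) ≤ P
      rw [fx_cj]
      rintro _ ⟨w, hw, rfl⟩
      exact apply_mem_sup hA hB htop (hA.le q.out.2) (le_sup_right (a := fx A) hw)
  have hFT : ∀ i, F ≤ T i := by
    rintro (_ | q)
    · exact hFA
    · exact fun v hv x hx => hv x (cj_le hB.le (hA.le q.out.2) hx)
  let fs : Subgroup V → Finset V := fun H => Finset.univ.filter fun v => v ∈ H
  have hfs : ∀ H : Subgroup V, (fs H).card = Nat.card H := fun H => by
    rw [Nat.card_eq_fintype_card, Fintype.card_subtype]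
  have hdisj : ((Finset.univ : Finset (Option Q)) : Set (Option Q)).PairwiseDisjoint
      fun i => fs (T i) \ fs F := by
    intro i _ j _ hij
    refine Finset.disjoint_left.mpr fun v hi hj => ?_
    simp only [fs, Finset.mem_sdiff, Finset.mem_filter, Finset.mem_univ, true_and] at hi hj
    exact hi.2 (hpair i j hij ▸ ⟨hi.1, hj.1⟩)
  have hsub : (Finset.univ.biUnion fun i => fs (T i) \ fs F) ⊆ fs P \ fs F := by
    intro v hv
    simp only [fs, Finset.mem_biUnion, Finset.mem_sdiff, Finset.mem_filter, Finset.mem_univ,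
      true_and] at hv ⊢
    obtain ⟨i, hi, hF'⟩ := hv
    exact ⟨hTP i hi, hF'⟩
  have hfsub : ∀ {H K : Subgroup V}, H ≤ K → fs H ⊆ fs K := fun hle v hv => by
    simp only [fs, Finset.mem_filter, Finset.mem_univ, true_and] at hv ⊢
    exact hle hv
  have hU : (Finset.univ.biUnion fun i => fs (T i) \ fs F).card = (N + 1) * (c - f) := by
    rw [Finset.card_biUnion hdisj]
    have : ∀ i, (fs (T i) \ fs F).card = c - f := fun i => by
      rw [Finset.card_sdiff_of_subset (hfsub (hFT i)), hfs, hfs, hTcard]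
    simp only [this, Finset.sum_const, smul_eq_mul, Finset.card_univ, Fintype.card_option]
    rw [show Fintype.card Q = N by rw [hN, Subgroup.relIndex, Subgroup.index, Nat.card_eq_fintype_card]]
  have hPc : (fs P \ fs F).card = p - f := by
    rw [Finset.card_sdiff_of_subset (hfsub (hFA.trans le_sup_left)), hfs, hfs]
  have hle := Finset.card_le_card hsub
  rw [hU, hPc] at hle
  have hfp : f ≤ p := Subgroup.card_le_of_le (hFA.trans le_sup_left)
  have hfpos : 0 < f := Nat.card_pos
  have hge : p - f ≤ (N + 1) * (c - f) := by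
    refine Nat.le_of_mul_le_mul_right ?_ hfpos
    zify [hfp, hfc] at *
    nlinarith
  have heq := Finset.eq_of_subset_of_card_le hsub (by rw [hU, hPc]; exact hge)
  intro v hv
  by_cases hvF : v ∈ F
  · exact Or.inl (hFA hvF)
  have hmem : v ∈ fs P \ fs F := by simpa [fs] using ⟨hv, hvF⟩
  rw [← heq] at hmem
  simp only [fs, Finset.mem_biUnion, Finset.mem_sdiff, Finset.mem_filter, Finset.mem_univ,
    true_and] at hmem
  obtain ⟨i, hi, -⟩ := hmem
  rcases i with _ | q
  · exact Or.inl hi
  · exact Or.inr ⟨q.out, q.out.2, hi⟩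

/-- **Best offenders lie in the 2-core**: if all 2-subgroups are abelian and no two involutions have
a product of order three, the normal closure of a quadratic best offender is a 2-group. -/
theorem isPGroup_nclIn (X : Subgroup (MulAut V)) (hX : Good X) (A : Subgroup (MulAut V)) (hA : Off X A) :
    IsPGroup 2 (nclIn X A) := by
  revert hX A
  refine WellFoundedLT.induction (motive := fun X : Subgroup (MulAut V) =>
    Good X → ∀ A, Off X A → IsPGroup 2 (nclIn X A)) X ?_
  intro X IH0 hX A hA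
  have IH : ∀ Y < X, ∀ A, Off Y A → IsPGroup 2 (nclIn Y A) :=
    fun Y hY A hA => IH0 Y hY (hX.mono hY.le) A hA
  by_cases h2 : IsPGroup 2 X
  · exact h2.to_le (nclIn_le hA.le)
  by_cases hall : ∀ g ∈ X, Com A (cj g A)
  · rintro ⟨z, hz⟩
    refine ⟨1, Subtype.ext ?_⟩
    rw [pow_one, pow_two]
    show z * z = 1
    set S := {z | ∃ y ∈ X, ∃ a ∈ A, z = y * a * y⁻¹}
    have hgen : ∀ x ∈ S, ∀ y ∈ S, x * y = y * x := by
      rintro _ ⟨u, hu, a, ha, rfl⟩ _ ⟨v, hv, b, hb, rfl⟩
      have h := (hall (u⁻¹ * v) (mul_mem (inv_mem hu) hv)).cj u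
      rw [cj_mul, mul_inv_cancel_left] at h
      exact h _ (mem_cj.mpr ⟨a, ha, rfl⟩) _ (mem_cj.mpr ⟨b, hb, rfl⟩)
    have hab : ∀ x ∈ closure S, ∀ y ∈ closure S, x * y = y * x := by
      have h1 : closure S ≤ centralizer S := (closure_le _).mpr fun x hx =>
        mem_centralizer_iff.mpr fun y hy => hgen y hy x hx
      intro x hx y hy
      exact mem_centralizer_iff.mp
        ((closure_le _).mpr (fun y hy => mem_centralizer_iff.mpr fun x hx =>
          (mem_centralizer_iff.mp (h1 hx) y hy).symm) hy :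
            y ∈ centralizer (closure S : Set (MulAut V))) x hx
    induction hz using closure_induction with
    | mem x hx =>
      obtain ⟨u, -, a, ha, rfl⟩ := hx
      rw [conj_mul, hA.sq a ha, mul_one, mul_inv_cancel]
    | one => exact one_mul 1
    | mul x y hx hy hx2 hy2 =>
      calc x * y * (x * y) = x * (y * x) * y := by simp only [mul_assoc]
        _ = x * (x * y) * y := by rw [hab x hx y hy]
        _ = (x * x) * (y * y) := by simp only [mul_assoc]
        _ = 1 := by rw [hx2, hy2, one_mul]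
    | inv x _ hx2 => rw [← mul_inv_rev, hx2, inv_one]
  exfalso
  push Not at hall
  obtain ⟨g, hg, hnc⟩ := hall
  set B := cj g A with hBdef
  have hB : Off X B := hA.conj hg
  obtain ⟨a, ha, b0, hb0, hab⟩ : ∃ a ∈ A, ∃ b ∈ B, a * b ≠ b * a := by
    simpa [Com] using hnc
  have haX := hA.le ha
  have hanc : ∃ x ∈ X, a * x ≠ x * a := ⟨b0, hB.le hb0, hab⟩
  set E := cj a B with hEdef
  have hE : Off X E := hB.conj haX
  have hBE : ¬ Com B E := not_com_conj hX IH hA hB hnc ha hanc
  have hAB : cj g⁻¹ B = A := by rw [hBdef, cj_mul, inv_mul_cancel, cj_one]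
  have hnc' : ¬ Com B (cj g⁻¹ B) := by rw [hAB]; exact fun h => hnc h.symm
  have htop := sup_eq_of_not_com hX IH hA hB hnc
  have hlt := card_fx_lt hX IH h2 hA hg hnc
  have hcB : Nat.card (fx B) = Nat.card (fx A) := card_fx_cj g A
  have hcE : Nat.card (fx E) = Nat.card (fx A) := by rw [hEdef, card_fx_cj, hcB]
  obtain ⟨w, hw, hwF⟩ : ∃ w ∈ fx E, w ∉ fx X := by
    by_contra hcon
    push Not at hcon
    exact absurd (Subgroup.card_le_of_le (show fx E ≤ fx X from hcon)) (by omega)
  have hEP : ∀ v ∈ fx E, v ∈ fx A ⊔ fx B := by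
    intro v hv
    rw [hEdef, fx_cj] at hv
    obtain ⟨u, hu, rfl⟩ := hv
    exact apply_mem_sup hA hB htop haX (le_sup_right (a := fx A) hu)
  obtain ⟨b, hb, hwD⟩ : ∃ b ∈ B, w ∈ fx (cj b A) := by
    rcases cover hX IH h2 hB (inv_mem hg) hnc' w (by rw [hAB, sup_comm]; exact hEP w hw) with h | h
    · exact absurd (fx_inf_eq (sup_eq_of_not_com hX IH hB hE hBE) ▸ ⟨h, hw⟩) hwF
    · rwa [hAB] at h
  have hbX := hB.le hb
  set D := cj b A with hDdef
  have hD : Off X D := hA.conj hbX
  have hDE : Com D E := by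
    by_contra h
    exact hwF (fx_inf_eq (sup_eq_of_not_com hX IH hD hE h) ▸ ⟨hwD, hw⟩)
  have hDB : ¬ Com D B := fun h => hnc (by
    have := h.cj b⁻¹
    rwa [hDdef, cj_mul, inv_mul_cancel, cj_one, cj_self (inv_mem hb)] at this)
  have hBD : cj (g * b⁻¹) D = B := by rw [hDdef, cj_mul, inv_mul_cancel_right]
  have hEnc : ∃ e ∈ E, ∃ x ∈ X, e * x ≠ x * e := by
    obtain ⟨x, hx, y, hy, hne⟩ : ∃ x ∈ B, ∃ y ∈ E, x * y ≠ y * x := by simpa [Com] using hBE
    exact ⟨y, hy, x, hB.le hx, fun h => hne h.symm⟩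
  have hDEfx : fx E = fx D := by
    refine Subgroup.eq_of_le_of_card_ge (fun v hv => ?_) (by rw [hDdef, card_fx_cj, hcE])
    have hvP : v ∈ fx D ⊔ fx B := by
      rw [hEdef, fx_cj] at hv
      obtain ⟨u, hu, rfl⟩ := hv
      exact apply_mem_sup hD hB (sup_eq_of_not_com hX IH hD hB hDB) haX (le_sup_right (a := fx D) hu)
    rcases cover hX IH h2 hD (mul_mem hg (inv_mem hbX)) (by rw [hBD]; exact hDB) v
      (by rw [hBD]; exact hvP) with h | ⟨d, hd, h⟩
    · exact h
    rw [hBD] at h
    have hdB : Off X (cj d B) := hB.conj (hD.le hd)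
    by_cases hc : Com E (cj d B)
    · have := (com_trans hX IH hD hdB hDE.symm hc hEnc).cj d⁻¹
      rw [cj_self (inv_mem hd), cj_mul, inv_mul_cancel, cj_one] at this
      exact absurd this hDB
    · exact fun x hx => (fx_inf_eq (sup_eq_of_not_com hX IH hE hdB hc) ▸ ⟨hv, h⟩ : v ∈ fx X) x
        (hD.le hx)
  have ha2 : a * a = 1 := hA.sq a ha
  have hb2 : b * b = 1 := hB.sq b hb
  have haa : ∀ v, a (a v) = v := fun v => by rw [← MulAut.mul_apply, ha2]; rfl
  have hbb : ∀ v, b (b v) = v := fun v => by rw [← MulAut.mul_apply, hb2]; rfl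
  have habu : ∀ u ∈ fx A, a (b u) ∈ fx B := by
    intro u hu
    have h : b u ∈ fx E := by rw [hDEfx, hDdef, fx_cj]; exact mem_map_of_mem _ hu
    rw [hEdef, fx_cj] at h
    obtain ⟨u', hu', h'⟩ := h
    rw [← h']
    show a (a u') ∈ fx B
    rwa [haa]
  have hbaw : ∀ u ∈ fx B, b (a u) ∈ fx A := by
    intro u hu
    have h : a u ∈ fx D := by rw [← hDEfx, hEdef, fx_cj]; exact mem_map_of_mem _ hu
    rw [hDdef, fx_cj] at h
    obtain ⟨u', hu', h'⟩ := h
    rw [← h']
    show b (b u') ∈ fx A
    rwa [hbb]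
  have heqP : ∀ v ∈ fx A ⊔ fx B, (a * b * a) v = (b * a * b) v := by
    let S : Subgroup V :=
      { carrier := {v | (a * b * a) v = (b * a * b) v}
        one_mem' := by simp
        mul_mem' := fun {x y} hx hy => by
          simp only [Set.mem_ofPred_eq, map_mul] at hx hy ⊢
          rw [hx, hy]
        inv_mem' := fun {x} hx => by
          simp only [Set.mem_ofPred_eq, map_inv] at hx ⊢
          rw [hx] }
    refine fun v hv => (sup_le (fun u hu => ?_) (fun u hu => ?_) : fx A ⊔ fx B ≤ S) hv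
    · show a (b (a u)) = b (a (b u))
      rw [hu a ha, habu u hu b hb]
    · show a (b (a u)) = b (a (b u))
      rw [hu b hb, hbaw u hu a ha]
  set t := (a * b) ^ 3 with ht
  have htX : t ∈ X := pow_mem (mul_mem haX hbX) 3
  have htP : ∀ v ∈ fx A ⊔ fx B, t v = v := by
    intro v hv
    have h1 : t = (a * b * a) * (b * a * b) := by rw [ht, pow_three]; group
    rw [h1, MulAut.mul_apply, ← heqP v hv]
    show a (b (a (a (b (a v))))) = v
    rw [haa, hbb, haa]
  have htt : t * t = 1 := MulEquiv.ext fun v => by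
    have hm := div_mem_sup hA hB htop htX v
    have h1 : t v = (t v * v⁻¹) * v := by rw [inv_mul_cancel_right]
    calc t (t v) = t ((t v * v⁻¹) * v) := by rw [← h1]
      _ = (t v * v⁻¹) * ((t v * v⁻¹) * v) := by rw [map_mul, htP _ hm, ← h1]
      _ = v := by rw [← mul_assoc, hX.ex, one_mul]
  have hbab : (b * a * b) * (b * a * b) = 1 := by
    calc b * a * b * (b * a * b) = b * a * (b * b) * a * b := by simp only [mul_assoc]
      _ = b * (a * a) * b := by rw [hb2]; simp only [mul_assoc, one_mul]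
      _ = 1 := by rw [ha2, mul_one, hb2]
  have habab : (a * (b * a * b)) ^ 3 = 1 := by
    calc (a * (b * a * b)) ^ 3 = ((a * b) ^ 2) ^ 3 := by simp only [pow_two, mul_assoc]
      _ = t ^ 2 := by rw [ht, ← pow_mul, ← pow_mul]
      _ = 1 := by rw [pow_two, htt]
  have h1 := hX.noS3 a haX _ (mul_mem (mul_mem hbX haX) hbX) ha2 hbab habab
  have h3 : b * a * b = a := by
    calc b * a * b = (a * a) * (b * a * b) := by rw [ha2, one_mul]
      _ = a * (a * (b * a * b)) := mul_assoc _ _ _
      _ = a := by rw [h1, mul_one]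
  have hAB' : fx A ≤ fx B := by
    intro u hu
    have h4 : b (a (b u)) = a u := congrArg (fun x : MulAut V => x u) h3
    rw [hu a ha, habu u hu b hb] at h4
    rw [← h4]
    exact habu u hu
  have hAF : fx A ≤ fx X := fx_inf_eq htop ▸ le_inf le_rfl hAB'
  exact absurd (Subgroup.card_le_of_le hAF) (by omega)

end CfsgLib.Kinf.Spread
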