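import Cfsg.Agent.Kinf.Leibniz

/-!
Stabilisers of chief series, and complete reducibility for subnormal subgroups.
-/

set_option autoImplicit false
set_option linter.unusedSectionVars false
set_option linter.style.haveILetI false

namespace CfsgLib.Kinf

open Subgroup CfsgLib.Functor
open scoped CfsgLib.Functor commutatorElement

variable {G : Type*} [Group G]

theorem commutator_zpowers_le_iff {U V : Subgroup G} [V.Normal] {x : G} :
    ⁅U, zpowers x⁆ ≤ V ↔ ∀ u ∈ U, ⁅x, u⁆ ∈ V := by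
  set π := QuotientGroup.mk' V with hπ
  have h1 : ⁅U, zpowers x⁆ ≤ V ↔ π x ∈ centralizer ((U.map π : Subgroup _) : Set (G ⧸ V)) := by
    rw [← zpowers_le, ← commutator_eq_bot_iff_le_centralizer, ← MonoidHom.map_zpowers,
      ← map_commutator, Subgroup.map_eq_bot_iff, hπ, QuotientGroup.ker_mk', commutator_comm]
  rw [h1]
  constructor
  · intro h u hu
    rw [← QuotientGroup.eq_one_iff]
    show π ⁅x, u⁆ = 1
    rw [map_commutatorElement, commutatorElement_eq_one_iff_mul_comm]
    exact (mem_centralizer_iff.1 h _ (mem_map_of_mem π hu)).symm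
  · intro h
    refine mem_centralizer_iff.2 ?_
    rintro _ ⟨u, hu, rfl⟩
    refine Eq.symm ?_
    rw [← commutatorElement_eq_one_iff_mul_comm, ← map_commutatorElement]
    exact (QuotientGroup.eq_one_iff _).2 (h u hu)

/-- The elements trivial on every chief factor below `N` form a normal subgroup. -/
theorem exists_stabilizer [Finite G] (N : Subgroup G) :
    ∃ D : Subgroup G, D.Normal ∧ ∀ x, x ∈ D ↔ KillsBelow x 1 N := by
  classical
  let F : Subgroup G × Subgroup G → Subgroup G := fun q =>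
    if h : Cfsg.IsChiefFactor q.1 q.2 ∧ q.1 ≤ N then
      (haveI := h.1.2.1; haveI := h.1.2.2.1
       normal_sectionCentralizer (N := (⊤ : Subgroup G)) (X := q.1) (W := q.2)).choose
    else ⊤
  have hF : ∀ q, (F q).Normal := by
    intro q
    by_cases h : Cfsg.IsChiefFactor q.1 q.2 ∧ q.1 ≤ N
    · haveI := h.1.2.1; haveI := h.1.2.2.1
      simp only [F, dif_pos h]
      exact (normal_sectionCentralizer (N := (⊤ : Subgroup G)) (X := q.1) (W := q.2)).choose_spec.1
    · simp only [F, dif_neg h]; infer_instance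
  refine ⟨⨅ q, F q, normal_iInf_normal hF, fun x => ?_⟩
  rw [mem_iInf]
  constructor
  · intro hx U V hUV hU
    haveI := hUV.2.1; haveI := hUV.2.2.1
    have h := hx (U, V)
    simp only [F, dif_pos (show Cfsg.IsChiefFactor U V ∧ U ≤ N from ⟨hUV, hU⟩)] at h
    exact commutator_zpowers_le_iff.2
      (((normal_sectionCentralizer (N := (⊤ : Subgroup G)) (X := U) (W := V)).choose_spec.2 x).1 h).2
  · intro hx q
    by_cases h : Cfsg.IsChiefFactor q.1 q.2 ∧ q.1 ≤ N
    · haveI := h.1.2.1; haveI := h.1.2.2.1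
      simp only [F, dif_pos h]
      exact ((normal_sectionCentralizer (N := (⊤ : Subgroup G)) (X := q.1) (W := q.2)).choose_spec.2 x).2
        ⟨mem_top x, commutator_zpowers_le_iff.1 (hx q.1 q.2 h.1 h.2)⟩
    · simp only [F, dif_neg h]; exact mem_top x

section Finite

variable [Finite G] {p : ℕ} [Fact p.Prime]

theorem killsBelow_of_mem {T N : Subgroup G} [T.Normal] (hT : IsPGroup p T) (hN : N ≤ T) {g : G}
    (hg : g ∈ T) : KillsBelow g 1 N := fun _ _ hUV hU =>
  commutator_zpowers_le hUV hT (hU.trans hN) hg le_rfl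

/-- A `p'`-element trivial on every chief factor of a normal `p`-subgroup centralizes it. -/
theorem mem_centralizer_of_killsBelow {N : Subgroup G} [N.Normal] (hN : IsPGroup p N) {x : G}
    (hx : (orderOf x).Coprime p) (h : KillsBelow x 1 N) : x ∈ centralizer (N : Set G) := by
  suffices key : ∀ M : Subgroup G, M.Normal → M ≤ N → ∀ a ∈ M, Commute x a from
    mem_centralizer_iff.2 fun a ha => (key N inferInstance le_rfl a ha).eq.symm
  intro M
  induction M using WellFoundedLT.induction with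
  | _ M ih =>
    intro hM hMN a ha
    by_cases hM1 : M = ⊥
    · rw [hM1, mem_bot] at ha
      rw [ha]; exact Commute.one_right x
    obtain ⟨V, -, hV⟩ := exists_chiefFactor_below hM inferInstance (bot_lt_iff_ne_bot.2 hM1)
    haveI := hV.2.2.1
    have hz : ⁅x, a⁆ ∈ V := commutator_zpowers_le_iff.1 (h M V hV hMN) a ha
    have hxz := ih V hV.1 inferInstance (hV.1.le.trans hMN) _ hz
    set z := ⁅x, a⁆ with hzdef
    have hit : ∀ n : ℕ, x ^ n * a * (x ^ n)⁻¹ = z ^ n * a := by
      intro n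
      induction n with
      | zero => simp
      | succ n ihn =>
        calc x ^ (n + 1) * a * (x ^ (n + 1))⁻¹ = x * (x ^ n * a * (x ^ n)⁻¹) * x⁻¹ := by group
          _ = x * z ^ n * a * x⁻¹ := by rw [ihn]; group
          _ = z ^ n * (x * a * x⁻¹) := by rw [(hxz.pow_right n).eq]; group
          _ = z ^ n * (z * a) := by rw [hzdef, commutatorElement_def]; group
          _ = z ^ (n + 1) * a := by rw [pow_succ, mul_assoc (z ^ n) z a]
    have h1 : z ^ orderOf x = 1 := by
      have := hit (orderOf x)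
      rw [pow_orderOf_eq_one, one_mul, inv_one, mul_one] at this
      exact mul_eq_right.1 this.symm
    obtain ⟨k, hk⟩ := IsPGroup.iff_orderOf.1 hN ⟨z, hMN (hV.1.le hz)⟩
    rw [Subgroup.orderOf_mk] at hk
    have h2 : orderOf z = 1 := by
      rcases k with _ | k
      · simpa using hk
      · exact absurd ((dvd_pow_self p k.succ_ne_zero).trans (hk ▸ orderOf_dvd_of_pow_eq_one h1))
          ((Fact.out : p.Prime).coprime_iff_not_dvd.1 hx.symm)
    rw [orderOf_eq_one_iff, hzdef, commutatorElement_eq_one_iff_mul_comm] at h2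
    exact h2

/-- A subgroup without nontrivial `p'`-elements is a `p`-group. -/
theorem isPGroup_of_no_coprime {D : Subgroup G}
    (h : ∀ x ∈ D, (orderOf x).Coprime p → x = 1) : IsPGroup p D := by
  rintro ⟨x, hx⟩
  obtain ⟨k, m, hm, hkm⟩ := Nat.exists_eq_pow_mul_and_not_dvd (orderOf_pos x).ne' p
    (Fact.out : p.Prime).ne_one
  refine ⟨k, Subtype.ext (h _ (pow_mem hx _) ?_)⟩
  rw [Subgroup.coe_pow, orderOf_pow' x (pow_ne_zero k (Fact.out : p.Prime).ne_zero),
    hkm, Nat.gcd_mul_right_left, Nat.mul_div_cancel_left _ (pow_pos (Fact.out : p.Prime).pos k)]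
  exact ((Fact.out : p.Prime).coprime_iff_not_dvd.2 hm).symm

end Finite

section CR

/-- Every `H`-invariant subgroup of `V` has an `H`-invariant complement in `V`. -/
def CompRed (V H : Subgroup G) : Prop :=
  ∀ W ≤ V, H ≤ normalizer (W : Set G) →
    ∃ W' ≤ V, H ≤ normalizer (W' : Set G) ∧ W ⊓ W' = ⊥ ∧ W ⊔ W' = V

theorem le_normalizer_of_cj_le {H W : Subgroup G} (h : ∀ x ∈ H, ∀ w ∈ W, x * w * x⁻¹ ∈ W) :
    H ≤ normalizer (W : Set G) := fun x hx => mem_normalizer_iff.2 fun w =>
  ⟨h x hx w, fun hw => by simpa [mul_assoc] using h x⁻¹ (inv_mem hx) _ hw⟩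

theorem le_normalizer_sup' {H W W' : Subgroup G} (h : H ≤ normalizer (W : Set G))
    (h' : H ≤ normalizer (W' : Set G)) : H ≤ normalizer ((W ⊔ W' : Subgroup G) : Set G) := fun x hx => by
  rw [mem_normalizer_iff_cj, Subgroup.map_sup, mem_normalizer_iff_cj.1 (h hx), mem_normalizer_iff_cj.1 (h' hx)]

theorem le_normalizer_inf' {H W W' : Subgroup G} (h : H ≤ normalizer (W : Set G))
    (h' : H ≤ normalizer (W' : Set G)) : H ≤ normalizer ((W ⊓ W' : Subgroup G) : Set G) := fun x hx => by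
  rw [mem_normalizer_iff_cj, cj_inf, mem_normalizer_iff_cj.1 (h hx), mem_normalizer_iff_cj.1 (h' hx)]

/-- Clifford: complete reducibility passes to normal subgroups. -/
theorem CompRed.of_normal [Finite G] {V H N : Subgroup G} (hab : V ≤ centralizer (V : Set G))
    (h : CompRed V H) (hNH : N ≤ H) (hHN : H ≤ normalizer (N : Set G))
    (hHV : H ≤ normalizer (V : Set G)) : CompRed V N := by
  classical
  intro W hWV hNW
  set S : Set (Subgroup G) := {W' | W' ≤ V ∧ N ≤ normalizer (W' : Set G) ∧ W ⊓ W' = ⊥}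
  obtain ⟨W', hW'⟩ := (Set.toFinite S).exists_maximal ⟨⊥, bot_le, by rw [normalizer_eq_top]; exact le_top, inf_bot_eq _⟩
  obtain ⟨hW'V, hNW', hdisj⟩ := hW'.prop
  refine ⟨W', hW'V, hNW', hdisj, le_antisymm (sup_le hWV hW'V) ?_⟩
  -- the socle for N
  set M₀ : Set (Subgroup G) := {M | M ≤ V ∧ N ≤ normalizer (M : Set G) ∧ M ≠ ⊥ ∧
    ∀ M' ≤ M, N ≤ normalizer (M' : Set G) → M' = ⊥ ∨ M' = M} with hM₀
  set Soc := sSup M₀ with hSoc
  have hSocV : Soc ≤ V := sSup_le fun M hM => hM.1
  have hSocH : H ≤ normalizer (Soc : Set G) := by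
    refine le_normalizer_of_cj_le fun x hx w hw => ?_
    have hle : x ⋆ Soc ≤ Soc := by
      rw [hSoc, sSup_eq_iSup, Subgroup.map_iSup]
      refine iSup_le fun M => ?_
      rw [Subgroup.map_iSup]
      refine iSup_le fun hM => le_iSup₂_of_le (x ⋆ M) ?_ le_rfl
      obtain ⟨h1, h2, h3, h4⟩ := hM
      have hxN : x ⋆ N = N := mem_normalizer_iff_cj.1 (hHN hx)
      have hxV : x ⋆ V = V := mem_normalizer_iff_cj.1 (hHV hx)
      refine ⟨hxV ▸ cj_mono x h1, ?_, fun he => h3 (cj_eq_bot_iff.1 he), fun M' hM' hNM' => ?_⟩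
      · rw [← hxN, ← cj_normalizer]; exact cj_mono x h2
      · rcases h4 (x⁻¹ ⋆ M') (by rw [← cj_inv_cj x M]; exact cj_mono _ hM') (by
          rw [← cj_inv_cj x N, ← cj_normalizer]
          rw [hxN]
          exact cj_mono _ hNM') with he | he
        · exact Or.inl (cj_eq_bot_iff.1 he)
        · exact Or.inr (by rw [← he, cj_cj_inv])
    exact hle (conj_mem_cj hw)
  obtain ⟨C, hCV, hHC, hCdisj, hCsup⟩ := h Soc hSocV hSocH
  have hC : C = ⊥ := by
    by_contra hC
    obtain ⟨M, hMC, hM⟩ := (Set.toFinite {M : Subgroup G | N ≤ normalizer (M : Set G) ∧ M ≠ ⊥}).exists_le_minimal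
      (a := C) ⟨hNH.trans hHC, hC⟩
    refine hM.prop.2 (le_bot_iff.1 (hCdisj ▸ le_inf (le_sSup ⟨hMC.trans hCV, hM.prop.1, hM.prop.2,
      fun M' hM' hN' => ?_⟩) hMC))
    by_cases h' : M' = ⊥
    · exact Or.inl h'
    · exact Or.inr (le_antisymm hM' (hM.2 ⟨hN', h'⟩ hM'))
  have hSoc : Soc = V := by rw [← hCsup, hC, sup_bot_eq]
  rw [← hSoc]
  refine sSup_le fun M hM => ?_
  by_contra hMle
  obtain ⟨h1, h2, h3, h4⟩ := hM
  have hMW : M ⊓ (W ⊔ W') = ⊥ := by
    rcases h4 _ inf_le_left (le_normalizer_inf' h2 (le_normalizer_sup' hNW hNW')) with he | he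
    · exact he
    · exact absurd (inf_eq_left.1 he) hMle
  have hWW : W ⊓ (W' ⊔ M) = ⊥ := by
    refine le_bot_iff.1 ?_
    rintro x ⟨hxW, hx⟩
    have hx' : x ∈ W' ⊔ M := hx
    rw [← SetLike.mem_coe, Subgroup.coe_mul_of_left_le_normalizer_right _ _
      ((hW'V.trans hab).trans ((centralizer_le h1).trans (centralizer_le_normalizer (M : Set G))))] at hx'
    obtain ⟨w, hw, m, hm, rfl⟩ := hx'
    have hm1 : m ∈ M ⊓ (W ⊔ W') := ⟨hm, by
      have := mul_mem (inv_mem ((le_sup_right : W' ≤ W ⊔ W') hw))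
        ((le_sup_left : W ≤ W ⊔ W') (show w * m ∈ W from hxW))
      simpa using this⟩
    rw [hMW, mem_bot] at hm1
    subst hm1
    simp only [mul_one] at hxW ⊢
    exact hdisj ▸ (⟨hxW, hw⟩ : w ∈ W ⊓ W')
  exact hMle ((le_sup_right : M ≤ W' ⊔ M).trans ((hW'.2 ⟨sup_le hW'V h1,
    le_normalizer_sup' hNW' h2, hWW⟩ le_sup_left).trans le_sup_right))

end CR

end CfsgLib.Kinf
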