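import Cfsg.Agent.Kinf.Quartic
import Cfsg.Agent.ZJ.Stable
import Cfsg.Agent.ZJ.Involve
import Cfsg.Agent.S0261

/-!
A K-infinity subgroup of any `p`-subgroup containing `O_p` is normal, in a stable group of
characteristic `p`.
-/

set_option autoImplicit false
set_option linter.unusedSectionVars false
set_option linter.style.haveILetI false

namespace CfsgLib.Kinf

open Subgroup CfsgLib.Functor
open scoped CfsgLib.Functor commutatorElement

universe u

variable {G : Type u} [Group G] [Finite G] {p : ℕ} [Fact p.Prime]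

/-- As `kInf_normal_of`, for any `p`-subgroup containing `O_p`. -/
theorem kInfLower_normal_of_le S (T A : Subgroup G) (hT : T = Cfsg.pCore p G) [A.Normal]
    (hTS : T ≤ S) (hAT : A ≤ T) (hA2 : ⁅A, A⁆ ≤ centralizer (A : Set G))
    (hA3 : ⁅T, A⁆ ≤ A ⊓ centralizer (A : Set G))
    (E1 : ∀ g ∈ S, ⁅⁅A ⊓ centralizer (A : Set G), zpowers g⁆, zpowers g⁆ = ⊥ →
      ⁅⁅A, zpowers g⁆, zpowers g⁆ ≤ A ⊓ centralizer (A : Set G) → g ∈ T)
    (E2 : ∀ B Q : Subgroup G, B ≤ S → B ∈ Cfsg.kLowerStarFamily Q → A ≤ Q →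
      B ⊓ centralizer (B : Set G) ≤ T →
      ⁅B, A ⊓ centralizer (A : Set G)⁆ ≤ B ⊓ centralizer (B : Set G) → B ≤ T) :
    (Cfsg.inducedFunctor (G := G) Cfsg.kInfLower S).Normal := by
  set ZA := A ⊓ centralizer (A : Set G) with hZA
  have hTn : T.Normal := hT ▸ inferInstance
  have hTp : IsPGroup p T := hT ▸ Solvable.isPGroup_pCore p
  have hZAA : ⁅ZA, A⁆ = ⊥ := commutator_eq_bot_iff_le_centralizer.2 inf_le_right
  have hAclass : A ∈ Cfsg.classTwoSubgroups G := hA2
  set f := S.subtype with hf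
  have hfi := S.subtype_injective
  set A' := A.subgroupOf S with hA'
  have hA'map : A'.map f = A := map_subgroupOf_eq_of_le (hAT.trans hTS)
  -- A is a test and a member
  have hAlow : ∀ Q : Subgroup G, Q ≤ S → A ∈ Cfsg.kLowerStarFamily Q := by
    intro Q hQS
    refine ⟨hAclass, fun x _ => by rw [normalizer_eq_top]; exact mem_top x, ?_⟩
    intro X hX hXQ hAX hXX hZX
    have hXT : X ≤ T := by
      intro g hg
      have hg' : zpowers g ≤ X := zpowers_le.2 hg
      refine E1 g (hQS (hXQ hg)) (le_bot_iff.1 (hZX ▸ commutator_mono (commutator_mono le_rfl hg') hg')) ?_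
      refine le_inf ?_ ?_
      · exact (commutator_mono (commutator_le_left A _) le_rfl).trans (commutator_le_left A _)
      · refine le_trans (commutator_mono ((commutator_mono le_rfl hg').trans
          (le_normalizer_iff_commutator_le_right.1 hAX)) hg') ?_
        rw [le_centralizer_iff, ← commutator_eq_bot_iff_le_centralizer]
        exact hXX
    rw [commutator_comm]
    exact (commutator_mono hXT le_rfl).trans hA3
  have hupA : ∀ Q : Subgroup G, Q ≤ T → A ∈ Cfsg.kUpperStarFamily Q := fun Q hQ =>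
    ⟨hAclass, by rw [commutator_comm]; exact (commutator_mono hQ le_rfl).trans hA3⟩
  have hupper : ∀ B Q : Subgroup G, B ≤ S → A ≤ Q → B ∈ Cfsg.kUpperStarFamily Q →
      B ≤ T := by
    intro B Q hBS hAQ hB g hg
    have hg' : zpowers g ≤ B := zpowers_le.2 hg
    have h2 : ⁅⁅A, zpowers g⁆, zpowers g⁆ = ⊥ := by
      refine le_bot_iff.1 ((commutator_mono (commutator_mono hAQ hg') hg').trans ?_)
      rw [commutator_comm Q B]
      exact (commutator_mono hB.2 le_rfl).trans
        (commutator_eq_bot_iff_le_centralizer.2 inf_le_right).le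
    exact E1 g (hBS hg) (le_bot_iff.1 (h2 ▸ commutator_mono (commutator_mono inf_le_left le_rfl) le_rfl))
      (h2.le.trans bot_le)
  have hlower : ∀ B Q : Subgroup G, B ≤ S → A ≤ Q → B ∈ Cfsg.kLowerStarFamily Q →
      B ≤ T := by
    intro B Q hBS hAQ hB
    have hAB : A ≤ normalizer (B : Set G) := hAQ.trans hB.2.1
    have hBA : ⁅A, B⁆ ≤ B := le_normalizer_iff_commutator_le_right.1 hAB
    set ZB := B ⊓ centralizer (B : Set G) with hZB
    have hZBT : ZB ≤ T := by
      intro g hg
      have hg' : zpowers g ≤ ZB := zpowers_le.2 hg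
      have h2 : ⁅⁅A, zpowers g⁆, zpowers g⁆ = ⊥ := by
        refine le_bot_iff.1 ((commutator_mono ((commutator_mono le_rfl
          (hg'.trans inf_le_left)).trans hBA) hg').trans ?_)
        rw [commutator_comm]
        exact (commutator_eq_bot_iff_le_centralizer.2 inf_le_right).le
      exact E1 g (hBS hg.1) (le_bot_iff.1 (h2 ▸ commutator_mono (commutator_mono inf_le_left le_rfl) le_rfl))
        (h2.le.trans bot_le)
    refine E2 B Q hBS hB hAQ hZBT ?_
    refine hB.2.2 ZA (classTwo_of_comm (le_centralizer_iff_isMulCommutative.1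
      (inf_le_right.trans (centralizer_le inf_le_left)))) (inf_le_left.trans hAQ) ?_ ?_ ?_
    · intro x _; rw [normalizer_eq_top]; exact mem_top x
    · rw [commutator_eq_bot_iff_le_centralizer.2 (inf_le_right.trans (centralizer_le inf_le_left) :
        ZA ≤ centralizer (ZA : Set G)), commutator_bot_right]
    · refine le_bot_iff.1 (le_trans (commutator_mono ((commutator_mono hZBT inf_le_left).trans hA3)
        (inf_le_left : ZA ≤ A)) hZAA.le)
  -- the induction along the sequence
  have key : ∀ n : ℕ, A ≤ (Cfsg.kSeqOdd ↥S n).map f ∧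
      (Cfsg.kSeqEven ↥S n).map f ≤ T ∧ A ≤ (Cfsg.kSeqEven ↥S n).map f ∧
      (Cfsg.kSeqOdd ↥S (n + 1)).map f ≤ T := by
    have step : ∀ n : ℕ, A ≤ (Cfsg.kSeqOdd ↥S n).map f →
        (Cfsg.kSeqEven ↥S n).map f ≤ T ∧ A ≤ (Cfsg.kSeqEven ↥S n).map f ∧
        (Cfsg.kSeqOdd ↥S (n + 1)).map f ≤ T ∧
        A ≤ (Cfsg.kSeqOdd ↥S (n + 1)).map f := by
      intro n hn
      have he : (Cfsg.kSeqEven ↥S n).map f ≤ T := by
        rw [map_le_iff_le_comap]
        refine sSup_le fun B hB => ?_
        rw [← map_le_iff_le_comap]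
        exact hlower _ _ (map_subtype_le B) hn ((lower_map f hfi).2 hB)
      have hAe : A ≤ (Cfsg.kSeqEven ↥S n).map f := by
        rw [← hA'map]
        refine map_mono (le_sSup ((lower_map f hfi).1 ?_))
        rw [hA'map]
        exact hAlow _ (map_subtype_le _)
      refine ⟨he, hAe, ?_, ?_⟩
      · rw [map_le_iff_le_comap]
        refine sSup_le fun B hB => ?_
        rw [← map_le_iff_le_comap]
        exact hupper _ _ (map_subtype_le B) hAe ((upper_map f hfi).2 hB)
      · rw [← hA'map, kSeqOdd_succ]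
        refine map_mono (le_sSup ((upper_map f hfi).1 ?_))
        rw [hA'map]
        exact hupA _ he
    intro n
    suffices h : A ≤ (Cfsg.kSeqOdd ↥S n).map f from
      ⟨h, (step n h).1, (step n h).2.1, (step n h).2.2.1⟩
    induction n with
    | zero =>
      rw [kSeqOdd_zero, ← MonoidHom.range_eq_map, hf, range_subtype]
      exact hAT.trans hTS
    | succ n ih => exact (step n ih).2.2.2
  have hkey : ∀ n : ℕ, Cfsg.kSeqEven ↥S n ≤ (inclusion hTS).range ∧
      Cfsg.kSeqOdd ↥S (n + 1) ≤ (inclusion hTS).range := by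
    intro n
    rw [inclusion_range]
    exact ⟨map_le_iff_le_comap.1 (key n).2.1, map_le_iff_le_comap.1 (key n).2.2.2⟩
  have h := kInf_map (inclusion hTS) (inclusion_injective hTS) hkey
  have hconv : ∀ K : Subgroup T, (K.map (inclusion hTS)).map f = K.map T.subtype := fun K => by
    rw [map_map]; rfl
  haveI := functor_characteristic (isCharPFunctor_kInf.{u} p).1.2 ↥T hTp
  unfold Cfsg.inducedFunctor
  rw [← h.1, hconv]
  exact ConjAct.normal_of_characteristic_of_normal

/-- Quadratic elements of a Sylow subgroup centralise the chief factors inside `O_p`. -/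
theorem chief_commutator_le_of_stable (S : Sylow p G)
    (hstable : ∀ (N : Subgroup G) [N.Normal], Cfsg.IsNormalizerPStable p (G ⧸ N))
    {g : G} (hgS : g ∈ (S : Subgroup G)) {U V : Subgroup G} (hUV : Cfsg.IsChiefFactor U V)
    (hUT : U ≤ Cfsg.pCore p G) (hq : ⁅⁅U, zpowers g⁆, zpowers g⁆ ≤ V) :
    ⁅U, zpowers g⁆ ≤ V := by
  haveI := hUV.2.1
  haveI hVn := hUV.2.2.1
  have hTp : IsPGroup p (Cfsg.pCore p G) := Solvable.isPGroup_pCore p
  have hTS : Cfsg.pCore p G ≤ S := by
    obtain ⟨n, -, hle⟩ := (isSylowIn_top S).exists_cj_le hTp le_top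
    rwa [mem_normalizer_iff_cj.1 (by rw [normalizer_eq_top]; exact mem_top n)] at hle
  set π := QuotientGroup.mk' V with hπ
  set P := U.map π with hP
  haveI hPn : P.Normal := hUV.2.1.map π (QuotientGroup.mk'_surjective V)
  have hNtop : ∀ x, π x ∈ normalizer (P : Set (G ⧸ V)) := fun x => by
    rw [normalizer_eq_top]; exact mem_top _
  have hquad : ⁅⁅P, zpowers (π g)⁆, zpowers (π g)⁆ = ⊥ := by
    rw [hP, ← MonoidHom.map_zpowers, ← map_commutator, ← map_commutator,
      Subgroup.map_eq_bot_iff, hπ, QuotientGroup.ker_mk']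
    exact hq
  have hUp : IsPGroup p U := hTp.to_le hUT
  have h := hstable V P (hUp.map π) (π g) (hNtop g) hquad
  set Cn := (centralizer (P : Set (G ⧸ V))).subgroupOf (normalizer (P : Set (G ⧸ V)))
  let f : G →* _ ⧸ Cn := (QuotientGroup.mk' Cn).comp (π.codRestrict _ hNtop)
  have hf : Function.Surjective f := fun y => by
    obtain ⟨⟨y, hy⟩, rfl⟩ := QuotientGroup.mk'_surjective Cn y
    obtain ⟨x, rfl⟩ := QuotientGroup.mk'_surjective V y
    exact ⟨x, rfl⟩
  set K := (Cfsg.pCore p (_ ⧸ Cn)).comap f with hK'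
  haveI : K.Normal := Subgroup.Normal.comap inferInstance f
  have hker : ∀ x, x ∈ f.ker ↔ π x ∈ centralizer (P : Set (G ⧸ V)) := fun x => by
    rw [MonoidHom.mem_ker]
    exact (QuotientGroup.eq_one_iff _).trans mem_subgroupOf
  have hUker : U ≤ f.ker := fun x hx => by
    refine (hker x).2 ?_
    have hUU := (chiefFactor_elementary hUV hUp).1
    have : P ≤ centralizer (P : Set (G ⧸ V)) := by
      rw [← commutator_eq_bot_iff_le_centralizer, hP, ← map_commutator, Subgroup.map_eq_bot_iff,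
        hπ, QuotientGroup.ker_mk']
      exact hUU
    exact this (mem_map_of_mem π hx)
  have hUM : ⁅U, f.ker⁆ ≤ V := by
    refine commutator_le.2 fun u hu x hx => ?_
    rw [← QuotientGroup.eq_one_iff]
    show π ⁅u, x⁆ = 1
    rw [map_commutatorElement, commutatorElement_eq_one_iff_mul_comm]
    exact mem_centralizer_iff.1 ((hker x).1 hx) _ (mem_map_of_mem π hu)
  set TK := (S : Subgroup G) ⊓ K with hTK
  have hTKs : IsSylowIn p TK K := (isSylowIn_top S).inf_normal le_top (by rw [normalizer_eq_top])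
  have hKeq : K = f.ker ⊔ TK := by
    refine le_antisymm ?_ (sup_le (f.ker_le_comap _) inf_le_right)
    have h1 := (hTKs.map f)
    have h2 := h1.eq_of_le (Q := K.map f) (by
      rw [hK', map_comap_eq_self_of_surjective hf]; exact Solvable.isPGroup_pCore p) le_rfl h1.le
    intro x hx
    have : f x ∈ TK.map f := h2.ge (mem_map_of_mem f hx)
    rw [← mem_comap, comap_map_eq, sup_comm] at this
    exact this
  have hUK := commutator_le_of_pGroup_action hUV hUM TK hTKs.2.1 hKeq
    (le_inf (hUT.trans hTS) (hUker.trans (f.ker_le_comap _)))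
  exact (commutator_mono le_rfl (zpowers_le.2 (show g ∈ K from h))).trans hUK


theorem kInfLower_normal_of_stable (S : Subgroup G) (hS : IsPGroup p S)
    (hTS : Cfsg.pCore p G ≤ S)
    (hC : centralizer (Cfsg.pCore p G : Set G) ≤ Cfsg.pCore p G)
    (hstable : ∀ (N : Subgroup G) [N.Normal], Cfsg.IsNormalizerPStable p (G ⧸ N)) :
    (Cfsg.inducedFunctor (G := G) Cfsg.kInfLower S).Normal := by
  set T := Cfsg.pCore p G with hT
  have hTp : IsPGroup p T := Solvable.isPGroup_pCore p
  obtain ⟨S₁, hS₁⟩ := hS.exists_le_sylow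
  obtain ⟨H, hHc, hH1, hH2, hH3⟩ := exists_critical hTp
  set A := H.map T.subtype with hA
  haveI hAn : A.Normal := by haveI := hHc; exact ConjAct.normal_of_characteristic_of_normal
  have hAT : A ≤ T := map_subtype_le H
  have hZA : (H ⊓ centralizer (H : Set T)).map T.subtype = A ⊓ centralizer (A : Set G) :=
    center_map T.subtype T.subtype_injective H
  have hA2 : ⁅A, A⁆ ≤ centralizer (A : Set G) := by
    rw [hA, ← map_commutator]
    exact (map_mono ((commutator_mono le_rfl le_top).trans hH2)).trans (hZA.le.trans inf_le_right)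
  have hA3 : ⁅T, A⁆ ≤ A ⊓ centralizer (A : Set G) := by
    have he : T = (⊤ : Subgroup T).map T.subtype := by
      rw [← MonoidHom.range_eq_map, range_subtype]
    rw [← hZA, commutator_comm, hA]
    calc ⁅H.map T.subtype, T⁆ = ⁅H.map T.subtype, (⊤ : Subgroup T).map T.subtype⁆ := by rw [← he]
      _ = ⁅H, (⊤ : Subgroup T)⁆.map T.subtype := (map_commutator _ _ _).symm
      _ ≤ _ := map_mono hH2
  have hA4 : T ⊓ centralizer (A : Set G) = A ⊓ centralizer (A : Set G) := by
    refine le_antisymm (fun x hx => ⟨?_, hx.2⟩) (inf_le_inf_right _ hAT)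
    refine ⟨⟨x, hx.1⟩, hH3 (mem_centralizer_iff.2 fun h hh => Subtype.ext ?_), rfl⟩
    exact mem_centralizer_iff.1 hx.2 _ (mem_map_of_mem _ hh)
  have hstab : ∀ g ∈ (S₁ : Subgroup G), KillsBelow g 1 A → g ∈ T :=
    fun g _ hg => mem_pCore_of_killsBelow hAT hA3 hA4 hC hg
  have hquad : ∀ g ∈ (S₁ : Subgroup G), ∀ U V : Subgroup G, Cfsg.IsChiefFactor U V → U ≤ A →
      ⁅⁅U, zpowers g⁆, zpowers g⁆ ≤ V → ⁅U, zpowers g⁆ ≤ V :=
    fun g hg U V hUV hU hq => chief_commutator_le_of_stable S₁ hstable hg hUV (hU.trans hAT) hq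
  refine kInfLower_normal_of_le S T A rfl hTS hAT hA2 hA3 (fun g hgS h2 hA' => ?_)
    fun B Q hBS hB hAQ hZBT hBZA => lower_le_of_quadratic S₁ T A rfl hAT hA3 hstab
      (fun g hg _ _ _ => hquad g hg) B Q (hBS.trans hS₁) hB hAQ hZBT hBZA
  refine hstab g (hS₁ hgS) fun U V hUV hU => hquad g (hS₁ hgS) U V hUV hU ?_
  exact killsBelow_step (n := 2) (N := A) (N₀ := A ⊓ centralizer (A : Set G)) hA'
    (fun U' V' _ hU' => ((commutator_mono (commutator_mono hU' le_rfl) le_rfl).trans h2.le).trans bot_le)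
    U V hUV hU

/-- `SL₂(p)`, `p` odd, is not involved in a group with abelian Sylow `2`-subgroups. -/
theorem not_involves_sl2_of_abelian_two {M : Type*} [Group M] [Finite M] (hp : p ≠ 2)
    (hab : ∀ S : Sylow 2 M, IsMulCommutative (S : Subgroup M)) :
    ¬ Cfsg.Involves (Matrix.SpecialLinearGroup (Fin 2) (ZMod p)) M := by
  intro h
  obtain ⟨K, f, hf⟩ := ZJ.exists_surjective_of_involves h
  obtain ⟨Q⟩ := (inferInstance : Nonempty (Sylow 2 K))
  obtain ⟨Q', hQ'⟩ := (Q.2.map K.subtype).exists_le_sylow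
  have hcomm : ∀ x y : ↥((Q.mapSurjective hf : Sylow 2 (Matrix.SpecialLinearGroup (Fin 2) (ZMod p))).toSubgroup),
      x * y = y * x := by
    rintro ⟨_, a, ha, rfl⟩ ⟨_, b, hb, rfl⟩
    refine Subtype.ext ?_
    show f a * f b = f b * f a
    rw [← map_mul, ← map_mul]
    refine congrArg f (Subtype.ext ?_)
    haveI := hab Q'
    have h5 := mul_comm' (⟨a, hQ' ⟨a, ha, rfl⟩⟩ : (Q' : Subgroup M)) ⟨b, hQ' ⟨b, hb, rfl⟩⟩
    exact congrArg (fun z : (Q' : Subgroup M) => (z : M)) h5
  have hodd : Odd (Fintype.card (ZMod p)) := by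
    rw [ZMod.card]; exact (Fact.out : p.Prime).odd_of_ne_two hp
  obtain ⟨k, hk, ⟨e⟩⟩ := Cfsg.Agent.S0261.result hodd (Q.mapSurjective hf)
  obtain ⟨x, hx⟩ := e.surjective (QuaternionGroup.a 1)
  obtain ⟨y, hy⟩ := e.surjective (QuaternionGroup.xa 0)
  have h2 := congrArg e (hcomm x y)
  rw [map_mul, map_mul, hx, hy, QuaternionGroup.a_mul_xa, QuaternionGroup.xa_mul_a] at h2
  injection h2 with h2
  have h3 : ((2 : ℕ) : ZMod (2 * 2 ^ k)) = 0 := by
    push_cast; linear_combination -h2
  rw [CharP.cast_eq_zero_iff (ZMod (2 * 2 ^ k)) (2 * 2 ^ k)] at h3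
  have h4 : 2 ^ 1 ≤ 2 ^ k := Nat.pow_le_pow_right (by norm_num) hk
  have := Nat.le_of_dvd (by norm_num) h3
  omega

theorem isNormalizerPStable_quotient_of_abelian_two {M : Type*} [Group M] [Finite M] (hp : p ≠ 2)
    (hab : ∀ S : Sylow 2 M, IsMulCommutative (S : Subgroup M)) (N : Subgroup M) [N.Normal] :
    Cfsg.IsNormalizerPStable p (M ⧸ N) :=
  ZJ.isNormalizerPStable_of_free hp fun h => not_involves_sl2_of_abelian_two hp hab
    (ZJ.involves_sl2_of_qd (ZJ.involves_of_quotient N h))

end CfsgLib.Kinf
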