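import Cfsg.Agent.Kinf.SectionOf
import Cfsg.Agent.Functor.Control
import Cfsg.Agent.ZJ.ControlCore

/-!
Strong fusion controlled by functors: transport, lifting of chains from quotients, and the
reduction to constrained groups.
-/

set_option autoImplicit false
set_option linter.unusedSectionVars false
set_option linter.style.haveILetI false

namespace CfsgLib.Kinf

open Subgroup CfsgLib.Functor
open scoped CfsgLib.Functor

universe u

/-- The functors in `𝓦` control strong fusion in `Γ`. -/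
abbrev Ctl (p : ℕ) (𝓦 : Set (∀ (Q : Type u) [Group Q], Subgroup Q)) (Γ : Type u) [Group Γ] :
    Prop :=
  Cfsg.FamilyControlsStrongFusionIn p (family Γ 𝓦) ⊤

theorem map_cj {G H : Type*} [Group G] [Group H] (f : G →* H) (g : G) (A : Subgroup G) :
    (g ⋆ A).map f = f g ⋆ A.map f := by
  rw [map_map, map_map]
  congr 1
  ext x
  simp

section Maps

variable {G H : Type*} [Group G] [Group H]

theorem chain_map (f : G →* H) {𝓝 : Set (Subgroup G)} {𝓝' : Set (Subgroup H)}
    {S A : Subgroup G} {g : G} (h𝓝 : ∀ N ∈ 𝓝, ∃ N' ∈ 𝓝', N.map f ≤ N') (h : Chain 𝓝 S A g) :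
    Chain 𝓝' (S.map f) (A.map f) (f g) := by
  obtain ⟨w, hw, hag⟩ := h
  refine ⟨f w, ?_, ?_⟩
  · clear hag
    induction hw with
    | nil => simpa using Fuse.nil _
    | @cons w x _ hx ih =>
      obtain ⟨hB, hxB, N, hN, hxN⟩ := hx
      obtain ⟨N', hN', hle⟩ := h𝓝 N hN
      rw [map_mul]
      refine .cons ih ?_
      rw [← map_cj]
      exact ⟨map_mono hB, by rw [← map_cj]; exact map_mono hxB, N', hN',
        hle (mem_map_of_mem f hxN)⟩
  · rintro _ ⟨a, ha, rfl⟩
    simp only [← map_mul, ← map_inv, hag a ha]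

/-- Lifting a chain along a homomorphism, one step at a time. -/
theorem exists_lift_chain (π : G →* H) {𝓝 : Set (Subgroup G)} {𝓝' : Set (Subgroup H)}
    {S A : Subgroup G} (hA : A ≤ S) {h : H}
    (hstep : ∀ (B : Subgroup G) (x' : H), B ≤ S → x' ⋆ B.map π ≤ S.map π →
      (∃ N ∈ 𝓝', x' ∈ N) → ∃ x, π x = x' ∧ x ⋆ B ≤ S ∧ Chain 𝓝 S B x)
    (hch : Chain 𝓝' (S.map π) (A.map π) h) :
    ∃ w, Chain 𝓝 S A w ∧ w ⋆ A ≤ S ∧ ∀ a ∈ A, π (w * a * w⁻¹) = h * π a * h⁻¹ := by
  obtain ⟨w', hw', hag⟩ := hch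
  suffices ∃ w, π w = w' ∧ Chain 𝓝 S A w ∧ w ⋆ A ≤ S by
    obtain ⟨w, hw, hC, hle⟩ := this
    refine ⟨w, hC, hle, fun a ha => ?_⟩
    rw [map_mul, map_mul, map_inv, hw, hag _ (mem_map_of_mem π ha)]
  clear hag
  generalize hA' : A.map π = A' at hw'
  induction hw' with
  | nil => exact ⟨1, map_one π, Chain.one _ _ _, by rwa [cj_one]⟩
  | @cons w' x' _ hx ih =>
    obtain ⟨w, hw, hC, hle⟩ := ih
    obtain ⟨-, hxB, hN⟩ := hx
    obtain ⟨x, hx', hxle, hxC⟩ := hstep (w ⋆ A) x' hle (by rwa [map_cj, hw, hA']) hN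
    exact ⟨x * w, by rw [map_mul, hx', hw], hC.comp hxC, by rwa [← cj_cj]⟩

end Maps

variable {p : ℕ} [Fact p.Prime] {G : Type u} [Group G] [Finite G]
  {𝓦 : Set (∀ (Q : Type u) [Group Q], Subgroup Q)}

theorem controls_of_injective (h𝓦 : ∀ W ∈ 𝓦, Cfsg.IsCharPFunctor.{u} p W) {G' : Type u}
    [Group G'] [Finite G'] (f : G' →* G) (hf : Function.Injective f) {T : Subgroup G'}
    (hT : IsPGroup p ↥T) (h : Controls (locals (family G' 𝓦) ⊤ T) T ⊤) :
    Controls (locals (family G 𝓦) f.range (T.map f)) (T.map f) f.range := by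
  rintro A _ ⟨g, rfl⟩ hA hgA
  have hA' : (A.comap f).map f = A :=
    map_comap_eq_self (hA.trans (by rw [MonoidHom.range_eq_map]; exact map_mono le_top))
  rw [← hA'] at hgA ⊢
  rw [← map_cj, map_le_map_iff_of_injective hf] at hgA
  refine chain_map f ?_ (h _ g (mem_top g) ((comap_mono hA).trans
    (by rw [comap_map_eq_self_of_injective hf])) hgA)
  rintro _ ⟨_, ⟨W, hW, rfl⟩, rfl⟩
  refine ⟨_, ⟨_, ⟨W, hW, rfl⟩, rfl⟩, ?_⟩
  dsimp only
  rw [top_inf_eq, map_normalizer_of_injective f hf,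
    induced_map (h𝓦 W hW).2 f T hT (fun x _ hx => hf (hx.trans f.map_one.symm))]

theorem ctl_of_equiv (h𝓦 : ∀ W ∈ 𝓦, Cfsg.IsCharPFunctor.{u} p W) {G' : Type u}
    [Group G'] [Finite G'] (e : G' ≃* G) (h : Ctl p 𝓦 G') : Ctl p 𝓦 G := by
  obtain ⟨T, hT, h'⟩ := controls_of_family h
  have := controls_of_injective h𝓦 e.toMonoidHom e.injective hT.isPGroup h'
  have hr : e.toMonoidHom.range = ⊤ := MonoidHom.range_eq_top.2 e.surjective
  rw [hr] at this
  refine familyControls_of_controls ?_ this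
  have := hT.map e.toMonoidHom
  rwa [map_top_of_surjective (e.toMonoidHom) e.surjective] at this

theorem controls_subgroup (h𝓦 : ∀ W ∈ 𝓦, Cfsg.IsCharPFunctor.{u} p W) {H T : Subgroup G}
    (h : Ctl p 𝓦 ↥H) (hT : IsSylowIn p T H) : Controls (locals (family G 𝓦) H T) T H := by
  obtain ⟨T', hT', h'⟩ := controls_of_family h
  have h1 := controls_of_injective h𝓦 H.subtype H.subtype_injective hT'.isPGroup h'
  rw [range_subtype] at h1
  have h2 := hT'.map H.subtype
  rw [← MonoidHom.range_eq_map, range_subtype] at h2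
  exact h1.change (family_conjugacy h𝓦) h2 hT

/-- An element acting as a chain of steps in one subgroup agrees with one of its elements. -/
theorem exists_mem_of_chain {N S A : Subgroup G} {g : G} (h : Chain {N} S A g) :
    ∃ x ∈ N, ∀ a ∈ A, x * a * x⁻¹ = g * a * g⁻¹ := by
  obtain ⟨w, hw, hag⟩ := h
  refine ⟨w, ?_, hag⟩
  clear hag
  induction hw with
  | nil => exact one_mem N
  | cons _ hx ih =>
    obtain ⟨-, -, N', hN', hxN⟩ := hx
    rw [Set.mem_singleton_iff] at hN'
    exact mul_mem (hN' ▸ hxN) ih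

section Step

variable (h𝓦 : ∀ W ∈ 𝓦, Cfsg.IsCharPFunctor.{u} p W) (S : Sylow p G)

include h𝓦

omit [Finite G] in
theorem locals_mono {K T : Subgroup G} : ∀ N ∈ locals (family G 𝓦) K T,
    ∃ N' ∈ locals (family G 𝓦) ⊤ T, N ≤ N' := by
  rintro _ ⟨W, hW, rfl⟩
  exact ⟨_, ⟨W, hW, rfl⟩, inf_le_inf_right _ le_top⟩

/-- Control in a subgroup containing `S` gives chains in `S`. -/
theorem chain_of_overgroup (hsub : ∀ H : Subgroup G, H ≠ ⊤ → Ctl p 𝓦 ↥H) {K : Subgroup G}
    (hK : K ≠ ⊤) (hSK : (S : Subgroup G) ≤ K) {A : Subgroup G} {g : G} (hg : g ∈ K)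
    (hA : A ≤ S) (hgA : g ⋆ A ≤ S) :
    Chain (locals (family G 𝓦) ⊤ (S : Subgroup G)) (S : Subgroup G) A g := by
  refine (controls_subgroup h𝓦 (hsub K hK) ((isSylowIn_top S).of_le hSK le_top) A g hg hA hgA).bind ?_
  rintro B x ⟨hB, hxB, N, hN, hx⟩
  obtain ⟨N', hN', hle⟩ := locals_mono h𝓦 N hN
  exact Chain.of_mem hN' (hle hx) hB hxB

/-- All locals are proper when the `p`-core is trivial. -/
theorem controls_of_pCore_eq_bot (hsub : ∀ H : Subgroup G, H ≠ ⊤ → Ctl p 𝓦 ↥H)
    (hU : Cfsg.pCore p G = ⊥) :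
    Controls (locals (family G 𝓦) ⊤ (S : Subgroup G)) (S : Subgroup G) ⊤ := by
  refine controls_top_of_local S (family G 𝓦) (family_conjugacy h𝓦) (fun _ => True)
    (fun A hA => ?_) (fun V hV hV1 hext _ => ?_)
  · obtain ⟨h, h1, h2, h3⟩ := exists_extremal S hA
    exact ⟨h, h1, h2, h3, trivial⟩
  · refine controls_subgroup h𝓦 (hsub _ fun htop => hV1 ?_) (hext.sylowIn S.2)
    exact le_bot_iff.1 (hU ▸ Solvable.le_pCore p (normalizer_eq_top_iff.1 htop) (S.2.to_le hV))

omit h𝓦 in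
theorem inf_normal_pPrime_eq_bot {N : Subgroup G} (hN : (Nat.card N).Coprime p) :
    (S : Subgroup G) ⊓ N = ⊥ := by
  refine (disjoint_of_coprime_natCard ?_).eq_bot
  obtain ⟨k, hk⟩ := S.2.exists_card_eq
  rw [hk]
  exact Nat.Coprime.pow_left k hN.symm

/-- A nontrivial normal `p'`-subgroup can be factored out. -/
theorem controls_of_pPrime (N : Subgroup G) [N.Normal] (hN : (Nat.card N).Coprime p)
    (hq : Ctl p 𝓦 (G ⧸ N)) :
    Controls (locals (family G 𝓦) ⊤ (S : Subgroup G)) (S : Subgroup G) ⊤ := by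
  set π := QuotientGroup.mk' N with hπ
  have hinj : ∀ x ∈ (S : Subgroup G), π x = 1 → x = 1 := fun x hx h => by
    have : x ∈ (S : Subgroup G) ⊓ N := ⟨hx, (QuotientGroup.eq_one_iff x).1 h⟩
    rwa [inf_normal_pPrime_eq_bot S hN, mem_bot] at this
  have hSb : IsSylowIn p ((S : Subgroup G).map π) ⊤ := by
    have := (isSylowIn_top S).map π
    rwa [map_top_of_surjective π (QuotientGroup.mk'_surjective N)] at this
  have hc := (controls_iff_family (family_conjugacy h𝓦) hSb).1 hq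
  have hstep : ∀ (B : Subgroup G) (x' : G ⧸ N), B ≤ (S : Subgroup G) →
      x' ⋆ B.map π ≤ (S : Subgroup G).map π →
      (∃ M ∈ locals (family (G ⧸ N) 𝓦) ⊤ ((S : Subgroup G).map π), x' ∈ M) →
      ∃ x, π x = x' ∧ x ⋆ B ≤ S ∧
        Chain (locals (family G 𝓦) ⊤ (S : Subgroup G)) (S : Subgroup G) B x := by
    rintro B x' hB hxB ⟨_, ⟨_, ⟨W, hW, rfl⟩, rfl⟩, -, hx'⟩
    set V := Cfsg.inducedFunctor (G := G) W (S : Subgroup G) with hV
    have hVS : V ≤ S := functor_le (isConjugacyFunctor_induced (h𝓦 W hW)) S.2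
    have hSV : (S : Subgroup G) ≤ normalizer (V : Set G) :=
      le_normalizer.trans (normalizer_le_functor (isConjugacyFunctor_induced (h𝓦 W hW)) S.2)
    obtain ⟨x, rfl⟩ := QuotientGroup.mk'_surjective N x'
    dsimp only at hx'
    rw [induced_map (h𝓦 W hW).2 π (S : Subgroup G) S.2 hinj, ← hV] at hx'
    replace hx' : π x ∈ normalizer ((V.map π : Subgroup (G ⧸ N)) : Set (G ⧸ N)) := hx'
    rw [mem_normalizer_iff_cj, ← map_cj] at hx'
    -- correct `x` to normalize `V`
    have hVN : IsSylowIn p V (V ⊔ N) := by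
      refine ⟨le_sup_left, S.2.to_le hVS, fun hd => ?_⟩
      have hle : V ≤ normalizer (N : Set G) := by rw [normalizer_eq_top]; exact le_top
      have h1 := Solvable.card_sup_dvd hle
      rw [← relIndex_bot_left, ← relIndex_mul_relIndex ⊥ V (V ⊔ N) bot_le le_sup_left,
        relIndex_bot_left] at h1
      have h2 := hd.trans ((mul_dvd_mul_iff_left (Nat.card_pos (α := V)).ne').1 h1)
      exact (Fact.out : p.Prime).not_dvd_one (hN.symm.dvd_of_dvd_mul_left (by simpa using h2))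
    have hxV : x ⋆ V ≤ V ⊔ N := by
      intro y hy
      have : π y ∈ V.map π := hx'.le (mem_map_of_mem π hy)
      rwa [← mem_comap, comap_map_eq, hπ, QuotientGroup.ker_mk'] at this
    obtain ⟨m, hm, hmle⟩ := hVN.exists_cj_le (isPGroup_cj x (S.2.to_le hVS)) hxV
    obtain ⟨k, hk, r, hr, rfl⟩ := mem_sup_of_normal_right.1 hm
    have hrx : r * x ∈ normalizer (V : Set G) := by
      refine mem_normalizer_iff_cj.2 (CfsgLib.Functor.eq_of_le_of_card_le' ?_ (card_cj _ V).ge)
      rw [cj_cj, mul_assoc, ← cj_cj, cj_le_iff'] at hmle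
      rwa [cj_eq_self_of_mem (inv_mem hk)] at hmle
    have hπrx : π (r * x) = π x := by
      rw [map_mul, show π r = 1 from (QuotientGroup.eq_one_iff r).2 hr, one_mul]
    -- correct it further to stay in `S`
    have hM : IsSylowIn p (S : Subgroup G) (((S : Subgroup G) ⊔ N) ⊓ normalizer (V : Set G)) :=
      (isSylowIn_top S).of_le (le_inf le_sup_left hSV) le_top
    have hyB : (r * x) ⋆ B ≤ ((S : Subgroup G) ⊔ N) ⊓ normalizer (V : Set G) := by
      refine le_inf (fun y hy => ?_) ((cj_mono _ (hB.trans hSV)).trans (cj_eq_self_of_mem hrx).le)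
      have h1 : π y ∈ (S : Subgroup G).map π := hxB (by
        rw [← hπrx, ← map_cj]; exact mem_map_of_mem π hy)
      rwa [← mem_comap, comap_map_eq, hπ, QuotientGroup.ker_mk'] at h1
    obtain ⟨m, hm, hmle⟩ := hM.exists_cj_le (isPGroup_cj _ (S.2.to_le hB)) hyB
    obtain ⟨s, hs, r', hr', rfl⟩ := mem_sup_of_normal_right.1 hm.1
    have hr'V : r' ∈ normalizer (V : Set G) := by
      simpa using mul_mem (inv_mem (hSV hs)) hm.2
    rw [cj_cj, mul_assoc, ← cj_cj, cj_le_iff', cj_eq_self_of_mem (inv_mem hs)] at hmle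
    refine ⟨r' * (r * x), ?_, hmle, Chain.of_mem ⟨_, ⟨W, hW, rfl⟩, rfl⟩
      ⟨mem_top _, mul_mem hr'V hrx⟩ hB hmle⟩
    rw [map_mul, hπrx, show π r' = 1 from (QuotientGroup.eq_one_iff r').2 hr', one_mul]
  intro A h _ hA hhA
  obtain ⟨w, hw, hwA, hag⟩ := exists_lift_chain π (𝓝 := locals (family G 𝓦) ⊤ (S : Subgroup G))
    hA hstep (hc (A.map π) (π h) (mem_top _) (map_mono hA) (by rw [← map_cj]; exact map_mono hhA))
  refine hw.congr fun a ha => ?_
  have h1 := hag a ha
  rw [← map_mul, ← map_inv, ← map_mul, ← mul_inv_eq_one, ← map_inv, ← map_mul] at h1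
  exact mul_inv_eq_one.1 (hinj _ (mul_mem (hwA (conj_mem_cj ha))
    (inv_mem (hhA (conj_mem_cj ha)))) h1)

/-- The factorization `G = C(U) N(S ∩ C(U))` when `C(U) S` is proper. -/
theorem controls_of_factor (hsub : ∀ H : Subgroup G, H ≠ ⊤ → Ctl p 𝓦 ↥H)
    (C : Subgroup G) [C.Normal] (hCS : C ⊔ (S : Subgroup G) ≠ ⊤)
    (hP : normalizer (((S : Subgroup G) ⊓ C : Subgroup G) : Set G) ≠ ⊤) :
    Controls (locals (family G 𝓦) ⊤ (S : Subgroup G)) (S : Subgroup G) ⊤ := by
  set P := (S : Subgroup G) ⊓ C with hPdef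
  have hSP : (S : Subgroup G) ≤ normalizer (P : Set G) := fun s hs => mem_normalizer_iff_cj.2 (by
    rw [hPdef, cj_inf, cj_eq_self_of_mem hs,
      mem_normalizer_iff_cj.1 (by rw [normalizer_eq_top (H := C)]; exact mem_top s)])
  intro A h _ hA hhA
  obtain ⟨c, hc, n, hn, hcn⟩ := IsSylowIn.frattini (isSylowIn_top S) (le_top : C ≤ ⊤)
    (by rw [normalizer_eq_top (H := C)]) (mem_top h⁻¹)
  have hh : h = n⁻¹ * c⁻¹ := by rw [← mul_inv_rev, ← hcn, inv_inv]
  have h1 : c⁻¹ ⋆ A ≤ n ⋆ (S : Subgroup G) := by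
    rw [hh, ← cj_cj, cj_le_iff', inv_inv] at hhA
    exact hhA
  have h2 : c⁻¹ ⋆ A ⊔ P ≤ n ⋆ (S : Subgroup G) := sup_le h1 (by
    have hnP : n ∈ normalizer (P : Set G) := hn.2
    conv_lhs => rw [← mem_normalizer_iff_cj.1 hnP]
    exact cj_mono n inf_le_left)
  have h3 : c⁻¹ ⋆ A ⊔ P ≤ C ⊔ (S : Subgroup G) :=
    sup_le ((cj_mono _ (hA.trans le_sup_right)).trans
      (cj_eq_self_of_mem (mem_sup_left (inv_mem hc))).le) (inf_le_right.trans le_sup_left)
  obtain ⟨m, hm, hmle⟩ := ((isSylowIn_top S).of_le (le_sup_right : (S : Subgroup G) ≤ C ⊔ (S : Subgroup G))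
    le_top).exists_cj_le ((isPGroup_cj n S.2).to_le h2) h3
  rw [sup_comm] at hm
  obtain ⟨s, hs, d, hd, rfl⟩ := mem_sup_of_normal_right.1 hm
  rw [← cj_cj, cj_le_iff', cj_eq_self_of_mem (inv_mem hs), Subgroup.map_sup] at hmle
  have hdP : d ∈ normalizer (P : Set G) := by
    refine mem_normalizer_iff_cj.2 (CfsgLib.Functor.eq_of_le_of_card_le' (le_inf (le_sup_right.trans hmle) ?_)
      (card_cj _ P).ge)
    exact (cj_mono d inf_le_right).trans (cj_eq_self_of_mem hd).le
  have hA1 : (d * c⁻¹) ⋆ A ≤ S := by rw [← cj_cj]; exact le_sup_left.trans hmle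
  have hfin : n⁻¹ * d⁻¹ * (d * c⁻¹) = h := by rw [hh]; group
  have g1 := chain_of_overgroup h𝓦 S hsub hCS le_sup_right
    (g := d * c⁻¹) (mem_sup_left (mul_mem hd (inv_mem hc))) hA hA1
  have g2 := chain_of_overgroup h𝓦 S hsub hP hSP (g := n⁻¹ * d⁻¹)
    (mul_mem (inv_mem hn.2) (inv_mem hdP)) hA1 (by rw [cj_cj, hfin]; exact hhA)
  exact hfin ▸ g1.comp g2

/-- The case `G = C(U) S`. -/
theorem controls_of_central (hsub : ∀ H : Subgroup G, H ≠ ⊤ → Ctl p 𝓦 ↥H)
    (U : Subgroup G) [U.Normal] (hUp : IsPGroup p U) (hUmax : Cfsg.pCore p G ≤ U)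
    (hCS : centralizer (U : Set G) ⊔ (S : Subgroup G) = ⊤) (hUS : ¬ (S : Subgroup G) ≤ U)
    (hq : Ctl p 𝓦 (G ⧸ U)) :
    Controls (locals (family G 𝓦) ⊤ (S : Subgroup G)) (S : Subgroup G) ⊤ := by
  have hmax : ∀ M : Subgroup G, M.Normal → IsPGroup p M → M ≤ U := fun M hM hMp =>
    (Solvable.le_pCore p hM hMp).trans hUmax
  have hUle : U ≤ S := by
    obtain ⟨m, -, hm⟩ := (isSylowIn_top S).exists_cj_le hUp le_top
    rwa [mem_normalizer_iff_cj.1 (by rw [normalizer_eq_top (H := U)]; exact mem_top m)] at hm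
  have hNS : normalizer ((S : Subgroup G) : Set G) ≠ ⊤ := fun h =>
    hUS (hmax _ (normalizer_eq_top_iff.1 h) S.2)
  set π := QuotientGroup.mk' U with hπ
  have hπs : Function.Surjective π := QuotientGroup.mk'_surjective U
  have hcomap : ∀ A : Subgroup G, U ≤ A → (A.map π).comap π = A := fun A hA => by
    rw [comap_map_eq, hπ, QuotientGroup.ker_mk', sup_eq_left.2 hA]
  have hSb : IsSylowIn p ((S : Subgroup G).map π) ⊤ := by
    have := (isSylowIn_top S).map π
    rwa [map_top_of_surjective π hπs] at this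
  have hc := (controls_iff_family (family_conjugacy h𝓦) hSb).1 hq
  set C := centralizer (U : Set G) with hC
  have hpow : ∀ x : G, ∃ j, x ^ p ^ j ∈ C := by
    intro x
    have hx : QuotientGroup.mk' C x ∈ (S : Subgroup G).map (QuotientGroup.mk' C) := by
      have h := mem_map_of_mem (QuotientGroup.mk' C) (hCS ▸ mem_top x : x ∈ C ⊔ (S : Subgroup G))
      rwa [Subgroup.map_sup, QuotientGroup.map_mk'_self, bot_sup_eq] at h
    obtain ⟨j, hj⟩ := S.2.map (QuotientGroup.mk' C) ⟨_, hx⟩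
    refine ⟨j, (QuotientGroup.eq_one_iff _).mp ?_⟩
    simpa using congrArg Subtype.val hj
  have hstep : ∀ (B : Subgroup G) (x' : G ⧸ U), B ≤ (S : Subgroup G) →
      x' ⋆ B.map π ≤ (S : Subgroup G).map π →
      (∃ M ∈ locals (family (G ⧸ U) 𝓦) ⊤ ((S : Subgroup G).map π), x' ∈ M) →
      ∃ x, π x = x' ∧ x ⋆ B ≤ S ∧
        Chain (locals (family G 𝓦) ⊤ (S : Subgroup G)) (S : Subgroup G) B x := by
    rintro B' x' hB' hxB ⟨_, ⟨_, ⟨W, hW, rfl⟩, rfl⟩, -, hx'⟩
    obtain ⟨x, rfl⟩ := hπs x'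
    have hxS : x ⋆ B' ≤ S := by
      rw [← map_cj, map_le_iff_le_comap, hcomap _ hUle] at hxB
      exact hxB
    refine ⟨x, rfl, hxS, ?_⟩
    set K := (normalizer ((Cfsg.inducedFunctor (G := G ⧸ U) W ((S : Subgroup G).map π)
      : Subgroup (G ⧸ U)) : Set (G ⧸ U))).comap π with hK
    have hWc := isConjugacyFunctor_induced (G := G ⧸ U) (h𝓦 W hW)
    refine chain_of_overgroup h𝓦 S hsub (K := K) (fun htop => hUS ?_) ?_ hx' hB' hxS
    · have hn : (Cfsg.inducedFunctor (G := G ⧸ U) W ((S : Subgroup G).map π)).Normal :=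
        normalizer_eq_top_iff.1 (by
          rw [← map_comap_eq_self_of_surjective hπs (normalizer _), ← hK, htop,
            map_top_of_surjective π hπs])
      have h1 : (Cfsg.inducedFunctor (G := G ⧸ U) W ((S : Subgroup G).map π)).comap π ≤ U :=
        hmax _ (hn.comap π) (S.2.to_le ((comap_mono (functor_le hWc hSb.2.1)).trans (hcomap _ hUle).le))
      have h2 : Cfsg.inducedFunctor (G := G ⧸ U) W ((S : Subgroup G).map π) = ⊥ := by
        rw [← map_comap_eq_self_of_surjective hπs (Cfsg.inducedFunctor (G := G ⧸ U) W _),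
          Subgroup.map_eq_bot_iff, hπ, QuotientGroup.ker_mk']
        exact h1
      by_contra hne
      refine functor_ne_bot hWc hSb.2.1 ?_ h2
      rwa [Ne, Subgroup.map_eq_bot_iff, hπ, QuotientGroup.ker_mk']
    · rw [← map_le_iff_le_comap]
      exact le_normalizer.trans (normalizer_le_functor hWc hSb.2.1)
  suffices main : ∀ (k : ℕ) (A : Subgroup G) (h : G), Nat.card ↥(S : Subgroup G) - Nat.card A = k →
      A ≤ S → U ≤ A → h ⋆ A ≤ S →
      Chain (locals (family G 𝓦) ⊤ (S : Subgroup G)) (S : Subgroup G) A h by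
    intro A h _ hA hhA
    refine (main _ (A ⊔ U) h rfl (sup_le hA hUle) le_sup_right ?_).mono le_sup_left
    rw [Subgroup.map_sup]
    exact sup_le hhA ((mem_normalizer_iff_cj.1 (by rw [normalizer_eq_top (H := U)]; exact mem_top h)).le.trans hUle)
  intro k
  induction k using Nat.strong_induction_on with
  | _ k ih =>
  intro A h hk hA hUA hhA
  by_cases hAS : A = (S : Subgroup G)
  · subst hAS
    refine chain_of_overgroup h𝓦 S hsub hNS le_normalizer ?_ le_rfl hhA
    exact mem_normalizer_iff_cj.2 (CfsgLib.Functor.eq_of_le_of_card_le' hhA (card_cj _ _).ge)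
  -- move to an extremal subgroup
  obtain ⟨g, hgA, hgN, hext⟩ := exists_extremal S hA
  have hlt : A < (S : Subgroup G) ⊓ normalizer (A : Set G) :=
    lt_inf_normalizer S.2 (lt_of_le_of_ne hA hAS)
  have hg : Chain (locals (family G 𝓦) ⊤ (S : Subgroup G)) (S : Subgroup G) A g := by
    refine (ih _ ?_ _ g rfl inf_le_left (hUA.trans hlt.le) hgN).mono hlt.le
    have h1 := Solvable.card_lt_of_lt hlt
    have h2 := card_le_of_le (inf_le_left : (S : Subgroup G) ⊓ normalizer (A : Set G) ≤ S)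
    omega
  have hrest : Chain (locals (family G 𝓦) ⊤ (S : Subgroup G)) (S : Subgroup G) (g ⋆ A) (h * g⁻¹) := by
    clear hg hgN hlt
    generalize hh' : h * g⁻¹ = h'
    have hU' : U ≤ g ⋆ A := fun x hx => mem_cj.2 (hUA (by
      simpa using (inferInstance : U.Normal).conj_mem x hx g⁻¹))
    have hh'A : h' ⋆ (g ⋆ A) ≤ S := by
      rwa [← hh', cj_cj, inv_mul_cancel_right]
    clear hh' hhA hA hUA hAS hk
    generalize g ⋆ A = B at hgA hext hU' hh'A ⊢
    -- lift the chain of the quotient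
    obtain ⟨w, hw, hwB, hag⟩ := exists_lift_chain π (𝓝 := locals (family G 𝓦) ⊤ (S : Subgroup G))
      hgA hstep (hc (B.map π) (π h') (mem_top _) (map_mono hgA)
        (by rw [← map_cj]; exact map_mono hh'A))
    -- the difference acts trivially modulo `U`
    set x := w⁻¹ * h' with hx
    set E := (centralizer ((B.map π : Subgroup (G ⧸ U)) : Set (G ⧸ U))).comap π with hE
    have hxE : x ∈ E := by
      rw [hE, mem_comap, mem_centralizer_iff]
      rintro _ ⟨b, hb, rfl⟩
      have h1 := hag b hb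
      rw [hx, map_mul, map_inv]
      calc π b * ((π w)⁻¹ * π h') = (π w)⁻¹ * (π (w * b * w⁻¹)) * π h' := by
            simp only [map_mul, map_inv]; group
        _ = (π w)⁻¹ * π h' * π b := by rw [h1]; group
    have hEN : E ≤ normalizer (B : Set G) := fun e he => by
      refine mem_normalizer_iff_cj.2 ?_
      have h1 : (e ⋆ B).map π = B.map π := by
        rw [map_cj]
        exact mem_normalizer_iff_cj.1 ((centralizer_le_normalizer _) he)
      have h2 : U ≤ e ⋆ B := by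
        rw [← mem_normalizer_iff_cj.1 (show e ∈ normalizer (U : Set G) by
          rw [normalizer_eq_top (H := U)]; exact mem_top e)]
        exact cj_mono e hU'
      calc e ⋆ B = ((e ⋆ B).map π).comap π := (hcomap _ h2).symm
        _ = (B.map π).comap π := by rw [h1]
        _ = B := hcomap _ hU'
    have hNE : normalizer (B : Set G) ≤ normalizer (E : Set G) := fun n hn => by
      refine mem_normalizer_iff_cj.2 ?_
      have h1 : π n ⋆ B.map π = B.map π := by rw [← map_cj, mem_normalizer_iff_cj.1 hn]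
      ext y
      rw [mem_cj, hE, mem_comap, mem_comap, map_mul, map_mul, map_inv, ← mem_cj, cj_centralizer, h1]
    have hT := (hext.sylowIn S.2).inf_normal hEN hNE
    set D := (centralizer (B : Set G)).subgroupOf E with hD
    haveI : D.Normal := normal_subgroupOf_of_le fun e he => mem_normalizer_iff_cj.2 (by
      rw [cj_centralizer, mem_normalizer_iff_cj.1 (hEN he)])
    set T := ((S : Subgroup G) ⊓ normalizer (B : Set G)) ⊓ E with hTdef
    have hle : (⊤ : Subgroup E) ≤ T.subgroupOf E ⊔ D := by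
      refine CfsgLib.ZJ.le_of_sylowIn_of_mod (p := p) (C := D) (T := T.subgroupOf E) ?_ ?_
        le_sup_left (inf_le_right.trans le_sup_right)
      · refine ⟨le_top, hT.2.1.of_equiv (subgroupOfEquivOfLe hT.1).symm, ?_⟩
        rw [relIndex_top_right]
        exact hT.2.2
      · intro e _
        obtain ⟨j, hj⟩ := hpow (e : G)
        obtain ⟨i, hi⟩ := CfsgLib.ZJ.pow_mem_centralizer_of_step (B := B) hUp hj (fun b hb => by
          refine (QuotientGroup.eq_one_iff _).1 ?_
          show π ((e : G) ^ p ^ j * b * ((e : G) ^ p ^ j)⁻¹ * b⁻¹) = 1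
          have h1 := mem_centralizer_iff.1 (pow_mem e.2 (p ^ j) : (e : G) ^ p ^ j ∈ E)
            _ (mem_map_of_mem π hb)
          rw [map_mul, map_mul, map_mul, map_inv, map_inv, ← h1]
          group)
        refine ⟨j + i, mem_subgroupOf.2 ?_⟩
        rw [SubgroupClass.coe_pow, pow_add, pow_mul]
        exact hi
    have hxm : (⟨x, hxE⟩ : E) ∈ T.subgroupOf E ⊔ D := hle (mem_top _)
    rw [sup_comm] at hxm
    obtain ⟨d, hd, t, ht, hdt⟩ := mem_sup_of_normal_left.1 hxm
    replace ht := (mem_subgroupOf.1 ht).1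
    have htB : (t : G) ⋆ B = B := mem_normalizer_iff_cj.1 ht.2
    have htx : ∀ b ∈ B, (t : G) * b * (t : G)⁻¹ = x * b * x⁻¹ := fun b hb => by
      have hdx : (d : G) * t = x := congrArg Subtype.val hdt
      have hd' := mem_centralizer_iff.1 (mem_subgroupOf.1 hd) _ (htB.le (conj_mem_cj (g := (t : G)) hb))
      rw [← hdx]
      calc (t : G) * b * (t : G)⁻¹ = ((t : G) * b * (t : G)⁻¹) * d * (d : G)⁻¹ := by group
        _ = d * ((t : G) * b * (t : G)⁻¹) * (d : G)⁻¹ := by rw [hd']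
        _ = _ := by group
    have hxB : x ⋆ B = B := mem_normalizer_iff_cj.1 (hEN hxE)
    have c1 : Chain (locals (family G 𝓦) ⊤ (S : Subgroup G)) (S : Subgroup G) B x :=
      (chain_of_overgroup h𝓦 S hsub hNS le_normalizer (le_normalizer ht.1) hgA
        (htB.le.trans hgA)).congr htx
    have := c1.comp (h := w) (by rw [hxB]; exact hw)
    rwa [hx, mul_inv_cancel_left] at this
  simpa using hg.comp hrest

end Step

end CfsgLib.Kinf
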