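import Cfsg.Agent.Kinf.StrongFusion
import Cfsg.Agent.Kinf.Consequences
import Cfsg.Agent.KGroup.CharP

/-!
Control of strong fusion in all sections from the constrained ones.
-/

set_option autoImplicit false
set_option linter.unusedSectionVars false
set_option linter.style.haveILetI false

namespace CfsgLib.Kinf

open Subgroup CfsgLib.Functor
open scoped CfsgLib.Functor

universe u

variable {p : ℕ} [Fact p.Prime] {𝓦 : Set (∀ (Q : Type u) [Group Q], Subgroup Q)}

/-- A group is controlled if its proper subgroups and quotients are, unless it is constrained. -/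
theorem ctl_step (h𝓦 : ∀ W ∈ 𝓦, Cfsg.IsCharPFunctor.{u} p W) (G : Type u) [Group G] [Finite G]
    (hsub : ∀ H : Subgroup G, H ≠ ⊤ → Ctl p 𝓦 ↥H)
    (hquot : ∀ (N : Subgroup G) [N.Normal], N ≠ ⊥ → Ctl p 𝓦 (G ⧸ N))
    (hcon : centralizer ((Cfsg.pCore p G : Subgroup G) : Set G) ≤ Cfsg.pCore p G → Ctl p 𝓦 G) :
    Ctl p 𝓦 G := by
  obtain ⟨S⟩ := (inferInstance : Nonempty (Sylow p G))
  set U := Cfsg.pCore p G with hU
  haveI : U.Normal := Solvable.pCore_normal p
  have key : Controls (locals (family G 𝓦) ⊤ (S : Subgroup G)) (S : Subgroup G) ⊤ → Ctl p 𝓦 G :=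
    familyControls_of_controls (isSylowIn_top S)
  by_cases hU1 : U = ⊥
  · exact key (controls_of_pCore_eq_bot h𝓦 S hsub hU1)
  haveI : (Cfsg.pPrimeCore p G).Normal := Solvable.pPrimeCore_normal p
  by_cases hR : Cfsg.pPrimeCore p G = ⊥
  swap
  · exact key (controls_of_pPrime h𝓦 S _ (Solvable.coprime_card_pPrimeCore p) (hquot _ hR))
  set C := centralizer ((U : Subgroup G) : Set G) with hC
  by_cases hCU : (S : Subgroup G) ⊓ C ≤ U
  · refine hcon ((le_of_sylow_central hR ((isSylowIn_top S).inf_normal (le_top : C ≤ ⊤)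
      (by rw [normalizer_eq_top (H := C)])) ?_).trans hCU)
    exact centralizer_le hCU
  by_cases hCS : C ⊔ (S : Subgroup G) = ⊤
  · exact key (controls_of_central h𝓦 S hsub U (Solvable.isPGroup_pCore p) le_rfl hCS
      (fun h => hCU (inf_le_left.trans h)) (hquot U hU1))
  · refine key (controls_of_factor h𝓦 S hsub C hCS fun htop => hCU ?_)
    exact Solvable.le_pCore p (normalizer_eq_top_iff.1 htop) (S.2.to_le inf_le_left)

/-- Control in the constrained sections gives control in all sections. -/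
theorem ctl_of_sections {G : Type u} [Group G] [Finite G]
    (h𝓦 : ∀ W ∈ 𝓦, Cfsg.IsCharPFunctor.{u} p W)
    (hloc : ∀ (K R : Subgroup G) [(R.subgroupOf K).Normal],
      centralizer ((Cfsg.pCore p (↥K ⧸ R.subgroupOf K) : Subgroup (↥K ⧸ R.subgroupOf K))
        : Set (↥K ⧸ R.subgroupOf K)) ≤ Cfsg.pCore p (↥K ⧸ R.subgroupOf K) →
      Ctl p 𝓦 (↥K ⧸ R.subgroupOf K))
    (Γ : Type u) [Group Γ] [Finite Γ] (hΓ : IsSectionOf G Γ) : Ctl p 𝓦 Γ := by
  obtain ⟨n, hn⟩ : ∃ n, Nat.card Γ = n := ⟨_, rfl⟩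
  induction n using Nat.strong_induction_on generalizing Γ with
  | _ n ih =>
  subst hn
  refine ctl_step h𝓦 Γ (fun H hH => ih _ (Solvable.card_lt_of_ne_top hH) H (hΓ.subgroup H) rfl)
    (fun N _ hN => ih _ (Solvable.card_quotient_lt hN) _ (hΓ.quotient N) rfl) fun hC => ?_
  obtain ⟨K, R, hn, ⟨e⟩⟩ := hΓ
  refine ctl_of_equiv h𝓦 e (hloc K R fun x hx => ?_)
  suffices he : e x ∈ centralizer ((Cfsg.pCore p Γ : Subgroup Γ) : Set Γ) by
    simpa using CfsgLib.CharP.pCore_map_le e.symm (mem_map_of_mem e.symm.toMonoidHom (hC he))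
  rw [mem_centralizer_iff]
  intro y hy
  obtain ⟨z, rfl⟩ := e.surjective y
  rw [← map_mul, ← map_mul]
  congr 1
  refine mem_centralizer_iff.1 hx z ?_
  simpa using CfsgLib.CharP.pCore_map_le e.symm (mem_map_of_mem e.symm.toMonoidHom hy)

theorem ctl_top {G : Type u} [Group G] [Finite G] (h𝓦 : ∀ W ∈ 𝓦, Cfsg.IsCharPFunctor.{u} p W)
    (hloc : ∀ (K R : Subgroup G) [(R.subgroupOf K).Normal],
      centralizer ((Cfsg.pCore p (↥K ⧸ R.subgroupOf K) : Subgroup (↥K ⧸ R.subgroupOf K))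
        : Set (↥K ⧸ R.subgroupOf K)) ≤ Cfsg.pCore p (↥K ⧸ R.subgroupOf K) →
      Ctl p 𝓦 (↥K ⧸ R.subgroupOf K)) : Ctl p 𝓦 G :=
  ctl_of_sections h𝓦 hloc G (isSectionOf_self G)

/-- A single functor: the chains collapse. -/
theorem controlsStrongFusion_of_ctl {G : Type u} [Group G] [Finite G]
    {W : ∀ (Q : Type u) [Group Q], Subgroup Q} (hW : Cfsg.IsCharPFunctor.{u} p W)
    (h : Ctl p {W} G) (T : Sylow p G) :
    Cfsg.ControlsStrongFusion p (Cfsg.inducedFunctor (G := G) W (T : Subgroup G)) := by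
  have h𝓦 : ∀ V ∈ ({W} : Set (∀ (Q : Type u) [Group Q], Subgroup Q)), Cfsg.IsCharPFunctor.{u} p V :=
    fun V hV => by rw [Set.mem_singleton_iff] at hV; exact hV ▸ hW
  have hc := (controls_iff_family (family_conjugacy h𝓦) (isSylowIn_top T)).1 h
  rw [family_singleton, show locals {Cfsg.inducedFunctor (G := G) W} ⊤ (T : Subgroup G) =
    {⊤ ⊓ normalizer ((Cfsg.inducedFunctor (G := G) W (T : Subgroup G) : Subgroup G) : Set G)} from
      Set.image_singleton] at hc
  refine ⟨T, functor_le (isConjugacyFunctor_induced hW) T.2, fun A hA => ⟨hA, fun g hg => ?_⟩⟩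
  obtain ⟨x, hx, hxe⟩ := exists_mem_of_chain (hc (closure A) g (mem_top g) ((closure_le _).2 hA) (by
    rw [MonoidHom.map_closure, closure_le]
    exact hg))
  exact ⟨x, hx.2, fun a ha => (hxe a (subset_closure ha)).symm⟩

/-- A normal value of the functor gives control. -/
theorem ctl_singleton_of_normal {G : Type u} [Group G] [Finite G]
    {W : ∀ (Q : Type u) [Group Q], Subgroup Q} (S : Sylow p G)
    (h : (Cfsg.inducedFunctor (G := G) W (S : Subgroup G)).Normal) : Ctl p {W} G := by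
  refine familyControls_of_controls (isSylowIn_top S) fun A g _ hA hgA => ?_
  exact Chain.of_mem ⟨_, ⟨W, rfl, rfl⟩, rfl⟩
    ⟨mem_top g, by rw [normalizer_eq_top (H := Cfsg.inducedFunctor (G := G) W (S : Subgroup G))]; exact mem_top g⟩
    hA hgA

/-- Two functors whose normalizers factorize the group. -/
theorem ctl_pair_of_factor {G : Type u} [Group G] [Finite G]
    (W₁ W₂ : ∀ (Q : Type u) [Group Q], Subgroup Q) (hW₁ : Cfsg.IsCharPFunctor.{u} p W₁)
    (hW₂ : Cfsg.IsCharPFunctor.{u} p W₂) (S : Sylow p G)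
    (h : ∀ x : G, ∃ a ∈ normalizer ((Cfsg.inducedFunctor (G := G) W₁ (S : Subgroup G) : Subgroup G)
        : Set G), ∃ b ∈ normalizer ((Cfsg.inducedFunctor (G := G) W₂ (S : Subgroup G) : Subgroup G)
        : Set G), x = a * b) : Ctl p {W₁, W₂} G := by
  refine familyControls_of_controls (isSylowIn_top S) fun A g _ hA hgA => ?_
  obtain ⟨a, ha, b, hb, rfl⟩ := h g
  have hS1 : (S : Subgroup G) ≤ normalizer ((Cfsg.inducedFunctor (G := G) W₁ (S : Subgroup G)
      : Subgroup G) : Set G) :=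
    le_normalizer.trans (normalizer_le_functor (isConjugacyFunctor_induced hW₁) S.2)
  have hS2 : (S : Subgroup G) ≤ normalizer ((Cfsg.inducedFunctor (G := G) W₂ (S : Subgroup G)
      : Subgroup G) : Set G) :=
    le_normalizer.trans (normalizer_le_functor (isConjugacyFunctor_induced hW₂) S.2)
  set N₁ := normalizer ((Cfsg.inducedFunctor (G := G) W₁ (S : Subgroup G) : Subgroup G) : Set G)
  set N₂ := normalizer ((Cfsg.inducedFunctor (G := G) W₂ (S : Subgroup G) : Subgroup G) : Set G)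
  have hb1 : b ⋆ A ≤ N₁ ⊓ N₂ := by
    refine le_inf ?_ ((cj_mono b (hA.trans hS2)).trans (cj_eq_self_of_mem hb).le)
    rw [← cj_cj, cj_le_iff'] at hgA
    exact hgA.trans ((cj_mono _ hS1).trans (cj_eq_self_of_mem (inv_mem ha)).le)
  obtain ⟨c, hc, hcle⟩ := ((isSylowIn_top S).of_le (le_inf hS1 hS2) le_top).exists_cj_le
    (isPGroup_cj b (S.2.to_le hA)) hb1
  rw [cj_cj] at hcle
  have h1 : Chain (locals (family G {W₁, W₂}) ⊤ (S : Subgroup G)) (S : Subgroup G) A (c * b) :=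
    Chain.of_mem ⟨_, ⟨W₂, Or.inr rfl, rfl⟩, rfl⟩ ⟨mem_top _, mul_mem hc.2 hb⟩ hA hcle
  have h2 : Chain (locals (family G {W₁, W₂}) ⊤ (S : Subgroup G)) (S : Subgroup G) ((c * b) ⋆ A)
      (a * c⁻¹) :=
    Chain.of_mem ⟨_, ⟨W₁, Or.inl rfl, rfl⟩, rfl⟩ ⟨mem_top _, mul_mem ha (N₁.inv_mem hc.1)⟩ hcle (by
      rwa [cj_cj, show a * c⁻¹ * (c * b) = a * b by group])
  have := h1.comp h2
  rwa [show a * c⁻¹ * (c * b) = a * b by group] at this

end CfsgLib.Kinf
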