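import Cfsg.Agent.Functor.Sylow
import Cfsg.Prelude.Def_Local
import Mathlib.GroupTheory.NoncommCoprod

/-!
A tightly embedded subgroup and a conjugate of it: the two Sylow pieces of their mutual normalizers.
-/

set_option autoImplicit false
set_option linter.unusedSectionVars false

namespace CfsgLib.TightPair

open Subgroup CfsgLib.Functor
open scoped CfsgLib.Functor commutatorElement

variable {G : Type*} [Group G] [Finite G]

theorem eq_bot_of_odd {A B : Subgroup G} (hA : IsPGroup 2 A) (hB : Odd (Nat.card B)) (hle : A ≤ B) :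
    A = ⊥ := by
  obtain ⟨k, hk⟩ := IsPGroup.iff_card.1 hA
  rcases Nat.eq_zero_or_pos k with rfl | hk0
  · exact card_eq_one.1 (by simpa using hk)
  · exfalso
    have h := (dvd_pow_self 2 hk0.ne').trans (hk ▸ card_dvd_of_le hle)
    exact (Nat.not_even_iff_odd.2 hB) (even_iff_two_dvd.2 h)

theorem centralizer_le_normalizer_of_tight {Q : Subgroup G} (hQ : Cfsg.IsTightlyEmbedded Q)
    {T : Subgroup G} (hT : IsPGroup 2 T) (hT1 : T ≠ ⊥) (hTQ : T ≤ Q) :
    centralizer (T : Set G) ≤ normalizer (Q : Set G) := by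
  intro c hc
  by_contra hcN
  refine hT1 (eq_bot_of_odd hT (hQ.2 c hcN) (le_inf hTQ fun t ht => ⟨t, hTQ ht, ?_⟩))
  show c * t * c⁻¹ = t
  rw [← mem_centralizer_iff.1 hc t ht, mul_inv_cancel_right]

theorem commute_of_odd {Q T R : Subgroup G} {P : Subgroup G} (hodd : Odd (Nat.card ↥(Q ⊓ P)))
    (hX : IsPGroup 2 ↥(R ⊔ T)) (hTP : T ≤ P) (hRQ : R ≤ Q)
    (hRn : R ≤ normalizer (P : Set G)) (hTn : T ≤ normalizer (Q : Set G)) :
    R ≤ centralizer (T : Set G) := by
  refine commutator_eq_bot_iff_le_centralizer.1 (eq_bot_of_odd (B := Q ⊓ P) (hX.to_le ?_) hodd ?_)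
  · exact commutator_le.2 fun r hr t ht =>
      mul_mem (mul_mem (mul_mem (mem_sup_left hr) (mem_sup_right ht))
        (inv_mem (mem_sup_left hr))) (inv_mem (mem_sup_right ht))
  · refine commutator_le.2 fun r hr t ht => mem_inf.2 ⟨?_, ?_⟩
    · rw [commutatorElement_def, mul_assoc, mul_assoc]
      refine mul_mem (hRQ hr) ?_
      rw [← mul_assoc]
      exact (mem_normalizer_iff.1 (hTn ht) _).1 (inv_mem (hRQ hr))
    · rw [commutatorElement_def]
      exact mul_mem ((mem_normalizer_iff.1 (hRn hr) _).1 (hTP ht)) (inv_mem (hTP ht))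

/-- The main step: `T` embeds in `C_{X ∩ Q}(T)`. -/
theorem exists_injective {Q P : Subgroup G} (hP : Cfsg.IsTightlyEmbedded P) {g : G}
    (hPQ : P = Q.map (MulAut.conj g).toMonoidHom) (hodd : Odd (Nat.card ↥(Q ⊓ P)))
    {T X : Subgroup G} (hT : IsPGroup 2 T) (hT1 : T ≠ ⊥) (hTP : T ≤ P)
    (hTn : T ≤ normalizer (Q : Set G)) (hTX : T ≤ X) (hX : IsSylowIn 2 X (Q ⊔ T)) :
    ∃ f : T →* ↥(X ⊓ normalizer (T : Set G) ⊓ Q), Function.Injective f := by
  set U := X ⊓ Q
  set R := X ⊓ normalizer (T : Set G) ⊓ Q with hR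
  have hRU : R ≤ U := le_inf (inf_le_left.trans inf_le_left) inf_le_right
  have hU : IsSylowIn 2 U Q := hX.inf_normal le_sup_left (sup_le le_normalizer hTn)
  rcases eq_or_lt_of_le hRU with hRU' | hRU'
  · -- `R` is a Sylow subgroup of `Q`
    have hT' : g⁻¹ ⋆ T ≤ Q := (cj_mono _ (hTP.trans hPQ.le)).trans (cj_inv_cj g Q).le
    obtain ⟨n, -, hn⟩ := hU.exists_cj_le (isPGroup_cj _ hT) hT'
    rw [cj_cj] at hn
    have hn' := hn.trans hRU'.ge
    exact ⟨(inclusion hn').comp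
      (T.equivMapOfInjective _ (MulAut.conj (n * g⁻¹)).injective).toMonoidHom,
      (inclusion_injective hn').comp
        (T.equivMapOfInjective _ (MulAut.conj (n * g⁻¹)).injective).injective⟩
  -- an element of `U` moving `T` inside `R × T`
  have hRX : R ≤ X := inf_le_left.trans inf_le_left
  have hRcomm : R ≤ centralizer (T : Set G) := by
    refine commutator_eq_bot_iff_le_centralizer.1
      (eq_bot_of_odd (B := Q ⊓ P) (hX.2.1.to_le ?_) hodd (le_inf ?_ ?_))
    · exact commutator_le.2 fun r hr t ht =>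
        mul_mem (mul_mem (mul_mem (hRX hr) (hTX ht)) (inv_mem (hRX hr))) (inv_mem (hTX ht))
    · refine commutator_le.2 fun r hr t ht => ?_
      rw [commutatorElement_def, mul_assoc, mul_assoc]
      refine mul_mem hr.2 ?_
      rw [← mul_assoc]
      exact (mem_normalizer_iff.1 (hTn ht) _).1 (inv_mem hr.2)
    · refine commutator_le.2 fun r hr t ht => hTP ?_
      rw [commutatorElement_def]
      exact mul_mem ((mem_normalizer_iff.1 hr.1.2 _).1 ht) (inv_mem ht)
  have hRT_lt : R ⊔ T < U ⊔ T := by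
    refine lt_of_le_not_ge (sup_le_sup_right hRU T) fun h => hRU'.not_ge fun u hu => ?_
    have hu' : u ∈ ((R ⊔ T : Subgroup G) : Set G) := h (mem_sup_left hu)
    rw [coe_mul_of_left_le_normalizer_right R T (hRcomm.trans (centralizer_le_normalizer _))] at hu'
    obtain ⟨r, hr, t, ht, rfl⟩ := hu'
    refine mem_inf.2 ⟨mem_inf.2 ⟨hu.1, ?_⟩, hu.2⟩
    exact mul_mem hr.1.2 (le_normalizer ht)
  have hXp : IsPGroup 2 ↥(U ⊔ T) := hX.2.1.to_le (sup_le inf_le_left hTX)
  obtain ⟨w, hw, hwRT⟩ := SetLike.exists_of_lt (lt_inf_normalizer hXp hRT_lt)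
  have hw' : w ∈ ((U ⊔ T : Subgroup G) : Set G) := hw.1
  have hTU : T ≤ normalizer (U : Set G) :=
    ((le_inf (hTX.trans le_normalizer) hTn).trans inf_normalizer_le_normalizer_inf)
  rw [sup_comm, coe_mul_of_left_le_normalizer_right T U hTU] at hw'
  obtain ⟨t₀, ht₀, q, hq, rfl⟩ := hw'
  have hqN : q ∈ normalizer ((R ⊔ T : Subgroup G) : Set G) := by
    have := mul_mem (inv_mem (le_normalizer (mem_sup_right ht₀ : t₀ ∈ R ⊔ T))) hw.2
    rwa [inv_mul_cancel_left] at this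
  have hqR : q ∉ R := fun h => hwRT (mul_mem (mem_sup_right ht₀) (mem_sup_left h))
  have hqP : q ∉ normalizer (P : Set G) := fun h => hqR (by
    refine mem_inf.2 ⟨mem_inf.2 ⟨hq.1, centralizer_le_normalizer _ ?_⟩, hq.2⟩
    have h1 : zpowers q ≤ centralizer (T : Set G) := commute_of_odd hodd
      (hX.2.1.to_le (sup_le (zpowers_le.2 hq.1) hTX)) hTP (zpowers_le.2 hq.2) (zpowers_le.2 h) hTn
    exact zpowers_le.1 h1)
  -- projection to `R`
  have hcomm : ∀ (r : R) (t : T), Commute (R.subtype r) (T.subtype t) := fun r t =>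
    (mem_centralizer_iff.1 (hRcomm r.2) t t.2).symm
  have hTR : T ⊓ R = ⊥ := eq_bot_of_odd (hT.to_le inf_le_left) hodd
    (le_inf (inf_le_right.trans inf_le_right) (inf_le_left.trans hTP))
  set φ := R.subtype.noncommCoprod T.subtype hcomm
  have hφ : Function.Injective φ := by
    rw [injective_iff_map_eq_one]
    rintro ⟨r, t⟩ h
    have h1 : (r : G) * (t : G) = 1 := h
    have h2 : (t : G) ∈ T ⊓ R := mem_inf.2 ⟨t.2, by rw [← inv_eq_of_mul_eq_one_right h1]; exact inv_mem r.2⟩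
    rw [hTR, mem_bot] at h2
    rw [h2, mul_one] at h1
    exact Prod.ext (Subtype.ext h1) (Subtype.ext h2)
  have hrange : ∀ x ∈ R ⊔ T, x ∈ φ.range := by
    refine fun x hx => (sup_le ?_ ?_ : R ⊔ T ≤ φ.range) hx
    · exact fun r hr => ⟨(⟨r, hr⟩, 1), mul_one r⟩
    · exact fun t ht => ⟨(1, ⟨t, ht⟩), one_mul t⟩
  let c : T →* φ.range := ((MulAut.conj q).toMonoidHom.comp T.subtype).codRestrict φ.range fun t =>
    hrange _ ((mem_normalizer_iff.1 hqN _).1 (mem_sup_right t.2))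
  let f : T →* R := (MonoidHom.fst R T).comp ((MonoidHom.ofInjective hφ).symm.toMonoidHom.comp c)
  refine ⟨f, (injective_iff_map_eq_one f).2 fun t ht => ?_⟩
  set z := (MonoidHom.ofInjective hφ).symm (c t)
  have hz : φ z = q * (t : G) * q⁻¹ := by
    have := congrArg Subtype.val ((MonoidHom.ofInjective hφ).apply_symm_apply (c t))
    exact this
  have hz1 : z.1 = 1 := ht
  have h3 : (z.2 : G) = q * (t : G) * q⁻¹ := by
    rw [← hz]
    show (z.2 : G) = (z.1 : G) * (z.2 : G)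
    rw [hz1, coe_one, one_mul]
  have hA : IsPGroup 2 ↥(T ⊓ q ⋆ T) := hT.to_le inf_le_left
  have hbot := eq_bot_of_odd hA (hP.2 q hqP) (le_inf (inf_le_left.trans hTP)
    (inf_le_right.trans (cj_mono q hTP)))
  have h4 : q * (t : G) * q⁻¹ ∈ T ⊓ q ⋆ T := mem_inf.2 ⟨h3 ▸ z.2.2, conj_mem_cj t.2⟩
  rw [hbot, mem_bot] at h4
  exact Subtype.ext (conj_eq_one_iff.1 h4)

theorem tightlyEmbedded_conj {Q : Subgroup G} (hQ : Cfsg.IsTightlyEmbedded Q) (g : G) :
    Cfsg.IsTightlyEmbedded (g ⋆ Q) := by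
  refine ⟨(card_cj g Q).symm ▸ hQ.1, fun x hx => ?_⟩
  have hx' : g⁻¹ * x * g ∉ normalizer (Q : Set G) := fun h => hx (by
    have := conj_mem_cj (g := g) h
    rwa [show g * (g⁻¹ * x * g) * g⁻¹ = x by group, cj_normalizer] at this)
  have h1 := hQ.2 _ hx'
  rwa [← card_cj g, cj_inf, cj_cj, show g * (g⁻¹ * x * g) = x * g by group, ← cj_cj] at h1

theorem main (Q : Subgroup G) (hQ : Cfsg.IsTightlyEmbedded Q) (g : G)
    (hg : g ∉ normalizer (Q : Set G)) (T : Subgroup G) (hT1 : T ≠ ⊥)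
    (hT : IsSylowIn 2 T (g ⋆ Q ⊓ normalizer (Q : Set G))) (S : Subgroup G) (hTS : T ≤ S)
    (hS : IsSylowIn 2 S (Q ⊔ T)) :
    T ⊓ Q = ⊥ ∧ T ⊓ (S ⊓ normalizer (T : Set G) ⊓ Q) = ⊥ ∧
      ⁅T, S ⊓ normalizer (T : Set G) ⊓ Q⁆ = ⊥ ∧
      T ⊔ (S ⊓ normalizer (T : Set G) ⊓ Q) = S ⊓ normalizer (T : Set G) ∧
      Nonempty (↥(S ⊓ normalizer (T : Set G) ⊓ Q) ≃* T) := by
  set P := g ⋆ Q
  have hodd : Odd (Nat.card ↥(Q ⊓ P)) := hQ.2 g hg
  have hP := tightlyEmbedded_conj hQ g
  have hTP : T ≤ P := hT.1.trans inf_le_left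
  have hTn : T ≤ normalizer (Q : Set G) := hT.1.trans inf_le_right
  have hTQ : T ⊓ Q = ⊥ :=
    eq_bot_of_odd (hT.2.1.to_le inf_le_left) hodd (le_inf inf_le_right (inf_le_left.trans hTP))
  set R := S ⊓ normalizer (T : Set G) ⊓ Q
  have hRc : R ≤ centralizer (T : Set G) := by
    refine commutator_eq_bot_iff_le_centralizer.1
      (eq_bot_of_odd (B := Q ⊓ P) (hS.2.1.to_le ?_) hodd (le_inf ?_ ?_))
    · exact commutator_le.2 fun r hr t ht =>
        mul_mem (mul_mem (mul_mem hr.1.1 (hTS ht)) (inv_mem hr.1.1)) (inv_mem (hTS ht))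
    · refine commutator_le.2 fun r hr t ht => ?_
      rw [commutatorElement_def, mul_assoc, mul_assoc]
      refine mul_mem hr.2 ?_
      rw [← mul_assoc]
      exact (mem_normalizer_iff.1 (hTn ht) _).1 (inv_mem hr.2)
    · refine commutator_le.2 fun r hr t ht => hTP ?_
      rw [commutatorElement_def]
      exact mul_mem ((mem_normalizer_iff.1 hr.1.2 _).1 ht) (inv_mem ht)
  obtain ⟨f, hf⟩ := exists_injective hP (Q := Q) (g := g) rfl hodd hT.2.1 hT1 hTP hTn hTS hS
  have hR1 : R ≠ ⊥ := fun h => hT1 (card_eq_one.1 (le_antisymm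
    ((Nat.card_le_card_of_injective f hf).trans (by rw [show Nat.card R = 1 from card_eq_one.2 h]))
    Nat.card_pos))
  have hRp : IsPGroup 2 R := hS.2.1.to_le (inf_le_left.trans inf_le_left)
  have hRn : R ≤ normalizer (P : Set G) :=
    hRc.trans (centralizer_le_normalizer_of_tight hP hT.2.1 hT1 hTP)
  -- the symmetric embedding
  have hRT : IsPGroup 2 ↥(T ⊔ R) := hS.2.1.to_le (sup_le hTS (inf_le_left.trans inf_le_left))
  obtain ⟨Y, hY, hle⟩ := exists_sylowIn_ge hRT (sup_le_sup_right hTP R : T ⊔ R ≤ P ⊔ R)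
  have hRY : R ≤ Y := le_sup_right.trans hle
  set T' := Y ⊓ normalizer (R : Set G) ⊓ P
  have hT'c : T' ≤ centralizer (R : Set G) := by
    refine commutator_eq_bot_iff_le_centralizer.1
      (eq_bot_of_odd (B := Q ⊓ P) (hY.2.1.to_le ?_) hodd (le_inf ?_ ?_))
    · exact commutator_le.2 fun t ht r hr =>
        mul_mem (mul_mem (mul_mem ht.1.1 (hRY hr)) (inv_mem ht.1.1)) (inv_mem (hRY hr))
    · refine commutator_le.2 fun t ht r hr => inf_le_right (a := S ⊓ normalizer (T : Set G)) ?_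
      rw [commutatorElement_def]
      exact mul_mem ((mem_normalizer_iff.1 ht.1.2 _).1 hr) (inv_mem hr)
    · refine commutator_le.2 fun t ht r hr => ?_
      rw [commutatorElement_def, mul_assoc, mul_assoc]
      refine mul_mem ht.2 ?_
      rw [← mul_assoc]
      exact (mem_normalizer_iff.1 (hRn hr) _).1 (inv_mem ht.2)
  have hTT' : T = T' := by
    refine hT.eq_of_le (hY.2.1.to_le (inf_le_left.trans inf_le_left))
      (le_inf inf_le_right (hT'c.trans (centralizer_le_normalizer_of_tight hQ hRp hR1 inf_le_right)))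
      (le_inf (le_inf (le_sup_left.trans hle) ?_) hTP)
    exact (le_centralizer_iff.1 hRc).trans (centralizer_le_normalizer _)
  have hQP : Q = P.map (MulAut.conj g⁻¹).toMonoidHom := (cj_inv_cj g Q).symm
  obtain ⟨f', hf'⟩ := exists_injective hQ (Q := P) (P := Q) (g := g⁻¹) hQP
    (by rwa [inf_comm]) hRp hR1 inf_le_right hRn hRY hY
  have hcard : Nat.card R ≤ Nat.card T := by
    rw [hTT']
    exact Nat.card_le_card_of_injective f' hf'
  refine ⟨hTQ, le_bot_iff.1 ((inf_le_inf_left T inf_le_right).trans hTQ.le), ?_, ?_,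
    ⟨(MulEquiv.ofBijective f (hf.bijective_of_nat_card_le hcard)).symm⟩⟩
  · rw [commutator_comm, commutator_eq_bot_iff_le_centralizer]
    exact hRc
  · refine le_antisymm (sup_le (le_inf hTS le_normalizer) inf_le_left) fun s hs => ?_
    have hs' : s ∈ ((Q ⊔ T : Subgroup G) : Set G) := hS.1 hs.1
    rw [sup_comm, coe_mul_of_left_le_normalizer_right T Q hTn] at hs'
    obtain ⟨t, ht, q, hq, rfl⟩ := hs'
    refine mul_mem (mem_sup_left ht) (mem_sup_right (mem_inf.2 ⟨?_, hq⟩))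
    have := mul_mem (inv_mem (mem_inf.2 ⟨hTS ht, le_normalizer ht⟩ :
      t ∈ S ⊓ normalizer (T : Set G))) hs
    rwa [inv_mul_cancel_left] at this

end CfsgLib.TightPair
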