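import Cfsg.Agent.Kinf.StrongSections
import Cfsg.Agent.Kinf.TransferTools
import Cfsg.Agent.PLocal.Thompson
import Cfsg.Agent.Solvable.Fitting

/-!
Triple factorizations of the constrained sections: the two normal closures of `Ω₁Z(S)` coincide.
-/

set_option autoImplicit false
set_option linter.unusedSectionVars false
set_option linter.style.haveILetI false

namespace CfsgLib.TripleFactor

open Subgroup CfsgLib.Functor CfsgLib.Kinf
open scoped CfsgLib.Functor

universe u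

variable {G : Type u} [Group G] [Finite G] {p : ℕ} [Fact p.Prime]

/-- Lifting a normalizing element modulo a normal `p'`-subgroup. -/
theorem exists_lift_normalizing (N : Subgroup G) [N.Normal] (hN : (Nat.card N).Coprime p)
    {V : Subgroup G} (hV : IsPGroup p ↥V) {x : G}
    (hx : QuotientGroup.mk' N x ∈ normalizer ((V.map (QuotientGroup.mk' N) : Subgroup (G ⧸ N)) : Set (G ⧸ N))) :
    ∃ r ∈ N, r * x ∈ normalizer (V : Set G) := by
  set π := QuotientGroup.mk' N with hπ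
  rw [mem_normalizer_iff_cj, ← map_cj] at hx
  have hVN : IsSylowIn p V (V ⊔ N) := by
    refine ⟨le_sup_left, hV, fun hd => ?_⟩
    have hle : V ≤ normalizer (N : Set G) := by rw [normalizer_eq_top]; exact le_top
    have h1 := Solvable.card_sup_dvd hle
    rw [← relIndex_bot_left, ← relIndex_mul_relIndex ⊥ V (V ⊔ N) bot_le le_sup_left,
      relIndex_bot_left] at h1
    have h2 := hd.trans ((mul_dvd_mul_iff_left (Nat.card_pos (α := V)).ne').1 h1)
    exact (Fact.out : p.Prime).not_dvd_one (hN.symm.dvd_of_dvd_mul_left (by simpa using h2))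
  have hxV : x ⋆ V ≤ V ⊔ N := by
    intro y hy
    have : π y ∈ V.map π := hx.le (mem_map_of_mem π hy)
    rwa [← mem_comap, comap_map_eq, hπ, QuotientGroup.ker_mk'] at this
  obtain ⟨m, hm, hmle⟩ := hVN.exists_cj_le (isPGroup_cj x hV) hxV
  obtain ⟨k, hk, r, hr, rfl⟩ := mem_sup_of_normal_right.1 hm
  refine ⟨r, hr, mem_normalizer_iff_cj.2
    (CfsgLib.Functor.eq_of_le_of_card_le' ?_ (card_cj _ V).ge)⟩
  rw [cj_cj, mul_assoc, ← cj_cj, cj_le_iff'] at hmle
  rwa [cj_eq_self_of_mem (inv_mem hk)] at hmle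

/-- Elements of a normal `p'`-subgroup centralize a normal `p`-subgroup. -/
theorem commute_of_normal {Q R : Subgroup G} [Q.Normal] [R.Normal] (hQ : IsPGroup p ↥Q)
    (hR : (Nat.card R).Coprime p) {q r : G} (hq : q ∈ Q) (hr : r ∈ R) : Commute q r := by
  refine Subgroup.commute_of_normal_of_disjoint Q R inferInstance inferInstance ?_ q r hq hr
  refine disjoint_of_coprime_natCard ?_
  obtain ⟨k, hk⟩ := hQ.exists_card_eq
  rw [hk]
  exact Nat.Coprime.pow_left k hR.symm

variable (S : Sylow p G) (W W' : ∀ (Q : Type u) [Group Q], Subgroup Q)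

/-- The factorization hypothesis `G* = C(Ω₁Z(S*)) N(W(S*))` in the constrained sections. -/
def CentFactor (p : ℕ) (G : Type u) [Group G] (W : ∀ (Q : Type u) [Group Q], Subgroup Q) : Prop :=
  ∀ (K R : Subgroup G) [(R.subgroupOf K).Normal],
    centralizer ((Cfsg.pCore p (↥K ⧸ R.subgroupOf K) : Subgroup (↥K ⧸ R.subgroupOf K)) :
      Set (↥K ⧸ R.subgroupOf K)) ≤ Cfsg.pCore p (↥K ⧸ R.subgroupOf K) →
    ∀ T : Sylow p (↥K ⧸ R.subgroupOf K), ∀ x : ↥K ⧸ R.subgroupOf K,
      ∃ a ∈ centralizer ((Cfsg.omegaOne p ((T : Subgroup (↥K ⧸ R.subgroupOf K)) ⊓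
          centralizer ((T : Subgroup (↥K ⧸ R.subgroupOf K)) : Set (↥K ⧸ R.subgroupOf K))) :
            Subgroup (↥K ⧸ R.subgroupOf K)) : Set (↥K ⧸ R.subgroupOf K)),
      ∃ b ∈ normalizer ((Cfsg.inducedFunctor (G := ↥K ⧸ R.subgroupOf K) W
          (T : Subgroup (↥K ⧸ R.subgroupOf K)) : Subgroup (↥K ⧸ R.subgroupOf K)) : Set (↥K ⧸ R.subgroupOf K)),
        x = a * b

/-- If `Z = Ω₁Z(S)` lies in `W'(S)`, a conjugate of `z ∈ Z` under `N(W'(S))` is a conjugate under
`N(W(S))`. -/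
theorem exists_conj (hW : Cfsg.IsCharPFunctor.{u} p W) (hW' : Cfsg.IsCharPFunctor.{u} p W')
    (hfac : CentFactor p G W) {z : G} (hzS : z ∈ (S : Subgroup G))
    (hzC : z ∈ centralizer ((S : Subgroup G) : Set G)) (hzp : z ^ p = 1)
    (hzW : z ∈ Cfsg.inducedFunctor (G := G) W' (S : Subgroup G)) {x : G}
    (hx : x ∈ normalizer ((Cfsg.inducedFunctor (G := G) W' (S : Subgroup G) : Subgroup G) : Set G)) :
    ∃ n ∈ normalizer ((Cfsg.inducedFunctor (G := G) W (S : Subgroup G) : Subgroup G) : Set G),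
      x * z * x⁻¹ = n * z * n⁻¹ := by
  have hfun' := isConjugacyFunctor_induced (G := G) hW'
  set V := Cfsg.inducedFunctor (G := G) W' (S : Subgroup G) with hV
  set N' := normalizer (V : Set G) with hN'
  have hVS : V ≤ S := functor_le hfun' S.2
  have hSN : (S : Subgroup G) ≤ N' := le_normalizer.trans (normalizer_le_functor hfun' S.2)
  set C := centralizer (V : Set G) with hC
  have hCN : C ≤ N' := centralizer_le_normalizer _
  have hCn : N' ≤ normalizer (C : Set G) := fun g hg => by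
    rw [mem_normalizer_iff_cj, hC, cj_centralizer, mem_normalizer_iff_cj.1 hg]
  set P := (S : Subgroup G) ⊓ C with hP
  have hPsyl : IsSylowIn p P C :=
    ((isSylowIn_top S).of_le hSN le_top).inf_normal hCN hCn
  -- the Frattini argument
  obtain ⟨c, hc, hcP⟩ := hPsyl.exists_cj_eq (hPsyl.cj_of_mem (hCn hx))
  rw [cj_cj] at hcP
  set y := c * x with hy
  have hyz : y * z * y⁻¹ = x * z * x⁻¹ := by
    have h1 : x * z * x⁻¹ ∈ V := (mem_normalizer_iff.1 hx z).1 hzW
    have h2 := mem_centralizer_iff.1 hc _ h1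
    calc y * z * y⁻¹ = c * (x * z * x⁻¹) * c⁻¹ := by rw [hy]; group
      _ = x * z * x⁻¹ := by rw [← h2, mul_inv_cancel_right]
  have hyN : y ∈ N' := mul_mem (hCN hc) hx
  set Q := V ⊔ P with hQ
  have hQS : Q ≤ S := sup_le hVS inf_le_left
  set K := normalizer (Q : Set G) with hK
  have hyK : y ∈ K := by
    rw [hK, mem_normalizer_iff_cj, hQ, Subgroup.map_sup, mem_normalizer_iff_cj.1 hyN, hcP]
  have hSK : (S : Subgroup G) ≤ K := fun s hs => by
    rw [hK, mem_normalizer_iff_cj, hQ, Subgroup.map_sup, mem_normalizer_iff_cj.1 (hSN hs), hP,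
      cj_inf, cj_eq_self_of_mem hs, mem_normalizer_iff_cj.1 (hCn (hSN hs))]
  -- the constrained section
  set R := (Cfsg.pPrimeCore p ↥K).map K.subtype with hR
  have hRe : R.subgroupOf K = Cfsg.pPrimeCore p ↥K := by
    rw [hR, subgroupOf, comap_map_eq_self_of_injective K.subtype_injective]
  haveI hRn : (R.subgroupOf K).Normal := by rw [hRe]; exact Solvable.pPrimeCore_normal p
  have hRc : (Nat.card (R.subgroupOf K)).Coprime p := by
    rw [hRe]; exact Solvable.coprime_card_pPrimeCore p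
  set π := QuotientGroup.mk' (R.subgroupOf K) with hπ
  have hπs : Function.Surjective π := QuotientGroup.mk'_surjective _
  set SK := (S : Subgroup G).subgroupOf K with hSKdef
  set QK := Q.subgroupOf K with hQK
  haveI hQn : QK.Normal := (normal_subgroupOf_iff_le_normalizer le_normalizer).2 le_rfl
  have hQp : IsPGroup p ↥QK :=
    (S.2.to_le hQS).of_equiv (subgroupOfEquivOfLe (H := Q) (K := K) le_normalizer).symm
  have hcomm : ∀ q ∈ QK, ∀ r ∈ R.subgroupOf K, Commute q r := fun q hq r hr =>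
    commute_of_normal hQp hRc hq hr
  have hSKp : IsPGroup p ↥SK := S.2.of_equiv (subgroupOfEquivOfLe hSK).symm
  have hinj : ∀ w ∈ SK, π w = 1 → w = 1 := fun w hw h => by
    have hd : Disjoint SK (R.subgroupOf K) := by
      refine disjoint_of_coprime_natCard ?_
      obtain ⟨k, hk⟩ := hSKp.exists_card_eq
      rw [hk]
      exact Nat.Coprime.pow_left k hRc.symm
    exact disjoint_def.1 hd hw ((QuotientGroup.eq_one_iff w).1 h)
  have hTsyl : IsSylowIn p (SK.map π) (⊤ : Subgroup (↥K ⧸ R.subgroupOf K)) := by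
    have h0 : IsSylowIn p SK (⊤ : Subgroup ↥K) := by
      refine ⟨le_top, hSKp, ?_⟩
      rw [relIndex_top_right]
      exact fun hd => S.not_dvd_index (hd.trans (relIndex_dvd_index_of_le hSK))
    have := h0.map π
    rwa [map_top_of_surjective π hπs] at this
  have hQc : centralizer ((QK.map π : Subgroup (↥K ⧸ R.subgroupOf K)) : Set (↥K ⧸ R.subgroupOf K))
      ≤ QK.map π := by
    haveI : (QK.map π).Normal := hQn.map π hπs
    set D := centralizer ((QK.map π : Subgroup (↥K ⧸ R.subgroupOf K)) : Set (↥K ⧸ R.subgroupOf K))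
    have hD : IsSylowIn p (SK.map π ⊓ D) D :=
      hTsyl.inf_normal le_top (by rw [normalizer_eq_top])
    have hle : SK.map π ⊓ D ≤ QK.map π := by
      rintro _ ⟨⟨s, hs, rfl⟩, hsD⟩
      refine mem_map_of_mem π (mem_subgroupOf.2 (mem_sup_right (Subgroup.mem_inf.2 ⟨hs,
        mem_centralizer_iff.2 fun v hv => ?_⟩)))
      set v' : ↥K := ⟨v, le_normalizer (H := Q) (mem_sup_left hv)⟩
      have hv' : v' ∈ QK := mem_subgroupOf.2 (mem_sup_left hv)
      have h1 := mem_centralizer_iff.1 hsD _ (mem_map_of_mem π hv')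
      have h2 : s * v' * s⁻¹ * v'⁻¹ ∈ QK ⊓ R.subgroupOf K := by
        refine Subgroup.mem_inf.2 ⟨mul_mem (hQn.conj_mem _ hv' s) (inv_mem hv'), ?_⟩
        rw [← QuotientGroup.eq_one_iff, ← QuotientGroup.mk'_apply, map_mul, map_mul, map_mul, map_inv,
          map_inv, ← hπ, ← h1]
        group
      have h3 : s * v' * s⁻¹ * v'⁻¹ = 1 := by
        have hd : Disjoint QK (R.subgroupOf K) := by
          refine disjoint_of_coprime_natCard ?_
          obtain ⟨k, hk⟩ := hQp.exists_card_eq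
          rw [hk]
          exact Nat.Coprime.pow_left k hRc.symm
        exact disjoint_def.1 hd (Subgroup.mem_inf.1 h2).1 (Subgroup.mem_inf.1 h2).2
      have h4 : s * v' = v' * s := mul_inv_eq_iff_eq_mul.1 (mul_inv_eq_one.1 h3)
      exact (congrArg Subtype.val h4).symm
    refine (le_of_sylow_central ?_ hD ?_).trans hle
    · have key : ∀ (N : Subgroup ↥K) (hN : N.Normal), N = Cfsg.pPrimeCore p ↥K →
          Cfsg.pPrimeCore p (↥K ⧸ N) = ⊥ := by
        rintro _ hN rfl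
        exact CfsgLib.Fitting.pPrimeCore_quotient_eq_bot p
      exact key _ hRn hRe
    · exact le_centralizer_iff.1 (hle.trans (le_centralizer_iff.1 le_rfl))
  have hcon : centralizer ((Cfsg.pCore p (↥K ⧸ R.subgroupOf K) : Subgroup (↥K ⧸ R.subgroupOf K)) :
      Set (↥K ⧸ R.subgroupOf K)) ≤ Cfsg.pCore p (↥K ⧸ R.subgroupOf K) := by
    have h1 : QK.map π ≤ Cfsg.pCore p _ := Solvable.le_pCore p (hQn.map π hπs) (hQp.map π)
    exact ((centralizer_le h1).trans hQc).trans h1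
  obtain ⟨T, hT⟩ : ∃ T : Sylow p (↥K ⧸ R.subgroupOf K), (T : Subgroup _) = SK.map π :=
    ⟨hTsyl.2.1.toSylow (by simpa [relIndex_top_right] using hTsyl.2.2), rfl⟩
  obtain ⟨a, ha, b, hb, hab⟩ := hfac K R hcon T (π ⟨y, hyK⟩⁻¹)
  rw [hT] at ha hb
  set zK : ↥K := ⟨z, hSK hzS⟩ with hzK
  have hzQ : zK ∈ QK := mem_subgroupOf.2 (mem_sup_left hzW)
  -- `a` centralizes `z`
  obtain ⟨a₀, rfl⟩ := hπs a
  have haz : a₀ * zK * a₀⁻¹ = zK := by
    have hzT : π zK ∈ Cfsg.omegaOne p (SK.map π ⊓ centralizer ((SK.map π : Subgroup _) : Set (↥K ⧸ R.subgroupOf K))) := by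
      refine CfsgLib.Thompson.mem_omegaOne (Subgroup.mem_inf.2 ⟨mem_map_of_mem π (mem_subgroupOf.2 hzS),
        mem_centralizer_iff.2 ?_⟩) ?_
      · rintro _ ⟨s, hs, rfl⟩
        rw [← map_mul, ← map_mul]
        exact congrArg π (Subtype.ext (mem_centralizer_iff.1 hzC s hs))
      · rw [← map_pow, show zK ^ p = 1 from Subtype.ext hzp, map_one]
    have h1 := mem_centralizer_iff.1 ha _ hzT
    have h2 : a₀ * zK * a₀⁻¹ * zK⁻¹ ∈ R.subgroupOf K := by
      rw [← QuotientGroup.eq_one_iff, ← QuotientGroup.mk'_apply, map_mul, map_mul, map_mul, map_inv,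
        map_inv, ← hπ, ← h1]
      group
    have hd : Disjoint QK (R.subgroupOf K) := by
      refine disjoint_of_coprime_natCard ?_
      obtain ⟨k, hk⟩ := hQp.exists_card_eq
      rw [hk]
      exact Nat.Coprime.pow_left k hRc.symm
    exact mul_inv_eq_one.1 (disjoint_def.1 hd (mul_mem (hQn.conj_mem _ hzQ a₀) (inv_mem hzQ)) h2)
  -- `b` lifts into `N(W(S))`
  obtain ⟨b₀, rfl⟩ := hπs b
  set VK := Cfsg.inducedFunctor (G := ↥K) W SK with hVK
  have hVKS : VK ≤ SK := functor_le (isConjugacyFunctor_induced hW) hSKp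
  rw [induced_map hW.2 π SK hSKp hinj, ← hVK] at hb
  obtain ⟨r, hr, hrb⟩ := exists_lift_normalizing (R.subgroupOf K) hRc (hSKp.to_le hVKS) hb
  have hW1 : Cfsg.inducedFunctor (G := G) W (S : Subgroup G) = VK.map K.subtype := by
    rw [hVK, ← induced_map hW.2 K.subtype SK hSKp fun w _ h => K.subtype_injective (h.trans (map_one _).symm),
      hSKdef, map_subgroupOf_eq_of_le hSK]
  have hn : ((r * b₀ : ↥K) : G) ∈
      normalizer ((Cfsg.inducedFunctor (G := G) W (S : Subgroup G) : Subgroup G) : Set G) := by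
    rw [mem_normalizer_iff_cj, hW1]
    exact (map_cj K.subtype (r * b₀) VK).symm.trans (congrArg (map K.subtype) (mem_normalizer_iff_cj.1 hrb))
  -- assemble
  set n : ↥K := r * b₀ with hndef
  refine ⟨((n : ↥K) : G)⁻¹, inv_mem hn, ?_⟩
  rw [← hyz, inv_inv]
  have h5 : (⟨y, hyK⟩ : ↥K)⁻¹⁻¹ = ⟨y, hyK⟩ := inv_inv _
  obtain ⟨t, ht, hyt⟩ : ∃ t ∈ R.subgroupOf K, (⟨y, hyK⟩ : ↥K)⁻¹ = a₀ * n * t := by
    refine ⟨(a₀ * n)⁻¹ * (⟨y, hyK⟩ : ↥K)⁻¹, ?_, by group⟩
    rw [← QuotientGroup.eq_one_iff, ← QuotientGroup.mk'_apply, map_mul, map_inv, map_mul, map_mul,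
      ← hπ, hab, show π r = 1 from (QuotientGroup.eq_one_iff r).2 hr]
    group
  have h6 : (⟨y, hyK⟩ : ↥K) * zK * (⟨y, hyK⟩ : ↥K)⁻¹ = n⁻¹ * zK * n := by
    have hy' : (⟨y, hyK⟩ : ↥K) = t⁻¹ * n⁻¹ * a₀⁻¹ := by
      rw [← h5, hyt]; group
    have haz' : a₀⁻¹ * zK * a₀ = zK := by
      conv_lhs => rw [← haz]
      group
    have htc := (hcomm _ (by simpa using hQn.conj_mem _ hzQ n⁻¹ : n⁻¹ * zK * n ∈ QK) _ (inv_mem ht)).eq
    calc (⟨y, hyK⟩ : ↥K) * zK * (⟨y, hyK⟩ : ↥K)⁻¹
        = t⁻¹ * (n⁻¹ * (a₀⁻¹ * zK * a₀) * n) * t := by rw [hy']; group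
      _ = n⁻¹ * zK * n := by rw [haz', ← htc]; group
  exact congrArg Subtype.val h6

/-- The normal closure of `Z` in `N₁` lies in every subgroup over `Z` normalized by `N₁`. -/
theorem normalClosure_map_le {Z N₁ M : Subgroup G} (hZ : Z ≤ M) (hN : N₁ ≤ normalizer (M : Set G)) :
    (normalClosure ((Z.subgroupOf N₁ : Subgroup ↥N₁) : Set ↥N₁)).map N₁.subtype ≤ M := by
  haveI : (comap N₁.subtype M).Normal := ⟨fun m hm g =>
    mem_subgroupOf.2 ((mem_normalizer_iff.1 (hN g.2) _).1 (mem_subgroupOf.1 hm))⟩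
  rw [map_le_iff_le_comap]
  exact normalClosure_le_normal fun z hz => mem_subgroupOf.2 (hZ (mem_subgroupOf.1 hz))

end CfsgLib.TripleFactor
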