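import Mathlib.Algebra.Algebra.Operations
import Mathlib.Tactic.NoncommRing
import Mathlib.Tactic.NormNum
import Mathlib.Tactic.NormNum.Prime
import Mathlib.Tactic.Linarith
import Mathlib.Tactic.IntervalCases
import Mathlib.Data.Nat.Prime.Basic
import Mathlib.RingTheory.Coprime.Lemmas

/-!
The truncated exponential over an additive subgroup `X` of a ring with `X⁴ = 0`, of characteristic a
prime at least 5: the logarithms of the units of a group are closed under addition.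
-/

set_option autoImplicit false

namespace CfsgLib.TruncExp

variable {R : Type*} [Ring R]

/-- `exp (6 a)`, truncated. -/
def ex (a : R) : R := 1 + (6 : ℤ) • a + (18 : ℤ) • (a * a) + (36 : ℤ) • (a * a * a)

variable {X : Submodule ℤ R}

theorem mul_eq_zero_of_pow (h4 : X ^ 4 = ⊥) {a b : R} {i j : ℕ} (ha : a ∈ X ^ i) (hb : b ∈ X ^ j)
    (hij : 4 ≤ i + j) (hi : i ≠ 0) : a * b = 0 := by
  have h := Submodule.mul_mem_mul ha hb
  have hle : X ^ (i + j) = ⊥ := by
    obtain ⟨k, hk⟩ := Nat.exists_eq_add_of_le hij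
    rw [hk]
    rcases Nat.eq_zero_or_pos k with rfl | hk0
    · exact h4
    · rw [Submodule.pow_add _ (by omega), h4, Submodule.bot_mul]
  rcases Nat.eq_zero_or_pos j with rfl | hj
  · have ha0 : a = 0 := by
      rw [add_zero] at hle
      rwa [hle, Submodule.mem_bot] at ha
    rw [ha0, zero_mul]
  · rw [← Submodule.pow_add _ (by omega), hle, Submodule.mem_bot] at h
    exact h

theorem mem_pow_mul {a b : R} {i j : ℕ} (ha : a ∈ X ^ i) (hb : b ∈ X ^ j) (hj : j ≠ 0) :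
    a * b ∈ X ^ (i + j) := by
  rw [Submodule.pow_add _ hj]
  exact Submodule.mul_mem_mul ha hb

/-- A product in graded form. -/
theorem mul_trunc (h4 : X ^ 4 = ⊥) {a₁ a₂ a₃ b₁ b₂ b₃ : R} (ha₁ : a₁ ∈ X ^ 1) (ha₂ : a₂ ∈ X ^ 2)
    (ha₃ : a₃ ∈ X ^ 3) (hb₁ : b₁ ∈ X ^ 1) (hb₂ : b₂ ∈ X ^ 2) (hb₃ : b₃ ∈ X ^ 3) :
    (1 + a₁ + a₂ + a₃) * (1 + b₁ + b₂ + b₃) =
      1 + (a₁ + b₁) + (a₂ + b₂ + a₁ * b₁) + (a₃ + b₃ + a₂ * b₁ + a₁ * b₂) := by
  have e1 := mul_eq_zero_of_pow h4 ha₁ hb₃ (by omega) one_ne_zero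
  have e2 := mul_eq_zero_of_pow h4 ha₂ hb₂ (by omega) two_ne_zero
  have e3 := mul_eq_zero_of_pow h4 ha₂ hb₃ (by omega) two_ne_zero
  have e4 := mul_eq_zero_of_pow h4 ha₃ hb₁ (by omega) three_ne_zero
  have e5 := mul_eq_zero_of_pow h4 ha₃ hb₂ (by omega) three_ne_zero
  have e6 := mul_eq_zero_of_pow h4 ha₃ hb₃ (by omega) three_ne_zero
  have : (1 + a₁ + a₂ + a₃) * (1 + b₁ + b₂ + b₃) =
      1 + (a₁ + b₁) + (a₂ + b₂ + a₁ * b₁) + (a₃ + b₃ + a₂ * b₁ + a₁ * b₂) +
      (a₁ * b₃ + a₂ * b₂ + a₂ * b₃ + a₃ * b₁ + a₃ * b₂ + a₃ * b₃) := by noncomm_ring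
  rw [this, e1, e2, e3, e4, e5, e6]
  simp only [add_zero]

theorem mem_two {a b : R} (ha : a ∈ X) (hb : b ∈ X) : a * b ∈ X ^ 2 :=
  mem_pow_mul (i := 1) (j := 1) (by rwa [pow_one]) (by rwa [pow_one]) one_ne_zero

theorem mem_three {a b c : R} (ha : a ∈ X) (hb : b ∈ X) (hc : c ∈ X) : a * b * c ∈ X ^ 3 :=
  mem_pow_mul (i := 2) (j := 1) (mem_two ha hb) (by rwa [pow_one]) one_ne_zero

theorem ex_mul_ex (h4 : X ^ 4 = ⊥) {a b : R} (ha : a ∈ X) (hb : b ∈ X) :
    ex a * ex b = 1 + ((6 : ℤ) • a + (6 : ℤ) • b) +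
      ((18 : ℤ) • (a * a) + (18 : ℤ) • (b * b) + ((6 : ℤ) • a) * ((6 : ℤ) • b)) +
      ((36 : ℤ) • (a * a * a) + (36 : ℤ) • (b * b * b) + ((18 : ℤ) • (a * a)) * ((6 : ℤ) • b) +
        ((6 : ℤ) • a) * ((18 : ℤ) • (b * b))) :=
  mul_trunc h4 (by rw [pow_one]; exact X.smul_mem _ ha) ((X ^ 2).smul_mem _ (mem_two ha ha))
    ((X ^ 3).smul_mem _ (mem_three ha ha ha)) (by rw [pow_one]; exact X.smul_mem _ hb)
    ((X ^ 2).smul_mem _ (mem_two hb hb)) ((X ^ 3).smul_mem _ (mem_three hb hb hb))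

/-- Exponentials of commuting elements multiply. -/
theorem ex_mul_of_commute (h4 : X ^ 4 = ⊥) {a b : R} (ha : a ∈ X) (hb : b ∈ X) (hab : a * b = b * a) :
    ex a * ex b = ex (a + b) := by
  rw [ex_mul_ex h4 ha hb]
  have e1 : a * (b * a) = a * (a * b) := by rw [hab]
  have e2 : b * (a * a) = a * (a * b) := by rw [← mul_assoc, ← hab, mul_assoc, ← hab]
  have e3 : b * (a * b) = a * (b * b) := by rw [← mul_assoc, ← hab, mul_assoc]
  have e4 : b * (b * a) = a * (b * b) := by rw [← hab, e3]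
  unfold ex
  simp only [mul_add, add_mul, mul_smul_comm, smul_mul_assoc, smul_add, smul_smul, mul_assoc,
    e1, e2, e3, e4, ← hab]
  abel

theorem ex_zero : ex (0 : R) = 1 := by simp [ex]

section Closed

variable (h4 : X ^ 4 = ⊥) (S : Submonoid R)
  (hinv : ∀ r ∈ S, ∃ r' ∈ S, r * r' = 1)

include h4 hinv

theorem ex_neg_mem {a : R} (ha : a ∈ X) (h : ex a ∈ S) : ex (-a) ∈ S := by
  obtain ⟨r, hr, hr1⟩ := hinv _ h
  have h1 : ex (-a) * ex a = 1 := by
    rw [ex_mul_of_commute h4 (X.neg_mem ha) ha (by rw [neg_mul, mul_neg]), neg_add_cancel, ex_zero]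
  have : r = ex (-a) := by
    calc r = ex (-a) * ex a * r := by rw [h1, one_mul]
      _ = ex (-a) := by rw [mul_assoc, hr1, mul_one]
  rwa [← this]

theorem ex_zsmul_mem {a : R} (ha : a ∈ X) (h : ex a ∈ S) (n : ℤ) : ex (n • a) ∈ S := by
  induction n with
  | zero => rw [zero_smul, ex_zero]; exact S.one_mem
  | succ n ih =>
    rw [add_smul, one_smul, ← ex_mul_of_commute h4 (X.smul_mem _ ha) ha (by
      rw [smul_mul_assoc, mul_smul_comm])]
    exact S.mul_mem ih h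
  | pred n ih =>
    rw [sub_smul, one_smul, sub_eq_add_neg, ← ex_mul_of_commute h4 (X.smul_mem _ ha) (X.neg_mem ha)
      (by rw [smul_mul_assoc, mul_smul_comm, mul_neg, neg_mul])]
    exact S.mul_mem ih (ex_neg_mem h4 S hinv ha h)

theorem ex_add_mem {p : ℕ} (hp : p.Prime) (h5 : 5 ≤ p) (hchar : ∀ r : R, (p : ℤ) • r = 0)
    {a b : R} (ha : a ∈ X) (hb : b ∈ X) (hea : ex a ∈ S) (heb : ex b ∈ S) : ex (a + b) ∈ S := by
  set ab := a * b - b * a with hab
  set aab := a * ab - ab * a with haab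
  set bab := b * ab - ab * b with hbab
  have hab2 : ab ∈ X ^ 2 := sub_mem (mem_two ha hb) (mem_two hb ha)
  have hx : ∀ {c : R}, c ∈ X → c * ab - ab * c ∈ X ^ 3 := fun {c} hc =>
    sub_mem (mem_pow_mul (i := 1) (j := 2) (by rwa [pow_one]) hab2 two_ne_zero)
      (mem_pow_mul (i := 2) (j := 1) hab2 (by rwa [pow_one]) one_ne_zero)
  set C2 := (36 : ℤ) • ab with hC2
  set C3 := (108 : ℤ) • (aab + bab) with hC3
  have hC2m : C2 ∈ X ^ 2 := (X ^ 2).smul_mem _ hab2
  have hC3m : C3 ∈ X ^ 3 := (X ^ 3).smul_mem _ (add_mem (hx ha) (hx hb))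
  have h1 : ∀ {c : R}, c ∈ X → c ∈ X ^ 1 := fun h => by rwa [pow_one]
  have m1 : ∀ {c : R}, c ∈ X → (6 : ℤ) • c ∈ X ^ 1 := fun h => h1 (X.smul_mem _ h)
  have m2 : ∀ {c : R}, c ∈ X → (18 : ℤ) • (c * c) ∈ X ^ 2 := fun h =>
    (X ^ 2).smul_mem _ (mem_two h h)
  have m3 : ∀ {c : R}, c ∈ X → (36 : ℤ) • (c * c * c) ∈ X ^ 3 := fun h =>
    (X ^ 3).smul_mem _ (mem_three h h h)
  have hcomm : ex a * ex b * (ex (-a) * ex (-b)) = 1 + 0 + C2 + C3 := by
    rw [ex_mul_ex h4 ha hb, ex_mul_ex h4 (X.neg_mem ha) (X.neg_mem hb), mul_trunc h4]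
    rotate_left
    · exact add_mem (m1 ha) (m1 hb)
    · exact add_mem (add_mem (m2 ha) (m2 hb)) (mem_pow_mul (m1 ha) (m1 hb) one_ne_zero)
    · exact add_mem (add_mem (add_mem (m3 ha) (m3 hb)) (mem_pow_mul (m2 ha) (m1 hb) one_ne_zero))
        (mem_pow_mul (m1 ha) (m2 hb) two_ne_zero)
    · exact add_mem (m1 (X.neg_mem ha)) (m1 (X.neg_mem hb))
    · exact add_mem (add_mem (m2 (X.neg_mem ha)) (m2 (X.neg_mem hb)))
        (mem_pow_mul (m1 (X.neg_mem ha)) (m1 (X.neg_mem hb)) one_ne_zero)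
    · exact add_mem (add_mem (add_mem (m3 (X.neg_mem ha)) (m3 (X.neg_mem hb)))
        (mem_pow_mul (m2 (X.neg_mem ha)) (m1 (X.neg_mem hb)) one_ne_zero))
        (mem_pow_mul (m1 (X.neg_mem ha)) (m2 (X.neg_mem hb)) two_ne_zero)
    simp only [hC2, hC3, hab, haab, hbab]
    noncomm_ring
  have hC : 1 + (C2 + C3) ∈ S := by
    have := S.mul_mem (S.mul_mem hea heb)
      (S.mul_mem (ex_neg_mem h4 S hinv ha hea) (ex_neg_mem h4 S hinv hb heb))
    rw [hcomm, add_zero, add_assoc] at this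
    exact this
  -- triple commutators
  have htr : ∀ {c : R}, c ∈ X → ex c ∈ S → 1 + (216 : ℤ) • (ab * c - c * ab) ∈ S := by
    intro c hc hec
    have hneg : 1 + -(C2 + C3) ∈ S := by
      obtain ⟨r, hr, hr1⟩ := hinv _ hC
      have hsq : (C2 + C3) * (C2 + C3) = 0 := by
        have e1 := mul_eq_zero_of_pow h4 hC2m hC2m le_rfl two_ne_zero
        have e2 := mul_eq_zero_of_pow h4 hC2m hC3m (by omega) two_ne_zero
        have e3 := mul_eq_zero_of_pow h4 hC3m hC2m (by omega) three_ne_zero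
        have e4 := mul_eq_zero_of_pow h4 hC3m hC3m (by omega) three_ne_zero
        rw [add_mul, mul_add, mul_add, e1, e2, e3, e4]; abel
      have h1 : (1 + -(C2 + C3)) * (1 + (C2 + C3)) = 1 := by
        have : (1 + -(C2 + C3)) * (1 + (C2 + C3)) = 1 - (C2 + C3) * (C2 + C3) := by noncomm_ring
        rw [this, hsq, sub_zero]
      have : r = 1 + -(C2 + C3) := by
        calc r = (1 + -(C2 + C3)) * (1 + (C2 + C3)) * r := by rw [h1, one_mul]
          _ = 1 + -(C2 + C3) := by rw [mul_assoc, hr1, mul_one]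
      rwa [← this]
    have h := S.mul_mem (S.mul_mem hC hec) (S.mul_mem hneg (ex_neg_mem h4 S hinv hc hec))
    have e : (1 + (C2 + C3)) * ex c * ((1 + -(C2 + C3)) * ex (-c)) =
        1 + 0 + 0 + (216 : ℤ) • (ab * c - c * ab) := by
      rw [show (1 : R) + (C2 + C3) = 1 + 0 + C2 + C3 by abel,
        show (1 : R) + -(C2 + C3) = 1 + 0 + -C2 + -C3 by abel, ex, ex,
        mul_trunc h4 (zero_mem _) hC2m hC3m (m1 hc) (m2 hc) (m3 hc),
        mul_trunc h4 (zero_mem _) (neg_mem hC2m) (neg_mem hC3m) (m1 (X.neg_mem hc))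
          (m2 (X.neg_mem hc)) (m3 (X.neg_mem hc)), mul_trunc h4]
      rotate_left
      · exact add_mem (zero_mem _) (m1 hc)
      · exact add_mem (add_mem hC2m (m2 hc)) (by rw [zero_mul]; exact zero_mem _)
      · exact add_mem (add_mem (add_mem hC3m (m3 hc)) (mem_pow_mul hC2m (m1 hc) one_ne_zero))
          (by rw [zero_mul]; exact zero_mem _)
      · exact add_mem (zero_mem _) (m1 (X.neg_mem hc))
      · exact add_mem (add_mem (neg_mem hC2m) (m2 (X.neg_mem hc))) (by rw [zero_mul]; exact zero_mem _)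
      · exact add_mem (add_mem (add_mem (neg_mem hC3m) (m3 (X.neg_mem hc)))
          (mem_pow_mul (neg_mem hC2m) (m1 (X.neg_mem hc)) one_ne_zero))
          (by rw [zero_mul]; exact zero_mem _)
      simp only [hC2]
      noncomm_ring
    rw [e, add_zero, add_zero] at h
    exact h
  -- the correction
  set k := -((18 : ℤ) • ab) + ((36 : ℤ) • aab + (72 : ℤ) • bab) with hk
  have hX32 : ∀ {c : R}, c ∈ X ^ 3 → ∀ d ∈ X ^ 2, c * d = 0 := fun hc d hd =>
    mul_eq_zero_of_pow h4 hc hd (by omega) three_ne_zero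
  have htr2 : ∀ {c : R}, c ∈ X → (216 : ℤ) • (ab * c - c * ab) ∈ X ^ 3 := fun {c} hc =>
    (X ^ 3).smul_mem _ (by rw [← neg_sub]; exact neg_mem (hx hc))
  have hkS : 1 + k ∈ S := by
    have hsum : ∀ (u v : R), 1 + u ∈ S → 1 + v ∈ S → u * v = 0 → 1 + (u + v) ∈ S := by
      intro u v hu hv huv
      have : (1 + u) * (1 + v) = 1 + (u + v) + u * v := by noncomm_ring
      have h := S.mul_mem hu hv
      rwa [this, huv, add_zero] at h
    have hsm : ∀ (u : R), u * u = 0 → 1 + u ∈ S → ∀ n : ℤ, 1 + n • u ∈ S := by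
      intro u hu h n
      have hneg : 1 + -u ∈ S := by
        obtain ⟨r, hr, hr1⟩ := hinv _ h
        have h1 : (1 + -u) * (1 + u) = 1 := by
          have : (1 + -u) * (1 + u) = 1 - u * u := by noncomm_ring
          rw [this, hu, sub_zero]
        have : r = 1 + -u := by
          calc r = (1 + -u) * (1 + u) * r := by rw [h1, one_mul]
            _ = 1 + -u := by rw [mul_assoc, hr1, mul_one]
        rwa [← this]
      induction n with
      | zero => simp [S.one_mem]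
      | succ n ih =>
        rw [add_smul, one_smul]
        exact hsum _ _ ih h (by rw [smul_mul_assoc, hu, smul_zero])
      | pred n ih =>
        rw [sub_smul, one_smul, sub_eq_add_neg]
        exact hsum _ _ ih hneg (by rw [mul_neg, smul_mul_assoc, hu, smul_zero, neg_zero])
    have hCsq : (C2 + C3) * (C2 + C3) = 0 := by
      rw [add_mul, mul_add, mul_add, mul_eq_zero_of_pow h4 hC2m hC2m le_rfl two_ne_zero,
        mul_eq_zero_of_pow h4 hC2m hC3m (by omega) two_ne_zero, hX32 hC3m _ hC2m,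
        mul_eq_zero_of_pow h4 hC3m hC3m (by omega) three_ne_zero]
      abel
    have hA := htr ha hea
    have hB := htr hb heb
    have h216 : (216 : ℤ) • k = (-108 : ℤ) • (C2 + C3) +
        ((-90 : ℤ) • ((216 : ℤ) • (ab * a - a * ab)) +
          (-126 : ℤ) • ((216 : ℤ) • (ab * b - b * ab))) := by
      simp only [hk, hC2, hC3, haab, hbab]
      noncomm_ring
    have h216S : 1 + (216 : ℤ) • k ∈ S := by
      have z3 : ∀ {c d : R}, c ∈ X ^ 3 → d ∈ X ^ 3 → c * d = 0 := fun hc hd =>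
        mul_eq_zero_of_pow h4 hc hd (by omega) three_ne_zero
      rw [h216]
      refine hsum _ _ (hsm _ hCsq hC _) (hsum _ _ (hsm _ (z3 (htr2 ha) (htr2 ha)) hA _)
        (hsm _ (z3 (htr2 hb) (htr2 hb)) hB _)
        (z3 ((X ^ 3).smul_mem _ (htr2 ha)) ((X ^ 3).smul_mem _ (htr2 hb)))) ?_
      rw [smul_mul_assoc, add_mul,
        mul_eq_zero_of_pow h4 hC2m (add_mem ((X ^ 3).smul_mem _ (htr2 ha))
          ((X ^ 3).smul_mem _ (htr2 hb))) (by omega) two_ne_zero,
        z3 hC3m (add_mem ((X ^ 3).smul_mem _ (htr2 ha)) ((X ^ 3).smul_mem _ (htr2 hb))),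
        add_zero, smul_zero]
    have hksq : k * k = 0 := by
      have hu : -((18 : ℤ) • ab) ∈ X ^ 2 := neg_mem ((X ^ 2).smul_mem _ hab2)
      have hv : (36 : ℤ) • aab + (72 : ℤ) • bab ∈ X ^ 3 :=
        add_mem ((X ^ 3).smul_mem _ (hx ha)) ((X ^ 3).smul_mem _ (hx hb))
      have hgen : ∀ u v : R, u * u = 0 → u * v = 0 → v * u = 0 → v * v = 0 →
          (u + v) * (u + v) = 0 := fun u v e1 e2 e3 e4 => by
        rw [add_mul, mul_add, mul_add, e1, e2, e3, e4]; abel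
      exact hgen _ _ (mul_eq_zero_of_pow h4 hu hu le_rfl two_ne_zero)
        (mul_eq_zero_of_pow h4 hu hv (by omega) two_ne_zero) (hX32 hv _ hu)
        (mul_eq_zero_of_pow h4 hv hv (by omega) three_ne_zero)
    obtain ⟨n, m, hnm⟩ : IsCoprime (216 : ℤ) (p : ℤ) := by
      have : Nat.Coprime 216 p := by
        refine ((Nat.Prime.coprime_iff_not_dvd hp).2 fun hd => ?_).symm
        have h' : p ∣ 6 ^ 3 := by norm_num; exact hd
        have := Nat.le_of_dvd (by norm_num) (hp.dvd_of_dvd_pow h')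
        interval_cases p <;> norm_num at *
      exact_mod_cast Nat.isCoprime_iff_coprime.2 this
    have h := hsm _ (by rw [smul_mul_assoc, mul_smul_comm, hksq, smul_zero, smul_zero]) h216S n
    rwa [smul_smul, show n * 216 = 1 - m * (p : ℤ) by linarith, sub_smul, one_smul, mul_smul,
      hchar, smul_zero, sub_zero] at h
  have he : ex (a + b) = ex a * ex b * (1 + k) := by
    rw [ex_mul_ex h4 ha hb, show (1 : R) + k = 1 + 0 + -((18 : ℤ) • ab) +
      ((36 : ℤ) • aab + (72 : ℤ) • bab) by rw [hk]; abel, mul_trunc h4]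
    rotate_left
    · exact add_mem (m1 ha) (m1 hb)
    · exact add_mem (add_mem (m2 ha) (m2 hb)) (mem_pow_mul (m1 ha) (m1 hb) one_ne_zero)
    · exact add_mem (add_mem (add_mem (m3 ha) (m3 hb)) (mem_pow_mul (m2 ha) (m1 hb) one_ne_zero))
        (mem_pow_mul (m1 ha) (m2 hb) two_ne_zero)
    · exact zero_mem _
    · exact neg_mem ((X ^ 2).smul_mem _ hab2)
    · exact add_mem ((X ^ 3).smul_mem _ (hx ha)) ((X ^ 3).smul_mem _ (hx hb))
    simp only [ex, hab, haab, hbab]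
    noncomm_ring
  rw [he]
  exact S.mul_mem (S.mul_mem hea heb) hkS

end Closed

/-- Generated logarithms: if `1 + x ∈ S` and `x² = 0` for a generating set of `X`, then
`1 + z ∈ S` for every square-zero `z ∈ X`. -/
theorem one_add_mem {U : Set R} (h4 : Submodule.span ℤ U ^ 4 = ⊥) (S : Submonoid R)
    (hinv : ∀ r ∈ S, ∃ r' ∈ S, r * r' = 1) {p : ℕ} (hp : p.Prime) (h5 : 5 ≤ p)
    (hchar : ∀ r : R, (p : ℤ) • r = 0) (hU : ∀ x ∈ U, x * x = 0 ∧ 1 + x ∈ S)
    {z : R} (hz : z ∈ Submodule.span ℤ U) (hzz : z * z = 0) : 1 + z ∈ S := by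
  have hex : ∀ {x : R}, x * x = 0 → ex x = 1 + (6 : ℤ) • x := fun {x} hx => by simp [ex, hx]
  have hall : ∀ x ∈ Submodule.span ℤ U, ex x ∈ S := by
    intro x hx
    induction hx using Submodule.span_induction with
    | mem x hx =>
      obtain ⟨hxx, hxS⟩ := hU x hx
      have : ∀ n : ℕ, (1 + x) ^ n = 1 + (n : ℤ) • x := by
        intro n
        induction n with
        | zero => simp
        | succ n ih =>
          rw [pow_succ, ih, mul_add, mul_one, add_mul, one_mul, smul_mul_assoc, hxx, smul_zero,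
            add_zero, Nat.cast_succ, add_smul, one_smul, add_assoc]
      rw [hex hxx, show (6 : ℤ) = ((6 : ℕ) : ℤ) from rfl, ← this]
      exact S.pow_mem hxS 6
    | zero => rw [ex_zero]; exact S.one_mem
    | add x y hx hy ihx ihy => exact ex_add_mem h4 S hinv hp h5 hchar hx hy ihx ihy
    | smul n x hx ih => exact ex_zsmul_mem h4 S hinv hx ih n
  obtain ⟨n, m, hnm⟩ : IsCoprime (6 : ℤ) (p : ℤ) := by
    have : Nat.Coprime 6 p := by
      refine ((Nat.Prime.coprime_iff_not_dvd hp).2 fun hd => ?_).symm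
      have := Nat.le_of_dvd (by norm_num) hd
      interval_cases p <;> norm_num at *
    exact_mod_cast Nat.isCoprime_iff_coprime.2 this
  have hz' : n • z ∈ Submodule.span ℤ U := Submodule.smul_mem _ _ hz
  have h := hall _ hz'
  rwa [hex (by rw [smul_mul_assoc, mul_smul_comm, hzz, smul_zero, smul_zero]), smul_smul,
    show 6 * n = 1 - m * (p : ℤ) by linarith, sub_smul, one_smul, mul_smul, hchar, smul_zero,
    sub_zero] at h

end CfsgLib.TruncExp
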