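import Cfsg.Agent.Functor.Sylow
import Cfsg.Agent.Coprime.Generation
import Cfsg.Agent.PLocal.Thompson

/-!
A p-group with an elementary abelian group of order q² of operators with exactly two subgroups of order q
having fixed points.
-/

set_option autoImplicit false
set_option linter.style.haveILetI false

namespace CfsgLib.Kinf

open Subgroup
open scoped commutatorElement

variable {S : Type*} [Group S] [Finite S]

/-- An element centralizing `C₁`, fixed point free on `C₂`, and trivial on the central factor `N/K`. -/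
theorem commutator_le_of_fixed {P N K C₁ C₂ : Subgroup S} [K.Normal] (hC₁ : C₁ ≤ P) (hC₂ : C₂ ≤ P)
    (hNP : ⁅N, P⁆ ≤ K) (hle : ⁅C₁, C₂⁆ ≤ N) {x : S}
    (hx₁ : ∀ c ∈ C₁, x * c * x⁻¹ = c) (hx₂ : ∀ c ∈ C₂, x * c * x⁻¹ ∈ C₂)
    (hfpf : ∀ c ∈ C₂, x * c * x⁻¹ = c → c = 1)
    (hxN : ∀ n ∈ N, x * n * x⁻¹ * n⁻¹ ∈ K) : ⁅C₁, C₂⁆ ≤ K := by
  refine commutator_le.2 fun a ha b hb => ?_
  set π := QuotientGroup.mk' K with hπ
  let γ : S → S ⧸ K := fun c => π (a * c * a⁻¹ * c⁻¹)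
  have hN : ∀ c ∈ C₂, a * c * a⁻¹ * c⁻¹ ∈ N := fun c hc => hle (commutator_mem_commutator ha hc)
  have hmul : ∀ c ∈ C₂, ∀ d ∈ C₂, γ (c * d) = γ c * γ d := by
    intro c hc d hd
    have h1 : π ((a * d * a⁻¹ * d⁻¹) * c * (a * d * a⁻¹ * d⁻¹)⁻¹ * c⁻¹) = 1 :=
      (QuotientGroup.eq_one_iff _).2 (hNP (commutator_mem_commutator (hN d hd) (hC₂ hc)))
    rw [map_mul, map_mul, map_mul, map_inv, map_inv, mul_inv_eq_one, mul_inv_eq_iff_eq_mul] at h1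
    show π (a * (c * d) * a⁻¹ * (c * d)⁻¹) = π (a * c * a⁻¹ * c⁻¹) * π (a * d * a⁻¹ * d⁻¹)
    rw [show a * (c * d) * a⁻¹ * (c * d)⁻¹ =
      (a * c * a⁻¹ * c⁻¹) * (c * (a * d * a⁻¹ * d⁻¹) * c⁻¹) by group, map_mul, map_mul π (c * _),
      map_mul π c, ← h1, map_inv, mul_inv_cancel_right]
  have hinv : ∀ c ∈ C₂, γ (x * c * x⁻¹) = γ c := by
    intro c hc
    show π (a * (x * c * x⁻¹) * a⁻¹ * (x * c * x⁻¹)⁻¹) = π (a * c * a⁻¹ * c⁻¹)
    have e : a * (x * c * x⁻¹) * a⁻¹ * (x * c * x⁻¹)⁻¹ = x * (a * c * a⁻¹ * c⁻¹) * x⁻¹ := by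
      have ha' : x⁻¹ * a * x = a := by
        nth_rewrite 1 [← hx₁ a ha]
        group
      calc a * (x * c * x⁻¹) * a⁻¹ * (x * c * x⁻¹)⁻¹
          = x * ((x⁻¹ * a * x) * c * (x⁻¹ * a * x)⁻¹ * c⁻¹) * x⁻¹ := by group
        _ = _ := by rw [ha']
    have h1 : π (x * (a * c * a⁻¹ * c⁻¹) * x⁻¹ * (a * c * a⁻¹ * c⁻¹)⁻¹) = 1 :=
      (QuotientGroup.eq_one_iff _).2 (hxN _ (hN c hc))
    rw [map_mul, map_inv, mul_inv_eq_one] at h1
    rw [e, h1]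
  have hinj : Function.Injective (fun c : C₂ => (⟨(c : S)⁻¹ * (x * c * x⁻¹),
      C₂.mul_mem (C₂.inv_mem c.2) (hx₂ c c.2)⟩ : C₂)) := by
    intro c d h
    have h' : (c : S)⁻¹ * (x * c * x⁻¹) = (d : S)⁻¹ * (x * d * x⁻¹) := congrArg Subtype.val h
    have h2 := hfpf ((d : S) * (c : S)⁻¹) (C₂.mul_mem d.2 (C₂.inv_mem c.2)) (by
      calc x * ((d : S) * (c : S)⁻¹) * x⁻¹ = (d : S) * ((d : S)⁻¹ * (x * d * x⁻¹)) * (x * (c : S)⁻¹ * x⁻¹) := by group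
        _ = (d : S) * ((c : S)⁻¹ * (x * c * x⁻¹)) * (x * (c : S)⁻¹ * x⁻¹) := by rw [h']
        _ = (d : S) * (c : S)⁻¹ := by group)
    exact Subtype.ext (mul_inv_eq_one.1 h2).symm
  obtain ⟨⟨c, hc⟩, hcb⟩ := Finite.injective_iff_surjective.1 hinj ⟨b, hb⟩
  have hb' : b = c⁻¹ * (x * c * x⁻¹) := (congrArg Subtype.val hcb).symm
  have hone : γ 1 = 1 := by simp [γ]
  have hcinv : γ c⁻¹ = (γ c)⁻¹ := by
    have h := hmul c hc c⁻¹ (C₂.inv_mem hc)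
    rw [mul_inv_cancel, hone] at h
    exact eq_inv_of_mul_eq_one_right h.symm
  refine (QuotientGroup.eq_one_iff _).1 ?_
  show γ b = 1
  rw [hb', hmul _ (C₂.inv_mem hc) _ (hx₂ c hc), hinv c hc, hcinv, inv_mul_cancel]

theorem two_fixed_decomposition {p q : ℕ} [Fact p.Prime] [Fact q.Prime] (hpq : p ≠ q)
    (P : Sylow p S) [(P : Subgroup S).Normal] (Q : Subgroup S) (hQ : Cfsg.IsElementaryAbelian q Q)
    (hQc : Nat.card Q = q ^ 2) (hS : (P : Subgroup S) ⊔ Q = ⊤)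
    (X₁ X₂ : Subgroup S) (h₁ : X₁ ≤ Q) (h₂ : X₂ ≤ Q) (h₁₂ : X₁ ≠ X₂) (hc₁ : Nat.card X₁ = q) (hc₂ : Nat.card X₂ = q)
    (honly : ∀ X : Subgroup S, X ≤ Q → Nat.card X = q →
      (P : Subgroup S) ⊓ centralizer (X : Set S) ≠ ⊥ → X = X₁ ∨ X = X₂) :
    ⁅(P : Subgroup S) ⊓ centralizer (X₁ : Set S), (P : Subgroup S) ⊓ centralizer (X₂ : Set S)⁆ = ⊥ ∧
      ((P : Subgroup S) ⊓ centralizer (X₁ : Set S)) ⊓ ((P : Subgroup S) ⊓ centralizer (X₂ : Set S)) = ⊥ ∧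
      ((P : Subgroup S) ⊓ centralizer (X₁ : Set S)) ⊔ ((P : Subgroup S) ⊓ centralizer (X₂ : Set S)) = P := by
  classical
  set C₁ := (P : Subgroup S) ⊓ centralizer (X₁ : Set S) with hC₁
  set C₂ := (P : Subgroup S) ⊓ centralizer (X₂ : Set S) with hC₂
  have hQcomm : ∀ a ∈ Q, ∀ b ∈ Q, a * b = b * a := fun a ha b hb => Thompson.elab_commute hQ ha hb
  have hord : ∀ a ∈ Q, a ≠ 1 → Nat.card (zpowers a) = q := fun a ha ha1 => by
    rw [Nat.card_zpowers]; exact orderOf_eq_prime (hQ.2 a ha) ha1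
  have hgen : ∀ {X : Subgroup S}, Nat.card X = q → ∀ x ∈ X, x ≠ 1 → zpowers x = X := by
    intro X hX x hx hx1
    refine Functor.eq_of_le_of_card_le' (zpowers_le.2 hx) ?_
    rw [hX, Nat.card_zpowers]
    rcases (Fact.out : q.Prime).eq_one_or_self_of_dvd _ (hX ▸ X.orderOf_dvd_natCard hx) with h | h
    · exact absurd (orderOf_eq_one_iff.1 h) hx1
    · exact h.ge
  have hne : ∀ {X : Subgroup S}, Nat.card X = q → ∃ x ∈ X, x ≠ 1 := fun {X} hX =>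
    X.bot_or_exists_ne_one.resolve_left fun h => by
      rw [h, card_bot] at hX; exact (Fact.out : q.Prime).one_lt.ne hX
  obtain ⟨x₁, hx₁, hx₁1⟩ := hne hc₁
  obtain ⟨x₂, hx₂, hx₂1⟩ := hne hc₂
  have hcent : ∀ {X : Subgroup S} {x : S}, zpowers x = X → ∀ g : S, x * g = g * x →
      g ∈ centralizer (X : Set S) := by
    intro X x hX g hg
    subst hX
    refine mem_centralizer_iff.2 fun y hy => ?_
    obtain ⟨i, rfl⟩ := hy
    exact ((show Commute x g from hg).zpow_left i).eq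
  have hnorm : ∀ {X : Subgroup S}, X ≤ Q → Q ≤ normalizer (centralizer (X : Set S) : Set S) := by
    intro X hX a ha
    refine le_normalizer (mem_centralizer_iff.2 fun y hy => ?_)
    exact hQcomm y (hX hy) a ha
  have hinf : C₁ ⊓ C₂ = ⊥ := by
    by_contra h
    obtain ⟨g, hg, hg1⟩ := (C₁ ⊓ C₂).bot_or_exists_ne_one.resolve_left h
    have hx3 : x₁ * x₂ ≠ 1 := fun h12 => h₁₂ (by
      have hxx : x₂ = x₁⁻¹ := eq_inv_of_mul_eq_one_right h12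
      rw [← hgen hc₁ x₁ hx₁ hx₁1, ← hgen hc₂ x₂ hx₂ hx₂1, hxx, zpowers_inv])
    have hcom : x₁ * x₂ * g = g * (x₁ * x₂) := by
      rw [mul_assoc, mem_centralizer_iff.1 hg.2.2 x₂ hx₂, ← mul_assoc,
        mem_centralizer_iff.1 hg.1.2 x₁ hx₁, mul_assoc]
    have hne' : (P : Subgroup S) ⊓ centralizer ((zpowers (x₁ * x₂) : Subgroup S) : Set S) ≠ ⊥ := fun hb =>
      hg1 (mem_bot.1 (hb ▸ (⟨hg.1.1, hcent rfl g hcom⟩ : g ∈ (P : Subgroup S) ⊓ _)))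
    rcases honly _ (zpowers_le.2 (Q.mul_mem (h₁ hx₁) (h₂ hx₂))) (hord _ (Q.mul_mem (h₁ hx₁) (h₂ hx₂)) hx3) hne' with h' | h'
    · have h4 : x₂ ∈ X₁ := by
        have := X₁.mul_mem (X₁.inv_mem hx₁) (h' ▸ mem_zpowers (x₁ * x₂))
        simpa using this
      exact h₁₂ (by rw [← hgen hc₁ x₂ h4 hx₂1, hgen hc₂ x₂ hx₂ hx₂1])
    · have h4 : x₁ ∈ X₂ := by
        have := X₂.mul_mem (h' ▸ mem_zpowers (x₁ * x₂)) (X₂.inv_mem hx₂)
        simpa using this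
      exact h₁₂ (by rw [← hgen hc₂ x₁ h4 hx₁1, hgen hc₁ x₁ hx₁ hx₁1])
  -- generation
  letI : CommGroup Q :=
    { (inferInstance : Group Q) with mul_comm := fun a b => Subtype.ext (hQcomm a a.2 b b.2) }
  have hgenN : ∀ N : Subgroup S, N ≤ P → Q ≤ normalizer (N : Set S) → N ≤ (N ⊓ C₁) ⊔ (N ⊓ C₂) := by
    intro N hNP hQN
    letI : MulDistribMulAction Q N :=
      MulDistribMulAction.compHom N (N.normalizerMonoidHom.comp (Subgroup.inclusion hQN))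
    have hval : ∀ (a : Q) (g : N), ((a • g : N) : S) = (a : S) * g * (a : S)⁻¹ := fun a g => rfl
    have hnc : ¬ IsCyclic Q := by
      intro hc
      obtain ⟨g, hg⟩ := hc.exists_generator
      have h1 : Nat.card (zpowers g) = q ^ 2 := by
        rw [show zpowers g = ⊤ from (eq_top_iff' _).2 hg, card_top, hQc]
      rw [Nat.card_zpowers] at h1
      have h2 : orderOf g ∣ q := orderOf_dvd_of_pow_eq_one (Subtype.ext (hQ.2 g g.2))
      rw [h1] at h2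
      have := Nat.le_of_dvd (Fact.out : q.Prime).pos h2
      have := (Fact.out : q.Prime).one_lt
      nlinarith
    have hcop : (Nat.card Q).Coprime (Nat.card N) := by
      obtain ⟨j, hj⟩ := (P.2.to_le hNP).exists_card_eq
      rw [hQc, hj]
      exact ((Nat.coprime_primes Fact.out Fact.out).2 (Ne.symm hpq)).pow 2 j
    have htop := Coprime.closure_fixed_eq_top (A := Q) (G := N) hnc hcop
    intro n hn
    have hmem : (⟨n, hn⟩ : N) ∈ ((N ⊓ C₁) ⊔ (N ⊓ C₂)).subgroupOf N := by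
      refine (htop.ge.trans ((closure_le _).2 ?_)) (mem_top _)
      rintro g ⟨a, ha1, hag⟩
      have hag' : (a : S) * g * (a : S)⁻¹ = g := by rw [← hval, hag]
      rcases eq_or_ne (g : S) 1 with hg1 | hg1
      · exact mem_subgroupOf.2 (hg1 ▸ one_mem _)
      have hgc := hcent rfl (g : S) (mul_inv_eq_iff_eq_mul.1 hag')
      have ha1' : (a : S) ≠ 1 := fun h => ha1 (Subtype.ext h)
      rcases honly (zpowers (a : S)) (zpowers_le.2 a.2) (hord _ a.2 ha1')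
        (fun hb => hg1 (mem_bot.1 (hb ▸ (⟨hNP g.2, hgc⟩ : (g : S) ∈ (P : Subgroup S) ⊓ _)))) with h | h
      · exact mem_subgroupOf.2 (mem_sup_left ⟨g.2, hNP g.2, h ▸ hgc⟩)
      · exact mem_subgroupOf.2 (mem_sup_right ⟨g.2, hNP g.2, h ▸ hgc⟩)
    exact mem_subgroupOf.1 hmem
  refine ⟨?_, hinf, le_antisymm (sup_le inf_le_left inf_le_left) ?_⟩
  swap
  · exact (hgenN P le_rfl le_normalizer_of_normal).trans (sup_le_sup inf_le_right inf_le_right)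
  -- commuting
  obtain ⟨N, ⟨hNn, hNP, hCN⟩, hmin⟩ := Set.exists_min_image
    {N : Subgroup S | N.Normal ∧ N ≤ P ∧ ⁅C₁, C₂⁆ ≤ N} (fun N => Nat.card N) (Set.toFinite _)
    ⟨P, inferInstance, le_rfl, (commutator_mono inf_le_left inf_le_left).trans (commutator_le_self _)⟩
  haveI := hNn
  by_contra hne0
  set M := ⁅N, (P : Subgroup S)⁆ with hM
  haveI : M.Normal := inferInstance
  have hMN : M ≤ N := commutator_le_left N P
  have hMne : M ≠ N := by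
    intro he
    haveI : Group.IsNilpotent (P : Subgroup S) := P.2.isNilpotent
    obtain ⟨n, hn⟩ := (Subgroup.isNilpotent_iff_lowerCentralSeries (P : Subgroup S)).1 inferInstance
    have key : ∀ j, N ≤ (P : Subgroup S).lowerCentralSeries j := by
      intro j
      induction j with
      | zero => exact hNP
      | succ j ih => rw [Subgroup.lowerCentralSeries_succ, ← he]; exact commutator_mono ih le_rfl
    have hNb : N = ⊥ := le_bot_iff.1 (hn ▸ key n)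
    exact hne0 (le_bot_iff.1 (hNb ▸ hCN))
  have hQPtop : ∀ K : Subgroup S, M ≤ K → K ≤ N → Q ≤ normalizer (K : Set S) → K.Normal := by
    intro K hMK hKN hQK
    refine normalizer_eq_top_iff.1 (eq_top_iff.2 (hS ▸ sup_le (fun y hy => ?_) hQK))
    refine Functor.mem_normalizer_iff_cj.2 (Functor.eq_of_le_of_card_le' (Functor.cj_le_iff.2 fun k hk => ?_)
      (Functor.card_cj y K).ge)
    have h1 : k * y * k⁻¹ * y⁻¹ ∈ M := commutator_mem_commutator (hKN hk) hy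
    rw [show y * k * y⁻¹ = (k * y * k⁻¹ * y⁻¹)⁻¹ * k by group]
    exact K.mul_mem (K.inv_mem (hMK h1)) hk
  have hnorC : ∀ {X : Subgroup S}, X ≤ Q → ∀ z ∈ Q, ∀ c ∈ (P : Subgroup S) ⊓ centralizer (X : Set S),
      z * c * z⁻¹ ∈ (P : Subgroup S) ⊓ centralizer (X : Set S) := fun {X} hX z hz c hc =>
    ⟨(inferInstance : (P : Subgroup S).Normal).conj_mem c hc.1 z, (mem_normalizer_iff.1 (hnorm hX hz) c).1 hc.2⟩
  -- one step
  have step : ∀ {A B : Subgroup S} {x : S}, A ≤ P → B ≤ P → ⁅A, B⁆ ≤ N → x ∈ Q →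
      (∀ c ∈ A, x * c * x⁻¹ = c) → (∀ c ∈ B, x * c * x⁻¹ ∈ B) → (∀ c ∈ B, x * c * x⁻¹ = c → c = 1) →
      ∀ K : Subgroup S, K.Normal → M ≤ K → N ≤ (N ⊓ A) ⊔ K → ⁅A, B⁆ ≤ K := by
    intro A B x hA hB hAB hxQ h1 h2 h3 K hK hMK hNK
    haveI := hK
    refine commutator_le_of_fixed hA hB hMK hAB h1 h2 h3 fun n hn => ?_
    obtain ⟨a, ha, k, hk, rfl⟩ :=
      (Solvable.mem_sup_of_le_normalizer le_normalizer_of_normal).1 (hNK hn)
    rw [show x * (a * k) * x⁻¹ * (a * k)⁻¹ = (x * a * x⁻¹) * ((x * k * x⁻¹) * k⁻¹) * a⁻¹ by group, h1 a ha.2]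
    exact hK.conj_mem _ (K.mul_mem (hK.conj_mem k hk x) (K.inv_mem hk)) a
  have hfix : ∀ {X : Subgroup S} {x : S}, x ∈ X → ∀ c ∈ (P : Subgroup S) ⊓ centralizer (X : Set S),
      x * c * x⁻¹ = c := fun {X x} hx c hc => mul_inv_eq_iff_eq_mul.2 (mem_centralizer_iff.1 hc.2 x hx)
  have hf₁ : ∀ c ∈ C₂, x₁ * c * x₁⁻¹ = c → c = 1 := fun c hc h =>
    mem_bot.1 (hinf ▸ (⟨⟨hc.1, hcent (hgen hc₁ x₁ hx₁ hx₁1) c (mul_inv_eq_iff_eq_mul.1 h)⟩, hc⟩ : c ∈ C₁ ⊓ C₂))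
  have hf₂ : ∀ c ∈ C₁, x₂ * c * x₂⁻¹ = c → c = 1 := fun c hc h =>
    mem_bot.1 (hinf ▸ (⟨hc, ⟨hc.1, hcent (hgen hc₂ x₂ hx₂ hx₂1) c (mul_inv_eq_iff_eq_mul.1 h)⟩⟩ : c ∈ C₁ ⊓ C₂))
  have hsupn : ∀ {X : Subgroup S}, X ≤ Q → ((N ⊓ ((P : Subgroup S) ⊓ centralizer (X : Set S))) ⊔ M).Normal := by
    intro X hX
    refine hQPtop _ le_sup_right (sup_le inf_le_left hMN) fun z hz => ?_
    refine Functor.mem_normalizer_iff_cj.2 (Functor.eq_of_le_of_card_le' ?_ (Functor.card_cj _ _).ge)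
    rw [Subgroup.map_sup]
    exact sup_le_sup (Functor.cj_le_iff.2 fun c hc => ⟨hNn.conj_mem c hc.1 z, hnorC hX z hz c hc.2⟩)
      (Functor.cj_le_iff.2 fun c hc => (inferInstance : M.Normal).conj_mem c hc z)
  have hN₂ : (N ⊓ C₂) ⊔ M = N := by
    refine Functor.eq_of_le_of_card_le' (sup_le inf_le_left hMN) (hmin _ ⟨hsupn h₂, ?_, ?_⟩)
    · exact (sup_le inf_le_left hMN).trans hNP
    · refine step inf_le_left inf_le_left hCN (h₁ hx₁) (hfix hx₁) (hnorC h₂ x₁ (h₁ hx₁)) hf₁ _ (hsupn h₂) le_sup_right ?_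
      exact (hgenN N hNP le_normalizer_of_normal).trans (sup_le_sup le_rfl le_sup_left)
  have hN₁ : (N ⊓ C₁) ⊔ M = N := by
    refine Functor.eq_of_le_of_card_le' (sup_le inf_le_left hMN) (hmin _ ⟨hsupn h₁, ?_, ?_⟩)
    · exact (sup_le inf_le_left hMN).trans hNP
    · rw [commutator_comm]
      refine step inf_le_left inf_le_left (commutator_comm C₁ C₂ ▸ hCN) (h₂ hx₂) (hfix hx₂) (hnorC h₁ x₂ (h₂ hx₂)) hf₂ _ (hsupn h₁) le_sup_right ?_
      exact (hgenN N hNP le_normalizer_of_normal).trans (sup_le (le_sup_left.trans le_sup_right) le_sup_left)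
  refine hMne (Functor.eq_of_le_of_card_le' hMN (hmin _ ⟨inferInstance, hMN.trans hNP, ?_⟩))
  exact step inf_le_left inf_le_left hCN (h₁ hx₁) (hfix hx₁) (hnorC h₂ x₁ (h₁ hx₁)) hf₁ M inferInstance le_rfl hN₁.ge

end CfsgLib.Kinf
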