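import Cfsg.Agent.Functor.Relative
import Cfsg.Agent.Kinf.Fixed

/-!
Weak closure reduced to subgroups with `A` in the centre of their `O_p`.
-/

set_option autoImplicit false
set_option linter.unusedSectionVars false

namespace CfsgLib.Kinf

open Subgroup CfsgLib.Functor
open scoped CfsgLib.Functor

variable {G : Type*} [Group G] [Finite G] {p : ℕ} [Fact p.Prime]

/-- If `N(W S)` and the normalizers of well-placed subgroups above `A` lie in `F`, every
conjugation of `A` into `S` is by an element of `F`. -/
theorem fixed_of_wellPlaced {W : Subgroup G → Subgroup G} (hW : Cfsg.IsConjugacyFunctor p W)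
    (hWZ : ∀ P : Subgroup G, IsPGroup p ↥P → P ⊓ centralizer (P : Set G) ≤ W P)
    (S : Sylow p G) (A F : Subgroup G)
    (hAZ : A ≤ (S : Subgroup G) ⊓ centralizer ((S : Subgroup G) : Set G))
    (hFA : F ≤ normalizer (A : Set G)) (hbot : A = ⊥ → F = ⊤)
    (hNW : normalizer ((W (S : Subgroup G) : Subgroup G) : Set G) ≤ F)
    (hloc : ∀ U : Subgroup G, Cfsg.IsWellPlaced p W (S : Subgroup G) U → A ≤ U →
      normalizer ((W ((S : Subgroup G) ⊓ normalizer (U : Set G)) : Subgroup G) : Set G) ≤ F →
      normalizer (U : Set G) ≤ F)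
    {g : G} (hg : g ⋆ A ≤ (S : Subgroup G)) : g ∈ F := by
  set Q : Subgroup G → G → Prop := fun B k => A ≤ B ∨ A ≤ k ⋆ B → k ∈ F with hQ
  set P : Subgroup G → Prop := fun V => A ≤ V → normalizer (V : Set G) ≤ F with hP
  have hfix : ∀ k ∈ F, k ⋆ A = A := fun k hk => mem_normalizer_iff_cj.1 (hFA hk)
  have hres := (fusion_induction S Q P (fun U => Cfsg.IsWellPlaced p W (S : Subgroup G) U)
    ?_ ?_ ?_ ?_ ?_ ?_ ?_ ?_).1 A g (hAZ.trans inf_le_left) hg (Or.inl le_rfl)
  · exact hres
  · intro B hB
    obtain ⟨h, h1, h2, h3⟩ := exists_wellPlaced hW S hB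
    exact ⟨h, h1, h2, h3.2 0, h3⟩
  · exact fun B C k hBC _ _ h hor => h (hor.imp (·.trans hBC) (·.trans (cj_mono k hBC)))
  · intro B k l _ _ _ hk hl hor
    rcases hor with h | h
    · have h1 := hk (Or.inl h)
      exact mul_mem (hl (Or.inl ((hfix k h1).ge.trans (cj_mono k h)))) h1
    · rw [← cj_cj] at h
      have h1 := hl (Or.inr h)
      have h2 : A ≤ k ⋆ B := by
        have := cj_mono l⁻¹ h
        rwa [cj_inv_cj, hfix _ (inv_mem h1)] at this
      exact mul_mem h1 (hk (Or.inr h2))
  · intro B k _ _ hk hor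
    refine inv_mem (hk ?_)
    rw [cj_inv_cj] at hor
    exact hor.symm
  · intro k hor
    have hA : A = ⊥ := by
      rcases hor with h | h
      · exact le_bot_iff.1 h
      · rw [cj_eq_bot_iff.2 rfl] at h
        exact le_bot_iff.1 h
    rw [hbot hA]
    exact mem_top k
  · exact fun n hn _ => hNW (normalizer_le_functor hW S.2 hn)
  · intro U _ _ _ _ hPU n hn hor
    rw [mem_normalizer_iff_cj.1 hn, or_self] at hor
    exact hPU hor hn
  · intro V hV hV1 hQV ihP hAV n hn
    obtain ⟨h, h1, h2, h3⟩ := exists_wellPlaced hW S hV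
    set N := (S : Subgroup G) ⊓ normalizer (V : Set G) with hN
    have hhF : h ∈ F := hQV N h inf_le_left h2 le_rfl (Or.inl (hAV.trans (le_inf hV le_normalizer)))
    set U := h ⋆ V with hU
    have hAU : A ≤ U := (hfix h hhF).ge.trans (cj_mono h hAV)
    set N' := (S : Subgroup G) ⊓ normalizer (U : Set G) with hN'
    have hNW' : normalizer ((W N' : Subgroup G) : Set G) ≤ F := by
      by_cases hS : N' = (S : Subgroup G)
      · rw [hS]; exact hNW
      have hN'p : IsPGroup p ↥N' := S.2.to_le inf_le_left
      have hle : (S : Subgroup G) ⊓ normalizer (N' : Set G) ≤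
          (S : Subgroup G) ⊓ normalizer ((W N' : Subgroup G) : Set G) :=
        inf_le_inf_left _ (normalizer_le_functor hW hN'p)
      have hgt : N' < (S : Subgroup G) ⊓ normalizer (N' : Set G) :=
        lt_inf_normalizer S.2 (lt_of_le_of_ne inf_le_left hS)
      have hN'1 : N' ≠ ⊥ := fun he => hV1 (cj_eq_bot_iff.1 (le_bot_iff.1
        (he ▸ le_inf h1 le_normalizer : h ⋆ V ≤ ⊥)))
      refine ihP (W N') ((functor_le hW hN'p).trans inf_le_left)
        (functor_ne_bot hW hN'p hN'1) ?_ ?_
      · have c1 : Nat.card ↥N ≤ Nat.card ↥N' := by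
          refine (card_cj h N).symm.trans_le (card_le_of_le (le_inf h2 ?_))
          rw [← cj_normalizer]
          exact cj_mono h inf_le_right
        have c2 : Nat.card ↥N' < Nat.card ↥((S : Subgroup G) ⊓ normalizer (N' : Set G)) :=
          lt_of_not_ge fun hc => hgt.ne (eq_of_le_of_card_le' hgt.le hc)
        have c3 := card_le_of_le hle
        omega
      · exact le_trans (le_inf (hAU.trans (le_inf h1 le_normalizer))
          ((hAZ.trans inf_le_right).trans (centralizer_le inf_le_left))) (hWZ N' hN'p)
    have hnU : h * n * h⁻¹ ∈ normalizer (U : Set G) := by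
      rw [hU, ← cj_normalizer]
      exact conj_mem_cj hn
    have := mul_mem (mul_mem (inv_mem hhF) (hloc U h3 hAU hNW' hnU)) hhF
    simpa [mul_assoc] using this

/-- The same inside every subgroup, by induction, leaving the case `A ≤ O_p(H)`. -/
theorem closed_of_global {W : Subgroup G → Subgroup G} (hW : Cfsg.IsConjugacyFunctor p W)
    (hWZ : ∀ P : Subgroup G, IsPGroup p ↥P → P ⊓ centralizer (P : Set G) ≤ W P)
    (A B F : Subgroup G) (hAB : A ≤ B) (hFA : F ≤ normalizer (A : Set G)) (hbot : A = ⊥ → F = ⊤)
    (hglob : ∀ H T : Subgroup G, IsSylowIn p T H → B ≤ T ⊓ centralizer (T : Set G) →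
      A ≤ Cfsg.pCoreOf p H → H ⊓ normalizer ((W T : Subgroup G) : Set G) ≤ F →
      ¬ H ≤ normalizer ((W T : Subgroup G) : Set G) →
      (∀ K : Subgroup G, T ≤ K → K < H → (∀ k ∈ K, k ⋆ A ≤ T) → K ≤ F) → H ≤ F)
    (H : Subgroup G) : ∀ T : Subgroup G, IsSylowIn p T H → B ≤ T ⊓ centralizer (T : Set G) →
      H ⊓ normalizer ((W T : Subgroup G) : Set G) ≤ F → ∀ h ∈ H, h ⋆ A ≤ T → h ∈ F := by
  induction H using WellFoundedLT.induction with
  | _ H ih =>
    intro T hT hB hF h hh hhA
    obtain ⟨P, hP⟩ := hT.exists_sylow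
    have hBT : B ≤ T := hB.trans inf_le_left
    have hAT : A ≤ T := hAB.trans hBT
    have hAH : A ≤ H := hAT.trans hT.1
    have hinj := H.subtype_injective
    have hAmap : (A.subgroupOf H).map H.subtype = A := map_subgroupOf_eq_of_le hAH
    have hWP : (restrict H W (P : Subgroup H)).map H.subtype = W T := by
      rw [restrict_map hW P.2, hP]
    have key : (⟨h, hh⟩ : H) ∈ F.subgroupOf H := by
      refine fixed_of_wellPlaced (isConjugacyFunctor_restrict hW H) (fun K hK => ?_) P
        (A.subgroupOf H) (F.subgroupOf H) ?_ ?_ ?_ ?_ ?_ ?_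
      · rintro x ⟨hxK, hx⟩
        refine hWZ _ (hK.map _) ⟨mem_map_of_mem _ hxK, mem_centralizer_iff.2 ?_⟩
        rintro _ ⟨y, hy, rfl⟩
        exact congrArg Subtype.val (mem_centralizer_iff.1 hx y hy)
      · intro x hx
        have hxT : (x : G) ∈ T ⊓ centralizer (T : Set G) := hB (hAB (mem_subgroupOf.1 hx))
        refine ⟨?_, mem_centralizer_iff.2 fun y hy => Subtype.ext ?_⟩
        · obtain ⟨y, hy, hyx⟩ := (hP.ge hxT.1 : (x : G) ∈ (P : Subgroup H).map H.subtype)
          rw [show y = x from hinj hyx] at hy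
          exact hy
        · exact mem_centralizer_iff.1 hxT.2 _ (hP.le (mem_map_of_mem _ hy))
      · intro k hk
        refine mem_normalizer_iff_cj.2 (map_injective hinj ?_)
        rw [cj_map_subtype, hAmap]
        exact mem_normalizer_iff_cj.1 (hFA (mem_subgroupOf.1 hk))
      · intro he
        rw [hbot (by rw [← hAmap, he, Subgroup.map_bot]), top_subgroupOf]
      · intro x hx
        refine mem_subgroupOf.2 (hF ?_)
        rw [← hWP, ← map_normalizer_eq]
        exact mem_map_of_mem _ hx
      · intro U hU hAU hNU x hx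
        refine mem_subgroupOf.2 ?_
        set U' := U.map H.subtype with hU'
        set N := H ⊓ normalizer (U' : Set G) with hN
        set T' := T ⊓ normalizer (U' : Set G) with hT'def
        have hmap : ((P : Subgroup H) ⊓ normalizer (U : Set H)).map H.subtype = T' := by
          rw [map_inf _ _ _ hinj, hP, map_normalizer_eq, ← inf_assoc, inf_eq_left.2 hT.1]
        have hT' : IsSylowIn p T' N := by
          have h0 := ((show IsExtremal p (P : Subgroup H) U from hU.2 0).sylowIn P.2).map H.subtype
          rwa [hmap, map_normalizer_eq] at h0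
        have hU'T : U' ≤ T := hP ▸ map_mono hU.1
        have hAU' : A ≤ U' := hAmap ▸ map_mono hAU
        have hBT' : B ≤ T' ⊓ centralizer (T' : Set G) :=
          le_inf (le_inf hBT ((hB.trans inf_le_right).trans ((centralizer_le hU'T).trans
            (centralizer_le_normalizer (U' : Set G))))) ((hB.trans inf_le_right).trans (centralizer_le inf_le_left))
        have hF' : N ⊓ normalizer ((W T' : Subgroup G) : Set G) ≤ F := by
          refine le_trans (inf_le_inf_right _ inf_le_left) ?_
          rw [← hmap, ← restrict_map hW (P.2.to_le inf_le_left), ← map_normalizer_eq]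
          exact (map_mono hNU).trans (by rintro _ ⟨y, hy, rfl⟩; exact mem_subgroupOf.1 hy)
        have hxN : (x : G) ∈ N := by
          rw [hN, hU', ← map_normalizer_eq]
          exact mem_map_of_mem _ hx
        have hnA : (x : G) ⋆ A ≤ T' := by
          refine le_trans (cj_mono _ hAU') ?_
          rw [mem_normalizer_iff_cj.1 hxN.2]
          exact le_inf hU'T le_normalizer
        by_cases hNH : N = H
        · have hUn : H ≤ normalizer (U' : Set G) := hNH ▸ inf_le_right
          have hT'T : T' = T := inf_eq_left.2 (hT.1.trans hUn)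
          rw [hT'T, hNH] at hF'
          refine (?_ : H ≤ F) x.2
          by_cases htriv : H ≤ normalizer ((W T : Subgroup G) : Set G)
          · exact (le_inf le_rfl htriv).trans hF'
          refine hglob H T hT hB
            (hAU'.trans (le_pCoreOf (hU'T.trans hT.1) hUn (hT.2.1.to_le hU'T))) hF' htriv
            fun K hTK hKH hK k hk => ?_
          exact ih K hKH T (hT.of_le hTK hKH.le) hB
            ((inf_le_inf_right _ hKH.le).trans hF') k hk (hK k hk)
        · exact ih N (lt_of_le_of_ne inf_le_left hNH) T' hT' hBT' hF' x hxN hnA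
      · rw [← map_le_map_iff_of_injective hinj, cj_map_subtype, hAmap, hP]
        exact hhA
    exact mem_subgroupOf.1 key

end CfsgLib.Kinf
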